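import Mathlib
import Cfsg.Prelude.Def_Local

/-!
# Quasisimple groups (helper7 library)

Basic facts on `Cfsg.IsQuasisimple`: nontriviality, normal and subnormal subgroups, transport along
isomorphisms.
-/

set_option autoImplicit false

namespace Cfsg.Agent.Lib.H7

open Cfsg
open scoped commutatorElement

universe u v

/-- Transport of quasisimplicity along an isomorphism. -/
theorem quasisimple_of_mulEquiv {X : Type u} {Y : Type v} [Group X] [Group Y] (e : X ≃* Y)
    (h : IsQuasisimple X) : IsQuasisimple Y := by
  obtain ⟨hp, hs⟩ := h
  refine ⟨@Group.IsPerfect.ofSurjective X Y _ _ e.toMonoidHom hp e.surjective, ?_⟩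
  -- the induced isomorphism on central quotients
  have hc : (Subgroup.center X).map e.toMonoidHom = Subgroup.center Y := by
    ext y
    constructor
    · rintro ⟨x, hx, rfl⟩
      have hx := Subgroup.mem_center_iff.1 (SetLike.mem_coe.1 hx)
      rw [Subgroup.mem_center_iff]
      intro g
      obtain ⟨g', rfl⟩ := e.surjective g
      simp only [MulEquiv.coe_toMonoidHom, ← map_mul, hx g']
    · intro hy
      refine ⟨e.symm y, SetLike.mem_coe.2 ?_, by simp⟩
      rw [Subgroup.mem_center_iff] at hy ⊢
      intro g
      apply e.injective
      simp only [map_mul, MulEquiv.apply_symm_apply, hy (e g)]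
  let f : X ⧸ Subgroup.center X ≃* Y ⧸ Subgroup.center Y :=
    QuotientGroup.congr (Subgroup.center X) (Subgroup.center Y) e hc
  have := hs
  have : Nontrivial (Y ⧸ Subgroup.center Y) := f.symm.toEquiv.nontrivial
  exact IsSimpleGroup.isSimpleGroup_of_surjective f.toMonoidHom f.surjective

/-- A quasisimple group is nontrivial. -/
theorem quasisimple_nontrivial {X : Type u} [Group X] (h : IsQuasisimple X) : Nontrivial X := by
  have := h.2
  have : Nontrivial (X ⧸ Subgroup.center X) := IsSimpleGroup.toNontrivial
  exact (QuotientGroup.mk'_surjective (Subgroup.center X)).nontrivial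

/-- A quasisimple group is not solvable. -/
theorem quasisimple_not_solvable {X : Type u} [Group X] (h : IsQuasisimple X) : ¬ Group.IsSolvable X := by
  have := quasisimple_nontrivial h
  have := h.1
  exact Group.IsPerfect.not_isSolvable X

/-- A normal subgroup of a quasisimple group is the whole group or central. -/
theorem quasisimple_normal {X : Type u} [Group X] (h : IsQuasisimple X) (N : Subgroup X) [hN : N.Normal] :
    N = ⊤ ∨ N ≤ Subgroup.center X := by
  obtain ⟨hp, hs⟩ := h
  have := hs
  have hn : (N.map (QuotientGroup.mk' (Subgroup.center X))).Normal :=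
    hN.map _ (QuotientGroup.mk'_surjective _)
  rcases hn.eq_bot_or_eq_top with h1 | h1
  · right
    rw [Subgroup.map_eq_bot_iff, QuotientGroup.ker_mk'] at h1
    exact h1
  · left
    have h2 : N ⊔ Subgroup.center X = ⊤ := by
      have := congrArg (Subgroup.comap (QuotientGroup.mk' (Subgroup.center X))) h1
      rwa [Subgroup.comap_map_eq, QuotientGroup.ker_mk', Subgroup.comap_top] at this
    have h3 : _root_.commutator X ≤ N :=
      Subgroup.Normal.commutator_le_of_self_sup_commutative_eq_top h2 inferInstance
    rw [hp.commutator_eq_top] at h3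
    exact top_le_iff.1 h3

/-- A subnormal subgroup of a quasisimple group is the whole group or central. -/
theorem quasisimple_subnormal {X : Type u} [Group X] (h : IsQuasisimple X) (H : Subgroup X)
    (hH : H.IsSubnormal) : H = ⊤ ∨ H ≤ Subgroup.center X := by
  rcases hH.lt_normal with h1 | ⟨K, hK, hHK, hKt⟩
  · exact Or.inl h1
  · right
    have := hK
    rcases quasisimple_normal h K with h2 | h2
    · exact absurd h2 hKt.ne
    · exact hHK.trans h2

end Cfsg.Agent.Lib.H7
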