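import Mathlib
import Cfsg.Prelude.Def_Local
import Cfsg.Agent.Lib.H7.Quasisimple

/-!
# Components (helper7 library)

The basic theory of components of a finite group: a component `L` and a subnormal subgroup `H`
satisfy `L ≤ H` or `⁅L, H⁆ = ⊥`; distinct components commute; the layer is normal.
-/

set_option autoImplicit false

namespace Cfsg.Agent.Lib.H7

open Cfsg
open scoped commutatorElement

universe u v

section basic

variable {G : Type u} [Group G]

/-- A component is perfect, as a subgroup. -/
theorem component_commutator_self {L : Subgroup G} (hL : IsComponent L) : ⁅L, L⁆ = L := by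
  have := hL.2.1
  exact Subgroup.isPerfect_iff.1 this

/-- A component is nontrivial. -/
theorem component_ne_bot {L : Subgroup G} (hL : IsComponent L) : L ≠ ⊥ := by
  have := quasisimple_nontrivial hL.2
  exact (Subgroup.nontrivial_iff_ne_bot L).1 this

/-- A component is not solvable. -/
theorem component_not_solvable {L : Subgroup G} (hL : IsComponent L) : ¬ Group.IsSolvable L :=
  quasisimple_not_solvable hL.2

/-- Restricting a component to a subgroup containing it. -/
theorem isComponent_subgroupOf {L X : Subgroup G} (hL : IsComponent L) (hLX : L ≤ X) :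
    IsComponent (L.subgroupOf X) :=
  ⟨hL.1.subgroupOf, quasisimple_of_mulEquiv (Subgroup.subgroupOfEquivOfLe hLX).symm hL.2⟩

/-- A component of a subnormal subgroup is a component of the whole group. -/
theorem isComponent_map_subtype {H : Subgroup G} (hH : H.IsSubnormal) {K : Subgroup H}
    (hK : IsComponent K) : IsComponent (K.map H.subtype) :=
  ⟨hK.1.trans' hH,
    quasisimple_of_mulEquiv (K.equivMapOfInjective H.subtype (Subgroup.subtype_injective H)) hK.2⟩

/-- A subgroup `K` of `H` whose image in `G` is a component of `G` is a component of `H`. -/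
theorem isComponent_of_map_subtype {H : Subgroup G} {K : Subgroup H}
    (hK : IsComponent (K.map H.subtype)) : IsComponent K := by
  refine ⟨?_, quasisimple_of_mulEquiv
    (K.equivMapOfInjective H.subtype (Subgroup.subtype_injective H)).symm hK.2⟩
  have := hK.1.subgroupOf (K := H)
  rwa [Subgroup.subgroupOf, Subgroup.comap_map_eq_self_of_injective (Subgroup.subtype_injective H)]
    at this

/-- The image of a component under an isomorphism is a component. -/
theorem isComponent_map_equiv {G' : Type v} [Group G'] (e : G ≃* G') {L : Subgroup G}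
    (hL : IsComponent L) : IsComponent (L.map e.toMonoidHom) :=
  ⟨hL.1.map e.surjective,
    quasisimple_of_mulEquiv (L.equivMapOfInjective e.toMonoidHom e.injective) hL.2⟩

/-- A conjugate of a component is a component. -/
theorem isComponent_map_conj (g : G) {L : Subgroup G} (hL : IsComponent L) :
    IsComponent (L.map (MulAut.conj g).toMonoidHom) :=
  isComponent_map_equiv (MulAut.conj g) hL

end basic

/-- Auxiliary form of the main lemma, by induction on the order of the group. -/
theorem component_le_or_commutator_eq_bot_aux : ∀ (n : ℕ) (G : Type u) [Group G] [Finite G],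
    Nat.card G = n → ∀ L H : Subgroup G, IsComponent L → H.IsSubnormal → L ≤ H ∨ ⁅L, H⁆ = ⊥ := by
  intro n
  induction n using Nat.strong_induction_on with
  | _ n ih =>
  intro G _ _ hn L H hL hH
  by_cases hLt : L = ⊤
  · -- `G` itself is quasisimple
    subst hLt
    have hq : IsQuasisimple G := quasisimple_of_mulEquiv Subgroup.topEquiv hL.2
    rcases quasisimple_subnormal hq H hH with h1 | h1
    · left; rw [h1]
    · right; exact Subgroup.commutator_top_left_eq_bot_iff_le_center.2 h1
  by_cases hHt : H = ⊤
  · left; rw [hHt]; exact le_top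
  obtain ⟨X, hXn, hLX, hXt⟩ := hL.1.exists_normal_and_le_and_lt_top_of_ne hLt
  obtain ⟨Y, hYn, hHY, hYt⟩ := hH.exists_normal_and_le_and_lt_top_of_ne hHt
  have cardlt : ∀ K : Subgroup G, K < ⊤ → Nat.card K < n := by
    intro K hK
    by_contra hcon
    have hcon := not_lt.1 hcon
    rw [← hn] at hcon
    exact hK.ne (Subgroup.eq_top_of_le_card K hcon)
  have hXYn : (X ⊓ Y).Normal := inferInstance
  -- apply the induction hypothesis inside `X`
  have h1 := ih (Nat.card X) (cardlt X hXt) X rfl (L.subgroupOf X) ((X ⊓ Y).subgroupOf X)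
    (isComponent_subgroupOf hL hLX) (hXYn.isSubnormal.subgroupOf)
  rcases h1 with h1 | h1
  · -- `L ≤ X ⊓ Y`, hence `L ≤ Y`; apply the induction hypothesis inside `Y`
    have hLY : L ≤ Y := by
      intro l hl
      have : (⟨l, hLX hl⟩ : X) ∈ (X ⊓ Y).subgroupOf X := h1 (Subgroup.mem_subgroupOf.2 hl)
      exact (Subgroup.mem_subgroupOf.1 this).2
    have h2 := ih (Nat.card Y) (cardlt Y hYt) Y rfl (L.subgroupOf Y) (H.subgroupOf Y)
      (isComponent_subgroupOf hL hLY) hH.subgroupOf
    rcases h2 with h2 | h2
    · left
      intro l hl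
      have : (⟨l, hLY hl⟩ : Y) ∈ H.subgroupOf Y := h2 (Subgroup.mem_subgroupOf.2 hl)
      exact Subgroup.mem_subgroupOf.1 this
    · right
      have := congrArg (Subgroup.map Y.subtype) h2
      rwa [Subgroup.map_commutator, Subgroup.map_subgroupOf_eq_of_le hLY,
        Subgroup.map_subgroupOf_eq_of_le hHY, Subgroup.map_bot] at this
  · -- `⁅L, X ⊓ Y⁆ = ⊥`
    right
    have h2 : ⁅L, X ⊓ Y⁆ = ⊥ := by
      have := congrArg (Subgroup.map X.subtype) h1
      rwa [Subgroup.map_commutator, Subgroup.map_subgroupOf_eq_of_le hLX,
        Subgroup.map_subgroupOf_eq_of_le inf_le_left, Subgroup.map_bot] at this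
    have h3 : ⁅L, Y⁆ ≤ X ⊓ Y := (Subgroup.commutator_mono hLX le_rfl).trans (Subgroup.commutator_le_inf X Y)
    have h4 : ⁅⁅L, Y⁆, L⁆ = ⊥ := by
      rw [eq_bot_iff, ← h2, Subgroup.commutator_comm L (X ⊓ Y)]
      exact Subgroup.commutator_mono h3 le_rfl
    have h5 : ⁅⁅Y, L⁆, L⁆ = ⊥ := by rwa [Subgroup.commutator_comm Y L]
    have h6 : ⁅⁅L, L⁆, Y⁆ = ⊥ := Subgroup.commutator_commutator_eq_bot_of_rotate h4 h5
    rw [component_commutator_self hL] at h6
    rw [eq_bot_iff, ← h6]
    exact Subgroup.commutator_mono le_rfl hHY

variable {G : Type u} [Group G] [Finite G]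

/-- **Main lemma on components.** A component `L` and a subnormal subgroup `H` of a finite group
satisfy `L ≤ H` or `⁅L, H⁆ = ⊥`. -/
theorem component_le_or_commutator_eq_bot {L H : Subgroup G} (hL : IsComponent L)
    (hH : H.IsSubnormal) : L ≤ H ∨ ⁅L, H⁆ = ⊥ :=
  component_le_or_commutator_eq_bot_aux (Nat.card G) G rfl L H hL hH

omit [Finite G] in
/-- If a component `K` is contained in a component `L` then `K = L`. -/
theorem component_eq_of_le {K L : Subgroup G} (hK : IsComponent K) (hL : IsComponent L)
    (h : K ≤ L) : K = L := by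
  rcases quasisimple_subnormal hL.2 (K.subgroupOf L) hK.1.subgroupOf with h1 | h1
  · exact le_antisymm h (Subgroup.subgroupOf_eq_top.1 h1)
  · exfalso
    -- then `K` is abelian
    apply component_not_solvable hK
    have hc : ∀ a b : K, a * b = b * a := by
      intro a b
      have ha : (⟨a.1, h a.2⟩ : L) ∈ Subgroup.center L := h1 (Subgroup.mem_subgroupOf.2 a.2)
      have := Subgroup.mem_center_iff.1 ha ⟨b.1, h b.2⟩
      have h2 := congrArg Subtype.val this
      exact Subtype.ext h2.symm
    exact Group.isSolvable_of_comm hc

/-- Distinct components of a finite group commute. -/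
theorem components_commute {K L : Subgroup G} (hK : IsComponent K) (hL : IsComponent L)
    (hne : K ≠ L) : ⁅K, L⁆ = ⊥ := by
  rcases component_le_or_commutator_eq_bot hK hL.1 with h | h
  · exact absurd (component_eq_of_le hK hL h) hne
  · exact h

/-- A component centralizes every solvable subgroup which it normalizes. -/
theorem component_commutator_solvable {L H : Subgroup G} (hL : IsComponent L)
    (hsolv : Group.IsSolvable H) (hinv : L ≤ Subgroup.normalizer (H : Set G)) : ⁅L, H⁆ = ⊥ := by
  set K : Subgroup G := L ⊔ H with hK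
  have hLK : L ≤ K := le_sup_left
  have hHK : H ≤ K := le_sup_right
  have hn : (H.subgroupOf K).Normal := by
    rw [Subgroup.normal_subgroupOf_iff_le_normalizer hHK]
    exact sup_le hinv Subgroup.le_normalizer
  rcases component_le_or_commutator_eq_bot (isComponent_subgroupOf hL hLK) hn.isSubnormal with h | h
  · exfalso
    apply component_not_solvable hL
    have hLH : L ≤ H := by
      intro l hl
      have : (⟨l, hLK hl⟩ : K) ∈ H.subgroupOf K := h (Subgroup.mem_subgroupOf.2 hl)
      exact Subgroup.mem_subgroupOf.1 this
    exact Group.isSolvable_of_isSolvable_injective (Subgroup.inclusion_injective hLH)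
  · have := congrArg (Subgroup.map K.subtype) h
    rwa [Subgroup.map_commutator, Subgroup.map_subgroupOf_eq_of_le hLK,
      Subgroup.map_subgroupOf_eq_of_le hHK, Subgroup.map_bot] at this

end Cfsg.Agent.Lib.H7
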