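import Mathlib

/-!
# Coprime action inside a finite group (helper7 library)

Stability lemmas for coprime action and Thompson's `A × B` lemma, for subgroups of a common group.
-/

set_option autoImplicit false

namespace Cfsg.Agent.Lib.H7

open scoped commutatorElement

universe u

variable {G : Type u} [Group G]

/-- If `a q a⁻¹ = z q` with `a` commuting with `z`, then `a ^ k q a ^ (-k) = z ^ k q`. -/
theorem pow_conj_eq_pow_mul {a q z : G} (hz : a * q * a⁻¹ = z * q) (hc : a * z = z * a) (k : ℕ) :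
    a ^ k * q * (a ^ k)⁻¹ = z ^ k * q := by
  induction k with
  | zero => simp
  | succ k ih =>
    have hc' : a * z ^ k = z ^ k * a := (Commute.pow_right (show Commute a z from hc) k)
    calc a ^ (k + 1) * q * (a ^ (k + 1))⁻¹ = a * (a ^ k * q * (a ^ k)⁻¹) * a⁻¹ := by
          rw [pow_succ']; group
      _ = a * (z ^ k * q) * a⁻¹ := by rw [ih]
      _ = (a * z ^ k) * a⁻¹ * (a * q * a⁻¹) := by group
      _ = (z ^ k * a) * a⁻¹ * (z * q) := by rw [hc', hz]
      _ = z ^ (k + 1) * q := by rw [pow_succ]; group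

/-- Elementwise stability lemma: if `a q a⁻¹ = z q`, `a` commutes with `z`, and the orders of `a` and
`z` are coprime, then `z = 1`. -/
theorem eq_one_of_conj_eq_mul {a q z : G} {n m : ℕ} (han : a ^ n = 1) (hzm : z ^ m = 1)
    (hnm : n.Coprime m) (hz : a * q * a⁻¹ = z * q) (hc : a * z = z * a) : z = 1 := by
  have h1 := pow_conj_eq_pow_mul hz hc n
  rw [han] at h1
  have h2 : z ^ n = 1 := by
    have : q = z ^ n * q := by simpa using h1
    have h3 := congrArg (· * q⁻¹) this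
    simpa using h3.symm
  have h3 : z ^ (n.gcd m) = 1 := pow_gcd_eq_one.2 ⟨h2, hzm⟩
  rwa [hnm, pow_one] at h3

variable [Finite G]

omit [Finite G] in
/-- If `a` has order prime to `|Q|`, normalizes `Q`, and centralizes `⁅a, Q⁆`-commutators, then
`a` centralizes `Q`: stated for a chain of two steps. -/
theorem commute_of_stable_step {a : G} {Q R : Subgroup G} (hcop : (orderOf a).Coprime (Nat.card R))
    (hR : ∀ q ∈ Q, a * q * a⁻¹ * q⁻¹ ∈ R) (hcR : ∀ r ∈ R, a * r = r * a) :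
    ∀ q ∈ Q, a * q = q * a := by
  intro q hq
  set z := a * q * a⁻¹ * q⁻¹ with hz
  have hzR : z ∈ R := hR q hq
  have h1 : a * q * a⁻¹ = z * q := by rw [hz]; group
  have h2 : z ^ Nat.card R = 1 := by
    have := pow_card_eq_one' (x := (⟨z, hzR⟩ : R))
    exact congrArg Subtype.val this
  have h3 : z = 1 := eq_one_of_conj_eq_mul (pow_orderOf_eq_one a) h2 hcop h1 (hcR z hzR)
  rw [h3, one_mul] at h1
  calc a * q = (a * q * a⁻¹) * a := by group
    _ = q * a := by rw [h1]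

/-- **Stability lemma.** If `A` normalizes `Q`, `|A|` is prime to `|Q|`, and `⁅⁅Q, A⁆, A⁆ = ⊥`, then
`⁅Q, A⁆ = ⊥`. -/
theorem commutator_eq_bot_of_commutator_commutator_eq_bot {Q A : Subgroup G}
    (hcop : (Nat.card A).Coprime (Nat.card Q)) (hAQ : A ≤ Subgroup.normalizer (Q : Set G))
    (h : ⁅⁅Q, A⁆, A⁆ = ⊥) : ⁅Q, A⁆ = ⊥ := by
  rw [Subgroup.commutator_comm, Subgroup.commutator_eq_bot_iff_le_centralizer]
  intro a ha q hq
  have hR : ⁅Q, A⁆ ≤ Q := Subgroup.le_normalizer_iff_commutator_le_left.1 hAQ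
  have hcop' : (orderOf a).Coprime (Nat.card (⁅Q, A⁆ : Subgroup G)) := by
    apply Nat.Coprime.coprime_dvd_left (Subgroup.orderOf_dvd_natCard A ha)
    exact Nat.Coprime.coprime_dvd_right (Subgroup.card_dvd_of_le hR) hcop
  have hc := Subgroup.commutator_eq_bot_iff_le_centralizer.1 h
  have := commute_of_stable_step (a := a) (Q := Q) (R := ⁅Q, A⁆) hcop' ?_ ?_ q hq
  · exact this.symm
  · intro q' hq'
    have : a * q' * a⁻¹ * q'⁻¹ = ⁅a, q'⁆ := rfl
    rw [this, Subgroup.commutator_comm]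
    exact Subgroup.commutator_mem_commutator ha hq'
  · intro r hr
    exact hc hr a ha

/-- A nontrivial `p`-subgroup `Q` normalized by a `p`-subgroup `B` satisfies `⁅Q, B⁆ ≠ Q`. -/
theorem commutator_ne_self_of_isPGroup (p : ℕ) [Fact p.Prime] {Q B : Subgroup G} (hQ : IsPGroup p Q)
    (hB : IsPGroup p B) (hBQ : B ≤ Subgroup.normalizer (Q : Set G)) (hQ1 : Q ≠ ⊥) : ⁅Q, B⁆ ≠ Q := by
  intro h
  set N : Subgroup G := Q ⊔ B with hN
  have hNp : IsPGroup p N := IsPGroup.to_sup_of_normal_left' hQ hB hBQ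
  have hNn : Group.IsNilpotent N := hNp.isNilpotent
  obtain ⟨k, hk⟩ := (Subgroup.isNilpotent_iff_lowerCentralSeries N).1 hNn
  have key : ∀ j, Q ≤ N.lowerCentralSeries j := by
    intro j
    induction j with
    | zero => rw [Subgroup.lowerCentralSeries_zero]; exact le_sup_left
    | succ j ih =>
      rw [Subgroup.lowerCentralSeries_succ]
      calc Q = ⁅Q, B⁆ := h.symm
        _ ≤ ⁅N.lowerCentralSeries j, N⁆ := Subgroup.commutator_mono ih le_sup_right
  apply hQ1
  rw [eq_bot_iff, ← hk]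
  exact key k

omit [Finite G] in
/-- Conjugation by an element centralizing `A` and normalizing `Q` normalizes `⁅Q, A⁆`. -/
theorem normalizer_commutator_of_centralizer {Q A : Subgroup G} {b : G}
    (hbQ : b ∈ Subgroup.normalizer (Q : Set G)) (hbA : b ∈ Subgroup.centralizer (A : Set G)) :
    b ∈ Subgroup.normalizer ((⁅Q, A⁆ : Subgroup G) : Set G) := by
  rw [Subgroup.mem_normalizer_iff_map_conj_eq, Subgroup.map_commutator,
    Subgroup.mem_normalizer_iff_map_conj_eq.1 hbQ,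
    Subgroup.mem_normalizer_iff_map_conj_eq.1 (Subgroup.centralizer_le_normalizer _ hbA)]

/-- **Thompson's `A × B` lemma.** Let `A` be a `p'`-subgroup and `B` a `p`-subgroup of a finite group
with `⁅A, B⁆ = ⊥`, both normalizing the `p`-subgroup `Q`. If `A` centralizes `C_Q(B)` then `A`
centralizes `Q`. -/
theorem thompson_AxB (p : ℕ) [Fact p.Prime] {A B : Subgroup G} (hB : IsPGroup p B)
    (hA : (Nat.card A).Coprime p) (hAB : ⁅A, B⁆ = ⊥) :
    ∀ (n : ℕ) (Q : Subgroup G), Nat.card Q = n → IsPGroup p Q →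
      A ≤ Subgroup.normalizer (Q : Set G) → B ≤ Subgroup.normalizer (Q : Set G) →
      ⁅A, Q ⊓ Subgroup.centralizer (B : Set G)⁆ = ⊥ → ⁅A, Q⁆ = ⊥ := by
  intro n
  induction n using Nat.strong_induction_on with
  | _ n ih =>
  intro Q hn hQ hAQ hBQ hC
  have hAcB : A ≤ Subgroup.centralizer (B : Set G) :=
    Subgroup.commutator_eq_bot_iff_le_centralizer.1 hAB
  have hBcA : B ≤ Subgroup.centralizer (A : Set G) := Subgroup.le_centralizer_iff.1 hAcB
  have hcop : (Nat.card A).Coprime (Nat.card Q) := by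
    obtain ⟨k, hk⟩ := (IsPGroup.iff_card).1 hQ
    rw [hk]
    exact Nat.Coprime.pow_right k hA
  have cardlt : ∀ R : Subgroup G, R ≤ Q → R ≠ Q → Nat.card R < n := by
    intro R hRQ hne
    rw [← hn]
    by_contra hcon
    exact hne (Subgroup.eq_of_le_of_card_ge hRQ (not_lt.1 hcon))
  by_cases hQ1 : Q = ⊥
  · rw [hQ1]; exact Subgroup.commutator_bot_right A
  have hRQ : ⁅Q, A⁆ ≤ Q := Subgroup.le_normalizer_iff_commutator_le_left.1 hAQ
  by_cases hR : ⁅Q, A⁆ = Q
  · -- `Q = ⁅Q, A⁆`: use `S = ⁅Q, B⁆ < Q`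
    have hSQ : ⁅Q, B⁆ ≤ Q := Subgroup.le_normalizer_iff_commutator_le_left.1 hBQ
    have hSne : ⁅Q, B⁆ ≠ Q := commutator_ne_self_of_isPGroup p hQ hB hBQ hQ1
    have h1 : ⁅A, ⁅Q, B⁆⁆ = ⊥ := by
      refine ih _ (cardlt _ hSQ hSne) ⁅Q, B⁆ rfl (hQ.to_le hSQ) ?_ ?_ ?_
      · intro a ha
        exact normalizer_commutator_of_centralizer (hAQ ha) (hAcB ha)
      · exact Subgroup.normalizer_commutator_ge_right Q B
      · rw [eq_bot_iff, ← hC]
        exact Subgroup.commutator_mono le_rfl (inf_le_inf_right _ hSQ)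
    -- three subgroups lemma
    have h2 : ⁅⁅Q, B⁆, A⁆ = ⊥ := by rwa [Subgroup.commutator_comm]
    have h3 : ⁅⁅B, A⁆, Q⁆ = ⊥ := by
      rw [Subgroup.commutator_comm B A, hAB]; exact Subgroup.commutator_bot_left Q
    have h4 : ⁅⁅A, Q⁆, B⁆ = ⊥ := Subgroup.commutator_commutator_eq_bot_of_rotate h2 h3
    rw [Subgroup.commutator_comm A Q, hR] at h4
    have h5 : Q ≤ Subgroup.centralizer (B : Set G) :=
      Subgroup.commutator_eq_bot_iff_le_centralizer.1 h4
    rwa [inf_eq_left.2 h5] at hC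
  · -- `⁅Q, A⁆ < Q`: induction and stability
    have h1 : ⁅A, ⁅Q, A⁆⁆ = ⊥ := by
      refine ih _ (cardlt _ hRQ hR) ⁅Q, A⁆ rfl (hQ.to_le hRQ) ?_ ?_ ?_
      · exact Subgroup.normalizer_commutator_ge_right Q A
      · intro b hb
        exact normalizer_commutator_of_centralizer (hBQ hb) (hBcA hb)
      · rw [eq_bot_iff, ← hC]
        exact Subgroup.commutator_mono le_rfl (inf_le_inf_right _ hRQ)
    have h2 : ⁅⁅Q, A⁆, A⁆ = ⊥ := by rwa [Subgroup.commutator_comm]
    have h3 := commutator_eq_bot_of_commutator_commutator_eq_bot hcop hAQ h2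
    rwa [Subgroup.commutator_comm]

/-- **Thompson's `A × B` lemma**, final form. -/
theorem thompson_AxB' (p : ℕ) [Fact p.Prime] {A B Q : Subgroup G} (hQ : IsPGroup p Q)
    (hB : IsPGroup p B) (hA : (Nat.card A).Coprime p) (hAB : ⁅A, B⁆ = ⊥)
    (hAQ : A ≤ Subgroup.normalizer (Q : Set G)) (hBQ : B ≤ Subgroup.normalizer (Q : Set G))
    (hC : ⁅A, Q ⊓ Subgroup.centralizer (B : Set G)⁆ = ⊥) : ⁅A, Q⁆ = ⊥ :=
  thompson_AxB p hB hA hAB (Nat.card Q) Q rfl hQ hAQ hBQ hC

end Cfsg.Agent.Lib.H7
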