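import Mathlib
import Cfsg.Agent.Lib.H22.PPrimeCore
import Cfsg.Agent.Lib.H26.Basic

set_option autoImplicit false

namespace Cfsg.Agent.Lib.H7

universe u
variable {G : Type u} [Group G]

theorem mem_map_conj_iff' {H : Subgroup G} {g x : G} :
    x ∈ H.map (MulAut.conj g).toMonoidHom ↔ g⁻¹ * x * g ∈ H := by
  constructor
  · rintro ⟨y, hy, rfl⟩
    simpa [mul_assoc] using hy
  · intro h
    exact ⟨g⁻¹ * x * g, h, by simp [mul_assoc]⟩

theorem card_map_conj' (H : Subgroup G) (g : G) :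
    Nat.card (H.map (MulAut.conj g).toMonoidHom) = Nat.card H :=
  (Nat.card_congr (H.equivMapOfInjective _ (MulAut.conj g).injective).toEquiv).symm

/-- Sylow conjugacy in `P N` for a normal `p'`-subgroup `N`: a subgroup of `P N` of the same order
as the `p`-subgroup `P` is conjugate to `P` by an element of `N`. -/
theorem exists_conj_eq_of_le_sup [Finite G] (p : ℕ) [hp : Fact p.Prime] {P R N : Subgroup G}
    [hNn : N.Normal] (hN : (Nat.card N).Coprime p) (hP : IsPGroup p P) (hR : IsPGroup p R)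
    (hcard : Nat.card R = Nat.card P) (hRle : R ≤ P ⊔ N) :
    ∃ n ∈ N, R = P.map (MulAut.conj n).toMonoidHom := by
  set M : Subgroup G := P ⊔ N with hM
  have hPM : P ≤ M := le_sup_left
  -- `P` is a Sylow `p`-subgroup of `M`
  have hidx : ¬ p ∣ (P.subgroupOf M).index := by
    intro hdvd
    have h1 : Nat.card P * P.relIndex M = Nat.card M := by
      have := Subgroup.relIndex_mul_relIndex ⊥ P M bot_le hPM
      rwa [Subgroup.relIndex_bot_left, Subgroup.relIndex_bot_left] at this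
    have h2 : Nat.card M ∣ Nat.card P * Nat.card N := Cfsg.Agent.Lib.H22.card_sup_dvd_mul P N
    rw [← h1] at h2
    have h3 : P.relIndex M ∣ Nat.card N :=
      Nat.dvd_of_mul_dvd_mul_left Nat.card_pos h2
    have h4 : p ∣ Nat.card N := hdvd.trans h3
    have h5 : p ∣ Nat.gcd (Nat.card N) p := Nat.dvd_gcd h4 dvd_rfl
    rw [hN.gcd_eq_one] at h5
    exact hp.out.one_lt.ne' (Nat.dvd_one.1 h5)
  obtain ⟨PS, hPS⟩ : ∃ PS : Sylow p M, (PS : Subgroup M) = P.subgroupOf M :=
    ⟨(hP.comap_subtype (H := P) (K := M)).toSylow hidx, IsPGroup.toSylow_coe _ hidx⟩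
  obtain ⟨m, hm⟩ := Cfsg.Agent.Lib.H26.exists_conj_mem_sylow PS (R.subgroupOf M) hR.comap_subtype
  -- `m R m⁻¹ ≤ P`
  have h1 : R.map (MulAut.conj (m : G)).toMonoidHom ≤ P := by
    rintro _ ⟨x, hx, rfl⟩
    have h0 : m * ⟨x, hRle hx⟩ * m⁻¹ ∈ (PS : Subgroup M) :=
      hm ⟨x, hRle hx⟩ (Subgroup.mem_subgroupOf.2 hx)
    rw [hPS, Subgroup.mem_subgroupOf] at h0
    simpa using h0
  have h2 : R.map (MulAut.conj (m : G)).toMonoidHom = P := by
    apply Subgroup.eq_of_le_of_card_ge h1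
    rw [card_map_conj', hcard]
  -- write `m⁻¹ = n u`
  have hminv : (m : G)⁻¹ ∈ N ⊔ P := by
    rw [sup_comm]; exact M.inv_mem m.2
  obtain ⟨n, hn, u, hu, hnu⟩ := Subgroup.mem_sup_of_normal_left.1 hminv
  refine ⟨n, hn, ?_⟩
  ext x
  rw [mem_map_conj_iff']
  constructor
  · intro hx
    have h3 : (m : G) * x * (m : G)⁻¹ ∈ P := by
      rw [← h2]; exact ⟨x, hx, by simp⟩
    have h4 : n⁻¹ * x * n = u * ((m : G) * x * (m : G)⁻¹) * u⁻¹ := by
      have : (m : G) = u⁻¹ * n⁻¹ := by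
        rw [← mul_inv_rev, hnu, inv_inv]
      rw [this]; group
    rw [h4]
    exact P.mul_mem (P.mul_mem hu h3) (P.inv_mem hu)
  · intro hx
    have h3 : x = (m : G)⁻¹ * (u⁻¹ * (n⁻¹ * x * n) * u) * (m : G) := by
      have : (m : G) = u⁻¹ * n⁻¹ := by
        rw [← mul_inv_rev, hnu, inv_inv]
      rw [this]; group
    have h4 : u⁻¹ * (n⁻¹ * x * n) * u ∈ R.map (MulAut.conj (m : G)).toMonoidHom := by
      rw [h2]; exact P.mul_mem (P.mul_mem (P.inv_mem hu) hx) hu
    rw [mem_map_conj_iff'] at h4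
    rw [h3]; exact h4

/-- Lifting normalizers of `p`-subgroups modulo a normal `p'`-subgroup. -/
theorem exists_mem_normalizer_of_mk_mem_normalizer [Finite G] (p : ℕ) [Fact p.Prime]
    {P N : Subgroup G} [hNn : N.Normal] (hN : (Nat.card N).Coprime p) (hP : IsPGroup p P) {x : G}
    (hx : QuotientGroup.mk' N x ∈
      Subgroup.normalizer ((P.map (QuotientGroup.mk' N) : Subgroup (G ⧸ N)) : Set (G ⧸ N))) :
    ∃ y ∈ Subgroup.normalizer (P : Set G), QuotientGroup.mk' N y = QuotientGroup.mk' N x := by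
  set π := QuotientGroup.mk' N with hπ
  set R := P.map (MulAut.conj x).toMonoidHom with hR
  have hRle : R ≤ P ⊔ N := by
    have h1 : R.map π = P.map π := by
      have hx' : (P.map π).map (MulAut.conj (π x)).toMonoidHom = P.map π :=
        Subgroup.mem_normalizer_iff_map_conj_eq.1 hx
      have hcomp : π.comp (MulAut.conj x).toMonoidHom =
          (MulAut.conj (π x)).toMonoidHom.comp π := by
        ext g; simp
      rw [hR, Subgroup.map_map, hcomp, ← Subgroup.map_map]
      exact hx'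
    calc R ≤ (R.map π).comap π := Subgroup.le_comap_map π R
      _ = (P.map π).comap π := by rw [h1]
      _ = P ⊔ π.ker := Subgroup.comap_map_eq π P
      _ = P ⊔ N := by rw [hπ, QuotientGroup.ker_mk']
  obtain ⟨n, hn, hRn⟩ := exists_conj_eq_of_le_sup p hN hP (hP.map _) (card_map_conj' P x) hRle
  refine ⟨n⁻¹ * x, ?_, ?_⟩
  · rw [Subgroup.mem_normalizer_iff]
    intro g
    have h1 : ∀ z, z ∈ R ↔ z ∈ P.map (MulAut.conj n).toMonoidHom := fun z => by rw [← hRn]
    have h2 := h1 (x * g * x⁻¹)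
    rw [hR, mem_map_conj_iff', mem_map_conj_iff'] at h2
    have e1 : x⁻¹ * (x * g * x⁻¹) * x = g := by group
    have e2 : n⁻¹ * (x * g * x⁻¹) * n = n⁻¹ * x * g * (n⁻¹ * x)⁻¹ := by group
    rw [e1, e2] at h2
    exact h2
  · rw [map_mul, map_inv]
    have : π n = 1 := by rw [hπ, QuotientGroup.mk'_apply, QuotientGroup.eq_one_iff]; exact hn
    rw [this]; simp

/-- Lifting centralizers of `p`-subgroups modulo a normal `p'`-subgroup. -/
theorem exists_mem_centralizer_of_mk_mem_centralizer [Finite G] (p : ℕ) [Fact p.Prime]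
    {P N : Subgroup G} [hNn : N.Normal] (hN : (Nat.card N).Coprime p) (hP : IsPGroup p P) {x : G}
    (hx : QuotientGroup.mk' N x ∈
      Subgroup.centralizer ((P.map (QuotientGroup.mk' N) : Subgroup (G ⧸ N)) : Set (G ⧸ N))) :
    ∃ y ∈ Subgroup.centralizer (P : Set G), QuotientGroup.mk' N y = QuotientGroup.mk' N x := by
  obtain ⟨y, hy, hyx⟩ := exists_mem_normalizer_of_mk_mem_normalizer p hN hP
    (Subgroup.centralizer_le_normalizer _ hx)
  refine ⟨y, ?_, hyx⟩
  rw [Subgroup.mem_centralizer_iff]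
  intro u hu
  have h1 : y * u * y⁻¹ * u⁻¹ ∈ P :=
    P.mul_mem ((Subgroup.mem_normalizer_iff.1 hy u).1 hu) (P.inv_mem hu)
  have h2 : y * u * y⁻¹ * u⁻¹ ∈ N := by
    rw [← QuotientGroup.eq_one_iff, ← QuotientGroup.mk'_apply]
    simp only [map_mul, map_inv, hyx]
    have := Subgroup.mem_centralizer_iff.1 hx (QuotientGroup.mk' N u)
      (Subgroup.mem_map_of_mem _ hu)
    rw [← this]; group
  have hdisj : Disjoint P N := by
    apply Subgroup.disjoint_of_coprime_natCard
    obtain ⟨k, hk⟩ := IsPGroup.iff_card.1 hP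
    rw [hk]
    exact (Nat.Coprime.pow_right k hN).symm
  have h3 : y * u * y⁻¹ * u⁻¹ = 1 := by
    have : y * u * y⁻¹ * u⁻¹ ∈ P ⊓ N := ⟨h1, h2⟩
    rwa [hdisj.eq_bot, Subgroup.mem_bot] at this
  have h4 : y * u * y⁻¹ = u := mul_inv_eq_one.1 h3
  calc u * y = (y * u * y⁻¹) * y := by rw [h4]
    _ = y * u := by group

/-- The image of the centralizer of a `p`-subgroup modulo a normal `p'`-subgroup. -/
theorem map_centralizer_of_coprime [Finite G] (p : ℕ) [Fact p.Prime]
    {P N : Subgroup G} [hNn : N.Normal] (hN : (Nat.card N).Coprime p) (hP : IsPGroup p P) :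
    (Subgroup.centralizer (P : Set G)).map (QuotientGroup.mk' N) =
      Subgroup.centralizer ((P.map (QuotientGroup.mk' N) : Subgroup (G ⧸ N)) : Set (G ⧸ N)) := by
  apply le_antisymm
  · rintro _ ⟨y, hy, rfl⟩
    rw [Subgroup.mem_centralizer_iff]
    rintro _ ⟨u, hu, rfl⟩
    rw [← map_mul, ← map_mul, Subgroup.mem_centralizer_iff.1 hy u hu]
  · intro q hq
    obtain ⟨x, rfl⟩ := QuotientGroup.mk'_surjective N q
    obtain ⟨y, hy, hyx⟩ := exists_mem_centralizer_of_mk_mem_centralizer p hN hP hq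
    exact ⟨y, hy, hyx⟩

/-- The image of the normalizer of a `p`-subgroup modulo a normal `p'`-subgroup. -/
theorem map_normalizer_of_coprime [Finite G] (p : ℕ) [Fact p.Prime]
    {P N : Subgroup G} [hNn : N.Normal] (hN : (Nat.card N).Coprime p) (hP : IsPGroup p P) :
    (Subgroup.normalizer (P : Set G)).map (QuotientGroup.mk' N) =
      Subgroup.normalizer ((P.map (QuotientGroup.mk' N) : Subgroup (G ⧸ N)) : Set (G ⧸ N)) := by
  apply le_antisymm
  · exact Subgroup.le_normalizer_map _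
  · intro q hq
    obtain ⟨x, rfl⟩ := QuotientGroup.mk'_surjective N q
    obtain ⟨y, hy, hyx⟩ := exists_mem_normalizer_of_mk_mem_normalizer p hN hP hq
    exact ⟨y, hy, hyx⟩

end Cfsg.Agent.Lib.H7
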