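import Mathlib
import Cfsg.Agent.Lib.H7.CoprimeQuot
import Cfsg.Agent.Lib.H1.Complement
import Cfsg.Agent.Lib.H22.PPrimeCore

set_option autoImplicit false

namespace Cfsg.Agent.Lib.H7

universe u
variable {G : Type u} [Group G]

/-- Coprime lifting without quotients: `P` a `p`-subgroup normalizing the `p'`-subgroup `N`, `g`
normalizing `N` and centralizing `P` modulo `N`. Then some `g * n`, `n ∈ N`, centralizes `P`. -/
theorem exists_mul_mem_centralizer_of_commutator_mem [Finite G] (p : ℕ) [Fact p.Prime]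
    {P N : Subgroup G} (hN : (Nat.card N).Coprime p) (hP : IsPGroup p P)
    (hPN : P ≤ Subgroup.normalizer (N : Set G)) {g : G}
    (hg : g ∈ Subgroup.normalizer (N : Set G)) (hgP : ∀ u ∈ P, g * u * g⁻¹ * u⁻¹ ∈ N) :
    ∃ n ∈ N, g * n ∈ Subgroup.centralizer (P : Set G) := by
  have hNK : N ≤ Subgroup.normalizer (N : Set G) := Subgroup.le_normalizer
  have hnorm : (N.subgroupOf (Subgroup.normalizer (N : Set G))).Normal :=
    Subgroup.normal_in_normalizer
  have hcard : Nat.card (N.subgroupOf (Subgroup.normalizer (N : Set G))) = Nat.card N :=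
    Nat.card_congr (Subgroup.subgroupOfEquivOfLe hNK).toEquiv
  have hP' : IsPGroup p (P.subgroupOf (Subgroup.normalizer (N : Set G))) :=
    hP.comap_subtype
  obtain ⟨gK, hgK⟩ : ∃ gK : ↥(Subgroup.normalizer (N : Set G)), (gK : G) = g := ⟨⟨g, hg⟩, rfl⟩
  have hx : QuotientGroup.mk' (N.subgroupOf (Subgroup.normalizer (N : Set G))) gK ∈
      Subgroup.centralizer (((P.subgroupOf (Subgroup.normalizer (N : Set G))).map
        (QuotientGroup.mk' (N.subgroupOf (Subgroup.normalizer (N : Set G)))) :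
          Subgroup (_ ⧸ N.subgroupOf (Subgroup.normalizer (N : Set G)))) : Set _) := by
    rw [Subgroup.mem_centralizer_iff]
    rintro _ ⟨u, hu, rfl⟩
    rw [← map_mul, ← map_mul]
    symm
    rw [QuotientGroup.mk'_apply, QuotientGroup.mk'_apply, QuotientGroup.eq]
    rw [Subgroup.mem_subgroupOf]
    have h1 := hgP (u : G) hu
    have h2 : (((gK * u)⁻¹ * (u * gK) : ↥(Subgroup.normalizer (N : Set G))) : G) =
        g⁻¹ * ((u : G)⁻¹ * (g * u * g⁻¹ * (u : G)⁻¹)⁻¹ * u) * g := by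
      simp only [Subgroup.coe_mul, Subgroup.coe_inv, hgK]; group
    have h3 : (u : G)⁻¹ * (g * u * g⁻¹ * (u : G)⁻¹)⁻¹ * u ∈ N := by
      have hu' : (u : G)⁻¹ ∈ Subgroup.normalizer (N : Set G) := Subgroup.inv_mem _ u.2
      have := (Subgroup.mem_normalizer_iff.1 hu' _).1 (N.inv_mem h1)
      simpa using this
    have hg' : g⁻¹ ∈ Subgroup.normalizer (N : Set G) := Subgroup.inv_mem _ hg
    have := (Subgroup.mem_normalizer_iff.1 hg' _).1 h3
    rw [h2]
    simpa using this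
  obtain ⟨y, hy, hyx⟩ := exists_mem_centralizer_of_mk_mem_centralizer p
    (by rw [hcard]; exact hN) hP' hx
  rw [QuotientGroup.mk'_apply, QuotientGroup.mk'_apply, QuotientGroup.eq] at hyx
  rw [Subgroup.mem_subgroupOf] at hyx
  refine ⟨g⁻¹ * (y : G), ?_, ?_⟩
  · have := N.inv_mem hyx
    simpa [hgK] using this
  · rw [mul_inv_cancel_left, Subgroup.mem_centralizer_iff]
    intro u hu
    have := Subgroup.mem_centralizer_iff.1 hy ⟨u, hPN hu⟩ (by
      rw [SetLike.mem_coe, Subgroup.mem_subgroupOf]; exact hu)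
    exact congrArg Subtype.val this

theorem le_normalizer_inf {X Y K : Subgroup G} (hX : K ≤ Subgroup.normalizer (X : Set G))
    (hY : K ≤ Subgroup.normalizer (Y : Set G)) :
    K ≤ Subgroup.normalizer ((X ⊓ Y : Subgroup G) : Set G) := by
  intro k hk
  rw [Subgroup.mem_normalizer_iff]
  intro h
  rw [Subgroup.mem_inf, Subgroup.mem_inf, ← Subgroup.mem_normalizer_iff.1 (hX hk) h,
    ← Subgroup.mem_normalizer_iff.1 (hY hk) h]

/-- Coprime factorization: `C_{XY}(P) = C_X(P) C_Y(P)` for a `p`-group `P` normalizing the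
`p'`-subgroups `X`, `Y` with `Y ≤ N(X)`. -/
theorem exists_mul_of_mem_sup_centralizer [Finite G] (p : ℕ) [Fact p.Prime]
    {P X Y : Subgroup G} (hX : (Nat.card X).Coprime p) (hP : IsPGroup p P)
    (hn : Y ≤ Subgroup.normalizer (X : Set G))
    (hPX : P ≤ Subgroup.normalizer (X : Set G)) (hPY : P ≤ Subgroup.normalizer (Y : Set G))
    {c : G} (hc : c ∈ X ⊔ Y) (hcP : c ∈ Subgroup.centralizer (P : Set G)) :
    ∃ x ∈ X ⊓ Subgroup.centralizer (P : Set G), ∃ y ∈ Y ⊓ Subgroup.centralizer (P : Set G),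
      c = x * y := by
  obtain ⟨x₀, hx₀, y₀, hy₀, rfl⟩ := Cfsg.Agent.Lib.H1.mem_sup_of_le_normalizer hn hc
  have hNcop : (Nat.card (X ⊓ Y : Subgroup G)).Coprime p :=
    Nat.Coprime.coprime_dvd_left (Subgroup.card_dvd_of_le inf_le_left) hX
  have hPN : P ≤ Subgroup.normalizer ((X ⊓ Y : Subgroup G) : Set G) := le_normalizer_inf hPX hPY
  have hYN : Y ≤ Subgroup.normalizer ((X ⊓ Y : Subgroup G) : Set G) :=
    le_normalizer_inf hn Subgroup.le_normalizer
  have hcomm : ∀ u ∈ P, y₀ * u * y₀⁻¹ * u⁻¹ ∈ X ⊓ Y := by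
    intro u hu
    constructor
    · have h1 : u * (x₀ * y₀) = x₀ * y₀ * u := Subgroup.mem_centralizer_iff.1 hcP u hu
      have h2 : y₀ * u * y₀⁻¹ * u⁻¹ = x₀⁻¹ * (u * x₀ * u⁻¹) := by
        have : y₀ * u = x₀⁻¹ * (u * (x₀ * y₀)) := by rw [h1]; group
        rw [this]; group
      rw [h2]
      exact X.mul_mem (X.inv_mem hx₀) ((Subgroup.mem_normalizer_iff.1 (hPX hu) _).1 hx₀)
    · have h2 : y₀ * u * y₀⁻¹ * u⁻¹ = y₀ * (u * y₀⁻¹ * u⁻¹) := by group
      rw [h2]
      exact Y.mul_mem hy₀ ((Subgroup.mem_normalizer_iff.1 (hPY hu) _).1 (Y.inv_mem hy₀))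
  obtain ⟨n, hn', hyn⟩ := exists_mul_mem_centralizer_of_commutator_mem p hNcop hP hPN
    (hYN hy₀) hcomm
  refine ⟨x₀ * y₀ * (y₀ * n)⁻¹, ⟨?_, ?_⟩, y₀ * n, ⟨Y.mul_mem hy₀ hn'.2, hyn⟩, by group⟩
  · have h2 : x₀ * y₀ * (y₀ * n)⁻¹ = x₀ * (y₀ * n⁻¹ * y₀⁻¹) := by group
    rw [h2]
    exact X.mul_mem hx₀ ((Subgroup.mem_normalizer_iff.1 (hn hy₀) _).1 (X.inv_mem hn'.1))
  · exact Subgroup.mul_mem _ hcP (Subgroup.inv_mem _ hyn)

/-- `|XY|` divides `|X| |Y|` when `Y` normalizes `X`. -/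
theorem card_sup_dvd_mul_of_le_normalizer {X Y : Subgroup G}
    (hn : Y ≤ Subgroup.normalizer (X : Set G)) :
    Nat.card (X ⊔ Y : Subgroup G) ∣ Nat.card X * Nat.card Y := by
  have hXL : X ≤ X ⊔ Y := le_sup_left
  have hYL : Y ≤ X ⊔ Y := le_sup_right
  have : (X.subgroupOf (X ⊔ Y)).Normal :=
    Subgroup.normal_subgroupOf_of_le_normalizer (sup_le Subgroup.le_normalizer hn)
  have h := Cfsg.Agent.Lib.H22.card_sup_dvd_mul (Y.subgroupOf (X ⊔ Y)) (X.subgroupOf (X ⊔ Y))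
  have htop : (Y.subgroupOf (X ⊔ Y)) ⊔ (X.subgroupOf (X ⊔ Y)) = ⊤ := by
    rw [← Subgroup.subgroupOf_sup hYL hXL, sup_comm, Subgroup.subgroupOf_self]
  rw [htop, Subgroup.card_top, Nat.card_congr (Subgroup.subgroupOfEquivOfLe hXL).toEquiv,
    Nat.card_congr (Subgroup.subgroupOfEquivOfLe hYL).toEquiv, mul_comm] at h
  exact h

/-- `XY` is solvable when `X`, `Y` are and `Y` normalizes `X`. -/
theorem isSolvable_sup_of_le_normalizer {X Y : Subgroup G}
    (hn : Y ≤ Subgroup.normalizer (X : Set G)) (hX : Group.IsSolvable X) (hY : Group.IsSolvable Y) :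
    Group.IsSolvable (X ⊔ Y : Subgroup G) := by
  have hXL : X ≤ X ⊔ Y := le_sup_left
  have hYL : Y ≤ X ⊔ Y := le_sup_right
  have : (X.subgroupOf (X ⊔ Y)).Normal :=
    Subgroup.normal_subgroupOf_of_le_normalizer (sup_le Subgroup.le_normalizer hn)
  have : Group.IsSolvable (X.subgroupOf (X ⊔ Y)) :=
    Group.isSolvable_of_isSolvable_injective (f := (Subgroup.subgroupOfEquivOfLe hXL).toMonoidHom)
      (Subgroup.subgroupOfEquivOfLe hXL).injective
  have hsurj : Function.Surjective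
      ((QuotientGroup.mk' (X.subgroupOf (X ⊔ Y))).comp (Subgroup.inclusion hYL)) := by
    intro q
    obtain ⟨l, rfl⟩ := QuotientGroup.mk'_surjective _ q
    obtain ⟨x, hx, y, hy, hl⟩ := Cfsg.Agent.Lib.H1.mem_sup_of_le_normalizer hn l.2
    refine ⟨⟨y, hy⟩, ?_⟩
    rw [MonoidHom.comp_apply, QuotientGroup.mk'_apply, QuotientGroup.mk'_apply, QuotientGroup.eq,
      Subgroup.mem_subgroupOf]
    have : (((Subgroup.inclusion hYL ⟨y, hy⟩)⁻¹ * l : ↥(X ⊔ Y)) : G) = y⁻¹ * (x * y) := by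
      rw [Subgroup.coe_mul, Subgroup.coe_inv, hl]; rfl
    rw [this]
    have hy' : y⁻¹ ∈ Subgroup.normalizer (X : Set G) := Subgroup.inv_mem _ (hn hy)
    have := (Subgroup.mem_normalizer_iff.1 hy' _).1 hx
    simpa [mul_assoc] using this
  have : Group.IsSolvable (↥(X ⊔ Y) ⧸ X.subgroupOf (X ⊔ Y)) := Group.isSolvable_of_surjective hsurj
  exact Group.isSolvable_of_ker_le_range (X.subgroupOf (X ⊔ Y)).subtype
    (QuotientGroup.mk' (X.subgroupOf (X ⊔ Y))) (by
      rw [QuotientGroup.ker_mk', Subgroup.range_subtype])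

theorem isPGroup_zpowers_of_pow_eq_one (p : ℕ) [Fact p.Prime] {a : G}
    (ha : a ^ p = 1) : IsPGroup p (Subgroup.zpowers a) := by
  intro g
  obtain ⟨k, hk⟩ := Subgroup.mem_zpowers_iff.1 g.2
  refine ⟨1, ?_⟩
  apply Subtype.ext
  rw [pow_one, Subgroup.coe_pow, ← hk, Subgroup.coe_one, ← zpow_natCast, ← zpow_mul, mul_comm,
    zpow_mul, zpow_natCast, ha, one_zpow]

theorem zpowers_le_normalizer_of_conj_mem [Finite G] {a : G} {X : Subgroup G}
    (h : ∀ u ∈ X, a * u * a⁻¹ ∈ X) : Subgroup.zpowers a ≤ Subgroup.normalizer (X : Set G) := by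
  rw [Subgroup.zpowers_le]
  have hle : X.map (MulAut.conj a).toMonoidHom ≤ X := by
    rintro _ ⟨u, hu, rfl⟩
    simpa using h u hu
  have heq : X.map (MulAut.conj a).toMonoidHom = X := by
    apply Subgroup.eq_of_le_of_card_ge hle
    rw [card_map_conj']
  rw [Subgroup.mem_normalizer_iff_map_conj_eq]
  exact heq

theorem centralizer_singleton_eq_centralizer_zpowers (a : G) :
    Subgroup.centralizer ({a} : Set G) = Subgroup.centralizer (Subgroup.zpowers a : Set G) := by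
  rw [Subgroup.zpowers_eq_closure, Subgroup.centralizer_closure]

end Cfsg.Agent.Lib.H7
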