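import Mathlib

/-!
# Commutator subgroups of joins (helper7 library)
-/

set_option autoImplicit false

namespace Cfsg.Agent.Lib.H7

open scoped commutatorElement

universe u

variable {G : Type u} [Group G]

/-- `⁅A ⊔ B, C⁆ ≤ ⁅A, C⁆ ⊔ ⁅B, C⁆` when `B` is normal and `A` normalizes `⁅B, C⁆`. -/
theorem commutator_sup_left_le' (A B C : Subgroup G) [B.Normal]
    (hA : A ≤ Subgroup.normalizer (⁅B, C⁆ : Subgroup G)) :
    ⁅A ⊔ B, C⁆ ≤ ⁅A, C⁆ ⊔ ⁅B, C⁆ := by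
  rw [Subgroup.commutator_le]
  intro x hx c hc
  obtain ⟨a, ha, b, hb, rfl⟩ := Subgroup.mem_sup_of_normal_right.1 hx
  rw [commutatorElement_mul_left_eq_conj_mul]
  refine Subgroup.mul_mem _ ?_ (Subgroup.mem_sup_left (Subgroup.commutator_mem_commutator ha hc))
  apply Subgroup.mem_sup_right
  have h1 : ⁅b, c⁆ ∈ ⁅B, C⁆ := Subgroup.commutator_mem_commutator hb hc
  exact ((Subgroup.mem_normalizer_iff.1 (hA ha)) _).1 h1

/-- `⁅A ⊔ B, C⁆ = ⁅A, C⁆ ⊔ ⁅B, C⁆` for normal subgroups. -/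
theorem commutator_sup_left (A B C : Subgroup G) [A.Normal] [B.Normal] [C.Normal] :
    ⁅A ⊔ B, C⁆ = ⁅A, C⁆ ⊔ ⁅B, C⁆ := by
  apply le_antisymm
  · exact commutator_sup_left_le' A B C Subgroup.le_normalizer_of_normal
  · exact sup_le (Subgroup.commutator_mono le_sup_left le_rfl)
      (Subgroup.commutator_mono le_sup_right le_rfl)

/-- `⁅C, A ⊔ B⁆ = ⁅C, A⁆ ⊔ ⁅C, B⁆` for normal subgroups. -/
theorem commutator_sup_right (A B C : Subgroup G) [A.Normal] [B.Normal] [C.Normal] :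
    ⁅C, A ⊔ B⁆ = ⁅C, A⁆ ⊔ ⁅C, B⁆ := by
  rw [Subgroup.commutator_comm C (A ⊔ B), commutator_sup_left, Subgroup.commutator_comm A C,
    Subgroup.commutator_comm B C]

/-- If `⁅A, B⁆ = ⊥` then the derived subgroup of `A ⊔ B` is `⁅A, A⁆ ⊔ ⁅B, B⁆` (normal case). -/
theorem commutator_sup_sup_of_commute (A B : Subgroup G) [A.Normal] [B.Normal]
    (h : ⁅A, B⁆ = ⊥) : ⁅A ⊔ B, A ⊔ B⁆ = ⁅A, A⁆ ⊔ ⁅B, B⁆ := by
  rw [commutator_sup_left, commutator_sup_right, commutator_sup_right, h,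
    Subgroup.commutator_comm B A, h]
  simp

end Cfsg.Agent.Lib.H7
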