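import Mathlib
import Cfsg.Prelude.Def_Local

/-!
# The Fitting subgroup of a finite group (helper7 library)

Fitting's theorem (the join of two normal nilpotent subgroups of a finite group is nilpotent), the Fitting
subgroup is nilpotent and characteristic, it contains every subnormal nilpotent subgroup, and
`F(H) = F(G) ⊓ H` for subnormal `H`.
-/

set_option autoImplicit false

namespace Cfsg.Agent.Lib.H7

open Cfsg
open scoped commutatorElement

universe u v

/-- Fitting's theorem for finite groups, auxiliary form: by induction on the order. -/
theorem fitting_aux : ∀ (n : ℕ) (G : Type u) [Group G] [Finite G], Nat.card G = n →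
    ∀ M N : Subgroup G, M.Normal → N.Normal → Group.IsNilpotent M → Group.IsNilpotent N →
      M ⊔ N = ⊤ → Group.IsNilpotent G := by
  intro n
  induction n using Nat.strong_induction_on with
  | _ n ih =>
  intro G _ _ hn M N hMn hNn hM hN hsup
  by_cases hG : Subsingleton G
  · infer_instance
  have hGnt : Nontrivial G := not_subsingleton_iff_nontrivial.1 hG
  -- the centre is nontrivial
  have hZ : Subgroup.center G ≠ ⊥ := by
    by_cases hMb : M = ⊥
    · have hNt : N = ⊤ := by rw [← hsup, hMb, bot_sup_eq]
      have : Group.IsNilpotent G := by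
        rw [← Group.isNilpotent_top (G := G), ← hNt]; exact hN
      exact Group.IsNilpotent.center_ne_bot G
    · have hMnt : Nontrivial M := (Subgroup.nontrivial_iff_ne_bot M).2 hMb
      have hZM : Subgroup.center M ≠ ⊥ := Group.IsNilpotent.center_ne_bot M
      set ZM : Subgroup G := (Subgroup.center M).map M.subtype with hZMdef
      have hZMne : ZM ≠ ⊥ := by
        intro h
        apply hZM
        rwa [hZMdef, Subgroup.map_eq_bot_iff, Subgroup.ker_subtype, le_bot_iff] at h
      have hZMn : ZM.Normal := ConjAct.normal_of_characteristic_of_normal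
      have hZMc : ∀ z ∈ ZM, ∀ m ∈ M, z * m = m * z := by
        rintro _ ⟨z, hz, rfl⟩ m hm
        have := Subgroup.mem_center_iff.1 hz ⟨m, hm⟩
        exact (congrArg Subtype.val this).symm
      obtain ⟨B, hB0, hBs⟩ : ∃ B : ℕ → Subgroup G, B 0 = ZM ∧ ∀ i, B (i + 1) = ⁅B i, N⁆ :=
        ⟨fun i => Nat.rec ZM (fun _ b => ⁅b, N⁆) i, rfl, fun i => rfl⟩
      have hBn : ∀ i, (B i).Normal := by
        intro i
        induction i with
        | zero => rw [hB0]; exact hZMn
        | succ i ih2 => rw [hBs]; exact Subgroup.commutator_normal (B i) N
      have hBle : ∀ i, B i ≤ ZM := by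
        intro i
        induction i with
        | zero => rw [hB0]
        | succ i ih2 =>
          rw [hBs]
          have := hBn i
          exact (Subgroup.commutator_le_left (B i) N).trans ih2
      have hBN : ∀ i, B (i + 1) ≤ N.lowerCentralSeries i := by
        intro i
        induction i with
        | zero =>
          rw [hBs, Subgroup.lowerCentralSeries_zero]
          exact Subgroup.commutator_le_right (B 0) N
        | succ i ih2 =>
          rw [hBs, Subgroup.lowerCentralSeries_succ]
          exact Subgroup.commutator_mono ih2 le_rfl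
      obtain ⟨d, hd⟩ := (Subgroup.isNilpotent_iff_lowerCentralSeries N).1 hN
      have hex : ∃ i, B i = ⊥ := ⟨d + 1, by rw [eq_bot_iff, ← hd]; exact hBN d⟩
      classical
      set k := Nat.find hex with hk
      have hk0 : k ≠ 0 := by
        intro h0
        have := Nat.find_spec hex
        rw [← hk, h0, hB0] at this
        exact hZMne this
      obtain ⟨j, hj⟩ := Nat.exists_eq_succ_of_ne_zero hk0
      have hBj : B j ≠ ⊥ := Nat.find_min hex (by rw [← hk, hj]; exact Nat.lt_succ_self j)
      have hBj1 : ⁅B j, N⁆ = ⊥ := by
        have := Nat.find_spec hex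
        rw [← hk, hj] at this
        rw [← hBs j]
        exact this
      have hcent : B j ≤ Subgroup.center G := by
        intro b hb
        rw [Subgroup.mem_center_iff]
        intro g
        have hg : g ∈ M ⊔ N := by rw [hsup]; exact Subgroup.mem_top g
        obtain ⟨m, hm, x, hx, rfl⟩ := Subgroup.mem_sup_of_normal_right.1 hg
        have h1 : b * m = m * b := hZMc b (hBle j hb) m hm
        have h2 : b * x = x * b := by
          have h3 : B j ≤ Subgroup.centralizer N :=
            Subgroup.commutator_eq_bot_iff_le_centralizer.1 hBj1
          exact (h3 hb x hx).symm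
        calc m * x * b = m * (b * x) := by rw [h2, mul_assoc]
          _ = (m * b) * x := by rw [mul_assoc]
          _ = b * (m * x) := by rw [← h1, mul_assoc]
      intro h
      apply hBj
      rw [eq_bot_iff, ← h]
      exact hcent
  -- pass to the central quotient
  have hZnt : Nontrivial (Subgroup.center G) := (Subgroup.nontrivial_iff_ne_bot _).2 hZ
  have hcard : Nat.card (G ⧸ Subgroup.center G) < n := by
    have h1 := Subgroup.card_eq_card_quotient_mul_card_subgroup (Subgroup.center G)
    have h2 : 1 < Nat.card (Subgroup.center G) := Finite.one_lt_card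
    have h3 : 0 < Nat.card (G ⧸ Subgroup.center G) := Nat.card_pos
    rw [← hn, h1]
    nlinarith
  have hq : Group.IsNilpotent (G ⧸ Subgroup.center G) := by
    have hsurj := QuotientGroup.mk'_surjective (Subgroup.center G)
    refine ih _ hcard (G ⧸ Subgroup.center G) rfl (M.map (QuotientGroup.mk' _))
      (N.map (QuotientGroup.mk' _)) (hMn.map _ hsurj) (hNn.map _ hsurj) ?_ ?_ ?_
    · exact Group.nilpotent_of_surjective ((QuotientGroup.mk' (Subgroup.center G)).subgroupMap M)
        (MonoidHom.subgroupMap_surjective _ _)
    · exact Group.nilpotent_of_surjective ((QuotientGroup.mk' (Subgroup.center G)).subgroupMap N)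
        (MonoidHom.subgroupMap_surjective _ _)
    · rw [← Subgroup.map_sup, hsup, Subgroup.map_top_of_surjective _ hsurj]
  exact Group.of_quotient_center_nilpotent hq

/-- **Fitting's theorem** (finite case): the join of two normal nilpotent subgroups is nilpotent. -/
theorem isNilpotent_sup_of_normal {G : Type u} [Group G] [Finite G] (M N : Subgroup G)
    [hMn : M.Normal] [hNn : N.Normal] (hM : Group.IsNilpotent M) (hN : Group.IsNilpotent N) :
    Group.IsNilpotent (M ⊔ N : Subgroup G) := by
  set K : Subgroup G := M ⊔ N with hK
  have hMK : M ≤ K := le_sup_left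
  have hNK : N ≤ K := le_sup_right
  refine fitting_aux (Nat.card K) K rfl (M.subgroupOf K) (N.subgroupOf K) inferInstance
    inferInstance ?_ ?_ ?_
  · exact (Group.isNilpotent_congr (Subgroup.subgroupOfEquivOfLe hMK)).2 hM
  · exact (Group.isNilpotent_congr (Subgroup.subgroupOfEquivOfLe hNK)).2 hN
  · rw [← Subgroup.subgroupOf_sup hMK hNK, Subgroup.subgroupOf_self]

section fitting

variable {G : Type u} [Group G]

instance fittingSubgroup_normal : (fittingSubgroup G).Normal :=
  Subgroup.sSup_normal _ (fun _ h => h.1)

/-- A normal nilpotent subgroup lies in the Fitting subgroup. -/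
theorem le_fittingSubgroup {N : Subgroup G} (hn : N.Normal) (h : Group.IsNilpotent N) :
    N ≤ fittingSubgroup G :=
  le_sSup ⟨hn, h⟩

/-- The image of the Fitting subgroup under an isomorphism is contained in the Fitting subgroup. -/
theorem fittingSubgroup_map_equiv_le {G' : Type v} [Group G'] (e : G ≃* G') :
    (fittingSubgroup G).map e.toMonoidHom ≤ fittingSubgroup G' := by
  rw [Subgroup.map_le_iff_le_comap]
  apply sSup_le
  rintro N ⟨hNn, hN⟩
  rw [← Subgroup.map_le_iff_le_comap]
  apply le_fittingSubgroup (hNn.map _ e.surjective)
  exact (Group.isNilpotent_congr (N.equivMapOfInjective e.toMonoidHom e.injective)).1 hN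

/-- The Fitting subgroup is preserved by isomorphisms. -/
theorem fittingSubgroup_map_equiv {G' : Type v} [Group G'] (e : G ≃* G') :
    (fittingSubgroup G).map e.toMonoidHom = fittingSubgroup G' := by
  apply le_antisymm (fittingSubgroup_map_equiv_le e)
  have h := fittingSubgroup_map_equiv_le e.symm
  have h2 := Subgroup.map_mono (f := e.toMonoidHom) h
  rw [Subgroup.map_map] at h2
  have h3 : e.toMonoidHom.comp e.symm.toMonoidHom = MonoidHom.id G' := by
    ext x; simp
  rwa [h3, Subgroup.map_id] at h2

instance fittingSubgroup_characteristic : (fittingSubgroup G).Characteristic :=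
  Subgroup.characteristic_iff_map_eq.2 (fun e => fittingSubgroup_map_equiv e)

variable [Finite G]

/-- The Fitting subgroup of a finite group is nilpotent. -/
theorem fittingSubgroup_isNilpotent : Group.IsNilpotent (fittingSubgroup G) := by
  have key : ∀ T : Set (Subgroup G), T.Finite → T ⊆ {N | N.Normal ∧ Group.IsNilpotent N} →
      (sSup T).Normal ∧ Group.IsNilpotent (sSup T : Subgroup G) := by
    intro T hT
    induction T, hT using Set.Finite.induction_on with
    | empty =>
      intro _
      rw [sSup_empty]
      exact ⟨inferInstance, inferInstance⟩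
    | @insert a s _ _ ih =>
      intro hsub
      rw [sSup_insert]
      obtain ⟨h1, h2⟩ := ih (fun x hx => hsub (Set.mem_insert_of_mem _ hx))
      obtain ⟨h3, h4⟩ := hsub (Set.mem_insert a s)
      exact ⟨inferInstance, isNilpotent_sup_of_normal a (sSup s) h4 h2⟩
  exact (key _ (Set.toFinite _) le_rfl).2

/-- For a subnormal subgroup `H` of a finite group, `F(H) ≤ F(G)`. -/
theorem fittingSubgroup_subnormal_le {H : Subgroup G} (hH : H.IsSubnormal) :
    (fittingSubgroup H).map H.subtype ≤ fittingSubgroup G := by
  induction hH with
  | top =>
    have := fittingSubgroup_map_equiv (Subgroup.topEquiv : (⊤ : Subgroup G) ≃* G)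
    exact this.le
  | step H K hHK hKsn hHn ih =>
    -- `F(H)`, viewed in `K`, is a normal nilpotent subgroup of `K`
    set H' : Subgroup K := H.subgroupOf K with hH'
    let e : H' ≃* H := Subgroup.subgroupOfEquivOfLe hHK
    have h1 : ((fittingSubgroup H').map H'.subtype).Normal :=
      ConjAct.normal_of_characteristic_of_normal
    have h2 : Group.IsNilpotent ((fittingSubgroup H').map H'.subtype : Subgroup K) :=
      (Group.isNilpotent_congr ((fittingSubgroup H').equivMapOfInjective H'.subtype
        (Subgroup.subtype_injective H'))).1 fittingSubgroup_isNilpotent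
    have h3 : (fittingSubgroup H').map H'.subtype ≤ fittingSubgroup K := le_fittingSubgroup h1 h2
    have h4 : (fittingSubgroup H).map H.subtype
        = ((fittingSubgroup H').map H'.subtype).map K.subtype := by
      rw [← fittingSubgroup_map_equiv e, Subgroup.map_map, Subgroup.map_map]
      rfl
    rw [h4]
    exact (Subgroup.map_mono h3).trans ih

/-- A subnormal nilpotent subgroup of a finite group lies in the Fitting subgroup. -/
theorem subnormal_nilpotent_le_fittingSubgroup {S : Subgroup G} (hS : S.IsSubnormal)
    (hn : Group.IsNilpotent S) : S ≤ fittingSubgroup G := by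
  have h1 : fittingSubgroup S = ⊤ := by
    rw [eq_top_iff]
    exact le_fittingSubgroup inferInstance (Group.isNilpotent_top.2 hn)
  have h2 := fittingSubgroup_subnormal_le hS
  rwa [h1, ← MonoidHom.range_eq_map, Subgroup.range_subtype] at h2

/-- For a subnormal subgroup `H` of a finite group, `F(H) = F(G) ⊓ H`. -/
theorem fittingSubgroup_of_subnormal {H : Subgroup G} (hH : H.IsSubnormal) :
    (fittingSubgroup H).map H.subtype = fittingSubgroup G ⊓ H := by
  apply le_antisymm
  · exact le_inf (fittingSubgroup_subnormal_le hH) (Subgroup.map_subtype_le _)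
  · have h1 : ((fittingSubgroup G).subgroupOf H).IsSubnormal :=
      (fittingSubgroup_normal (G := G)).isSubnormal.subgroupOf
    have h2 : Group.IsNilpotent ((fittingSubgroup G).subgroupOf H) := by
      have := fittingSubgroup_isNilpotent (G := G)
      let f : (fittingSubgroup G).subgroupOf H →* fittingSubgroup G :=
        { toFun := fun x => ⟨x.1.1, Subgroup.mem_subgroupOf.1 x.2⟩
          map_one' := rfl
          map_mul' := fun _ _ => rfl }
      have hf : Function.Injective f := by
        intro x y hxy
        have := congrArg Subtype.val hxy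
        exact Subtype.ext (Subtype.ext this)
      apply Subgroup.isNilpotent_of_ker_le_center f
      rw [(MonoidHom.ker_eq_bot_iff f).2 hf]; exact bot_le
    have h3 := subnormal_nilpotent_le_fittingSubgroup h1 h2
    intro x hx
    exact ⟨⟨x, hx.2⟩, h3 (Subgroup.mem_subgroupOf.2 hx.1), rfl⟩

end fitting

end Cfsg.Agent.Lib.H7
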