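import Mathlib
import Cfsg.Prelude.Def_Local
import Cfsg.Agent.Lib.H7.Quasisimple
import Cfsg.Agent.Lib.H7.Components
import Cfsg.Agent.Lib.H7.Commutators
import Cfsg.Agent.Lib.H7.Fitting

/-!
# The layer and the generalized Fitting subgroup (helper7 library)
-/

set_option autoImplicit false

namespace Cfsg.Agent.Lib.H7

open Cfsg
open scoped commutatorElement

universe u v

section layer

variable {G : Type u} [Group G]

/-- A component lies in the layer. -/
theorem component_le_layer {L : Subgroup G} (hL : IsComponent L) : L ≤ layer G :=
  le_sSup hL

/-- The image of the layer under an isomorphism lies in the layer. -/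
theorem layer_map_equiv_le {G' : Type v} [Group G'] (e : G ≃* G') :
    (layer G).map e.toMonoidHom ≤ layer G' := by
  rw [Subgroup.map_le_iff_le_comap]
  apply sSup_le
  intro L hL
  rw [← Subgroup.map_le_iff_le_comap]
  exact component_le_layer (isComponent_map_equiv e hL)

/-- The layer is preserved by isomorphisms. -/
theorem layer_map_equiv {G' : Type v} [Group G'] (e : G ≃* G') :
    (layer G).map e.toMonoidHom = layer G' := by
  apply le_antisymm (layer_map_equiv_le e)
  have h := layer_map_equiv_le e.symm
  have h2 := Subgroup.map_mono (f := e.toMonoidHom) h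
  rw [Subgroup.map_map] at h2
  have h3 : e.toMonoidHom.comp e.symm.toMonoidHom = MonoidHom.id G' := by
    ext x; simp
  rwa [h3, Subgroup.map_id] at h2

instance layer_characteristic : (layer G).Characteristic :=
  Subgroup.characteristic_iff_map_eq.2 (fun e => layer_map_equiv e)

instance layer_normal : (layer G).Normal := inferInstance

instance generalizedFittingSubgroup_normal : (generalizedFittingSubgroup G).Normal := by
  unfold generalizedFittingSubgroup; infer_instance

/-- The generalized Fitting subgroup is preserved by isomorphisms. -/
theorem generalizedFittingSubgroup_map_equiv {G' : Type v} [Group G'] (e : G ≃* G') :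
    (generalizedFittingSubgroup G).map e.toMonoidHom = generalizedFittingSubgroup G' := by
  unfold generalizedFittingSubgroup
  rw [Subgroup.map_sup, layer_map_equiv, fittingSubgroup_map_equiv]

instance generalizedFittingSubgroup_characteristic :
    (generalizedFittingSubgroup G).Characteristic :=
  Subgroup.characteristic_iff_map_eq.2 (fun e => generalizedFittingSubgroup_map_equiv e)

theorem layer_le_generalizedFittingSubgroup : layer G ≤ generalizedFittingSubgroup G :=
  le_sup_left

theorem fittingSubgroup_le_generalizedFittingSubgroup :
    fittingSubgroup G ≤ generalizedFittingSubgroup G :=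
  le_sup_right

/-- The layer is perfect. -/
theorem layer_commutator_self : ⁅layer G, layer G⁆ = layer G := by
  apply le_antisymm (Subgroup.commutator_le_self _)
  apply sSup_le
  intro L hL
  rw [← component_commutator_self hL]
  exact Subgroup.commutator_mono (component_le_layer hL) (component_le_layer hL)

/-- If there are no components, the layer is trivial. -/
theorem layer_eq_bot_iff : layer G = ⊥ ↔ ∀ L : Subgroup G, ¬ IsComponent L := by
  constructor
  · intro h L hL
    apply component_ne_bot hL
    rw [eq_bot_iff, ← h]
    exact component_le_layer hL
  · intro h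
    rw [eq_bot_iff]
    apply sSup_le
    intro L hL
    exact absurd hL (h L)

variable [Finite G]

/-- The layer centralizes every solvable normal subgroup. -/
theorem layer_commutator_solvable {N : Subgroup G} [hN : N.Normal] (hs : Group.IsSolvable N) :
    ⁅layer G, N⁆ = ⊥ := by
  rw [Subgroup.commutator_eq_bot_iff_le_centralizer]
  apply sSup_le
  intro L hL
  rw [← Subgroup.commutator_eq_bot_iff_le_centralizer]
  apply component_commutator_solvable hL hs
  rw [Subgroup.normalizer_eq_top]
  exact le_top

/-- The layer centralizes the Fitting subgroup. -/
theorem layer_commutator_fitting : ⁅layer G, fittingSubgroup G⁆ = ⊥ := by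
  have := fittingSubgroup_isNilpotent (G := G)
  exact layer_commutator_solvable inferInstance

omit [Finite G] in
/-- The components of a finite group lying in a subnormal subgroup `H` generate a subgroup of the
layer of `G`: `E(H) ≤ E(G)`. -/
theorem layer_subnormal_le {H : Subgroup G} (hH : H.IsSubnormal) :
    (layer H).map H.subtype ≤ layer G := by
  rw [Subgroup.map_le_iff_le_comap]
  apply sSup_le
  intro K hK
  rw [← Subgroup.map_le_iff_le_comap]
  exact component_le_layer (isComponent_map_subtype hH hK)

/-- **Bender's theorem**: the generalized Fitting subgroup contains its own centralizer. -/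
theorem centralizer_generalizedFittingSubgroup_le :
    Subgroup.centralizer (generalizedFittingSubgroup G : Set G) ≤ generalizedFittingSubgroup G := by
  by_contra hcon
  set Fs := generalizedFittingSubgroup G with hFs
  set C : Subgroup G := Subgroup.centralizer (Fs : Set G) with hC
  have hCn : C.Normal := Subgroup.normal_centralizer
  -- choose a minimal subnormal subgroup of `G` inside `C` and outside `F*(G)`
  obtain ⟨S, hS⟩ := exists_minimal_of_wellFoundedLT
    (fun S : Subgroup G => S.IsSubnormal ∧ S ≤ C ∧ ¬ S ≤ Fs) ⟨C, hCn.isSubnormal, le_rfl, hcon⟩
  obtain ⟨⟨hSsn, hSC, hSF⟩, hSmin⟩ := hS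
  -- every subnormal subgroup of `G` properly contained in `S` is centralized by `S`
  have key : ∀ T : Subgroup G, T.IsSubnormal → T ≤ S → T ≠ S → T ≤ Subgroup.centralizer (S : Set G) := by
    intro T hTsn hTS hne
    have hTF : T ≤ Fs := by
      by_contra h
      exact hne (le_antisymm hTS (hSmin ⟨hTsn, hTS.trans hSC, h⟩ hTS))
    intro t ht s hs
    exact ((hSC hs) t (hTF ht)).symm
  by_cases hperf : ⁅S, S⁆ = S
  · -- `S` is a component
    apply hSF
    refine (component_le_layer ⟨hSsn, Subgroup.isPerfect_iff.2 hperf, ?_⟩).trans
      layer_le_generalizedFittingSubgroup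
    have hnt : Nontrivial (S ⧸ Subgroup.center S) := by
      by_contra h
      rw [not_nontrivial_iff_subsingleton] at h
      have h1 : Subgroup.center S = ⊤ := QuotientGroup.subgroup_eq_top_of_subsingleton _ h
      apply hSF
      have h2 : ⁅S, S⁆ = ⊥ := by
        rw [Subgroup.commutator_eq_bot_iff_le_centralizer]
        intro s hs t ht
        have : (⟨s, hs⟩ : S) ∈ Subgroup.center S := by rw [h1]; exact Subgroup.mem_top _
        have := Subgroup.mem_center_iff.1 this ⟨t, ht⟩
        exact congrArg Subtype.val this
      rw [← hperf, h2]
      exact bot_le
    refine { exists_pair_ne := hnt.exists_pair_ne, eq_bot_or_eq_top_of_normal := ?_ }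
    intro Nb hNb
    set N : Subgroup S := Nb.comap (QuotientGroup.mk' (Subgroup.center S)) with hN
    have hNn : N.Normal := hNb.comap _
    have hNb' : Nb = N.map (QuotientGroup.mk' (Subgroup.center S)) := by
      rw [hN, Subgroup.map_comap_eq_self_of_surjective (QuotientGroup.mk'_surjective _)]
    by_cases hNt : N = ⊤
    · right
      rw [hNb', hNt, Subgroup.map_top_of_surjective _ (QuotientGroup.mk'_surjective _)]
    · left
      have h1 : N.map S.subtype ≤ Subgroup.centralizer (S : Set G) := by
        apply key _ (hNn.isSubnormal.trans' hSsn) (Subgroup.map_subtype_le N)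
        intro h
        apply hNt
        rw [eq_top_iff]
        intro s _
        have : (s : G) ∈ N.map S.subtype := by rw [h]; exact s.2
        obtain ⟨s', hs', hss'⟩ := this
        have : s' = s := Subtype.ext hss'
        rwa [← this]
      have h2 : N ≤ Subgroup.center S := by
        intro n hn
        rw [Subgroup.mem_center_iff]
        intro s
        have := h1 ⟨n, hn, rfl⟩ s s.2
        exact Subtype.ext this
      rw [hNb', eq_bot_iff]
      rw [Subgroup.map_le_iff_le_comap, MonoidHom.comap_bot, QuotientGroup.ker_mk']
      exact h2
  · -- `S` is nilpotent of class at most two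
    apply hSF
    have h1 : ⁅S, S⁆ ≤ Subgroup.centralizer (S : Set G) := by
      apply key
      · refine Subgroup.IsSubnormal.trans (Subgroup.commutator_le_self S) ?_ hSsn
        have : (⁅S, S⁆.subgroupOf S).Normal := by
          rw [Subgroup.normal_subgroupOf_iff_le_normalizer (Subgroup.commutator_le_self S)]
          exact Subgroup.normalizer_commutator_ge_left (H₁ := S) (H₂ := S)
        exact this.isSubnormal
      · exact Subgroup.commutator_le_self S
      · exact hperf
    have h2 : S.lowerCentralSeries 2 = ⊥ := by
      rw [Subgroup.lowerCentralSeries_succ, Subgroup.lowerCentralSeries_succ,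
        Subgroup.lowerCentralSeries_zero]
      exact Subgroup.commutator_eq_bot_iff_le_centralizer.2 h1
    exact (subnormal_nilpotent_le_fittingSubgroup hSsn
      (Subgroup.isNilpotent_of_lowerCentralSeries_eq_bot h2)).trans
      fittingSubgroup_le_generalizedFittingSubgroup

end layer

end Cfsg.Agent.Lib.H7
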