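import Mathlib
import Cfsg.Prelude.Def_Local
import Cfsg.Agent.Lib.H7.FStar

/-!
# More on the generalized Fitting subgroup (helper7 library)

`F*(N) = N ⊓ F*(G)` for subnormal `N`; the centre of the layer.
-/

set_option autoImplicit false

namespace Cfsg.Agent.Lib.H7

open Cfsg
open scoped commutatorElement

universe u v

variable {G : Type u} [Group G]

/-- Elements of `H ⊔ N` are products when `H` centralizes `N`. -/
theorem mem_sup_of_commutator_eq_bot {H N : Subgroup G} (h : ⁅H, N⁆ = ⊥) {x : G} (hx : x ∈ H ⊔ N) :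
    ∃ a ∈ H, ∃ b ∈ N, a * b = x := by
  have h1 : H ≤ Subgroup.normalizer (N : Set G) := by
    rw [Subgroup.le_normalizer_iff_commutator_le_right, h]
    exact bot_le
  have h2 := Subgroup.coe_mul_of_left_le_normalizer_right H N h1
  have h3 : x ∈ ((H ⊔ N : Subgroup G) : Set G) := hx
  rw [h2] at h3
  exact Set.mem_mul.1 h3

/-- `Z(E(G)) ≤ F(G)`. -/
theorem layer_inf_centralizer_le_fitting [Finite G] :
    layer G ⊓ Subgroup.centralizer (layer G : Set G) ≤ fittingSubgroup G := by
  have hn : (layer G ⊓ Subgroup.centralizer (layer G : Set G)).Normal := inferInstance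
  apply le_fittingSubgroup hn
  apply Subgroup.isNilpotent_of_lowerCentralSeries_eq_bot (n := 1)
  rw [Subgroup.lowerCentralSeries_succ, Subgroup.lowerCentralSeries_zero,
    Subgroup.commutator_eq_bot_iff_le_centralizer]
  intro x hx y hy
  exact hx.2 y hy.1

/-- In a finite group, a component centralizes the join of any set of components not containing
it. -/
theorem component_commutator_sSup [Finite G] {L : Subgroup G} (hL : IsComponent L)
    (T : Set (Subgroup G)) (hT : ∀ K ∈ T, IsComponent K) (hLT : L ∉ T) : ⁅L, sSup T⁆ = ⊥ := by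
  rw [Subgroup.commutator_eq_bot_iff_le_centralizer, Subgroup.le_centralizer_iff]
  apply sSup_le
  intro K hK
  rw [← Subgroup.commutator_eq_bot_iff_le_centralizer]
  apply components_commute (hT K hK) hL
  rintro rfl
  exact hLT hK

/-- For a subnormal subgroup `N` of a finite group, `N ⊓ F*(G) ≤ F*(N)`. -/
theorem inf_generalizedFittingSubgroup_le [Finite G] {N : Subgroup G} (hN : N.IsSubnormal) :
    N ⊓ generalizedFittingSubgroup G ≤ (generalizedFittingSubgroup N).map N.subtype := by
  classical
  set E1 : Subgroup G := sSup {L | IsComponent L ∧ L ≤ N} with hE1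
  set E2 : Subgroup G := sSup {L | IsComponent L ∧ ¬ L ≤ N} with hE2
  have hE : layer G = E1 ⊔ E2 := by
    rw [hE1, hE2, ← sSup_union]
    show sSup {K : Subgroup G | IsComponent K} = _
    congr 1
    ext L
    show L ∈ {K | IsComponent K} ↔ L ∈ {L | IsComponent L ∧ L ≤ N} ∪ {L | IsComponent L ∧ ¬ L ≤ N}
    rw [Set.mem_union]
    show IsComponent L ↔ (IsComponent L ∧ L ≤ N) ∨ (IsComponent L ∧ ¬ L ≤ N)
    constructor
    · intro h
      by_cases hLN : L ≤ N
      · exact Or.inl ⟨h, hLN⟩
      · exact Or.inr ⟨h, hLN⟩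
    · rintro (h | h) <;> exact h.1
  have hE1N : E1 ≤ (layer N).map N.subtype := by
    apply sSup_le
    rintro L ⟨hL, hLN⟩
    have h1 := component_le_layer (isComponent_subgroupOf hL hLN)
    have h2 := Subgroup.map_mono (f := N.subtype) h1
    rwa [Subgroup.map_subgroupOf_eq_of_le hLN] at h2
  have hE1le : E1 ≤ N := sSup_le (fun L hL => hL.2)
  have hE2N : E2 ≤ Subgroup.centralizer (N : Set G) := by
    apply sSup_le
    rintro L ⟨hL, hLN⟩
    rcases component_le_or_commutator_eq_bot hL hN with h | h
    · exact absurd h hLN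
    · exact Subgroup.commutator_eq_bot_iff_le_centralizer.1 h
  have hE12 : ⁅E1, E2⁆ = ⊥ := by
    rw [Subgroup.commutator_eq_bot_iff_le_centralizer]
    exact hE1le.trans (Subgroup.le_centralizer_iff.1 hE2N)
  have hE1E : E1 ≤ layer G := by rw [hE]; exact le_sup_left
  have hE2E : E2 ≤ layer G := by rw [hE]; exact le_sup_right
  have hEF : layer G ≤ Subgroup.centralizer (fittingSubgroup G : Set G) :=
    Subgroup.commutator_eq_bot_iff_le_centralizer.1 layer_commutator_fitting
  rintro x ⟨hxN, hxF⟩
  -- decompose `x = e1 * e2 * f`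
  have hxF' : x ∈ layer G ⊔ fittingSubgroup G := hxF
  obtain ⟨e, he, f, hf, rfl⟩ := Subgroup.mem_sup_of_normal_right.1 hxF'
  rw [hE] at he
  obtain ⟨e1, he1, e2, he2, rfl⟩ := mem_sup_of_commutator_eq_bot hE12 he
  -- `m = e2 * f ∈ N`
  have hm : e2 * f ∈ N := by
    have : e2 * f = e1⁻¹ * (e1 * e2 * f) := by group
    rw [this]
    exact N.mul_mem (N.inv_mem (hE1le he1)) hxN
  -- `e2` centralizes `E2` and `E1`, hence the layer
  have he2c : e2 ∈ Subgroup.centralizer (layer G : Set G) := by
    have key : E1 ⊔ E2 ≤ Subgroup.centralizer ({e2} : Set G) := by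
      apply sup_le
      · intro y hy
        rw [Subgroup.mem_centralizer_singleton_iff]
        have := (Subgroup.commutator_eq_bot_iff_le_centralizer.1 hE12) hy e2 he2
        exact this.symm
      · intro y hy
        rw [Subgroup.mem_centralizer_singleton_iff]
        -- `e2 = m * f⁻¹`, both centralize `y ∈ E2`
        have h1 : (e2 * f) * y = y * (e2 * f) := (hE2N hy) _ hm
        have h2 : f * y = y * f := hEF (hE2E hy) f hf
        symm
        calc e2 * y = e2 * (y * f) * f⁻¹ := by group
          _ = e2 * (f * y) * f⁻¹ := by rw [h2]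
          _ = (e2 * f * y) * f⁻¹ := by group
          _ = y * (e2 * f) * f⁻¹ := by rw [h1]
          _ = y * e2 := by group
    intro y hy
    rw [hE] at hy
    have := key hy
    rw [Subgroup.mem_centralizer_singleton_iff] at this
    exact this
  have he2F : e2 ∈ fittingSubgroup G := layer_inf_centralizer_le_fitting ⟨hE2E he2, he2c⟩
  have hmF : e2 * f ∈ fittingSubgroup G ⊓ N := ⟨Subgroup.mul_mem _ he2F hf, hm⟩
  rw [← fittingSubgroup_of_subnormal hN] at hmF
  have h1 : e1 ∈ (generalizedFittingSubgroup N).map N.subtype :=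
    Subgroup.map_mono layer_le_generalizedFittingSubgroup (hE1N he1)
  have h2 : e2 * f ∈ (generalizedFittingSubgroup N).map N.subtype :=
    Subgroup.map_mono fittingSubgroup_le_generalizedFittingSubgroup hmF
  rw [mul_assoc]
  exact Subgroup.mul_mem _ h1 h2

/-- For a subnormal subgroup `N` of a finite group, `F*(N) = N ⊓ F*(G)`. -/
theorem generalizedFittingSubgroup_of_subnormal [Finite G] {N : Subgroup G} (hN : N.IsSubnormal) :
    (generalizedFittingSubgroup N).map N.subtype = N ⊓ generalizedFittingSubgroup G := by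
  apply le_antisymm _ (inf_generalizedFittingSubgroup_le hN)
  apply le_inf (Subgroup.map_subtype_le _)
  unfold generalizedFittingSubgroup
  rw [Subgroup.map_sup]
  exact sup_le_sup (layer_subnormal_le hN) (fittingSubgroup_subnormal_le hN)

end Cfsg.Agent.Lib.H7
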