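import Mathlib
import Cfsg.Prelude.Def_Local
import Cfsg.Agent.Lib.H1.PCore
import Cfsg.Agent.Lib.H1.Fitting
import Cfsg.Agent.Lib.H7.FStar2
import Cfsg.Agent.Lib.H7.Coprime
import Cfsg.Agent.Lib.H14.Amalgam5

set_option autoImplicit false
open Cfsg

namespace Cfsg.Agent.Lib.H7

universe u
variable {G : Type u} [Group G]

/-- In a finite group, `C_G(O_p(G)) ≤ O_p(G)` forces `F*(G) = O_p(G)`. -/
theorem generalizedFittingSubgroup_eq_pCore_of_centralizer_le [Finite G] (p : ℕ) [Fact p.Prime]
    (h : Subgroup.centralizer (pCore p G : Set G) ≤ pCore p G) :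
    generalizedFittingSubgroup G = pCore p G := by
  have hpn : (pCore p G).Normal := Cfsg.Agent.Lib.H1.pCore_normal p G
  have hpp : IsPGroup p (pCore p G) := Cfsg.Agent.Lib.H1.pCore_isPGroup p G
  have hpF : pCore p G ≤ fittingSubgroup G :=
    le_fittingSubgroup hpn hpp.isNilpotent
  apply le_antisymm _ (hpF.trans fittingSubgroup_le_generalizedFittingSubgroup)
  unfold generalizedFittingSubgroup
  apply sup_le
  · -- the layer centralizes O_p, so is a p-group, so is trivial
    have h1 : layer G ≤ Subgroup.centralizer (pCore p G : Set G) := by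
      rw [← Subgroup.commutator_eq_bot_iff_le_centralizer, Subgroup.commutator_comm]
      have := layer_commutator_fitting (G := G)
      rw [eq_bot_iff] at this ⊢
      rw [Subgroup.commutator_comm]
      exact (Subgroup.commutator_mono le_rfl hpF).trans this
    have h2 : layer G ≤ pCore p G := h1.trans h
    have h3 : layer G = ⊥ := by
      have hs : Group.IsSolvable (layer G) := by
        have : Group.IsNilpotent (layer G) := (hpp.to_le h2).isNilpotent
        infer_instance
      have := layer_commutator_solvable (G := G) (N := layer G) hs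
      rw [layer_commutator_self] at this
      exact this
    rw [h3]; exact bot_le
  · rw [Cfsg.Agent.Lib.H1.fittingSubgroup_eq_iSup_pCore]
    apply iSup_le
    intro q
    have : Fact (q : ℕ).Prime := ⟨q.2⟩
    by_cases hq : (q : ℕ) = p
    · rw [hq]
    · have hc : pCore (q : ℕ) G ≤ Subgroup.centralizer (pCore p G : Set G) := by
        intro x hx
        rw [Subgroup.mem_centralizer_iff]
        intro y hy
        exact (Cfsg.Agent.Lib.H1.pCore_commute (Ne.symm hq) y x hy hx).eq
      have hle : pCore (q : ℕ) G ≤ pCore (q : ℕ) G ⊓ pCore p G := le_inf le_rfl (hc.trans h)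
      have hd : Disjoint (pCore (q : ℕ) G) (pCore p G) :=
        IsPGroup.disjoint_of_ne (q : ℕ) p hq _ _ (Cfsg.Agent.Lib.H1.pCore_isPGroup (q : ℕ) G) hpp
      rw [hd.eq_bot] at hle
      exact hle.trans bot_le

/-- In a finite group, `F*(G) = O_p(G)` forces `C_G(O_p(G)) ≤ O_p(G)`. -/
theorem centralizer_pCore_le_of_generalizedFittingSubgroup_eq [Finite G] (p : ℕ)
    (h : generalizedFittingSubgroup G = pCore p G) :
    Subgroup.centralizer (pCore p G : Set G) ≤ pCore p G := by
  rw [← h]
  exact centralizer_generalizedFittingSubgroup_le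

theorem generalizedFittingSubgroup_eq_pCore_iff [Finite G] (p : ℕ) [Fact p.Prime] :
    generalizedFittingSubgroup G = pCore p G ↔
      Subgroup.centralizer (pCore p G : Set G) ≤ pCore p G :=
  ⟨centralizer_pCore_le_of_generalizedFittingSubgroup_eq p,
    generalizedFittingSubgroup_eq_pCore_of_centralizer_le p⟩

/-- A `p`-subgroup `X` of `G` normalized by `N` has `X.subgroupOf N ≤ O_p(N)`. -/
theorem subgroupOf_le_pCore {p : ℕ} {N X : Subgroup G} (hX : IsPGroup p X)
    (hN : N ≤ Subgroup.normalizer (X : Set G)) : X.subgroupOf N ≤ pCore p N := by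
  apply Cfsg.Agent.Lib.H1.le_pCore
  · exact Subgroup.normal_subgroupOf_of_le_normalizer hN
  · exact hX.comap_subtype

/-- A subgroup of `N` normal in `N` which is a `p`-group lies in `(O_p(N)).map N.subtype`. -/
theorem le_map_pCore {p : ℕ} {N X : Subgroup G} (hX : IsPGroup p X) (hXN : X ≤ N)
    (hN : N ≤ Subgroup.normalizer (X : Set G)) : X ≤ (pCore p N).map N.subtype := by
  intro x hx
  exact ⟨⟨x, hXN hx⟩, subgroupOf_le_pCore hX hN (Subgroup.mem_subgroupOf.2 hx), rfl⟩


/-- The normalizer of `P` normalizes the centralizer of `P`. -/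
theorem normalizer_le_normalizer_centralizer (P : Subgroup G) :
    Subgroup.normalizer (P : Set G) ≤
      Subgroup.normalizer ((Subgroup.centralizer (P : Set G) : Subgroup G) : Set G) := by
  have := Subgroup.normal_subgroupOf_centralizer_normalizer (P : Set G)
  rwa [Subgroup.normal_subgroupOf_iff_le_normalizer (Subgroup.centralizer_le_normalizer _)] at this

/-- A finite subgroup all of whose `p'`-elements are trivial is a `p`-group. -/
theorem isPGroup_of_coprime_eq_one [Finite G] (p : ℕ) [hp : Fact p.Prime] (C : Subgroup G)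
    (h : ∀ y ∈ C, (orderOf y).Coprime p → y = 1) : IsPGroup p C := by
  intro g
  obtain ⟨k, m, hm, hom⟩ := Nat.exists_eq_pow_mul_and_not_dvd (orderOf_pos (g : G)).ne' p
    hp.out.ne_one
  refine ⟨k, ?_⟩
  have h1 : orderOf ((g : G) ^ (p ^ k)) = m := by
    rw [orderOf_pow, hom, Nat.gcd_eq_right (Dvd.intro _ rfl)]
    exact Nat.mul_div_cancel_left _ (pow_pos hp.out.pos k)
  have h2 : ((g : G) ^ (p ^ k)) = 1 := by
    apply h _ (C.pow_mem g.2 _)
    rw [h1]
    exact ((Nat.Prime.coprime_iff_not_dvd hp.out).2 hm).symm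
  exact Subtype.ext (by simpa using h2)

/-- Core of the `A × B` argument for local subgroups: a `p'`-element `y` of `M` centralizing `P`
and `O_p(M)` centralizes `Q`. -/
theorem mem_centralizer_of_centralizes_pCoreOf [Finite G] (p : ℕ) [Fact p.Prime]
    {Q P M : Subgroup G}
    (hQ : IsPGroup p Q) (hP : IsPGroup p P)
    (hMQ : M ≤ Subgroup.normalizer (Q : Set G)) (hMP : M ≤ Subgroup.normalizer (P : Set G))
    (hPQ : P ≤ Subgroup.normalizer (Q : Set G))
    (hQM : Q ⊓ Subgroup.centralizer (P : Set G) ≤ M)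
    {y : G} (hyM : y ∈ M) (hy : (orderOf y).Coprime p)
    (hyP : y ∈ Subgroup.centralizer (P : Set G))
    (hyO : y ∈ Subgroup.centralizer (pCoreOf p M : Set G)) :
    y ∈ Subgroup.centralizer (Q : Set G) := by
  set A : Subgroup G := Subgroup.zpowers y with hA
  have hAc : (Nat.card A).Coprime p := by rw [hA, Nat.card_zpowers]; exact hy
  have hAle : ∀ {K : Subgroup G}, y ∈ K → A ≤ K := fun h => by
    rw [hA, Subgroup.zpowers_le]; exact h
  have hAP : ⁅A, P⁆ = ⊥ := by
    rw [Subgroup.commutator_eq_bot_iff_le_centralizer]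
    exact hAle hyP
  have hle : Q ⊓ Subgroup.centralizer (P : Set G) ≤ pCoreOf p M := by
    apply Cfsg.Agent.Lib.H14.le_pCoreOf p M _ hQM _ (hQ.to_le inf_le_left)
    intro g hg
    have h1 := hMQ hg
    have h2 := normalizer_le_normalizer_centralizer P (hMP hg)
    rw [Subgroup.mem_normalizer_iff] at h1 h2 ⊢
    intro x
    rw [Subgroup.mem_inf, Subgroup.mem_inf, h1 x, h2 x]
  have hAC : ⁅A, Q ⊓ Subgroup.centralizer (P : Set G)⁆ = ⊥ := by
    rw [Subgroup.commutator_eq_bot_iff_le_centralizer]
    exact (hAle hyO).trans (Subgroup.centralizer_le hle)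
  have := thompson_AxB' p hQ hP hAc hAP (hAle (hMQ hyM)) hPQ hAC
  rw [Subgroup.commutator_eq_bot_iff_le_centralizer] at this
  exact this (Subgroup.mem_zpowers y)

/-- A `p'`-element `y` of `M` centralizing `P` and `O_p(M)` is trivial, provided `p'`-elements of
`M` centralizing `Q` are trivial. -/
theorem eq_one_of_centralizes_pCoreOf [Finite G] (p : ℕ) [Fact p.Prime] {Q P M : Subgroup G}
    (hQ : IsPGroup p Q) (hP : IsPGroup p P)
    (hMQ : M ≤ Subgroup.normalizer (Q : Set G)) (hMP : M ≤ Subgroup.normalizer (P : Set G))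
    (hPQ : P ≤ Subgroup.normalizer (Q : Set G))
    (hQM : Q ⊓ Subgroup.centralizer (P : Set G) ≤ M)
    (hC : ∀ y ∈ M, (orderOf y).Coprime p → y ∈ Subgroup.centralizer (Q : Set G) → y = 1)
    {y : G} (hyM : y ∈ M) (hy : (orderOf y).Coprime p)
    (hyP : y ∈ Subgroup.centralizer (P : Set G))
    (hyO : y ∈ Subgroup.centralizer (pCoreOf p M : Set G)) : y = 1 :=
  hC y hyM hy (mem_centralizer_of_centralizes_pCoreOf p hQ hP hMQ hMP hPQ hQM hyM hy hyP hyO)

/-- Criterion for `F*(M) = O_p(M)` for a subgroup `M` of a finite group, in terms of the ambient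
group. -/
theorem generalizedFittingSubgroup_eq_pCore_of_coprime [Finite G] (p : ℕ) [Fact p.Prime]
    (M : Subgroup G)
    (h : ∀ y ∈ M, (orderOf y).Coprime p → y ∈ Subgroup.centralizer (pCoreOf p M : Set G) → y = 1) :
    generalizedFittingSubgroup M = pCore p M := by
  apply generalizedFittingSubgroup_eq_pCore_of_centralizer_le
  have hn : (pCore p M).Normal := Cfsg.Agent.Lib.H1.pCore_normal p M
  apply Cfsg.Agent.Lib.H1.le_pCore inferInstance
  apply isPGroup_of_coprime_eq_one
  intro y hyC hy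
  have := h (y : G) y.2 (by rwa [Subgroup.orderOf_coe]) (by
    rw [Subgroup.mem_centralizer_iff]
    rintro _ ⟨z, hz, rfl⟩
    have := Subgroup.mem_centralizer_iff.1 hyC z hz
    exact congrArg Subtype.val this)
  exact Subtype.ext this

/-- Conversely, if `F*(M) = O_p(M)` then `p'`-elements of `M` centralizing `O_p(M)` are trivial. -/
theorem eq_one_of_generalizedFittingSubgroup_eq_pCore [Finite G] (p : ℕ) [Fact p.Prime]
    (M : Subgroup G) (h : generalizedFittingSubgroup M = pCore p M) {y : G} (hyM : y ∈ M)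
    (hy : (orderOf y).Coprime p) (hyO : y ∈ Subgroup.centralizer (pCoreOf p M : Set G)) :
    y = 1 := by
  have h1 : (⟨y, hyM⟩ : M) ∈ Subgroup.centralizer (pCore p M : Set M) := by
    rw [Subgroup.mem_centralizer_iff]
    intro z hz
    have := Subgroup.mem_centralizer_iff.1 hyO (z : G) ⟨z, hz, rfl⟩
    exact Subtype.ext this
  have h2 := centralizer_pCore_le_of_generalizedFittingSubgroup_eq p h h1
  obtain ⟨k, hk⟩ := (Cfsg.Agent.Lib.H1.pCore_isPGroup p M) ⟨_, h2⟩
  have hk' : y ^ (p ^ k) = 1 := by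
    have := congrArg (fun z : pCore p M => ((z : M) : G)) hk
    simpa using this
  have h3 : orderOf y ∣ p ^ k := orderOf_dvd_of_pow_eq_one hk'
  have h4 : orderOf y = 1 := Nat.Coprime.eq_one_of_dvd (Nat.Coprime.pow_right k hy) h3
  exact orderOf_eq_one_iff.1 h4


/-- A `p'`-element of a `p`-group is trivial. -/
theorem eq_one_of_mem_of_isPGroup_of_coprime {p : ℕ} {Q : Subgroup G} (hQ : IsPGroup p Q) {y : G}
    (hy : y ∈ Q) (hc : (orderOf y).Coprime p) : y = 1 := by
  obtain ⟨k, hk⟩ := hQ ⟨y, hy⟩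
  have hk' : y ^ (p ^ k) = 1 := by
    have := congrArg Subtype.val hk
    simpa using this
  have h3 : orderOf y ∣ p ^ k := orderOf_dvd_of_pow_eq_one hk'
  have h4 : orderOf y = 1 := Nat.Coprime.eq_one_of_dvd (Nat.Coprime.pow_right k hc) h3
  exact orderOf_eq_one_iff.1 h4

/-- `F*(M) = O_p(M)` for a local subgroup `M` with `P ≤ M ≤ N_G(P)`, relative to a `p`-subgroup `Q`
normalized by `M` and `P`, with `C_Q(P) ≤ M`, such that `p'`-elements of `M` centralizing `Q` are
trivial. -/
theorem generalizedFittingSubgroup_eq_pCore_of_le_normalizer [Finite G] (p : ℕ) [Fact p.Prime]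
    {Q P M : Subgroup G} (hQ : IsPGroup p Q) (hP : IsPGroup p P)
    (hMQ : M ≤ Subgroup.normalizer (Q : Set G)) (hPM : P ≤ M)
    (hMP : M ≤ Subgroup.normalizer (P : Set G))
    (hPQ : P ≤ Subgroup.normalizer (Q : Set G))
    (hQM : Q ⊓ Subgroup.centralizer (P : Set G) ≤ M)
    (hC : ∀ y ∈ M, (orderOf y).Coprime p → y ∈ Subgroup.centralizer (Q : Set G) → y = 1) :
    generalizedFittingSubgroup M = pCore p M := by
  apply generalizedFittingSubgroup_eq_pCore_of_coprime
  intro y hyM hy hyO
  refine eq_one_of_centralizes_pCoreOf p hQ hP hMQ hMP hPQ hQM hC hyM hy ?_ hyO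
  exact Subgroup.centralizer_le (Cfsg.Agent.Lib.H14.le_pCoreOf p M P hPM hMP hP) hyO

/-- `F*(M) = O_p(M)` for a local subgroup `M ≤ C_G(P)` normalizing `P`... (centralizer version). -/
theorem generalizedFittingSubgroup_eq_pCore_of_le_centralizer [Finite G] (p : ℕ) [Fact p.Prime]
    {Q P M : Subgroup G} (hQ : IsPGroup p Q) (hP : IsPGroup p P)
    (hMQ : M ≤ Subgroup.normalizer (Q : Set G))
    (hMP : M ≤ Subgroup.centralizer (P : Set G))
    (hPQ : P ≤ Subgroup.normalizer (Q : Set G))
    (hQM : Q ⊓ Subgroup.centralizer (P : Set G) ≤ M)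
    (hC : ∀ y ∈ M, (orderOf y).Coprime p → y ∈ Subgroup.centralizer (Q : Set G) → y = 1) :
    generalizedFittingSubgroup M = pCore p M := by
  apply generalizedFittingSubgroup_eq_pCore_of_coprime
  intro y hyM hy hyO
  exact eq_one_of_centralizes_pCoreOf p hQ hP hMQ
    (hMP.trans (Subgroup.centralizer_le_normalizer _)) hPQ hQM hC hyM hy (hMP hyM) hyO

end Cfsg.Agent.Lib.H7
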