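import Mathlib
import Cfsg.Agent.Lib.H6.PResidual
import Cfsg.Agent.Lib.H7.CoprimeFactor
import Cfsg.Agent.Lib.H7.PLocal
import Cfsg.Agent.Lib.H1.CoprimeSylow

/-! Coprime generation by hyperplane centralizers: an elementary abelian `p`-group `A` acting on a
`p'`-group `X` satisfies `X = ⟨C_X(B) : B ≤ A, |A : B| ≤ p⟩`. -/

set_option autoImplicit false
open scoped IsMulCommutative

namespace Cfsg.Agent.Lib.H7


section Rank2

variable {W : Type*} [CommGroup W] (p : ℕ) [Fact p.Prime]

theorem pow_val_add {M : Type*} [Monoid M] {c : M} (hc : c ^ p = 1) (x y : ZMod p) :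
    c ^ (x + y).val = c ^ x.val * c ^ y.val := by
  rw [ZMod.val_add, ← pow_add, ← pow_eq_pow_mod _ hc]

theorem pow_val_mul {M : Type*} [Monoid M] {c : M} (hc : c ^ p = 1) (x y : ZMod p) :
    c ^ (x * y).val = (c ^ x.val) ^ y.val := by
  rw [ZMod.val_mul, ← pow_mul, ← pow_eq_pow_mod _ hc]

/-- The trace of `w` along the cyclic group generated by `γ` (with `γ ^ p = 1`). -/
noncomputable def cycTrace (γ : Monoid.End W) (w : W) : W := ∏ x : ZMod p, (γ ^ x.val) w

theorem cycTrace_fixed {γ : Monoid.End W} (hγ : γ ^ p = 1) (w : W) :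
    γ (cycTrace p γ w) = cycTrace p γ w := by
  unfold cycTrace
  rw [map_prod]
  have h1 : ∀ x : ZMod p, γ ((γ ^ x.val) w) = (γ ^ (x + 1).val) w := by
    intro x
    rw [pow_val_add p hγ, ZMod.val_one, pow_one, pow_mul_comm']
    rfl
  simp only [h1]
  exact Fintype.prod_equiv (Equiv.addRight 1) _ _ (fun x => rfl)

theorem rank2_formula (α β : Monoid.End W) (hαβ : α * β = β * α) (hβ : β ^ p = 1) (w : W) :
    ∃ h : W, β h = h ∧
      w ^ p * h = (∏ j : ZMod p, cycTrace p (α * β ^ j.val) w) * cycTrace p β w := by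
  have hcomm : ∀ n : ℕ, Commute α (β ^ n) := fun n => (show Commute α β from hαβ).pow_right n
  refine ⟨∏ k : ZMod p, (α ^ k.val) (cycTrace p β w), ?_, ?_⟩
  · rw [map_prod]
    apply Finset.prod_congr rfl
    intro k _
    have h1 : β * α ^ k.val = α ^ k.val * β :=
      ((show Commute α β from hαβ).symm.pow_right k.val).eq
    calc β ((α ^ k.val) (cycTrace p β w)) = (β * α ^ k.val) (cycTrace p β w) := rfl
      _ = (α ^ k.val * β) (cycTrace p β w) := by rw [h1]
      _ = (α ^ k.val) (β (cycTrace p β w)) := rfl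
      _ = _ := by rw [cycTrace_fixed p hβ]
  · -- the double product
    have hF : ∀ j k : ZMod p, ((α * β ^ j.val) ^ k.val) w = (α ^ k.val) ((β ^ (j * k).val) w) := by
      intro j k
      rw [(hcomm j.val).mul_pow, pow_val_mul p hβ]
      rfl
    have h1 : (∏ j : ZMod p, cycTrace p (α * β ^ j.val) w) =
        ∏ k : ZMod p, ∏ j : ZMod p, (α ^ k.val) ((β ^ (j * k).val) w) := by
      unfold cycTrace
      simp only [hF]
      exact Finset.prod_comm
    have h2 : ∀ k : ZMod p, k ≠ 0 →
        (∏ j : ZMod p, (α ^ k.val) ((β ^ (j * k).val) w)) =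
          (α ^ k.val) (cycTrace p β w) := by
      intro k hk
      unfold cycTrace
      rw [map_prod]
      exact Fintype.prod_equiv (Equiv.mulRight₀ k hk) _ _ (fun x => rfl)
    have h3 : (∏ j : ZMod p, (α ^ (0 : ZMod p).val) ((β ^ (j * 0).val) w)) = w ^ p := by
      simp [ZMod.val_zero]
    have h6 : (∏ k : ZMod p, ∏ j : ZMod p, (α ^ k.val) ((β ^ (j * k).val) w)) =
        w ^ p * ∏ k ∈ Finset.univ.erase (0 : ZMod p), (α ^ k.val) (cycTrace p β w) := by
      rw [← Finset.mul_prod_erase Finset.univ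
        (fun k : ZMod p => ∏ j : ZMod p, (α ^ k.val) ((β ^ (j * k).val) w))
        (Finset.mem_univ (0 : ZMod p)), h3]
      congr 1
      apply Finset.prod_congr rfl
      intro k hk
      exact h2 k (Finset.ne_of_mem_erase hk)
    have h7 : (∏ k : ZMod p, (α ^ k.val) (cycTrace p β w)) =
        cycTrace p β w * ∏ k ∈ Finset.univ.erase (0 : ZMod p), (α ^ k.val) (cycTrace p β w) := by
      rw [← Finset.mul_prod_erase Finset.univ
        (fun k : ZMod p => (α ^ k.val) (cycTrace p β w)) (Finset.mem_univ (0 : ZMod p))]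
      simp only [ZMod.val_zero, pow_zero]
      rfl
    rw [h1, h6, h7]
    rw [mul_assoc, mul_comm (cycTrace p β w)]

end Rank2

universe u
variable {H : Type u} [Group H]

/-- Conjugation action of `N(V)` on `V` as endomorphisms. -/
def conjEnd (V : Subgroup H) : ↥(Subgroup.normalizer (V : Set H)) →* Monoid.End ↥V where
  toFun n :=
    { toFun := fun v => ⟨(n : H) * v * (n : H)⁻¹, (Subgroup.mem_normalizer_iff.1 n.2 v).1 v.2⟩
      map_one' := by apply Subtype.ext; simp
      map_mul' := fun x y => by apply Subtype.ext; simp only [Subgroup.coe_mul]; group }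
  map_one' := by
    ext v
    show ((1 : ↥(Subgroup.normalizer (V : Set H))) : H) * v *
      ((1 : ↥(Subgroup.normalizer (V : Set H))) : H)⁻¹ = v
    simp
  map_mul' := fun m n => by
    ext v
    show ((m * n : ↥(Subgroup.normalizer (V : Set H))) : H) * v *
      ((m * n : ↥(Subgroup.normalizer (V : Set H))) : H)⁻¹ =
        (m : H) * ((n : H) * v * (n : H)⁻¹) * (m : H)⁻¹
    simp only [Subgroup.coe_mul]
    group

theorem conjEnd_apply_coe (V : Subgroup H) (n : ↥(Subgroup.normalizer (V : Set H))) (v : ↥V) :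
    ((conjEnd V n v : ↥V) : H) = (n : H) * v * (n : H)⁻¹ := rfl

theorem coe_mem_centralizer_of_conjEnd_eq (V : Subgroup H)
    (n : ↥(Subgroup.normalizer (V : Set H))) (v : ↥V) (h : conjEnd V n v = v) :
    (v : H) ∈ V ⊓ Subgroup.centralizer {(n : H)} := by
  refine ⟨v.2, Subgroup.mem_centralizer_singleton_iff.2 ?_⟩
  have h1 : (n : H) * v * (n : H)⁻¹ = v := by
    rw [← conjEnd_apply_coe, h]
  symm
  calc (n : H) * v = ((n : H) * v * (n : H)⁻¹) * n := by group
    _ = v * n := by rw [h1]

theorem le_sup_centralizer_of_rank2 [Finite H] (p : ℕ) [Fact p.Prime] {V : Subgroup H}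
    [IsMulCommutative V] (hVp : (Nat.card V).Coprime p) {a b : H}
    (ha : a ∈ Subgroup.normalizer (V : Set H)) (hb : b ∈ Subgroup.normalizer (V : Set H))
    (hab : a * b = b * a) (hap : a ^ p = 1) (hbp : b ^ p = 1) :
    V ≤ (⨆ j : ZMod p, V ⊓ Subgroup.centralizer {a * b ^ j.val}) ⊔
      (V ⊓ Subgroup.centralizer {b}) := by
  intro v hv
  obtain ⟨aN, haN⟩ : ∃ aN : ↥(Subgroup.normalizer (V : Set H)), (aN : H) = a := ⟨⟨a, ha⟩, rfl⟩
  obtain ⟨bN, hbN⟩ : ∃ bN : ↥(Subgroup.normalizer (V : Set H)), (bN : H) = b := ⟨⟨b, hb⟩, rfl⟩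
  have habN : aN * bN = bN * aN := by
    apply Subtype.ext; rw [Subgroup.coe_mul, Subgroup.coe_mul, haN, hbN, hab]
  have hapN : aN ^ p = 1 := by
    apply Subtype.ext; rw [Subgroup.coe_pow, haN, hap]; rfl
  have hbpN : bN ^ p = 1 := by
    apply Subtype.ext; rw [Subgroup.coe_pow, hbN, hbp]; rfl
  have hαβ : conjEnd V aN * conjEnd V bN = conjEnd V bN * conjEnd V aN := by
    rw [← map_mul, ← map_mul, habN]
  have hβ : conjEnd V bN ^ p = 1 := by rw [← map_pow, hbpN, map_one]
  have hγ : ∀ j : ZMod p, (conjEnd V aN * conjEnd V bN ^ j.val) ^ p = 1 := by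
    intro j
    rw [← map_pow, ← map_mul, ← map_pow]
    have : (aN * bN ^ j.val) ^ p = 1 := by
      rw [((show Commute aN bN from habN).pow_right j.val).mul_pow, hapN, one_mul, ← pow_mul,
        mul_comm, pow_mul, hbpN, one_pow]
    rw [this, map_one]
  obtain ⟨h, hβh, hform⟩ := rank2_formula p (conjEnd V aN) (conjEnd V bN) hαβ hβ ⟨v, hv⟩
  set S : Subgroup H := (⨆ j : ZMod p, V ⊓ Subgroup.centralizer {a * b ^ j.val}) ⊔
      (V ⊓ Subgroup.centralizer {b}) with hS
  have h1 : h ∈ S.subgroupOf V := by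
    rw [Subgroup.mem_subgroupOf]
    apply Subgroup.mem_sup_right
    have := coe_mem_centralizer_of_conjEnd_eq V bN h hβh
    rwa [hbN] at this
  have h2 : cycTrace p (conjEnd V bN) ⟨v, hv⟩ ∈ S.subgroupOf V := by
    rw [Subgroup.mem_subgroupOf]
    apply Subgroup.mem_sup_right
    have := coe_mem_centralizer_of_conjEnd_eq V bN _ (cycTrace_fixed p hβ ⟨v, hv⟩)
    rwa [hbN] at this
  have h3 : (∏ j : ZMod p, cycTrace p (conjEnd V aN * conjEnd V bN ^ j.val) ⟨v, hv⟩) ∈
      S.subgroupOf V := by
    apply Subgroup.prod_mem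
    intro j _
    rw [Subgroup.mem_subgroupOf]
    apply Subgroup.mem_sup_left
    apply Subgroup.mem_iSup_of_mem j
    have h4 := cycTrace_fixed p (hγ j) ⟨v, hv⟩
    have h4' : conjEnd V (aN * bN ^ j.val) = conjEnd V aN * conjEnd V bN ^ j.val := by
      rw [map_mul, map_pow]
    rw [← h4'] at h4 ⊢
    have := coe_mem_centralizer_of_conjEnd_eq V _ _ h4
    rwa [Subgroup.coe_mul, Subgroup.coe_pow, haN, hbN] at this
  have h5 : (⟨v, hv⟩ : ↥V) ^ p ∈ S.subgroupOf V := by
    have : (⟨v, hv⟩ : ↥V) ^ p = (∏ j : ZMod p, cycTrace p (conjEnd V aN * conjEnd V bN ^ j.val)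
        ⟨v, hv⟩) * cycTrace p (conjEnd V bN) ⟨v, hv⟩ * h⁻¹ := by
      rw [← hform]; group
    rw [this]
    exact Subgroup.mul_mem _ (Subgroup.mul_mem _ h3 h2) (Subgroup.inv_mem _ h1)
  have h6 : (⟨v, hv⟩ : ↥V) ^ Nat.card V ∈ S.subgroupOf V := by
    rw [pow_card_eq_one']; exact Subgroup.one_mem _
  have h7 := Cfsg.Agent.Lib.H6.mem_of_pow_mem_of_coprime hVp.symm h5 h6
  exact Subgroup.mem_subgroupOf.1 h7


/-- The subgroup of `X` generated by the centralizers in `X` of the subgroups of `A` of index at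
most `p`. -/
def hypGen (p : ℕ) (A X : Subgroup H) : Subgroup H :=
  ⨆ B : {B : Subgroup H // B ≤ A ∧ B.relIndex A ≤ p}, X ⊓ Subgroup.centralizer ((B : Subgroup H) : Set H)

theorem hypGen_le (p : ℕ) (A X : Subgroup H) : hypGen p A X ≤ X :=
  iSup_le fun _ => inf_le_left

theorem hypGen_mono (p : ℕ) (A : Subgroup H) {X Y : Subgroup H} (h : X ≤ Y) :
    hypGen p A X ≤ hypGen p A Y :=
  iSup_mono fun _ => inf_le_inf_right _ h

theorem inf_centralizer_le_hypGen (p : ℕ) {A B : Subgroup H} (X : Subgroup H) (hBA : B ≤ A)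
    (hB : B.relIndex A ≤ p) : X ⊓ Subgroup.centralizer (B : Set H) ≤ hypGen p A X :=
  le_iSup (fun B : {B : Subgroup H // B ≤ A ∧ B.relIndex A ≤ p} =>
    X ⊓ Subgroup.centralizer ((B : Subgroup H) : Set H)) ⟨B, hBA, hB⟩

theorem card_mul_relIndex_of_le [Finite H] {K A : Subgroup H} (h : K ≤ A) :
    Nat.card K * K.relIndex A = Nat.card A := by
  have := Subgroup.relIndex_mul_relIndex ⊥ K A bot_le h
  rwa [Subgroup.relIndex_bot_left, Subgroup.relIndex_bot_left] at this

theorem card_lt_card_of_le_of_mem_of_notMem [Finite H] {K K' : Subgroup H} (h : K ≤ K') {c : H}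
    (hc : c ∈ K') (hcK : c ∉ K) : Nat.card K < Nat.card K' := by
  by_contra hlt
  push Not at hlt
  have := Subgroup.eq_of_le_of_card_ge h hlt
  exact hcK (this ▸ hc)

theorem abelian_le_hypGen [Finite H] (p : ℕ) [Fact p.Prime] {A : Subgroup H}
    (hAc : ∀ a ∈ A, ∀ b ∈ A, a * b = b * a) (hAp : ∀ a ∈ A, a ^ p = 1) :
    ∀ (n : ℕ) (K V : Subgroup H), K ≤ A → (∀ v ∈ V, ∀ w ∈ V, v * w = w * v) →
      (Nat.card V).Coprime p → A ≤ Subgroup.normalizer (V : Set H) →
      K ≤ Subgroup.centralizer (V : Set H) → Nat.card A - Nat.card K ≤ n →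
      V ≤ hypGen p A V := by
  have hp : p.Prime := Fact.out
  -- the common argument
  have key : ∀ (n : ℕ), (∀ (K V : Subgroup H), K ≤ A → (∀ v ∈ V, ∀ w ∈ V, v * w = w * v) →
      (Nat.card V).Coprime p → A ≤ Subgroup.normalizer (V : Set H) →
      K ≤ Subgroup.centralizer (V : Set H) → Nat.card A - Nat.card K < n →
      V ≤ hypGen p A V) → ∀ (K V : Subgroup H), K ≤ A → (∀ v ∈ V, ∀ w ∈ V, v * w = w * v) →
      (Nat.card V).Coprime p → A ≤ Subgroup.normalizer (V : Set H) →
      K ≤ Subgroup.centralizer (V : Set H) → Nat.card A - Nat.card K ≤ n →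
      V ≤ hypGen p A V := by
    intro n IH K V hKA hVc hVp hAV hKV hn
    by_cases hK : K.relIndex A ≤ p
    · have : V ⊓ Subgroup.centralizer (K : Set H) ≤ hypGen p A V :=
        inf_centralizer_le_hypGen p V hKA hK
      refine le_trans (le_inf le_rfl ?_) this
      intro v hv
      rw [Subgroup.mem_centralizer_iff]
      intro k hk
      exact (Subgroup.mem_centralizer_iff.1 (hKV hk) v hv).symm
    · push Not at hK
      -- choose a ∈ A \ K
      have hcardKA := card_mul_relIndex_of_le hKA
      have hKpos : 0 < Nat.card K := Nat.card_pos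
      obtain ⟨a, haA, haK⟩ : ∃ a ∈ A, a ∉ K := by
        by_contra hcon
        push Not at hcon
        have : K = A := le_antisymm hKA hcon
        rw [this, Subgroup.relIndex_self] at hK
        exact absurd hK (not_lt.2 hp.one_lt.le)
      have hzA : ∀ c ∈ A, Subgroup.zpowers c ≤ A := fun c hc => by
        rw [Subgroup.zpowers_le]; exact hc
      have hzcard : ∀ c ∈ A, Nat.card (Subgroup.zpowers c) ≤ p := fun c hc => by
        rw [Nat.card_zpowers]
        exact Nat.le_of_dvd hp.pos (orderOf_dvd_of_pow_eq_one (hAp c hc))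
      have hzK : ∀ c ∈ A, Subgroup.zpowers c ≤ Subgroup.normalizer (K : Set H) := by
        intro c hc
        rw [Subgroup.zpowers_le, Subgroup.mem_normalizer_iff]
        intro k
        constructor
        · intro hk
          have : c * k * c⁻¹ = k := by
            rw [hAc c hc k (hKA hk)]; group
          rw [this]; exact hk
        · intro hk
          have hk' := hKA hk
          have hkA : k ∈ A := by
            have : k = c⁻¹ * (c * k * c⁻¹) * c := by group
            rw [this]
            exact A.mul_mem (A.mul_mem (A.inv_mem hc) hk') hc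
          have : c * k * c⁻¹ = k := by
            rw [hAc c hc k hkA]; group
          rw [this] at hk; exact hk
      obtain ⟨b, hbA, hbK⟩ : ∃ b ∈ A, b ∉ K ⊔ Subgroup.zpowers a := by
        by_contra hcon
        push Not at hcon
        have h1 : K ⊔ Subgroup.zpowers a = A := le_antisymm (sup_le hKA (hzA a haA)) hcon
        have h2 := card_sup_dvd_mul_of_le_normalizer (hzK a haA)
        rw [h1] at h2
        have h3 : Nat.card A ≤ Nat.card K * p := by
          refine le_trans (Nat.le_of_dvd (Nat.mul_pos hKpos Nat.card_pos) h2) ?_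
          exact Nat.mul_le_mul_left _ (hzcard a haA)
        rw [← hcardKA] at h3
        exact absurd (Nat.le_of_mul_le_mul_left h3 hKpos) (not_le.2 hK)
      have hab : a * b = b * a := hAc a haA b hbA
      have hKltA : Nat.card K < Nat.card A := card_lt_card_of_le_of_mem_of_notMem hKA haA haK
      -- the step for a single c ∈ A \ K
      have step : ∀ c ∈ A, c ∉ K → V ⊓ Subgroup.centralizer {c} ≤ hypGen p A V := by
        intro c hcA hcK
        have hlt : Nat.card K < Nat.card (K ⊔ Subgroup.zpowers c : Subgroup H) :=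
          card_lt_card_of_le_of_mem_of_notMem le_sup_left
            (Subgroup.mem_sup_right (Subgroup.mem_zpowers c)) hcK
        have hAcen : A ≤ Subgroup.normalizer ((Subgroup.centralizer {c} : Subgroup H) : Set H) := by
          refine le_trans ?_ Subgroup.le_normalizer
          intro g hg
          rw [Subgroup.mem_centralizer_singleton_iff]
          exact hAc g hg c hcA
        have h1 := IH (K ⊔ Subgroup.zpowers c) (V ⊓ Subgroup.centralizer {c})
          (sup_le hKA (hzA c hcA)) (fun v hv w hw => hVc v hv.1 w hw.1)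
          (Nat.Coprime.coprime_dvd_left (Subgroup.card_dvd_of_le inf_le_left) hVp)
          (le_normalizer_inf hAV hAcen)
          (sup_le (hKV.trans (Subgroup.centralizer_le inf_le_left)) (by
            rw [Subgroup.zpowers_le, Subgroup.mem_centralizer_iff]
            intro v hv
            exact Subgroup.mem_centralizer_singleton_iff.1 hv.2))
          (by omega)
        exact h1.trans (hypGen_mono p A inf_le_left)
      have : IsMulCommutative V := ⟨⟨fun x y => Subtype.ext (hVc x x.2 y y.2)⟩⟩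
      refine le_trans (le_sup_centralizer_of_rank2 p hVp (hAV haA) (hAV hbA) hab (hAp a haA)
        (hAp b hbA)) (sup_le (iSup_le fun j => ?_) ?_)
      · apply step _ (A.mul_mem haA (A.pow_mem hbA _))
        intro hmem
        by_cases hj : j = 0
        · rw [hj, ZMod.val_zero, pow_zero, mul_one] at hmem
          exact haK hmem
        · apply hbK
          have h1 : b ^ j.val ∈ K ⊔ Subgroup.zpowers a := by
            have : b ^ j.val = a⁻¹ * (a * b ^ j.val) := by group
            rw [this, sup_comm]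
            exact Subgroup.mul_mem_sup (Subgroup.inv_mem _ (Subgroup.mem_zpowers a)) hmem
          have h2 : b = (b ^ j.val) ^ (j⁻¹).val := by
            rw [← pow_mul, pow_eq_pow_mod _ (hAp b hbA), ← ZMod.val_mul, mul_inv_cancel₀ hj,
              ZMod.val_one, pow_one]
          rw [h2]
          exact Subgroup.pow_mem _ h1 _
      · apply step b hbA
        intro hmem
        exact hbK (Subgroup.mem_sup_left hmem)
  intro n
  induction n using Nat.strong_induction_on with
  | _ n ih =>
    apply key n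
    intro K V h1 h2 h3 h4 h5 h6
    exact ih _ h6 K V h1 h2 h3 h4 h5 le_rfl


theorem coprimeAction_of_le [Finite H] (p : ℕ) [Fact p.Prime] {A B X : Subgroup H}
    (hAc : ∀ a ∈ A, ∀ b ∈ A, a * b = b * a) (hAp : ∀ a ∈ A, a ^ p = 1)
    (hXp : (Nat.card X).Coprime p) (hAX : A ≤ Subgroup.normalizer (X : Set H)) (hBA : B ≤ A) :
    Cfsg.Agent.Lib.H1.CoprimeAction B X := by
  refine ⟨hBA.trans hAX, ?_, Or.inl ?_⟩
  · have hBp : IsPGroup p B := by
      intro g
      refine ⟨1, ?_⟩
      apply Subtype.ext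
      rw [pow_one, Subgroup.coe_pow, hAp _ (hBA g.2)]; rfl
    obtain ⟨k, hk⟩ := IsPGroup.iff_card.1 hBp
    rw [hk]
    exact (Nat.Coprime.pow_right k hXp).symm
  · have : IsMulCommutative B := ⟨⟨fun x y => Subtype.ext (hAc x (hBA x.2) y (hBA y.2))⟩⟩
    infer_instance

/-- The quotient step of the generation theorem. -/
theorem le_hypGen_of_quotient [Finite H] (p : ℕ) [Fact p.Prime] {A X Z : Subgroup H}
    (hAc : ∀ a ∈ A, ∀ b ∈ A, a * b = b * a) (hAp : ∀ a ∈ A, a ^ p = 1)
    (hXp : (Nat.card X).Coprime p) (hAX : A ≤ Subgroup.normalizer (X : Set H))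
    (hZX : Z ≤ X) (hXZ : X ≤ Subgroup.normalizer (Z : Set H))
    (hAZ : A ≤ Subgroup.normalizer (Z : Set H)) (hZne : Z ≠ ⊥) (hZgen : Z ≤ hypGen p A X)
    (IH : ∀ (H' : Type u) [Group H'] [Finite H'] (A' X' : Subgroup H'),
      (∀ a ∈ A', ∀ b ∈ A', a * b = b * a) → (∀ a ∈ A', a ^ p = 1) →
      (Nat.card X').Coprime p → A' ≤ Subgroup.normalizer (X' : Set H') →
      Nat.card X' < Nat.card X → X' ≤ hypGen p A' X') : X ≤ hypGen p A X := by
  have hnorm : (Z.subgroupOf (Subgroup.normalizer (Z : Set H))).Normal :=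
    Subgroup.normal_in_normalizer
  have hXcard : Nat.card (X.subgroupOf (Subgroup.normalizer (Z : Set H))) = Nat.card X :=
    Nat.card_congr (Subgroup.subgroupOfEquivOfLe hXZ).toEquiv
  -- the IH in the quotient
  have hIH := IH (↥(Subgroup.normalizer (Z : Set H)) ⧸ Z.subgroupOf (Subgroup.normalizer (Z : Set H)))
    ((A.subgroupOf (Subgroup.normalizer (Z : Set H))).map
      (QuotientGroup.mk' (Z.subgroupOf (Subgroup.normalizer (Z : Set H)))))
    ((X.subgroupOf (Subgroup.normalizer (Z : Set H))).map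
      (QuotientGroup.mk' (Z.subgroupOf (Subgroup.normalizer (Z : Set H)))))
    (by
      rintro _ ⟨a, ha, rfl⟩ _ ⟨b, hb, rfl⟩
      rw [← map_mul, ← map_mul]
      congr 1
      apply Subtype.ext
      rw [Subgroup.coe_mul, Subgroup.coe_mul]
      exact hAc _ (Subgroup.mem_subgroupOf.1 ha) _ (Subgroup.mem_subgroupOf.1 hb))
    (by
      rintro _ ⟨a, ha, rfl⟩
      rw [← map_pow]
      have : a ^ p = 1 := by
        apply Subtype.ext
        rw [Subgroup.coe_pow, hAp _ (Subgroup.mem_subgroupOf.1 ha)]; rfl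
      rw [this, map_one])
    (Nat.Coprime.coprime_dvd_left (Subgroup.card_map_dvd _ _) (by rw [hXcard]; exact hXp))
    (by
      refine le_trans (Subgroup.map_mono ?_) (Subgroup.le_normalizer_map _)
      intro a ha
      rw [Subgroup.mem_normalizer_iff]
      intro x
      rw [Subgroup.mem_subgroupOf, Subgroup.mem_subgroupOf]
      exact Subgroup.mem_normalizer_iff.1 (hAX (Subgroup.mem_subgroupOf.1 ha)) x)
    (by
      rw [← Subgroup.relIndex_ker, QuotientGroup.ker_mk', Subgroup.relIndex_subgroupOf hXZ]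
      have h1 := card_mul_relIndex_of_le hZX
      have h2 : 1 < Nat.card Z := by
        rw [Subgroup.one_lt_card_iff_ne_bot]; exact hZne
      have h3 : 0 < Z.relIndex X := by
        rcases Nat.eq_zero_or_pos (Z.relIndex X) with h | h
        · rw [h, mul_zero] at h1
          exact absurd h1.symm (Nat.card_pos.ne')
        · exact h
      nlinarith)
  -- pull back
  have hpull : hypGen p ((A.subgroupOf (Subgroup.normalizer (Z : Set H))).map
      (QuotientGroup.mk' (Z.subgroupOf (Subgroup.normalizer (Z : Set H)))))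
      ((X.subgroupOf (Subgroup.normalizer (Z : Set H))).map
      (QuotientGroup.mk' (Z.subgroupOf (Subgroup.normalizer (Z : Set H))))) ≤
      ((hypGen p A X).subgroupOf (Subgroup.normalizer (Z : Set H))).map
        (QuotientGroup.mk' (Z.subgroupOf (Subgroup.normalizer (Z : Set H)))) := by
    apply iSup_le
    rintro ⟨Bbar, hBbarA, hBbarp⟩
    rintro y ⟨⟨x₁, hx₁, rfl⟩, hyB⟩
    have hx₁X : (x₁ : H) ∈ X := Subgroup.mem_subgroupOf.1 hx₁
    have hBA : ((Bbar.comap (QuotientGroup.mk' (Z.subgroupOf (Subgroup.normalizer (Z : Set H))))) ⊓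
        A.subgroupOf (Subgroup.normalizer (Z : Set H))).map
          (Subgroup.normalizer (Z : Set H)).subtype ≤ A := by
      rintro _ ⟨b, hb, rfl⟩
      exact Subgroup.mem_subgroupOf.1 hb.2
    have hBidx : (((Bbar.comap (QuotientGroup.mk' (Z.subgroupOf (Subgroup.normalizer (Z : Set H))))) ⊓
        A.subgroupOf (Subgroup.normalizer (Z : Set H))).map
          (Subgroup.normalizer (Z : Set H)).subtype).relIndex A ≤ p := by
      have hA' : (A.subgroupOf (Subgroup.normalizer (Z : Set H))).map
          (Subgroup.normalizer (Z : Set H)).subtype = A :=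
        Subgroup.map_subgroupOf_eq_of_le hAZ
      have h1 := Subgroup.relIndex_map_map_of_injective
        ((Bbar.comap (QuotientGroup.mk' (Z.subgroupOf (Subgroup.normalizer (Z : Set H))))) ⊓
          A.subgroupOf (Subgroup.normalizer (Z : Set H)))
        (A.subgroupOf (Subgroup.normalizer (Z : Set H)))
        (Subgroup.subtype_injective (Subgroup.normalizer (Z : Set H)))
      rw [hA'] at h1
      rw [h1, Subgroup.inf_relIndex_right, Subgroup.relIndex_comap]
      exact hBbarp
    have hfix : ∀ b ∈ ((Bbar.comap (QuotientGroup.mk' (Z.subgroupOf (Subgroup.normalizer (Z : Set H))))) ⊓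
        A.subgroupOf (Subgroup.normalizer (Z : Set H))).map
          (Subgroup.normalizer (Z : Set H)).subtype, b * (x₁ : H) * b⁻¹ * (x₁ : H)⁻¹ ∈ Z := by
      rintro _ ⟨b, hb, rfl⟩
      have h1 : QuotientGroup.mk' (Z.subgroupOf (Subgroup.normalizer (Z : Set H))) b ∈ Bbar := hb.1
      have h2 := Subgroup.mem_centralizer_iff.1 hyB _ h1
      have h3 : QuotientGroup.mk' (Z.subgroupOf (Subgroup.normalizer (Z : Set H)))
          (b * x₁ * b⁻¹ * x₁⁻¹) = 1 := by
        simp only [map_mul, map_inv]
        rw [h2]; group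
      rw [QuotientGroup.mk'_apply, QuotientGroup.eq_one_iff, Subgroup.mem_subgroupOf] at h3
      simpa using h3
    obtain ⟨c, hc, hcZ⟩ := Cfsg.Agent.Lib.H1.coprime_centralizer_quotient
      (coprimeAction_of_le p hAc hAp hXp hAX hBA) hZX hXZ (hBA.trans hAZ) hx₁X hfix
    have hc' : c ∈ hypGen p A X := inf_centralizer_le_hypGen p X hBA hBidx hc
    have hx₁gen : (x₁ : H) ∈ hypGen p A X := by
      have : (x₁ : H) = c * ((x₁ : H)⁻¹ * c)⁻¹ := by group
      rw [this]
      exact Subgroup.mul_mem _ hc' (Subgroup.inv_mem _ (hZgen hcZ))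
    exact ⟨x₁, Subgroup.mem_subgroupOf.2 hx₁gen, rfl⟩
  intro x hx
  have hxM : x ∈ Subgroup.normalizer (Z : Set H) := hXZ hx
  have h1 : QuotientGroup.mk' (Z.subgroupOf (Subgroup.normalizer (Z : Set H))) ⟨x, hxM⟩ ∈
      ((X.subgroupOf (Subgroup.normalizer (Z : Set H))).map
      (QuotientGroup.mk' (Z.subgroupOf (Subgroup.normalizer (Z : Set H))))) :=
    Subgroup.mem_map_of_mem _ (Subgroup.mem_subgroupOf.2 hx)
  obtain ⟨t, ht, hteq⟩ := hpull (hIH h1)
  rw [QuotientGroup.mk'_apply, QuotientGroup.mk'_apply, QuotientGroup.eq,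
    Subgroup.mem_subgroupOf] at hteq
  have ht' : (t : H) ∈ hypGen p A X := Subgroup.mem_subgroupOf.1 ht
  have : x = (t : H) * ((t : H)⁻¹ * x) := by group
  rw [this]
  exact Subgroup.mul_mem _ ht' (hZgen (by simpa using hteq))


/-- A subgroup `S ≤ X` containing a Sylow `q`-subgroup of `X` for every prime `q` is `X`. -/
theorem le_of_forall_sylow_le [Finite H] {X S : Subgroup H}
    (h : ∀ q : ℕ, q.Prime → ∃ Q : Subgroup H, Q ≤ S ∧
      Nat.card Q = q ^ (Nat.card X).factorization q) : Nat.card X ∣ Nat.card S := by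
  rw [← Nat.factorization_prime_le_iff_dvd Nat.card_pos.ne' Nat.card_pos.ne']
  intro q hq
  obtain ⟨Q, hQS, hQ⟩ := h q hq
  have h1 : q ^ (Nat.card X).factorization q ∣ Nat.card S := by
    rw [← hQ]; exact Subgroup.card_dvd_of_le hQS
  exact (hq.pow_dvd_iff_le_factorization Nat.card_pos.ne').1 h1

theorem le_hypGen_aux (p : ℕ) [Fact p.Prime] :
    ∀ (n : ℕ) (H : Type u) [Group H] [Finite H] (A X : Subgroup H),
      (∀ a ∈ A, ∀ b ∈ A, a * b = b * a) → (∀ a ∈ A, a ^ p = 1) →
      (Nat.card X).Coprime p → A ≤ Subgroup.normalizer (X : Set H) →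
      Nat.card X ≤ n → X ≤ hypGen p A X := by
  intro n
  induction n using Nat.strong_induction_on with
  | _ n ih =>
    intro H _ _ A X hAc hAp hXp hAX hn
    by_cases hq : ∃ q : ℕ, q.Prime ∧ IsPGroup q X
    · -- `X` is a `q`-group: use the centre
      obtain ⟨q, hqp, hXq⟩ := hq
      have : Fact q.Prime := ⟨hqp⟩
      by_cases hXbot : X = ⊥
      · rw [hXbot]; exact bot_le
      have hZc : ∀ v ∈ X ⊓ Subgroup.centralizer (X : Set H),
          ∀ w ∈ X ⊓ Subgroup.centralizer (X : Set H), v * w = w * v := by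
        intro v hv w hw
        exact Subgroup.mem_centralizer_iff.1 hw.2 v hv.1
      have hAZ : A ≤ Subgroup.normalizer ((X ⊓ Subgroup.centralizer (X : Set H) : Subgroup H) : Set H) :=
        le_normalizer_inf hAX (hAX.trans (normalizer_le_normalizer_centralizer X))
      have hXZ : X ≤ Subgroup.normalizer ((X ⊓ Subgroup.centralizer (X : Set H) : Subgroup H) : Set H) :=
        le_normalizer_inf Subgroup.le_normalizer
          (Subgroup.le_normalizer.trans (normalizer_le_normalizer_centralizer X))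
      have hZgen : X ⊓ Subgroup.centralizer (X : Set H) ≤ hypGen p A X := by
        refine le_trans (abelian_le_hypGen p hAc hAp (Nat.card A) ⊥ _ bot_le hZc
          (Nat.Coprime.coprime_dvd_left (Subgroup.card_dvd_of_le inf_le_left) hXp) hAZ bot_le
          (Nat.sub_le _ _)) (hypGen_mono p A inf_le_left)
      have hZne : X ⊓ Subgroup.centralizer (X : Set H) ≠ ⊥ := by
        have : Nontrivial X := by
          rw [Subgroup.nontrivial_iff_ne_bot]; exact hXbot
        have := hXq.center_nontrivial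
        obtain ⟨z, hz⟩ := exists_ne (1 : Subgroup.center X)
        intro hbot
        apply hz
        have hzmem : ((z : X) : H) ∈ X ⊓ Subgroup.centralizer (X : Set H) := by
          refine ⟨(z : X).2, Subgroup.mem_centralizer_iff.2 ?_⟩
          intro x hx
          have := Subgroup.mem_center_iff.1 z.2 ⟨x, hx⟩
          exact congrArg Subtype.val this
        rw [hbot, Subgroup.mem_bot] at hzmem
        apply Subtype.ext
        apply Subtype.ext
        exact hzmem
      apply le_hypGen_of_quotient p hAc hAp hXp hAX inf_le_left hXZ hAZ hZne hZgen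
      intro H' _ _ A' X' h1 h2 h3 h4 h5
      exact ih (Nat.card X') (lt_of_lt_of_le h5 hn) H' A' X' h1 h2 h3 h4 le_rfl
    · -- `X` is not of prime power order: use invariant Sylow subgroups
      push Not at hq
      have hact := coprimeAction_of_le p hAc hAp hXp hAX (le_refl A)
      have hdvd : Nat.card X ∣ Nat.card (hypGen p A X) := by
        apply le_of_forall_sylow_le
        intro q hqp
        have : Fact q.Prime := ⟨hqp⟩
        obtain ⟨Q, hQ, hAQ⟩ := Cfsg.Agent.Lib.H1.coprime_exists_invariant_sylow hact q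
        refine ⟨Q, ?_, hQ.card_eq⟩
        have hQlt : Nat.card Q < Nat.card X := by
          by_contra hge
          push Not at hge
          have : Q = X := Subgroup.eq_of_le_of_card_ge hQ.le hge
          exact hq q hqp (this ▸ hQ.isPGroup)
        have h1 := ih (Nat.card Q) (lt_of_lt_of_le hQlt hn) H A Q hAc hAp
          (Nat.Coprime.coprime_dvd_left (Subgroup.card_dvd_of_le hQ.le) hXp) hAQ le_rfl
        exact h1.trans (hypGen_mono p A hQ.le)
      have := Subgroup.eq_of_le_of_card_ge (hypGen_le p A X) (Nat.le_of_dvd Nat.card_pos hdvd)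
      rw [this]

/-- **Coprime generation by hyperplane centralizers.** -/
theorem le_hypGen [Finite H] (p : ℕ) [Fact p.Prime] {A X : Subgroup H}
    (hAc : ∀ a ∈ A, ∀ b ∈ A, a * b = b * a) (hAp : ∀ a ∈ A, a ^ p = 1)
    (hXp : (Nat.card X).Coprime p) (hAX : A ≤ Subgroup.normalizer (X : Set H)) :
    X ≤ hypGen p A X :=
  le_hypGen_aux p (Nat.card X) H A X hAc hAp hXp hAX le_rfl


end Cfsg.Agent.Lib.H7
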