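import Mathlib
import Cfsg.Prelude.Def_Local
import Cfsg.Agent.Lib.H7.CoprimeGen
import Cfsg.Agent.Lib.H1.TwoInvolutions

set_option autoImplicit false
open Cfsg

namespace Cfsg.Agent.Lib.H7

variable {G : Type*} [Group G]

/-- Eigenvectors: an elementary abelian `2`-group `A` acting on an odd-order group `X` on which
`a ∈ A` acts nontrivially: some nontrivial `z ∈ X` is inverted by `a` and inverted or centralized
by every element of `A`. -/
theorem exists_eigen [Finite G] {A X : Subgroup G}
    (hAc : ∀ a ∈ A, ∀ b ∈ A, a * b = b * a) (hA2 : ∀ a ∈ A, a ^ 2 = 1)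
    (hXodd : Odd (Nat.card X)) (hAX : A ≤ Subgroup.normalizer (X : Set G))
    {a : G} (ha : a ∈ A) (hna : ¬ a ∈ Subgroup.centralizer (X : Set G)) :
    ∃ z ∈ X, z ≠ 1 ∧ a * z * a⁻¹ = z⁻¹ ∧ ∀ c ∈ A, c * z * c⁻¹ = z ∨ c * z * c⁻¹ = z⁻¹ := by
  have : Fact (Nat.Prime 2) := ⟨Nat.prime_two⟩
  have hgen := le_hypGen 2 hAc hA2 (Nat.Coprime.symm (Nat.coprime_two_left.2 hXodd)) hAX
  -- some hyperplane centralizer is not centralized by `a`
  have hex : ∃ B : {B : Subgroup G // B ≤ A ∧ B.relIndex A ≤ 2},
      ¬ (X ⊓ Subgroup.centralizer ((B : Subgroup G) : Set G) ≤ Subgroup.centralizer ({a} : Set G)) := by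
    by_contra hcon
    push Not at hcon
    apply hna
    have h1 : X ≤ Subgroup.centralizer ({a} : Set G) := hgen.trans (iSup_le hcon)
    rw [Subgroup.mem_centralizer_iff]
    intro x hx
    have := h1 hx
    rw [Subgroup.mem_centralizer_singleton_iff] at this
    exact this
  obtain ⟨⟨B, hBA, hBi⟩, hB⟩ := hex
  rw [SetLike.not_le_iff_exists] at hB
  obtain ⟨y, hy, hya⟩ := hB
  have hyX : y ∈ X := (Subgroup.mem_inf.1 hy).1
  have hyB : y ∈ Subgroup.centralizer (B : Set G) := (Subgroup.mem_inf.1 hy).2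
  rw [Subgroup.mem_centralizer_singleton_iff] at hya
  have haB : a ∉ B := by
    intro h
    exact hya (Subgroup.mem_centralizer_iff.1 hyB a h).symm
  have haa : a * a = 1 := by rw [← pow_two]; exact hA2 a ha
  have hainv : a⁻¹ = a := inv_eq_of_mul_eq_one_right haa
  -- index two
  have hidx : (B.subgroupOf A).index = 2 := by
    have h1 : (B.subgroupOf A).index ≤ 2 := hBi
    have h2 : (B.subgroupOf A).index ≠ 0 := Subgroup.index_ne_zero_of_finite
    have h3 : (B.subgroupOf A).index ≠ 1 := by
      intro h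
      rw [Subgroup.index_eq_one, Subgroup.subgroupOf_eq_top] at h
      exact haB (h ha)
    omega
  have hcases : ∀ c ∈ A, c ∈ B ∨ a * c ∈ B := by
    intro c hc
    by_cases hcB : c ∈ B
    · exact Or.inl hcB
    · right
      have := Subgroup.mul_mem_iff_of_index_two hidx (a := ⟨a, ha⟩) (b := ⟨c, hc⟩)
      rw [Subgroup.mem_subgroupOf, Subgroup.mem_subgroupOf, Subgroup.mem_subgroupOf] at this
      exact this.2 ⟨fun h => absurd h haB, fun h => absurd h hcB⟩
  set z := y⁻¹ * (a * y * a⁻¹) with hz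
  have hayX : a * y * a⁻¹ ∈ X := (Subgroup.mem_normalizer_iff.1 (hAX ha) y).1 hyX
  have hzX : z ∈ X := mul_mem (inv_mem hyX) hayX
  have hz1 : z ≠ 1 := by
    intro h
    apply hya
    have h2 : a * y * a⁻¹ = y := by
      have := congrArg (y * ·) h
      simpa [hz, mul_assoc] using this
    calc y * a = (a * y * a⁻¹) * a := by rw [h2]
      _ = a * y := by group
  have hza : a * z * a⁻¹ = z⁻¹ := by
    rw [hz]
    have : a * (y⁻¹ * (a * y * a⁻¹)) * a⁻¹ = (a * y⁻¹ * a⁻¹) * ((a * a) * y * (a * a)⁻¹) := by group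
    rw [this, haa]
    group
  have hzB : ∀ c ∈ B, c * z * c⁻¹ = z := by
    intro c hc
    have hcy : c * y = y * c := (Subgroup.mem_centralizer_iff.1 hyB c hc)
    have hca : c * a = a * c := hAc c (hBA hc) a ha
    have h1 : c * y * c⁻¹ = y := by rw [hcy]; group
    have h2 : c * (a * y * a⁻¹) * c⁻¹ = a * y * a⁻¹ := by
      calc c * (a * y * a⁻¹) * c⁻¹ = (c * a) * y * (c * a)⁻¹ := by group
        _ = (a * c) * y * (a * c)⁻¹ := by rw [hca]
        _ = a * (c * y * c⁻¹) * a⁻¹ := by group
        _ = a * y * a⁻¹ := by rw [h1]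
    calc c * z * c⁻¹ = (c * y * c⁻¹)⁻¹ * (c * (a * y * a⁻¹) * c⁻¹) := by rw [hz]; group
      _ = z := by rw [h1, h2]
  refine ⟨z, hzX, hz1, hza, ?_⟩
  intro c hc
  rcases hcases c hc with h | h
  · exact Or.inl (hzB c h)
  · right
    have h1 := hzB (a * c) h
    have h2 : c = a * (a * c) := by rw [← mul_assoc, haa, one_mul]
    calc c * z * c⁻¹ = a * ((a * c) * z * (a * c)⁻¹) * a⁻¹ := by
          conv_lhs => rw [h2]
          group
      _ = a * z * a⁻¹ := by rw [h1]
      _ = z⁻¹ := hza

/-- Prime-order eigenvectors. -/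
theorem exists_eigen_prime [Finite G] {A X : Subgroup G}
    (hAc : ∀ a ∈ A, ∀ b ∈ A, a * b = b * a) (hA2 : ∀ a ∈ A, a ^ 2 = 1)
    (hXodd : Odd (Nat.card X)) (hAX : A ≤ Subgroup.normalizer (X : Set G))
    {a : G} (ha : a ∈ A) (hna : ¬ a ∈ Subgroup.centralizer (X : Set G)) :
    ∃ v ∈ X, (orderOf v).Prime ∧ a * v * a⁻¹ = v⁻¹ ∧
      ∀ c ∈ A, c * v * c⁻¹ = v ∨ c * v * c⁻¹ = v⁻¹ := by
  obtain ⟨z, hzX, hz1, hza, hzc⟩ := exists_eigen hAc hA2 hXodd hAX ha hna
  have hne : orderOf z ≠ 1 := fun h => hz1 (orderOf_eq_one_iff.1 h)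
  set q := (orderOf z).minFac with hq
  have hqp : q.Prime := Nat.minFac_prime hne
  have hqd : q ∣ orderOf z := Nat.minFac_dvd _
  set k := orderOf z / q with hk
  refine ⟨z ^ k, pow_mem hzX k, ?_, ?_, ?_⟩
  · rw [orderOf_pow_orderOf_div (orderOf_pos z).ne' hqd]; exact hqp
  · rw [← conj_pow, hza, inv_pow]
  · intro c hc
    rcases hzc c hc with h | h
    · left; rw [← conj_pow, h]
    · right; rw [← conj_pow, h, inv_pow]

/-- Partial data for Thompson's dihedral lemma: `k` independent involutions of `A` with a dual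
family of eigenvectors of prime order in `M`. -/
structure DihData (A M : Subgroup G) (k : ℕ) : Prop where
  ex : ∃ (b v : Fin k → G), (∀ i, b i ∈ A) ∧ (∀ i, v i ∈ M) ∧ (∀ i, (orderOf (v i)).Prime) ∧
    (∀ i, ∀ c ∈ A, c * v i * c⁻¹ = v i ∨ c * v i * c⁻¹ = (v i)⁻¹) ∧
    (∀ i, b i * v i * (b i)⁻¹ = (v i)⁻¹) ∧
    (∀ i j, i ≠ j → b j * v i * (b j)⁻¹ = v i) ∧
    Nat.card (Subgroup.closure (Set.range b)) = 2 ^ k

theorem dihData_zero (A M : Subgroup G) : DihData A M 0 := by
  refine ⟨⟨fun i => i.elim0, fun i => i.elim0, fun i => i.elim0, fun i => i.elim0,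
    fun i => i.elim0, fun i => i.elim0, fun i => i.elim0, fun i => i.elim0, ?_⟩⟩
  have : Set.range (fun i : Fin 0 => (i.elim0 : G)) = ∅ := Set.range_eq_empty _
  rw [this, Subgroup.closure_empty, pow_zero, Subgroup.card_bot]

theorem dihData_succ [Finite G] {A M : Subgroup G}
    (hAc : ∀ a ∈ A, ∀ b ∈ A, a * b = b * a) (hA2 : ∀ a ∈ A, a ^ 2 = 1)
    (hModd : Odd (Nat.card M)) (hAM : A ≤ Subgroup.normalizer (M : Set G))
    (hfaith : A ⊓ Subgroup.centralizer (M : Set G) = ⊥)
    {k : ℕ} (h : DihData A M k) (hk : 2 ^ k < Nat.card A) : DihData A M (k + 1) := by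
  obtain ⟨b, v, hb, hv, hprime, heig, hinv, hcen, hcard⟩ := h.ex
  set B : Subgroup G := Subgroup.closure (Set.range b) with hB
  have hBA : B ≤ A := by
    rw [hB, Subgroup.closure_le]
    rintro _ ⟨i, rfl⟩
    exact hb i
  have hbB : ∀ i, b i ∈ B := fun i => Subgroup.subset_closure ⟨i, rfl⟩
  -- an element of `A` outside `B`
  have hex : ∃ a ∈ A, a ∉ B := by
    by_contra hcon
    push Not at hcon
    have : A ≤ B := hcon
    have := Subgroup.card_le_of_le this
    omega
  obtain ⟨a₀, ha₀A, ha₀B⟩ := hex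
  -- modify it to centralize all `v i`
  have hmod : ∀ s : Finset (Fin k), ∃ a ∈ A, a ∉ B ∧ ∀ i ∈ s, a * v i * a⁻¹ = v i := by
    intro s
    induction s using Finset.induction_on with
    | empty => exact ⟨a₀, ha₀A, ha₀B, fun i hi => absurd hi (Finset.notMem_empty i)⟩
    | insert j s hjs ih =>
      obtain ⟨a, haA, haB, has⟩ := ih
      rcases heig j a haA with hj | hj
      · refine ⟨a, haA, haB, ?_⟩
        intro i hi
        rcases Finset.mem_insert.1 hi with rfl | hi
        · exact hj
        · exact has i hi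
      · refine ⟨a * b j, mul_mem haA (hb j), ?_, ?_⟩
        · intro hmem
          apply haB
          have := mul_mem hmem (inv_mem (hbB j))
          rwa [mul_inv_cancel_right] at this
        · intro i hi
          rcases Finset.mem_insert.1 hi with rfl | hi
          · calc a * b i * v i * (a * b i)⁻¹ = a * (b i * v i * (b i)⁻¹) * a⁻¹ := by group
              _ = a * (v i)⁻¹ * a⁻¹ := by rw [hinv i]
              _ = (a * v i * a⁻¹)⁻¹ := by group
              _ = v i := by rw [hj, inv_inv]
          · have hij : i ≠ j := fun h => hjs (h ▸ hi)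
            calc a * b j * v i * (a * b j)⁻¹ = a * (b j * v i * (b j)⁻¹) * a⁻¹ := by group
              _ = a * v i * a⁻¹ := by rw [hcen i j hij]
              _ = v i := has i hi
  obtain ⟨a, haA, haB, hav⟩ := hmod Finset.univ
  have hav' : ∀ i, a * v i * a⁻¹ = v i := fun i => hav i (Finset.mem_univ i)
  -- `a` acts nontrivially on `M`
  have ha1 : a ≠ 1 := fun h => haB (h ▸ one_mem B)
  have hnc : ¬ a ∈ Subgroup.centralizer (M : Set G) := by
    intro hc
    have : a ∈ A ⊓ Subgroup.centralizer (M : Set G) := Subgroup.mem_inf.2 ⟨haA, hc⟩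
    rw [hfaith, Subgroup.mem_bot] at this
    exact ha1 this
  obtain ⟨x, hxM, hxp, hxa, hxc⟩ := exists_eigen_prime hAc hA2 hModd hAM haA hnc
  have haa : a * a = 1 := by rw [← pow_two]; exact hA2 a haA
  have hainv : a⁻¹ = a := inv_eq_of_mul_eq_one_right haa
  -- the new families
  classical
  set b' : Fin (k + 1) → G :=
    Fin.snoc (α := fun _ => G) (fun i => if b i * x * (b i)⁻¹ = x then b i else b i * a) a with hb'
  set v' : Fin (k + 1) → G := Fin.snoc (α := fun _ => G) v x with hv'
  have hb'c : ∀ i : Fin k, b' i.castSucc = if b i * x * (b i)⁻¹ = x then b i else b i * a := by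
    intro i; rw [hb', Fin.snoc_castSucc]
  have hb'l : b' (Fin.last k) = a := by rw [hb', Fin.snoc_last]
  have hv'c : ∀ i : Fin k, v' i.castSucc = v i := by intro i; rw [hv', Fin.snoc_castSucc]
  have hv'l : v' (Fin.last k) = x := by rw [hv', Fin.snoc_last]
  -- action of the new `b' i` on `v j` and `x`
  have hact_v : ∀ i j : Fin k, b' i.castSucc * v j * (b' i.castSucc)⁻¹ = b i * v j * (b i)⁻¹ := by
    intro i j
    rw [hb'c]
    split_ifs with hif
    · rfl
    · calc b i * a * v j * (b i * a)⁻¹ = b i * (a * v j * a⁻¹) * (b i)⁻¹ := by group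
        _ = b i * v j * (b i)⁻¹ := by rw [hav' j]
  have hact_x : ∀ i : Fin k, b' i.castSucc * x * (b' i.castSucc)⁻¹ = x := by
    intro i
    rw [hb'c]
    split_ifs with hif
    · exact hif
    · have h1 : b i * x * (b i)⁻¹ = x⁻¹ := by
        rcases hxc (b i) (hb i) with h | h
        · exact absurd h hif
        · exact h
      calc b i * a * x * (b i * a)⁻¹ = b i * (a * x * a⁻¹) * (b i)⁻¹ := by group
        _ = b i * x⁻¹ * (b i)⁻¹ := by rw [hxa]
        _ = (b i * x * (b i)⁻¹)⁻¹ := by group
        _ = x := by rw [h1, inv_inv]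
  refine ⟨⟨b', v', ?_, ?_, ?_, ?_, ?_, ?_, ?_⟩⟩
  · intro i
    refine Fin.lastCases ?_ (fun i => ?_) i
    · rw [hb'l]; exact haA
    · rw [hb'c]; split_ifs
      · exact hb i
      · exact mul_mem (hb i) haA
  · intro i
    refine Fin.lastCases ?_ (fun i => ?_) i
    · rw [hv'l]; exact hxM
    · rw [hv'c]; exact hv i
  · intro i
    refine Fin.lastCases ?_ (fun i => ?_) i
    · rw [hv'l]; exact hxp
    · rw [hv'c]; exact hprime i
  · intro i
    refine Fin.lastCases ?_ (fun i => ?_) i
    · rw [hv'l]; exact hxc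
    · rw [hv'c]; exact heig i
  · intro i
    refine Fin.lastCases ?_ (fun i => ?_) i
    · rw [hv'l, hb'l]; exact hxa
    · rw [hv'c, hact_v]; exact hinv i
  · intro i j
    refine Fin.lastCases ?_ (fun i => ?_) i
    · refine Fin.lastCases ?_ (fun j => ?_) j
      · intro h; exact absurd rfl h
      · intro _; rw [hv'l]; exact hact_x j
    · refine Fin.lastCases ?_ (fun j => ?_) j
      · intro _; rw [hv'c, hb'l]; exact hav' i
      · intro hij
        have hij' : i ≠ j := fun h => hij (h ▸ rfl)
        rw [hv'c, hact_v]; exact hcen i j hij'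
  · -- the cardinality
    have hcl : Subgroup.closure (Set.range b') = B ⊔ Subgroup.zpowers a := by
      apply le_antisymm
      · rw [Subgroup.closure_le]
        rintro _ ⟨i, rfl⟩
        refine Fin.lastCases ?_ (fun i => ?_) i
        · rw [hb'l]; exact (le_sup_right : Subgroup.zpowers a ≤ _) (Subgroup.mem_zpowers a)
        · rw [hb'c]; split_ifs
          · exact (le_sup_left : B ≤ _) (hbB i)
          · exact mul_mem ((le_sup_left : B ≤ _) (hbB i))
              ((le_sup_right : Subgroup.zpowers a ≤ _) (Subgroup.mem_zpowers a))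
      · have hamem : a ∈ Subgroup.closure (Set.range b') := by
          apply Subgroup.subset_closure
          exact ⟨Fin.last k, hb'l⟩
        apply sup_le
        · rw [hB, Subgroup.closure_le]
          rintro _ ⟨i, rfl⟩
          have h1 : b' i.castSucc ∈ Subgroup.closure (Set.range b') :=
            Subgroup.subset_closure ⟨i.castSucc, rfl⟩
          rw [hb'c] at h1
          split_ifs at h1 with hif
          · exact h1
          · have := mul_mem h1 (inv_mem hamem)
            rwa [mul_inv_cancel_right] at this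
        · rw [Subgroup.zpowers_le]; exact hamem
    rw [hcl]
    have hnorm : Subgroup.zpowers a ≤ Subgroup.normalizer (B : Set G) := by
      rw [Subgroup.zpowers_le]
      apply Subgroup.centralizer_le_normalizer
      rw [Subgroup.mem_centralizer_iff]
      intro c hc
      exact hAc c (hBA hc) a haA
    have hdvd := card_sup_dvd_mul_of_le_normalizer hnorm
    have hza : Nat.card (Subgroup.zpowers a) = 2 := by
      rw [Nat.card_zpowers]
      exact orderOf_eq_prime (hA2 a haA) ha1
    rw [hza, hcard] at hdvd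
    have hlt : Nat.card B < Nat.card (B ⊔ Subgroup.zpowers a : Subgroup G) :=
      card_lt_card_of_le_of_mem_of_notMem le_sup_left
        ((le_sup_right : Subgroup.zpowers a ≤ _) (Subgroup.mem_zpowers a)) haB
    have hdvd2 : Nat.card B ∣ Nat.card (B ⊔ Subgroup.zpowers a : Subgroup G) :=
      Subgroup.card_dvd_of_le le_sup_left
    rw [hcard] at hlt hdvd2
    obtain ⟨m, hm⟩ := hdvd2
    rw [hm] at hdvd hlt ⊢
    have hm2 : m ∣ 2 := Nat.dvd_of_mul_dvd_mul_left (by positivity) hdvd
    have hmle : m ≤ 2 := Nat.le_of_dvd (by norm_num) hm2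
    have hm1 : 1 < m := by
      by_contra hcon
      push Not at hcon
      have : 2 ^ k * m ≤ 2 ^ k * 1 := Nat.mul_le_mul_left _ hcon
      omega
    have : m = 2 := by omega
    rw [this, pow_succ]

theorem dihData_of_le [Finite G] {A M : Subgroup G}
    (hAc : ∀ a ∈ A, ∀ b ∈ A, a * b = b * a) (hA2 : ∀ a ∈ A, a ^ 2 = 1)
    (hModd : Odd (Nat.card M)) (hAM : A ≤ Subgroup.normalizer (M : Set G))
    (hfaith : A ⊓ Subgroup.centralizer (M : Set G) = ⊥) :
    ∀ k : ℕ, 2 ^ k ≤ Nat.card A → DihData A M k := by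
  intro k
  induction k with
  | zero => intro _; exact dihData_zero A M
  | succ k ih =>
    intro hk
    have hlt : 2 ^ k < Nat.card A := lt_of_lt_of_le (Nat.pow_lt_pow_right (by norm_num) (Nat.lt_succ_self k)) hk
    exact dihData_succ hAc hA2 hModd hAM hfaith (ih hlt.le) hlt

/-- An involution inverting an element `v ≠ 1` of odd order generates with it a dihedral group. -/
theorem dihedral_of_inverting [Finite G] {b v : G} (hb : b * b = 1) (hv1 : v ≠ 1)
    (hodd : Odd (orderOf v)) (hinv : b * v * b⁻¹ = v⁻¹) :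
    Nonempty (↥(Subgroup.zpowers b ⊔ Subgroup.zpowers v) ≃* DihedralGroup (orderOf v)) := by
  have hbinv : b⁻¹ = b := inv_eq_of_mul_eq_one_right hb
  have hb1 : b ≠ 1 := by
    intro h
    rw [h, one_mul, inv_one, mul_one] at hinv
    -- v = v⁻¹ with odd order
    have h2 : v ^ 2 = 1 := by rw [pow_two]; nth_rewrite 2 [hinv]; exact mul_inv_cancel v
    have hd : orderOf v ∣ 2 := orderOf_dvd_of_pow_eq_one h2
    have : orderOf v = 1 := by
      rcases (Nat.dvd_prime Nat.prime_two).1 hd with h | h
      · exact h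
      · rw [h] at hodd; exact absurd hodd (by decide)
    exact hv1 (orderOf_eq_one_iff.1 this)
  have hob : orderOf b = 2 := orderOf_eq_prime (by rw [pow_two]; exact hb) hb1
  have hbv2 : (b * v) * (b * v) = 1 := by
    calc (b * v) * (b * v) = (b * v * b⁻¹) * (b * b) * v := by group
      _ = 1 := by rw [hinv, hb]; group
  have hbv1 : b * v ≠ 1 := by
    intro h
    have hvb : v = b := by
      have := congrArg (b * ·) h
      simp only [← mul_assoc, hb, one_mul, mul_one] at this
      exact this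
    rw [hvb, hob] at hodd
    exact absurd hodd (by decide)
  have hobv : orderOf (b * v) = 2 := orderOf_eq_prime (by rw [pow_two]; exact hbv2) hbv1
  have hne : b ≠ b * v := by
    intro h
    apply hv1
    have := congrArg (b * ·) h
    simp only [← mul_assoc, hb, one_mul] at this
    exact this.symm
  obtain ⟨e⟩ := Cfsg.Agent.Lib.H1.twoInv_closure_equiv_dihedral hob hobv hne
  have hprod : b * (b * v) = v := by rw [← mul_assoc, hb, one_mul]
  rw [hprod] at e
  have hcl : Subgroup.closure ({b, b * v} : Set G) = Subgroup.zpowers b ⊔ Subgroup.zpowers v := by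
    apply le_antisymm
    · rw [Subgroup.closure_le]
      rintro g (rfl | rfl)
      · exact (le_sup_left : Subgroup.zpowers g ≤ _) (Subgroup.mem_zpowers g)
      · exact mul_mem ((le_sup_left : Subgroup.zpowers b ≤ _) (Subgroup.mem_zpowers b))
          ((le_sup_right : Subgroup.zpowers v ≤ _) (Subgroup.mem_zpowers v))
    · have h1 : b ∈ Subgroup.closure ({b, b * v} : Set G) :=
        Subgroup.subset_closure (Set.mem_insert _ _)
      have h2 : b * v ∈ Subgroup.closure ({b, b * v} : Set G) :=
        Subgroup.subset_closure (Set.mem_insert_of_mem _ rfl)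
      apply sup_le
      · rw [Subgroup.zpowers_le]; exact h1
      · rw [Subgroup.zpowers_le]
        have := mul_mem h1 h2
        rwa [hprod] at this
  exact ⟨(MulEquiv.subgroupCongr hcl.symm).trans e⟩

/-- Thompson's dihedral lemma when `A` acts faithfully on an abelian subgroup `M ≤ L` of odd order. -/
theorem thompson_dihedral_abelian [Finite G] {A M L : Subgroup G}
    (hAc : ∀ a ∈ A, ∀ b ∈ A, a * b = b * a) (hA2 : ∀ a ∈ A, a ^ 2 = 1)
    (d : ℕ) (hAd : Nat.card A = 2 ^ d) (hML : M ≤ L)
    (hMab : ∀ x ∈ M, ∀ y ∈ M, x * y = y * x)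
    (hModd : Odd (Nat.card M)) (hAM : A ≤ Subgroup.normalizer (M : Set G))
    (hfaith : A ⊓ Subgroup.centralizer (M : Set G) = ⊥) :
    ∃ (Ai : Fin d → Subgroup G) (Li : Fin d → Subgroup G) (n : Fin d → ℕ),
      (∀ i, Ai i ≤ A ∧ Nat.card ↥(Ai i) = 2 ∧ Li i ≤ L ∧ Odd (n i) ∧ 3 ≤ n i ∧
        Nonempty (↥(Ai i ⊔ Li i) ≃* DihedralGroup (n i))) ∧ (⨆ i, Ai i) = A ∧
      ∀ i j, i ≠ j → ∀ x ∈ Ai i ⊔ Li i, ∀ y ∈ Ai j ⊔ Li j, x * y = y * x := by
  obtain ⟨b, v, hb, hv, hprime, heig, hinv, hcen, hcard⟩ :=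
    (dihData_of_le hAc hA2 hModd hAM hfaith d hAd.ge).ex
  have hBA : Subgroup.closure (Set.range b) ≤ A := by
    rw [Subgroup.closure_le]
    rintro _ ⟨i, rfl⟩
    exact hb i
  have hBeq : Subgroup.closure (Set.range b) = A :=
    Subgroup.eq_of_le_of_card_ge hBA (by rw [hcard, hAd])
  have hvodd : ∀ i, Odd (orderOf (v i)) := by
    intro i
    have h1 : orderOf (v i) ∣ Nat.card M := Subgroup.orderOf_dvd_natCard M (hv i)
    exact Odd.of_dvd_nat hModd h1
  have hv1 : ∀ i, v i ≠ 1 := by
    intro i h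
    have := hprime i
    rw [h, orderOf_one] at this
    exact Nat.not_prime_one this
  have hbb : ∀ i, b i * b i = 1 := fun i => by rw [← pow_two]; exact hA2 _ (hb i)
  have hb1 : ∀ i, b i ≠ 1 := by
    intro i h
    have h2 := hinv i
    rw [h, one_mul, inv_one, mul_one] at h2
    have h3 : v i ^ 2 = 1 := by rw [pow_two]; nth_rewrite 2 [h2]; exact mul_inv_cancel _
    have hd : orderOf (v i) ∣ 2 := orderOf_dvd_of_pow_eq_one h3
    rcases (Nat.dvd_prime Nat.prime_two).1 hd with h4 | h4
    · exact hv1 i (orderOf_eq_one_iff.1 h4)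
    · have := hvodd i; rw [h4] at this; exact absurd this (by decide)
  refine ⟨fun i => Subgroup.zpowers (b i), fun i => Subgroup.zpowers (v i),
    fun i => orderOf (v i), ?_, ?_, ?_⟩
  · intro i
    refine ⟨?_, ?_, ?_, hvodd i, ?_, ?_⟩
    · rw [Subgroup.zpowers_le]; exact hb i
    · rw [Nat.card_zpowers]
      exact orderOf_eq_prime (hA2 _ (hb i)) (hb1 i)
    · rw [Subgroup.zpowers_le]; exact hML (hv i)
    · show 3 ≤ orderOf (v i)
      have h2 := (hprime i).two_le
      have h3 := hvodd i
      rcases h3 with ⟨m, hm⟩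
      omega
    · exact dihedral_of_inverting (hbb i) (hv1 i) (hvodd i) (hinv i)
  · apply le_antisymm
    · apply iSup_le
      intro i
      show Subgroup.zpowers (b i) ≤ A
      rw [Subgroup.zpowers_le]; exact hb i
    · rw [← hBeq, Subgroup.closure_le]
      rintro _ ⟨i, rfl⟩
      exact (le_iSup (fun i => Subgroup.zpowers (b i)) i) (Subgroup.mem_zpowers (b i))
  · intro i j hij
    have hji : j ≠ i := Ne.symm hij
    -- everything in the `j`-th group commutes with `b i` and `v i`
    have h1 : Subgroup.zpowers (b j) ⊔ Subgroup.zpowers (v j) ≤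
        Subgroup.centralizer ({b i} : Set G) := by
      apply sup_le
      · rw [Subgroup.zpowers_le, Subgroup.mem_centralizer_singleton_iff]
        exact hAc _ (hb j) _ (hb i)
      · rw [Subgroup.zpowers_le, Subgroup.mem_centralizer_singleton_iff]
        have := hcen j i hji
        calc v j * b i = (b i * v j * (b i)⁻¹)⁻¹⁻¹ * b i := by rw [this, inv_inv]
          _ = b i * v j := by group
    have h2 : Subgroup.zpowers (b j) ⊔ Subgroup.zpowers (v j) ≤
        Subgroup.centralizer ({v i} : Set G) := by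
      apply sup_le
      · rw [Subgroup.zpowers_le, Subgroup.mem_centralizer_singleton_iff]
        have := hcen i j hij
        calc b j * v i = (b j * v i * (b j)⁻¹) * b j := by group
          _ = v i * b j := by rw [this]
      · rw [Subgroup.zpowers_le, Subgroup.mem_centralizer_singleton_iff]
        exact hMab _ (hv j) _ (hv i)
    have h3 : Subgroup.zpowers (b i) ⊔ Subgroup.zpowers (v i) ≤
        Subgroup.centralizer ((Subgroup.zpowers (b j) ⊔ Subgroup.zpowers (v j) : Subgroup G) : Set G) := by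
      apply sup_le
      · rw [Subgroup.zpowers_le, Subgroup.mem_centralizer_iff]
        intro y hy
        have := h1 hy
        rw [Subgroup.mem_centralizer_singleton_iff] at this
        exact this
      · rw [Subgroup.zpowers_le, Subgroup.mem_centralizer_iff]
        intro y hy
        have := h2 hy
        rw [Subgroup.mem_centralizer_singleton_iff] at this
        exact this
    intro x hx y hy
    exact (Subgroup.mem_centralizer_iff.1 (h3 hx) y hy).symm

end Cfsg.Agent.Lib.H7
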