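import Mathlib
import Cfsg.Prelude.Def_Local
import Cfsg.Agent.Lib.H7.DihedralLemma
import Cfsg.Agent.Lib.H7.Coprime
import Cfsg.Agent.Lib.H7.FStar
import Cfsg.Agent.Lib.H7.Fitting
import Cfsg.Agent.Lib.H7.Components

set_option autoImplicit false
open Cfsg

namespace Cfsg.Agent.Lib.H7

variable {G : Type*} [Group G]

/-- If `a` (of order prime to `|X|`) normalizes `X`, centralizes `N ⊴ X` and `C_X(N) ≤ N`, then
`a` centralizes `X`. -/
theorem faithful_descent [Finite G] {X N : Subgroup G} {a : G} {n : ℕ}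
    (hXN : X ≤ Subgroup.normalizer (N : Set G))
    (hC : X ⊓ Subgroup.centralizer (N : Set G) ≤ N)
    (haX : a ∈ Subgroup.normalizer (X : Set G)) (han : a ^ n = 1) (hcop : n.Coprime (Nat.card X))
    (haN : a ∈ Subgroup.centralizer (N : Set G)) :
    a ∈ Subgroup.centralizer (X : Set G) := by
  rw [Subgroup.mem_centralizer_iff]
  intro l hl
  set l' := a * l * a⁻¹ with hl'
  have hl'X : l' ∈ X := (Subgroup.mem_normalizer_iff.1 haX l).1 hl
  set z := l' * l⁻¹ with hz
  have hzX : z ∈ X := mul_mem hl'X (inv_mem hl)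
  have hzC : z ∈ Subgroup.centralizer (N : Set G) := by
    rw [Subgroup.mem_centralizer_iff]
    intro f hf
    -- `l⁻¹ f l ∈ N` is centralized by `a`
    have h1 : l⁻¹ * f * l ∈ N := by
      have := (Subgroup.mem_normalizer_iff.1 (hXN (inv_mem hl)) f).1 hf
      simpa using this
    have h2 : (l⁻¹ * f * l) * a = a * (l⁻¹ * f * l) := Subgroup.mem_centralizer_iff.1 haN _ h1
    have h3 : f * a = a * f := Subgroup.mem_centralizer_iff.1 haN _ hf
    have h4 : a⁻¹ * f * a = f := by rw [mul_assoc, h3]; group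
    have h5 : l'⁻¹ * f * l' = l⁻¹ * f * l := by
      calc l'⁻¹ * f * l' = a * (l⁻¹ * (a⁻¹ * f * a) * l) * a⁻¹ := by rw [hl']; group
        _ = a * (l⁻¹ * f * l) * a⁻¹ := by rw [h4]
        _ = (l⁻¹ * f * l) * a * a⁻¹ := by rw [h2]
        _ = l⁻¹ * f * l := by group
    calc f * z = l' * (l'⁻¹ * f * l') * l⁻¹ := by rw [hz]; group
      _ = l' * (l⁻¹ * f * l) * l⁻¹ := by rw [h5]
      _ = z * f := by rw [hz]; group
  have hzN : z ∈ N := hC (Subgroup.mem_inf.2 ⟨hzX, hzC⟩)
  have haz : a * z = z * a := (Subgroup.mem_centralizer_iff.1 haN z hzN).symm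
  have hconj : a * l * a⁻¹ = z * l := by rw [hz, hl']; group
  have hzm : z ^ Nat.card X = 1 := by
    have := pow_card_eq_one' (x := (⟨z, hzX⟩ : X))
    exact congrArg Subtype.val this
  have hz1 : z = 1 := eq_one_of_conj_eq_mul han hzm hcop hconj haz
  rw [hz1, one_mul] at hconj
  calc l * a = (a * l * a⁻¹) * a := by rw [hconj]
    _ = a * l := by group

theorem layer_eq_bot_of_isSolvable (H : Type*) [Group H] [Finite H] [Group.IsSolvable H] :
    layer H = ⊥ := by
  unfold layer
  rw [eq_bot_iff]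
  apply sSup_le
  intro K hK
  exact absurd (inferInstance : Group.IsSolvable K) (component_not_solvable hK)

theorem centralizer_fittingSubgroup_le_of_isSolvable (H : Type*) [Group H] [Finite H]
    [Group.IsSolvable H] :
    Subgroup.centralizer (fittingSubgroup H : Set H) ≤ fittingSubgroup H := by
  have h := centralizer_generalizedFittingSubgroup_le (G := H)
  unfold generalizedFittingSubgroup at h
  rwa [layer_eq_bot_of_isSolvable, bot_sup_eq] at h

/-- `C_L(F(L)) ≤ F(L)` for solvable `L`, inside an ambient group. -/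
theorem inf_centralizer_fittingG_le [Finite G] (L : Subgroup G) (hLs : Group.IsSolvable L) :
    L ⊓ Subgroup.centralizer (((fittingSubgroup ↥L).map L.subtype : Subgroup G) : Set G) ≤
      (fittingSubgroup ↥L).map L.subtype := by
  intro x hx
  have hxL : x ∈ L := (Subgroup.mem_inf.1 hx).1
  have hxC := (Subgroup.mem_inf.1 hx).2
  refine ⟨⟨x, hxL⟩, ?_, rfl⟩
  apply centralizer_fittingSubgroup_le_of_isSolvable
  rw [Subgroup.mem_centralizer_iff]
  intro f hf
  exact Subtype.ext (Subgroup.mem_centralizer_iff.1 hxC _ (Subgroup.mem_map_of_mem _ hf))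

/-- Conjugation by an element of the normalizer, as an automorphism of the subgroup. -/
def conjNormalizerEquiv (L : Subgroup G) (x : G) (hx : x ∈ Subgroup.normalizer (L : Set G)) :
    ↥L ≃* ↥L where
  toFun l := ⟨x * l * x⁻¹, (Subgroup.mem_normalizer_iff.1 hx l).1 l.2⟩
  invFun l := ⟨x⁻¹ * l * x, by
    have := (Subgroup.mem_normalizer_iff.1 (inv_mem hx) l).1 l.2
    simpa using this⟩
  left_inv l := by apply Subtype.ext; simp [mul_assoc]
  right_inv l := by apply Subtype.ext; simp [mul_assoc]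
  map_mul' l m := by apply Subtype.ext; simp [mul_assoc]

/-- `F(L)` (viewed in `G`) is normalized by `N_G(L)`. -/
theorem normalizer_le_normalizer_fittingG [Finite G] (L : Subgroup G) :
    Subgroup.normalizer (L : Set G) ≤
      Subgroup.normalizer (((fittingSubgroup ↥L).map L.subtype : Subgroup G) : Set G) := by
  have key : ∀ x ∈ Subgroup.normalizer (L : Set G), ∀ f ∈ (fittingSubgroup ↥L).map L.subtype,
      x * f * x⁻¹ ∈ (fittingSubgroup ↥L).map L.subtype := by
    rintro x hx _ ⟨f, hf, rfl⟩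
    have h1 := fittingSubgroup_map_equiv (conjNormalizerEquiv L x hx)
    have h2 : (conjNormalizerEquiv L x hx) f ∈ fittingSubgroup ↥L := by
      rw [← h1]; exact Subgroup.mem_map_of_mem _ hf
    exact ⟨_, h2, rfl⟩
  intro x hx
  rw [Subgroup.mem_normalizer_iff]
  intro f
  constructor
  · exact key x hx f
  · intro h
    have := key x⁻¹ (inv_mem hx) _ h
    simpa [mul_assoc] using this

theorem le_normalizer_of_conj_mem {K X : Subgroup G}
    (h : ∀ k ∈ K, ∀ x ∈ X, k * x * k⁻¹ ∈ X) : K ≤ Subgroup.normalizer (X : Set G) := by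
  intro k hk
  rw [Subgroup.mem_normalizer_iff]
  intro x
  constructor
  · exact h k hk x
  · intro hx
    have := h k⁻¹ (inv_mem hk) _ hx
    simpa [mul_assoc] using this

theorem le_normalizer_commutator {K X Y : Subgroup G}
    (hX : K ≤ Subgroup.normalizer (X : Set G)) (hY : K ≤ Subgroup.normalizer (Y : Set G)) :
    K ≤ Subgroup.normalizer ((⁅X, Y⁆ : Subgroup G) : Set G) := by
  intro k hk
  rw [Subgroup.mem_normalizer_iff_map_conj_eq, Subgroup.map_commutator,
    Subgroup.mem_normalizer_iff_map_conj_eq.1 (hX hk),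
    Subgroup.mem_normalizer_iff_map_conj_eq.1 (hY hk)]

/-- Index two: cosets. -/
theorem mem_or_mul_mem_of_relIndex_le_two [Finite G] {A B : Subgroup G} (hBA : B ≤ A)
    (hBi : B.relIndex A ≤ 2) {a : G} (ha : a ∈ A) (haB : a ∉ B) :
    ∀ c ∈ A, c ∈ B ∨ a * c ∈ B := by
  have hidx : (B.subgroupOf A).index = 2 := by
    have h1 : (B.subgroupOf A).index ≤ 2 := hBi
    have h2 : (B.subgroupOf A).index ≠ 0 := Subgroup.index_ne_zero_of_finite
    have h3 : (B.subgroupOf A).index ≠ 1 := by
      intro h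
      rw [Subgroup.index_eq_one, Subgroup.subgroupOf_eq_top] at h
      exact haB (h ha)
    omega
  intro c hc
  by_cases hcB : c ∈ B
  · exact Or.inl hcB
  · right
    have := Subgroup.mul_mem_iff_of_index_two hidx (a := ⟨a, ha⟩) (b := ⟨c, hc⟩)
    rw [Subgroup.mem_subgroupOf, Subgroup.mem_subgroupOf, Subgroup.mem_subgroupOf] at this
    exact this.2 ⟨fun h => absurd h haB, fun h => absurd h hcB⟩

/-- Odd order: `y ^ 2 ∈ M → y ∈ M`. -/
theorem mem_of_sq_mem_of_odd [Finite G] {M : Subgroup G} {y : G} (hodd : Odd (orderOf y))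
    (h : y ^ 2 ∈ M) : y ∈ M := by
  obtain ⟨k, hk⟩ := hodd
  have : y = (y ^ 2) ^ (k + 1) := by
    rw [← pow_mul]
    have h1 : 2 * (k + 1) = orderOf y + 1 := by omega
    rw [h1, pow_succ, pow_orderOf_eq_one, one_mul]
  rw [this]
  exact pow_mem h _

open scoped commutatorElement in
/-- Eigen-cosets modulo `M`: if `E ≰ M` with `⁅E, F⁆ ≤ M`, `E ≤ F`, some `y ∈ E ∖ M` is inverted or
centralized modulo `M` by each element of `A`. -/
theorem exists_eigen_mod [Finite G] {A E M F : Subgroup G}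
    (hAc : ∀ a ∈ A, ∀ b ∈ A, a * b = b * a) (hA2 : ∀ a ∈ A, a ^ 2 = 1)
    (hEodd : Odd (Nat.card E)) (hAE : A ≤ Subgroup.normalizer (E : Set G)) (hEF : E ≤ F)
    (hcomm : ⁅E, F⁆ ≤ M) (hEM : ¬ E ≤ M) :
    ∃ y ∈ E, y ∉ M ∧ ∀ c ∈ A, (c * y * c⁻¹ * y⁻¹ ∈ M ∨ c * y * c⁻¹ * y ∈ M) := by
  have : Fact (Nat.Prime 2) := ⟨Nat.prime_two⟩
  have hgen := le_hypGen 2 hAc hA2 (Nat.Coprime.symm (Nat.coprime_two_left.2 hEodd)) hAE
  have hex : ∃ B : {B : Subgroup G // B ≤ A ∧ B.relIndex A ≤ 2},
      ¬ (E ⊓ Subgroup.centralizer ((B : Subgroup G) : Set G) ≤ M) := by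
    by_contra hcon
    push Not at hcon
    exact hEM (hgen.trans (iSup_le hcon))
  obtain ⟨⟨B, hBA, hBi⟩, hB⟩ := hex
  rw [SetLike.not_le_iff_exists] at hB
  obtain ⟨y₁, hy₁, hy₁M⟩ := hB
  have hy₁E : y₁ ∈ E := (Subgroup.mem_inf.1 hy₁).1
  have hy₁B : y₁ ∈ Subgroup.centralizer (B : Set G) := (Subgroup.mem_inf.1 hy₁).2
  have hBy₁ : ∀ c ∈ B, c * y₁ * c⁻¹ = y₁ := by
    intro c hc
    have := Subgroup.mem_centralizer_iff.1 hy₁B c hc
    rw [this]; group
  by_cases hAB : A ≤ B
  · refine ⟨y₁, hy₁E, hy₁M, ?_⟩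
    intro c hc
    left
    rw [hBy₁ c (hAB hc), mul_inv_cancel]
    exact one_mem M
  · rw [SetLike.not_le_iff_exists] at hAB
    obtain ⟨a, haA, haB⟩ := hAB
    have hcases := mem_or_mul_mem_of_relIndex_le_two hBA hBi haA haB
    have haa : a * a = 1 := by rw [← pow_two]; exact hA2 a haA
    set w := a * y₁ * a⁻¹ with hw
    have hwE : w ∈ E := (Subgroup.mem_normalizer_iff.1 (hAE haA) y₁).1 hy₁E
    have haw : a * w * a⁻¹ = y₁ := by
      rw [hw]
      have : a * (a * y₁ * a⁻¹) * a⁻¹ = (a * a) * y₁ * (a * a)⁻¹ := by group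
      rw [this, haa]; group
    have hBw : ∀ c ∈ B, c * w * c⁻¹ = w := by
      intro c hc
      have hca : c * a = a * c := hAc c (hBA hc) a haA
      calc c * w * c⁻¹ = (c * a) * y₁ * (c * a)⁻¹ := by rw [hw]; group
        _ = (a * c) * y₁ * (a * c)⁻¹ := by rw [hca]
        _ = a * (c * y₁ * c⁻¹) * a⁻¹ := by group
        _ = w := by rw [hBy₁ c hc]
    -- conjugation by an element outside `B` acts like `a`
    have hout : ∀ c ∈ A, c ∉ B → ∀ u : G, (∀ b ∈ B, b * u * b⁻¹ = u) →
        c * u * c⁻¹ = a * u * a⁻¹ := by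
      intro c hc hcB u hu
      have hac : a * c ∈ B := (hcases c hc).resolve_left hcB
      have h2 : c = a * (a * c) := by rw [← mul_assoc, haa, one_mul]
      calc c * u * c⁻¹ = a * ((a * c) * u * (a * c)⁻¹) * a⁻¹ := by
            conv_lhs => rw [h2]
            group
        _ = a * u * a⁻¹ := by rw [hu _ hac]
    by_cases hminus : y₁⁻¹ * w ∈ M
    · -- use `y₊ = y₁ * w`
      have hplus : y₁ * w ∉ M := by
        intro hp
        apply hy₁M
        apply mem_of_sq_mem_of_odd
        · exact Odd.of_dvd_nat hEodd (Subgroup.orderOf_dvd_natCard E hy₁E)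
        · have : y₁ ^ 2 = (y₁ * w) * (y₁⁻¹ * w)⁻¹ := by rw [pow_two]; group
          rw [this]
          exact mul_mem hp (inv_mem hminus)
      refine ⟨y₁ * w, mul_mem hy₁E hwE, hplus, ?_⟩
      intro c hc
      left
      by_cases hcB : c ∈ B
      · have : c * (y₁ * w) * c⁻¹ = (c * y₁ * c⁻¹) * (c * w * c⁻¹) := by group
        rw [this, hBy₁ c hcB, hBw c hcB, mul_inv_cancel]
        exact one_mem M
      · have h1 : c * (y₁ * w) * c⁻¹ = a * (y₁ * w) * a⁻¹ := by
          apply hout c hc hcB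
          intro b hb
          have : b * (y₁ * w) * b⁻¹ = (b * y₁ * b⁻¹) * (b * w * b⁻¹) := by group
          rw [this, hBy₁ b hb, hBw b hb]
        have h2 : a * (y₁ * w) * a⁻¹ = w * y₁ := by
          have : a * (y₁ * w) * a⁻¹ = (a * y₁ * a⁻¹) * (a * w * a⁻¹) := by group
          rw [this, haw]
        rw [h1, h2]
        have h3 : w * y₁ * (y₁ * w)⁻¹ = ⁅w, y₁⁆ := by
          rw [commutatorElement_def]; group
        rw [h3]
        exact hcomm (Subgroup.commutator_mem_commutator hwE (hEF hy₁E))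
    · -- use `y₋ = y₁⁻¹ * w`
      refine ⟨y₁⁻¹ * w, mul_mem (inv_mem hy₁E) hwE, hminus, ?_⟩
      intro c hc
      by_cases hcB : c ∈ B
      · left
        have : c * (y₁⁻¹ * w) * c⁻¹ = (c * y₁ * c⁻¹)⁻¹ * (c * w * c⁻¹) := by group
        rw [this, hBy₁ c hcB, hBw c hcB, mul_inv_cancel]
        exact one_mem M
      · right
        have h1 : c * (y₁⁻¹ * w) * c⁻¹ = a * (y₁⁻¹ * w) * a⁻¹ := by
          apply hout c hc hcB
          intro b hb
          have : b * (y₁⁻¹ * w) * b⁻¹ = (b * y₁ * b⁻¹)⁻¹ * (b * w * b⁻¹) := by group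
          rw [this, hBy₁ b hb, hBw b hb]
        have h2 : a * (y₁⁻¹ * w) * a⁻¹ = w⁻¹ * y₁ := by
          have : a * (y₁⁻¹ * w) * a⁻¹ = (a * y₁ * a⁻¹)⁻¹ * (a * w * a⁻¹) := by group
          rw [this, haw]
        rw [h1, h2]
        have : w⁻¹ * y₁ * (y₁⁻¹ * w) = 1 := by group
        rw [this]
        exact one_mem M

open scoped commutatorElement in
/-- In a nilpotent group `F` of odd order acted on by the elementary abelian `2`-group `A`, there
is an `A`-invariant abelian normal subgroup `M` of `F` with `C_F(M) ≤ M`. -/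
theorem exists_selfCentralizing_abelian [Finite G] {A F : Subgroup G}
    (hAc : ∀ a ∈ A, ∀ b ∈ A, a * b = b * a) (hA2 : ∀ a ∈ A, a ^ 2 = 1)
    (hFodd : Odd (Nat.card F)) (hFnil : Group.IsNilpotent F)
    (hAF : A ≤ Subgroup.normalizer (F : Set G)) :
    ∃ M : Subgroup G, M ≤ F ∧ F ≤ Subgroup.normalizer (M : Set G) ∧
      A ≤ Subgroup.normalizer (M : Set G) ∧ (∀ x ∈ M, ∀ y ∈ M, x * y = y * x) ∧
      F ⊓ Subgroup.centralizer (M : Set G) ≤ M := by
  set 𝒜 : Set (Subgroup G) := {M | M ≤ F ∧ F ≤ Subgroup.normalizer (M : Set G) ∧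
      A ≤ Subgroup.normalizer (M : Set G) ∧ (∀ x ∈ M, ∀ y ∈ M, x * y = y * x)} with h𝒜
  have hbot : (⊥ : Subgroup G) ∈ 𝒜 := by
    refine ⟨bot_le, ?_, ?_, ?_⟩
    · rw [Subgroup.normalizer_eq_top]; exact le_top
    · rw [Subgroup.normalizer_eq_top]; exact le_top
    · intro x hx y hy
      rw [Subgroup.mem_bot.1 hx, Subgroup.mem_bot.1 hy]
  obtain ⟨M, hM𝒜, hmax⟩ := (wellFounded_gt (α := Subgroup G)).has_min 𝒜 ⟨⊥, hbot⟩
  obtain ⟨hMF, hFM, hAM, hMab⟩ := hM𝒜
  refine ⟨M, hMF, hFM, hAM, hMab, ?_⟩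
  by_contra hCM
  set C : Subgroup G := F ⊓ Subgroup.centralizer (M : Set G) with hC
  have hFC : F ≤ Subgroup.normalizer (C : Set G) :=
    le_normalizer_inf Subgroup.le_normalizer (hFM.trans (normalizer_le_normalizer_centralizer M))
  have hAC : A ≤ Subgroup.normalizer (C : Set G) :=
    le_normalizer_inf hAF (hAM.trans (normalizer_le_normalizer_centralizer M))
  -- the descending chain
  set D : ℕ → Subgroup G := fun i => Nat.rec C (fun _ X => ⁅X, F⁆) i with hD
  have hD0 : D 0 = C := rfl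
  have hDs : ∀ i, D (i + 1) = ⁅D i, F⁆ := fun i => rfl
  have hDC : ∀ i, D i ≤ C := by
    intro i
    induction i with
    | zero => exact le_rfl
    | succ i ih =>
      rw [hDs]
      exact (Subgroup.commutator_mono ih le_rfl).trans
        (Subgroup.le_normalizer_iff_commutator_le_left.1 hFC)
  have hDF : ∀ i, F ≤ Subgroup.normalizer (D i : Set G) := by
    intro i
    induction i with
    | zero => exact hFC
    | succ i ih => rw [hDs]; exact le_normalizer_commutator ih Subgroup.le_normalizer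
  have hDA : ∀ i, A ≤ Subgroup.normalizer (D i : Set G) := by
    intro i
    induction i with
    | zero => exact hAC
    | succ i ih => rw [hDs]; exact le_normalizer_commutator ih hAF
  have hDl : ∀ i, D i ≤ F.lowerCentralSeries i := by
    intro i
    induction i with
    | zero => rw [Subgroup.lowerCentralSeries_zero]; exact inf_le_left
    | succ i ih =>
      rw [hDs, Subgroup.lowerCentralSeries_succ]
      exact Subgroup.commutator_mono ih le_rfl
  obtain ⟨n, hn⟩ := (Subgroup.isNilpotent_iff_lowerCentralSeries F).1 hFnil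
  have hex : ∃ n, D n ≤ M := ⟨n, by
    have := hDl n
    rw [hn] at this
    exact this.trans bot_le⟩
  classical
  set n₀ := Nat.find hex with hn₀
  have hn₀M : D n₀ ≤ M := Nat.find_spec hex
  have hn₀pos : n₀ ≠ 0 := by
    intro h0
    rw [h0] at hn₀M
    exact hCM hn₀M
  obtain ⟨i, hi⟩ := Nat.exists_eq_succ_of_ne_zero hn₀pos
  have hEM : ¬ D i ≤ M := Nat.find_min hex (by rw [← hn₀, hi]; exact Nat.lt_succ_self i)
  have hEcomm : ⁅D i, F⁆ ≤ M := by
    have := hn₀M
    rw [hi] at this
    exact this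
  have hEF : D i ≤ F := (hDC i).trans inf_le_left
  have hEodd : Odd (Nat.card (D i)) := Odd.of_dvd_nat hFodd (Subgroup.card_dvd_of_le hEF)
  obtain ⟨y, hyE, hyM, hyA⟩ := exists_eigen_mod hAc hA2 hEodd (hDA i) hEF hEcomm hEM
  have hyF : y ∈ F := hEF hyE
  have hyC : y ∈ Subgroup.centralizer (M : Set G) := ((hDC i) hyE |> Subgroup.mem_inf.1).2
  -- the bigger subgroup
  set M' : Subgroup G := M ⊔ Subgroup.zpowers y with hM'
  have hMM' : M ≤ M' := le_sup_left
  have hyM' : y ∈ M' := (le_sup_right : Subgroup.zpowers y ≤ M') (Subgroup.mem_zpowers y)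
  have hM'𝒜 : M' ∈ 𝒜 := by
    refine ⟨sup_le hMF (by rw [Subgroup.zpowers_le]; exact hyF), ?_, ?_, ?_⟩
    · apply le_normalizer_of_conj_mem
      intro f hf
      have h1 : M' ≤ M'.comap (MulAut.conj f).toMonoidHom := by
        apply sup_le
        · intro m hm
          rw [Subgroup.mem_comap]
          exact hMM' ((Subgroup.mem_normalizer_iff.1 (hFM hf) m).1 hm)
        · rw [Subgroup.zpowers_le, Subgroup.mem_comap]
          have h2 : f * y * f⁻¹ = ⁅f, y⁆ * y := by rw [commutatorElement_def]; group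
          show f * y * f⁻¹ ∈ M'
          rw [h2]
          apply mul_mem _ hyM'
          apply hMM'
          apply hEcomm
          rw [Subgroup.commutator_comm]
          exact Subgroup.commutator_mem_commutator hf hyE
      intro x hx
      exact h1 hx
    · apply le_normalizer_of_conj_mem
      intro c hc
      have h1 : M' ≤ M'.comap (MulAut.conj c).toMonoidHom := by
        apply sup_le
        · intro m hm
          rw [Subgroup.mem_comap]
          exact hMM' ((Subgroup.mem_normalizer_iff.1 (hAM hc) m).1 hm)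
        · rw [Subgroup.zpowers_le, Subgroup.mem_comap]
          show c * y * c⁻¹ ∈ M'
          rcases hyA c hc with h | h
          · have : c * y * c⁻¹ = (c * y * c⁻¹ * y⁻¹) * y := by group
            rw [this]
            exact mul_mem (hMM' h) hyM'
          · have : c * y * c⁻¹ = (c * y * c⁻¹ * y) * y⁻¹ := by group
            rw [this]
            exact mul_mem (hMM' h) (inv_mem hyM')
      intro x hx
      exact h1 hx
    · -- abelian
      have hMy : ∀ m ∈ M, m * y = y * m := fun m hm => Subgroup.mem_centralizer_iff.1 hyC m hm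
      have h1 : ∀ m ∈ M, M' ≤ Subgroup.centralizer ({m} : Set G) := by
        intro m hm
        apply sup_le
        · intro m' hm'
          rw [Subgroup.mem_centralizer_singleton_iff]
          exact hMab m' hm' m hm
        · rw [Subgroup.zpowers_le, Subgroup.mem_centralizer_singleton_iff]
          exact (hMy m hm).symm
      have h2 : M' ≤ Subgroup.centralizer ({y} : Set G) := by
        apply sup_le
        · intro m hm
          rw [Subgroup.mem_centralizer_singleton_iff]
          exact hMy m hm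
        · rw [Subgroup.zpowers_le, Subgroup.mem_centralizer_singleton_iff]
      have h3 : M' ≤ Subgroup.centralizer (M' : Set G) := by
        apply sup_le
        · intro m hm
          rw [Subgroup.mem_centralizer_iff]
          intro x hx
          have := h1 m hm hx
          rw [Subgroup.mem_centralizer_singleton_iff] at this
          exact this
        · rw [Subgroup.zpowers_le, Subgroup.mem_centralizer_iff]
          intro x hx
          have := h2 hx
          rw [Subgroup.mem_centralizer_singleton_iff] at this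
          exact this
      intro x hx x' hx'
      exact (Subgroup.mem_centralizer_iff.1 (h3 hx') x hx)
  apply hmax M' hM'𝒜
  show M < M'
  exact lt_of_le_of_ne hMM' (fun h => hyM (h ▸ hyM'))

/-- **Thompson's dihedral lemma.** -/
theorem thompson_dihedral [Finite G] (L A : Subgroup G) (hLs : Group.IsSolvable ↥L)
    (hLodd : Odd (Nat.card ↥L)) (hA : IsElementaryAbelian 2 A) (d : ℕ)
    (hAd : Nat.card ↥A = 2 ^ d) (hAL : A ≤ Subgroup.normalizer (L : Set G))
    (hfaith : A ⊓ Subgroup.centralizer (L : Set G) = ⊥) :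
    ∃ (Ai : Fin d → Subgroup G) (Li : Fin d → Subgroup G) (n : Fin d → ℕ),
      (∀ i, Ai i ≤ A ∧ Nat.card ↥(Ai i) = 2 ∧ Li i ≤ L ∧ Odd (n i) ∧ 3 ≤ n i ∧
        Nonempty (↥(Ai i ⊔ Li i) ≃* DihedralGroup (n i))) ∧ (⨆ i, Ai i) = A ∧
      ∀ i j, i ≠ j → ∀ x ∈ Ai i ⊔ Li i, ∀ y ∈ Ai j ⊔ Li j, x * y = y * x := by
  have hAc : ∀ a ∈ A, ∀ b ∈ A, a * b = b * a := by
    intro a ha b hb
    have := hA.1.is_comm.comm (⟨a, ha⟩ : A) ⟨b, hb⟩
    exact congrArg Subtype.val this
  have hA2 : ∀ a ∈ A, a ^ 2 = 1 := hA.2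
  set F : Subgroup G := (fittingSubgroup ↥L).map L.subtype with hF
  have hFL : F ≤ L := Subgroup.map_subtype_le _
  have hNF := normalizer_le_normalizer_fittingG L
  have hLF : L ≤ Subgroup.normalizer (F : Set G) := Subgroup.le_normalizer.trans hNF
  have hAF : A ≤ Subgroup.normalizer (F : Set G) := hAL.trans hNF
  have hFnil : Group.IsNilpotent F := by
    have h1 : Group.IsNilpotent (fittingSubgroup ↥L) := fittingSubgroup_isNilpotent
    exact Group.nilpotent_of_mulEquiv
      ((fittingSubgroup ↥L).equivMapOfInjective L.subtype L.subtype_injective)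
  have hFodd : Odd (Nat.card F) := Odd.of_dvd_nat hLodd (Subgroup.card_dvd_of_le hFL)
  have hcopL : (2 : ℕ).Coprime (Nat.card L) := Nat.coprime_two_left.2 hLodd
  have hcopF : (2 : ℕ).Coprime (Nat.card F) := Nat.coprime_two_left.2 hFodd
  have hfaithF : A ⊓ Subgroup.centralizer (F : Set G) = ⊥ := by
    rw [eq_bot_iff, ← hfaith]
    intro a ha
    have haA := (Subgroup.mem_inf.1 ha).1
    refine Subgroup.mem_inf.2 ⟨haA, ?_⟩
    exact faithful_descent hLF (inf_centralizer_fittingG_le L hLs) (hAL haA) (hA2 a haA) hcopL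
      (Subgroup.mem_inf.1 ha).2
  obtain ⟨M, hMF, hFM, hAM, hMab, hCM⟩ :=
    exists_selfCentralizing_abelian hAc hA2 hFodd hFnil hAF
  have hfaithM : A ⊓ Subgroup.centralizer (M : Set G) = ⊥ := by
    rw [eq_bot_iff, ← hfaithF]
    intro a ha
    have haA := (Subgroup.mem_inf.1 ha).1
    refine Subgroup.mem_inf.2 ⟨haA, ?_⟩
    exact faithful_descent hFM hCM (hAF haA) (hA2 a haA) hcopF (Subgroup.mem_inf.1 ha).2
  have hModd : Odd (Nat.card M) := Odd.of_dvd_nat hFodd (Subgroup.card_dvd_of_le hMF)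
  exact thompson_dihedral_abelian hAc hA2 d hAd (hMF.trans hFL) hMab hModd hAM hfaithM

end Cfsg.Agent.Lib.H7
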