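import Mathlib
import Cfsg.Prelude.Def_Characters
import Cfsg.Agent.Lib.H15.DXDefs
import Cfsg.Agent.Lib.H23.Ito
import Cfsg.Agent.Lib.H23.Isaacs1129b

/-!
# S4467 piece CLIFFIDX (helper7): the index of the inertia group divides the degree.
Wrapper around helper23's `inertia_index_dvd_charDegree`.
-/

set_option autoImplicit false

namespace Cfsg.Agent.Lib.H7.DX

open Cfsg Cfsg.Agent.Lib.H15.DX
open scoped ComplexConjugate commutatorElement

universe u

/-- CLIFFIDX -/
theorem index_inertia_dvd {G : Type u} [Group G] [Fintype G] (χ : G → ℂ)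
    (hχ : IsIrrCharacter G χ) (n : ℕ) (hn : χ 1 = (n : ℂ)) (N : Subgroup G) [N.Normal]
    [Fintype N] (θ : N → ℂ) (hθ : IsIrrCharacter N θ)
    (hc : classInner (fun x : N => χ x) θ ≠ 0) :
    (Cfsg.Agent.Lib.H23.inertia N θ).index ∣ n := by
  have h1 := Cfsg.Agent.Lib.H23.inertia_index_dvd_charDegree N hχ hθ hc
  have h2 : χ 1 = (Cfsg.charDegree χ : ℂ) := Cfsg.Agent.Lib.H23.apply_one_eq_charDegree χ hχ
  have h3 : (n : ℂ) = (Cfsg.charDegree χ : ℂ) := by rw [← hn, h2]
  have h4 : n = Cfsg.charDegree χ := by exact_mod_cast h3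
  rw [h4]; exact h1

end Cfsg.Agent.Lib.H7.DX
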