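import Cfsg.Agent.Lib.H1.FG19.Defs

set_option autoImplicit false

/-!
# S4404, piece BAS1: conjugation formulas for `cm` and `fx` (helper7)
-/

namespace Cfsg.Agent.Lib.H7.FG19

open Cfsg.Agent.Lib.H1.FG19

variable {A : Type*} [CommGroup A]

/-- BAS1 (E): conjugation formulas. -/
theorem cm_conj (X Y : MulAut A) : (cm X).map Y.toMonoidHom = cm (Y * X * Y⁻¹) := by
  ext a
  rw [Subgroup.mem_map, mem_cm]
  constructor
  · rintro ⟨b, hb, rfl⟩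
    obtain ⟨m, rfl⟩ := mem_cm.1 hb
    refine ⟨Y m, ?_⟩
    simp [MulAut.mul_apply]
  · rintro ⟨m, rfl⟩
    refine ⟨X (Y⁻¹ m) * (Y⁻¹ m)⁻¹, mem_cm.2 ⟨Y⁻¹ m, rfl⟩, ?_⟩
    simp [MulAut.mul_apply]

theorem fx_conj (X Y : MulAut A) : (fx X).map Y.toMonoidHom = fx (Y * X * Y⁻¹) := by
  ext a
  rw [Subgroup.mem_map, mem_fx]
  constructor
  · rintro ⟨b, hb, rfl⟩
    rw [mem_fx] at hb
    simp [MulAut.mul_apply, hb]
  · intro h
    refine ⟨Y⁻¹ a, mem_fx.2 ?_, by simp⟩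
    have h2 : Y (X (Y⁻¹ a)) = a := by simpa [MulAut.mul_apply] using h
    calc X (Y⁻¹ a) = Y⁻¹ (Y (X (Y⁻¹ a))) := by simp
      _ = Y⁻¹ a := by rw [h2]

end Cfsg.Agent.Lib.H7.FG19
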