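import Cfsg.Agent.Lib.H1.FG19.Defs

set_option autoImplicit false

/-!
# S4404, piece BAS2: `[A, Z] ≤ [A, X][A, Y]` for `Z ∈ ⟨X, Y⟩` (helper7)
-/

namespace Cfsg.Agent.Lib.H7.FG19

open Cfsg.Agent.Lib.H1.FG19

variable {A : Type*} [CommGroup A]

/-- the automorphisms `Z` with `[A, Z] ≤ U` form a subgroup -/
def cmLe (U : Subgroup A) : Subgroup (MulAut A) where
  carrier := {Z | cm Z ≤ U}
  one_mem' := by
    intro a ha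
    obtain ⟨m, rfl⟩ := mem_cm.1 ha
    simp
  mul_mem' := by
    intro Z₁ Z₂ h₁ h₂ a ha
    obtain ⟨m, rfl⟩ := mem_cm.1 ha
    have e : (Z₁ * Z₂) m * m⁻¹ = (Z₁ (Z₂ m) * (Z₂ m)⁻¹) * (Z₂ m * m⁻¹) := by
      simp [MulAut.mul_apply]
    rw [e]
    exact U.mul_mem (h₁ (mem_cm.2 ⟨Z₂ m, rfl⟩)) (h₂ (mem_cm.2 ⟨m, rfl⟩))
  inv_mem' := by
    intro Z h a ha
    obtain ⟨m, rfl⟩ := mem_cm.1 ha
    have e : Z⁻¹ m * m⁻¹ = (Z (Z⁻¹ m) * (Z⁻¹ m)⁻¹)⁻¹ := by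
      simp
    rw [e]
    exact U.inv_mem (h (mem_cm.2 ⟨Z⁻¹ m, rfl⟩))

theorem mem_cmLe {U : Subgroup A} {Z : MulAut A} : Z ∈ cmLe U ↔ cm Z ≤ U := Iff.rfl

/-- BAS2 (E): `[A, Z] ≤ [A, X][A, Y]` for `Z ∈ ⟨X, Y⟩`; a subgroup containing `[A, X]` is `X`-stable. -/
theorem cm_le_of_mem_closure (X Y Z : MulAut A) (hZ : Z ∈ Subgroup.closure {X, Y}) :
    cm Z ≤ cm X ⊔ cm Y := by
  have h : Subgroup.closure {X, Y} ≤ cmLe (cm X ⊔ cm Y) := by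
    rw [Subgroup.closure_le]
    intro W hW
    rcases hW with rfl | hW
    · exact mem_cmLe.2 le_sup_left
    · rw [Set.mem_singleton_iff] at hW
      subst hW
      exact mem_cmLe.2 le_sup_right
  exact mem_cmLe.1 (h hZ)

theorem apply_mem_of_cm_le {X : MulAut A} {U : Subgroup A} (h : cm X ≤ U) {u : A} (hu : u ∈ U) :
    X u ∈ U := by
  have e : X u = (X u * u⁻¹) * u := by simp
  rw [e]
  exact U.mul_mem (h (mem_cm.2 ⟨u, rfl⟩)) hu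

end Cfsg.Agent.Lib.H7.FG19
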