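import Cfsg.Agent.Lib.H7.FG19BAS2
import Cfsg.Agent.Lib.H11.FG19P1
import Cfsg.Agent.Lib.H5.FG19P2

set_option autoImplicit false

/-!
# S4404, piece Q1: two `F_8`-elements generating a 7-group commute (helper7)

`J = ⟨B₁, B₂⟩` acts faithfully on `U = [A,B₁][A,B₂]` (P1), `|U| = 2 ^ d` with `d ≤ 6`, and `7 ^ 3 ∤ |GL_d(2)|` (P2), so
`|J| ∣ 49` and `J` is commutative.
-/

namespace Cfsg.Agent.Lib.H7.FG19

open Cfsg.Agent.Lib.H1.FG19

variable {A : Type*} [CommGroup A]

theorem seven_cube_not_dvd : ∀ d ≤ 6, ¬ 7 ^ 3 ∣ ∏ i ∈ Finset.range d, (2 ^ d - 2 ^ i) := by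
  decide

/-- the order of `U ⊔ W` is at most `|U| |W|` in a commutative group -/
theorem card_sup_le_mul [Finite A] (U W : Subgroup A) :
    Nat.card ↥(U ⊔ W) ≤ Nat.card U * Nat.card W := by
  have hsurj : Function.Surjective (fun x : U × W => (⟨(x.1 : A) * (x.2 : A),
      Subgroup.mul_mem_sup x.1.2 x.2.2⟩ : ↥(U ⊔ W))) := by
    rintro ⟨y, hy⟩
    obtain ⟨u, hu, w, hw, rfl⟩ := Subgroup.mem_sup.1 hy
    exact ⟨(⟨u, hu⟩, ⟨w, hw⟩), rfl⟩
  have := Nat.card_le_card_of_surjective _ hsurj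
  rwa [Nat.card_prod] at this

/-- Q1 (M): two `F_8`-elements generating a 7-group commute. -/
theorem commute_of_seven [Finite A] (h2 : ∀ a : A, a * a = 1) (B₁ B₂ : MulAut A)
    (hP : IsPGroup 7 (Subgroup.closure {B₁, B₂})) (h1 : Nat.card (cm B₁) = 8)
    (h2' : Nat.card (cm B₂) = 8) : B₁ * B₂ = B₂ * B₁ := by
  set J : Subgroup (MulAut A) := Subgroup.closure {B₁, B₂} with hJ
  set U : Subgroup A := cm B₁ ⊔ cm B₂ with hU
  have : Fact (Nat.Prime 7) := ⟨by norm_num⟩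
  -- `|J| = 7 ^ k`
  obtain ⟨k, hk⟩ := IsPGroup.iff_card.1 hP
  have hodd : Odd (Nat.card J) := by
    rw [hk]
    exact Odd.pow (by decide)
  -- `|U| = 2 ^ d`, `d ≤ 6`
  have hU2 : IsPGroup 2 U := by
    intro u
    refine ⟨1, ?_⟩
    apply Subtype.ext
    simp only [pow_one, Subgroup.coe_pow, Subgroup.coe_one]
    rw [pow_two]
    exact h2 u
  have : Fact (Nat.Prime 2) := ⟨Nat.prime_two⟩
  obtain ⟨d, hd⟩ := IsPGroup.iff_card.1 hU2
  have hle : Nat.card U ≤ 64 := by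
    have := card_sup_le_mul (cm B₁) (cm B₂)
    rw [h1, h2'] at this
    exact this
  have hd6 : d ≤ 6 := by
    by_contra hcon
    have hcon := not_le.1 hcon
    have : 2 ^ 7 ≤ 2 ^ d := Nat.pow_le_pow_right (by norm_num) hcon
    rw [hd] at hle
    omega
  -- faithful action on `U`
  have hdvd : Nat.card J ∣ Nat.card (MulAut U) :=
    Cfsg.Agent.Lib.H11.FG19.card_dvd_card_mulAut h2 J hodd U
      (fun Z hZ => cm_le_of_mem_closure B₁ B₂ Z hZ)
  have hAut : Nat.card (MulAut U) = ∏ i ∈ Finset.range d, (2 ^ d - 2 ^ i) :=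
    Cfsg.Agent.Lib.H5.FG19.card_mulAut_eq (fun u => Subtype.ext (h2 u)) d hd
  rw [hAut, hk] at hdvd
  have hk2 : k ≤ 2 := by
    by_contra hcon
    have hcon := not_le.1 hcon
    apply seven_cube_not_dvd d hd6
    exact dvd_trans (pow_dvd_pow 7 hcon) hdvd
  -- a group of order `7 ^ k`, `k ≤ 2`, is commutative
  have hcomm : ∀ x y : J, x * y = y * x := by
    interval_cases k
    · have h1J : Nat.card J = 1 := by rw [hk]; norm_num
      have : Subsingleton J := (Nat.card_eq_one_iff_unique.1 h1J).1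
      intro x y
      exact Subsingleton.elim _ _
    · have h7 : Nat.card J = 7 := by rw [hk]; norm_num
      have := isCyclic_of_prime_card h7
      intro x y
      exact (IsCyclic.commGroup (α := J)).mul_comm x y
    · have h49 : Nat.card J = 7 ^ 2 := hk
      intro x y
      exact (IsPGroup.commutative_of_card_eq_prime_sq h49) x y
  have hB₁ : B₁ ∈ J := Subgroup.subset_closure (by simp)
  have hB₂ : B₂ ∈ J := Subgroup.subset_closure (by simp)
  have := hcomm ⟨B₁, hB₁⟩ ⟨B₂, hB₂⟩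
  exact congrArg Subtype.val this

end Cfsg.Agent.Lib.H7.FG19
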