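import Mathlib
import Cfsg.Agent.Lib.H8.TIInd
import Cfsg.Agent.Lib.H8.GenChar
import Cfsg.Agent.Lib.H24.CharOrth
import Cfsg.Agent.Lib.H23.ClassProduct

/-!
# S3805 (helper7 blueprint): definitions

`G` finite, Sylow 3-subgroup `T` elementary abelian of order 9, `C_G(T) = T`, `N_G(T)/T` Klein four,
`C_G(t) ≤ N_G(T)` for `t ∈ T#`  ⇒  `N_G(T) = G`.  See `tools/blueprints/S3805.md`.

The whole proof runs on the abstract datum `Hyp G`: a subgroup `N` with an isomorphism
`e : N ≃* S₃ × S₃` such that the set `D = {d ∈ N | d⁴ ≠ 1}` of 3-singular elements of `N` is a TI set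
with normaliser `N`.
-/

set_option autoImplicit false

namespace Cfsg.Agent.Lib.H7.K4

open Cfsg

/-- the symmetric group of degree 3 -/
abbrev S3 := Equiv.Perm (Fin 3)

/-- the model of `N_G(T)` -/
abbrev S33 := S3 × S3

/-- the standard 3-cycle -/
def c3 : S3 := finRotate 3

/-- `ρ = 1 + sign - χ₂`: `3` on the 3-cycles, `0` elsewhere -/
def rho (a : S3) : ℤ := if a ^ 2 = 1 then 0 else 3

/-- `μ = 1 - fix = -χ₂`: `-2, 0, 1` on the identity, the transpositions, the 3-cycles -/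
def mu (a : S3) : ℤ := 1 - ((Finset.univ.filter (fun i : Fin 3 => a i = i)).card : ℤ)

/-- `Γ₀ = ρ ⊗ ρ` -/
def gam0 (s : S33) : ℤ := rho s.1 * rho s.2

/-- `R₀ = ρ ⊗ μ` -/
def r0 (s : S33) : ℤ := rho s.1 * mu s.2

/-- `C₀ = μ ⊗ ρ` -/
def c0 (s : S33) : ℤ := mu s.1 * rho s.2

/-- an integer-valued function on `S₃ × S₃` as a complex-valued one -/
def toC (f : S33 → ℤ) : S33 → ℂ := fun s => ((f s : ℤ) : ℂ)

/-- the number of solutions of `c₁^s c₂^t = c` in `S₃ × S₃` -/
def cnt (c1 c2 c : S33) : ℕ :=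
  ∑ s : S33, ∑ t : S33, if (s * c1 * s⁻¹) * (t * c2 * t⁻¹) = c then 1 else 0

/-- the abstract datum -/
structure Hyp (G : Type*) [Group G] where
  /-- the normaliser of the Sylow 3-subgroup -/
  N : Subgroup G
  /-- its identification with `S₃ × S₃` -/
  e : ↥N ≃* S33
  /-- the 3-singular elements of `N` form a TI set with normaliser `N` -/
  ti : ∀ g d : G, d ∈ N → d ^ 4 ≠ 1 → g * d * g⁻¹ ∈ N → g ∈ N

namespace Hyp

variable {G : Type*} [Group G] (h : Hyp G)

/-- the element of `G` with coordinates `s` -/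
def el (s : S33) : G := ((h.e.symm s : ↥h.N) : G)

/-- `x = (c, 1)` -/
def x : G := h.el (c3, 1)

/-- `y = (1, c)` -/
def y : G := h.el (1, c3)

/-- `z = (c, c)` -/
def z : G := h.el (c3, c3)

/-- an integer-valued function on `S₃ × S₃` as a complex-valued function on `N` -/
def pull (f : S33 → ℤ) : ↥h.N → ℂ := fun n => ((f (h.e n) : ℤ) : ℂ)

theorem el_mem (s : S33) : h.el s ∈ h.N := (h.e.symm s).2

theorem e_el (s : S33) : h.e ⟨h.el s, h.el_mem s⟩ = s := by
  show h.e (h.e.symm s) = s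
  exact h.e.apply_symm_apply s

theorem el_e (n : ↥h.N) : h.el (h.e n) = n := by
  show ((h.e.symm (h.e n) : ↥h.N) : G) = n
  rw [h.e.symm_apply_apply]

theorem el_mul (s t : S33) : h.el (s * t) = h.el s * h.el t := by
  show ((h.e.symm (s * t) : ↥h.N) : G) = _
  rw [map_mul]; rfl

theorem el_one : h.el 1 = 1 := by
  show ((h.e.symm 1 : ↥h.N) : G) = 1
  rw [map_one]; rfl

theorem el_inv (s : S33) : h.el s⁻¹ = (h.el s)⁻¹ := by
  show ((h.e.symm s⁻¹ : ↥h.N) : G) = _
  rw [map_inv]; rfl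

theorem el_pow (s : S33) (k : ℕ) : h.el (s ^ k) = h.el s ^ k := by
  show ((h.e.symm (s ^ k) : ↥h.N) : G) = _
  rw [map_pow]; rfl

theorem el_injective : Function.Injective h.el := by
  intro s t hst
  have : h.e.symm s = h.e.symm t := Subtype.ext hst
  exact h.e.symm.injective this

theorem card_N : Nat.card ↥h.N = 36 := by
  rw [Nat.card_congr h.e.toEquiv, Nat.card_eq_fintype_card]
  decide

end Hyp

end Cfsg.Agent.Lib.H7.K4
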