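import Mathlib

/-!
helper7 library (S0434, simple group of order 7920, Sylow 3-normalizer): pure group theory.
If every element of order 3 of a group of order 7920 has a centralizer of order 18, then every
nonidentity 3-element lies in exactly one Sylow 3-subgroup, and so
`#{g | g ^ 9 = 1} = 1 + 8 * #Syl_3(G)`.
-/

set_option autoImplicit false

namespace Cfsg.Agent.Lib.H7.M7920

universe u

theorem factorization_7920_three : (7920 : ℕ).factorization 3 = 2 := by
  have h : (7920 : ℕ) = 3 ^ 2 * 880 := by norm_num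
  rw [h, Nat.factorization_mul (by norm_num) (by norm_num),
    Nat.Prime.factorization_pow (by norm_num)]
  simp [Nat.factorization_eq_zero_of_not_dvd]

theorem factorization_18_three : (18 : ℕ).factorization 3 = 2 := by
  have h : (18 : ℕ) = 3 ^ 2 * 2 := by norm_num
  rw [h, Nat.factorization_mul (by norm_num) (by norm_num),
    Nat.Prime.factorization_pow (by norm_num)]
  simp [Nat.factorization_eq_zero_of_not_dvd]

section
variable {G : Type u} [Group G] [Finite G]

/-- Sylow 3-subgroups of a group of order 7920 have order 9. -/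
theorem card_sylow3 (hG : Nat.card G = 7920) (P : Sylow 3 G) :
    Nat.card (P : Subgroup G) = 9 := by
  haveI : Fact (Nat.Prime 3) := ⟨by norm_num⟩
  rw [Sylow.card_eq_multiplicity, hG, factorization_7920_three]
  norm_num

/-- Two subgroups of order 9 inside a subgroup of order 18 coincide. -/
theorem eq_of_card_nine_le_card_eighteen (C P₁ P₂ : Subgroup G) (hC : Nat.card C = 18)
    (h₁ : Nat.card P₁ = 9) (h₂ : Nat.card P₂ = 9) (hle₁ : P₁ ≤ C) (hle₂ : P₂ ≤ C) : P₁ = P₂ := by
  haveI : Fact (Nat.Prime 3) := ⟨by norm_num⟩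
  have hq : ∀ P : Subgroup G, Nat.card P = 9 → P ≤ C →
      Nat.card (P.subgroupOf C) = 3 ^ (Nat.card C).factorization 3 := by
    intro P hP hle
    rw [Nat.card_congr (Subgroup.subgroupOfEquivOfLe hle).toEquiv, hP, hC, factorization_18_three]
    norm_num
  let S₁ : Sylow 3 C := Sylow.ofCard (P₁.subgroupOf C) (hq P₁ h₁ hle₁)
  let S₂ : Sylow 3 C := Sylow.ofCard (P₂.subgroupOf C) (hq P₂ h₂ hle₂)
  have hone : Nat.card (Sylow 3 C) = 1 := by
    have hdvd : Nat.card (Sylow 3 C) ∣ (S₁ : Subgroup C).index := Sylow.card_dvd_index S₁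
    have hidx : (S₁ : Subgroup C).index = 2 := by
      have h := (S₁ : Subgroup C).card_mul_index
      have hS : Nat.card (S₁ : Subgroup C) = 9 := by
        change Nat.card (P₁.subgroupOf C) = 9
        rw [Nat.card_congr (Subgroup.subgroupOfEquivOfLe hle₁).toEquiv, h₁]
      rw [hS, hC] at h
      omega
    rw [hidx] at hdvd
    have hmod : Nat.card (Sylow 3 C) % 3 = 1 := card_sylow_modEq_one 3 C
    have hle : Nat.card (Sylow 3 C) ≤ 2 := Nat.le_of_dvd (by norm_num) hdvd
    interval_cases h : Nat.card (Sylow 3 C) <;> omega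
  have hsub : Subsingleton (Sylow 3 C) := (Nat.card_eq_one_iff_unique.mp hone).1
  have hS : S₁ = S₂ := Subsingleton.elim _ _
  have hS' : P₁.subgroupOf C = P₂.subgroupOf C := by
    have := congrArg (fun S : Sylow 3 C => (S : Subgroup C)) hS
    exact this
  have e₁ := Subgroup.map_subgroupOf_eq_of_le hle₁
  have e₂ := Subgroup.map_subgroupOf_eq_of_le hle₂
  rw [← e₁, ← e₂, hS']

/-- If every element of order 3 has a centralizer of order 18, a nonidentity 3-element lies in a unique
Sylow 3-subgroup. -/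
theorem sylow3_unique (hG : Nat.card G = 7920)
    (h18 : ∀ t : G, orderOf t = 3 → Nat.card (Subgroup.centralizer ({t} : Set G)) = 18)
    (P₁ P₂ : Sylow 3 G) {g : G} (hg1 : g ≠ 1) (hg₁ : g ∈ (P₁ : Subgroup G))
    (hg₂ : g ∈ (P₂ : Subgroup G)) : P₁ = P₂ := by
  haveI : Fact (Nat.Prime 3) := ⟨by norm_num⟩
  have hc₁ := card_sylow3 hG P₁
  have hc₂ := card_sylow3 hG P₂
  have hg9 : g ^ 9 = 1 := by
    have := pow_card_eq_one' (G := (P₁ : Subgroup G)) (x := ⟨g, hg₁⟩)
    rw [hc₁] at this
    have := congrArg Subtype.val this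
    simpa using this
  -- an element `t` of order 3 in both
  obtain ⟨t, ht3, ht₁, ht₂⟩ : ∃ t : G, orderOf t = 3 ∧ t ∈ (P₁ : Subgroup G) ∧
      t ∈ (P₂ : Subgroup G) := by
    by_cases h3 : g ^ 3 = 1
    · exact ⟨g, orderOf_eq_prime h3 hg1, hg₁, hg₂⟩
    · refine ⟨g ^ 3, orderOf_eq_prime ?_ h3, Subgroup.pow_mem _ hg₁ 3, Subgroup.pow_mem _ hg₂ 3⟩
      rw [← pow_mul]
      exact hg9
  have hcomm : ∀ P : Sylow 3 G, t ∈ (P : Subgroup G) →
      (P : Subgroup G) ≤ Subgroup.centralizer ({t} : Set G) := by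
    intro P htP a ha
    have hP9 : Nat.card (P : Subgroup G) = 3 ^ 2 := by rw [card_sylow3 hG P]; norm_num
    have hab := IsPGroup.commutative_of_card_eq_prime_sq (p := 3) hP9
    rw [Subgroup.mem_centralizer_iff]
    intro b hb
    rw [Set.mem_singleton_iff] at hb
    subst hb
    have := hab ⟨b, htP⟩ ⟨a, ha⟩
    exact congrArg Subtype.val this
  have := eq_of_card_nine_le_card_eighteen (Subgroup.centralizer ({t} : Set G)) P₁ P₂ (h18 t ht3)
    hc₁ hc₂ (hcomm P₁ ht₁) (hcomm P₂ ht₂)
  exact Sylow.ext this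

/-- **(TI3)** the count of solutions of `g ^ 9 = 1`. -/
theorem card_pow_nine_eq (hG : Nat.card G = 7920)
    (h18 : ∀ t : G, orderOf t = 3 → Nat.card (Subgroup.centralizer ({t} : Set G)) = 18) :
    Nat.card {g : G // g ^ 9 = 1} = 1 + 8 * Nat.card (Sylow 3 G) := by
  classical
  haveI : Fact (Nat.Prime 3) := ⟨by norm_num⟩
  haveI : Fintype (Sylow 3 G) := Fintype.ofFinite _
  -- the nonidentity solutions
  let A : Set G := {g | g ^ 9 = 1 ∧ g ≠ 1}
  have hsplit : {g : G | g ^ 9 = 1} = insert 1 A := by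
    ext g
    simp only [Set.mem_setOf_eq, Set.mem_insert_iff, A]
    constructor
    · intro h
      by_cases h1 : g = 1
      · exact Or.inl h1
      · exact Or.inr ⟨h, h1⟩
    · rintro (h | h)
      · rw [h, one_pow]
      · exact h.1
  have h1A : (1 : G) ∉ A := fun h => h.2 rfl
  have hcardS : Nat.card {g : G // g ^ 9 = 1} = A.ncard + 1 := by
    have : Nat.card {g : G // g ^ 9 = 1} = ({g : G | g ^ 9 = 1}).ncard := by
      rw [← Nat.card_coe_set_eq]; rfl
    rw [this, hsplit, Set.ncard_insert_of_notMem h1A (Set.toFinite A)]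
  -- the bijection
  let F : (Σ P : Sylow 3 G, ↥(((P : Subgroup G) : Set G) \ {1})) → ↥A := fun z =>
    ⟨(z.2 : G), by
      have hm := z.2.2
      have hP : (z.2 : G) ∈ (z.1 : Subgroup G) := hm.1
      have hne : (z.2 : G) ≠ 1 := fun h => hm.2 (by rw [Set.mem_singleton_iff]; exact h)
      refine ⟨?_, hne⟩
      have := pow_card_eq_one' (G := (z.1 : Subgroup G)) (x := ⟨(z.2 : G), hP⟩)
      rw [card_sylow3 hG z.1] at this
      have := congrArg Subtype.val this
      simpa using this⟩
  have hFinj : Function.Injective F := by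
    rintro ⟨P₁, g₁, hg₁⟩ ⟨P₂, g₂, hg₂⟩ h
    have hval : g₁ = g₂ := congrArg (fun a : ↥A => (a : G)) h
    subst hval
    have hne : g₁ ≠ 1 := fun h => hg₁.2 (by rw [Set.mem_singleton_iff]; exact h)
    have hP : P₁ = P₂ := sylow3_unique hG h18 P₁ P₂ hne hg₁.1 hg₂.1
    subst hP
    rfl
  have hFsurj : Function.Surjective F := by
    rintro ⟨g, hg9, hg1⟩
    have hpg : IsPGroup 3 (Subgroup.zpowers g) := by
      have hd : orderOf g ∣ 3 ^ 2 := by
        apply orderOf_dvd_of_pow_eq_one
        norm_num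
        exact hg9
      obtain ⟨k, -, hk⟩ := (Nat.dvd_prime_pow (by norm_num : Nat.Prime 3)).mp hd
      apply IsPGroup.of_card (n := k)
      rw [Nat.card_zpowers, hk]
    obtain ⟨Q, hQ⟩ := hpg.exists_le_sylow
    have hgQ : g ∈ (Q : Subgroup G) := hQ (Subgroup.mem_zpowers g)
    exact ⟨⟨Q, ⟨g, ⟨hgQ, fun h => hg1 (by rwa [Set.mem_singleton_iff] at h)⟩⟩⟩, rfl⟩
  have hcardA : A.ncard = 8 * Nat.card (Sylow 3 G) := by
    rw [← Nat.card_coe_set_eq, ← Nat.card_congr (Equiv.ofBijective F ⟨hFinj, hFsurj⟩),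
      Nat.card_sigma]
    have hfib : ∀ P : Sylow 3 G, Nat.card ↥(((P : Subgroup G) : Set G) \ {1}) = 8 := by
      intro P
      rw [Nat.card_coe_set_eq, Set.ncard_diff_singleton_of_mem (Subgroup.one_mem _)]
      have : ((P : Subgroup G) : Set G).ncard = 9 := by
        rw [← Nat.card_coe_set_eq]
        exact card_sylow3 hG P
      rw [this]
    rw [Finset.sum_congr rfl (fun P _ => hfib P), Finset.sum_const, Finset.card_univ,
      Nat.card_eq_fintype_card, smul_eq_mul, mul_comm]
  rw [hcardS, hcardA]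
  ring

end

end Cfsg.Agent.Lib.H7.M7920
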