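import Cfsg.Agent.Lib.H7.M7920TI3
import Cfsg.Agent.Lib.H20.FrobeniusDiv
import Cfsg.Agent.Lib.H5.SimpleTools

/-!
helper7 library (S0434, architect helper14), piece (FINAL144) `card_normalizer_sylow3`: in a simple group of order 7920
in which every element of order 3 has a centralizer of order 18, the normalizer of a Sylow 3-subgroup has order 144.
(TI3) gives `#{g | g ^ 9 = 1} = 1 + 8 n₃`; Frobenius' theorem (`H20.frobenius_dvd`) gives `9 ∣ 1 + 8 n₃`; `n₃ ∣ 880`, so
`n₃ ∈ {1, 10, 55}`; `1`: a normal Sylow subgroup; `10`: `G` embeds in `S₁₀`, but `7920 ∤ 10!`.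
Exact signature of `tools/blueprints/S0434_sigs.lean`.
-/

set_option autoImplicit false

namespace Cfsg.Agent.Lib.H7.M7920

universe u

set_option maxRecDepth 100000 in
theorem n3_cases : ∀ n ∈ Nat.divisors 880, 9 ∣ 1 + 8 * n → n = 1 ∨ n = 10 ∨ n = 55 := by decide

/-- **(FINAL144)** -/
theorem card_normalizer_sylow3 {G : Type u} [Group G] [Finite G] [IsSimpleGroup G] (hG : Nat.card G = 7920)
    (h18 : ∀ t : G, orderOf t = 3 → Nat.card (Subgroup.centralizer ({t} : Set G)) = 18) (P : Sylow 3 G) :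
    Nat.card (Subgroup.normalizer ((P : Subgroup G) : Set G)) = 144 := by
  haveI : Fact (Nat.Prime 3) := ⟨by norm_num⟩
  have hcount := card_pow_nine_eq hG h18
  have hfrob : 9 ∣ Nat.card {g : G // g ^ 9 = 1} :=
    Cfsg.Agent.Lib.H20.frobenius_dvd 9 (by rw [hG]; norm_num)
  rw [hcount] at hfrob
  have hidx : Nat.card (Sylow 3 G) = (Subgroup.normalizer ((P : Subgroup G) : Set G)).index :=
    P.card_eq_index_normalizer
  have hmul := (Subgroup.normalizer ((P : Subgroup G) : Set G)).card_mul_index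
  rw [hG, ← hidx] at hmul
  have h9 : 9 ∣ Nat.card (Subgroup.normalizer ((P : Subgroup G) : Set G)) := by
    rw [← card_sylow3 hG P]
    exact Subgroup.card_dvd_of_le Subgroup.le_normalizer
  obtain ⟨k, hk⟩ := h9
  have hkn : k * Nat.card (Sylow 3 G) = 880 := by
    rw [hk] at hmul
    have : 9 * (k * Nat.card (Sylow 3 G)) = 9 * 880 := by rw [← mul_assoc, hmul]
    exact Nat.eq_of_mul_eq_mul_left (by norm_num) this
  have hmem : Nat.card (Sylow 3 G) ∈ Nat.divisors 880 := by
    rw [Nat.mem_divisors]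
    exact ⟨⟨k, by rw [← hkn, mul_comm]⟩, by norm_num⟩
  have h5 : (5 : ℕ) ∣ Nat.card G := by rw [hG]; norm_num
  have h3 : (3 : ℕ) ∣ Nat.card G := by rw [hG]; norm_num
  have hnp : ¬ IsPGroup 3 G :=
    Cfsg.Agent.Lib.H5.not_isPGroup_of_prime_dvd (p := 3) (q := 5) (by norm_num) (by norm_num) h5
  rcases n3_cases _ hmem hfrob with h | h | h
  · exact absurd h (Cfsg.Agent.Lib.H5.card_sylow_ne_one_of_simple h3 hnp)
  · exfalso
    have hNtop : Subgroup.normalizer ((P : Subgroup G) : Set G) ≠ ⊤ := by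
      intro htop
      rw [htop, Subgroup.index_top] at hidx
      rw [hidx] at h
      norm_num at h
    have hdvd := Cfsg.Agent.Lib.H5.card_dvd_factorial_index
      (Subgroup.normalizer ((P : Subgroup G) : Set G)) hNtop
    rw [← hidx, h, hG] at hdvd
    norm_num [Nat.factorial] at hdvd
  · rw [h] at hmul
    omega

end Cfsg.Agent.Lib.H7.M7920
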