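import Mathlib
import Cfsg.Agent.Lib.H11.RK2Defs

/-!
# S5289 piece T3A (helper7): `T3.zp_central`, `T3.m3`, `T3.m9`, `T3.m7`

For Blackburn's type `G(p,n;ε)` (`Cfsg.Agent.Lib.H11.RK2.T3`): `z^p` is central, `G = ⟨z⟩ M₀` with
`M₀ = ⟨x, y, z^p⟩`, `M₀ = ⟨x⟩ Y` with `Y = ⟨y, z^p⟩`, and `Y = ⟨y⟩ ⟨z^p⟩`.
-/

set_option autoImplicit false

namespace Cfsg.Agent.Lib.H7.RK2

open Cfsg.Agent.Lib.H11.RK2

section gen

variable {G : Type*} [Group G]

/-- `closure T` is normal as soon as a generating set `S` of `G` conjugates `T` into `closure T`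
in both directions. -/
theorem normal_closure_of_gens (S T : Set G) (hS : Subgroup.closure S = ⊤)
    (h1 : ∀ s ∈ S, ∀ t ∈ T, s * t * s⁻¹ ∈ Subgroup.closure T)
    (h2 : ∀ s ∈ S, ∀ t ∈ T, s⁻¹ * t * s ∈ Subgroup.closure T) :
    (Subgroup.closure T).Normal := by
  have key1 : ∀ s ∈ S, ∀ m ∈ Subgroup.closure T, s * m * s⁻¹ ∈ Subgroup.closure T := by
    intro s hs m hm
    induction hm using Subgroup.closure_induction with
    | mem t ht => exact h1 s hs t ht
    | one => simp
    | mul a b _ _ ha hb =>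
      have e : s * (a * b) * s⁻¹ = (s * a * s⁻¹) * (s * b * s⁻¹) := by group
      rw [e]; exact mul_mem ha hb
    | inv a _ ha =>
      have e : s * a⁻¹ * s⁻¹ = (s * a * s⁻¹)⁻¹ := by group
      rw [e]; exact inv_mem ha
  have key2 : ∀ s ∈ S, ∀ m ∈ Subgroup.closure T, s⁻¹ * m * s ∈ Subgroup.closure T := by
    intro s hs m hm
    induction hm using Subgroup.closure_induction with
    | mem t ht => exact h2 s hs t ht
    | one => simp
    | mul a b _ _ ha hb =>
      have e : s⁻¹ * (a * b) * s = (s⁻¹ * a * s) * (s⁻¹ * b * s) := by group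
      rw [e]; exact mul_mem ha hb
    | inv a _ ha =>
      have e : s⁻¹ * a⁻¹ * s = (s⁻¹ * a * s)⁻¹ := by group
      rw [e]; exact inv_mem ha
  have hle : Subgroup.closure S ≤ Subgroup.normalizer (Subgroup.closure T : Set G) := by
    rw [Subgroup.closure_le]
    intro s hs
    rw [SetLike.mem_coe, Subgroup.mem_normalizer_iff]
    intro m
    constructor
    · exact key1 s hs m
    · intro hm
      have h3 := key2 s hs _ hm
      have e : s⁻¹ * (s * m * s⁻¹) * s = m := by group
      rwa [e] at h3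
  rw [hS] at hle
  exact Subgroup.normalizer_eq_top_iff.mp (top_le_iff.mp hle)

/-- Elements of `⟨a⟩ N` (`a` of finite order, `N` normal) are `a^i r` with a natural exponent. -/
theorem exists_pow_mul_of_mem_sup (a : G) (ha : IsOfFinOrder a) (N : Subgroup G) [N.Normal] {g : G}
    (hg : g ∈ Subgroup.zpowers a ⊔ N) : ∃ i : ℕ, ∃ r ∈ N, g = a ^ i * r := by
  obtain ⟨b, hb, r, hr, rfl⟩ := Subgroup.mem_sup_of_normal_right.mp hg
  rw [← ha.mem_powers_iff_mem_zpowers] at hb
  obtain ⟨i, rfl⟩ := (Submonoid.mem_powers_iff _ _).mp hb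
  exact ⟨i, r, hr, rfl⟩

end gen

section T3

variable {G : Type*} [Group G] [Finite G] {p n s : ℕ} [Fact p.Prime] {x y z : G}

/-- `x⁻¹ z^p x = z^p`. -/
theorem T3.conj_zp (h : T3 p n s x y z) : x⁻¹ * z ^ p * x = z ^ p := by
  have e1 : (x⁻¹ * z * x) ^ p = x⁻¹ * z ^ p * x := by
    have := conj_pow (a := x⁻¹) (b := z) (i := p)
    simpa using this
  have e2 : (y * z) ^ p = z ^ p := by
    have hc : Commute y z := h.hyz
    rw [hc.mul_pow, h.hy, one_mul]
  rw [← e1, h.hxz, e2]

/-- **T3CEN**.  `z^p` is central. -/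
theorem T3.zp_central (h : T3 p n s x y z) : ∀ g : G, g * z ^ p = z ^ p * g := by
  have hle : Subgroup.closure ({x, y, z} : Set G) ≤ Subgroup.centralizer ({z ^ p} : Set G) := by
    rw [Subgroup.closure_le]
    intro t ht
    rw [SetLike.mem_coe, Subgroup.mem_centralizer_iff]
    intro u hu
    rw [Set.mem_singleton_iff] at hu
    subst hu
    rcases ht with rfl | rfl | rfl
    · have := T3.conj_zp h
      calc z ^ p * t = t * (t⁻¹ * z ^ p * t) := by group
        _ = t * z ^ p := by rw [this]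
    · have hc : Commute t z := h.hyz
      exact (hc.pow_right p).eq.symm
    · exact ((Commute.refl t).pow_left p).eq
  intro g
  have hg : g ∈ Subgroup.centralizer ({z ^ p} : Set G) := by
    apply hle
    rw [h.gen]
    exact Subgroup.mem_top g
  rw [Subgroup.mem_centralizer_iff] at hg
  exact (hg _ rfl).symm

/-- powers of `z^p` are central. -/
theorem T3.zpowers_central (h : T3 p n s x y z) :
    ∀ d ∈ Subgroup.zpowers (z ^ p), ∀ g : G, g * d = d * g := by
  intro d hd g
  have hle : Subgroup.zpowers (z ^ p) ≤ Subgroup.centralizer ({g} : Set G) := by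
    rw [Subgroup.zpowers_le, Subgroup.mem_centralizer_iff]
    intro u hu
    rw [Set.mem_singleton_iff] at hu
    subst hu
    exact T3.zp_central h u
  have := hle hd
  rw [Subgroup.mem_centralizer_iff] at this
  exact this g rfl

theorem T3.zpowers_normal (h : T3 p n s x y z) : (Subgroup.zpowers (z ^ p)).Normal := by
  constructor
  intro d hd g
  rw [T3.zpowers_central h d hd g, mul_inv_cancel_right]
  exact hd

/-- `z^(s p^(n-3)) ∈ ⟨z^p⟩`. -/
theorem T3.ws_mem (h : T3 p n s x y z) : z ^ (s * p ^ (n - 3)) ∈ Subgroup.zpowers (z ^ p) := by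
  have hn := h.hn
  have e : s * p ^ (n - 3) = p * (s * p ^ (n - 4)) := by
    have : n - 3 = (n - 4) + 1 := by omega
    rw [this, pow_succ]; ring
  rw [e, pow_mul]
  exact Subgroup.pow_mem _ (Subgroup.mem_zpowers _) _

/-- `z x z⁻¹ = x y`. -/
theorem T3.z_conj_x (h : T3 p n s x y z) : z * x * z⁻¹ = x * y := by
  have h1 : z * x = x * (y * z) := by
    rw [← h.hxz]; group
  rw [h1]; group

/-- `z⁻¹ x z = x y⁻¹`. -/
theorem T3.zinv_conj_x (h : T3 p n s x y z) : z⁻¹ * x * z = x * y⁻¹ := by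
  have h1 := T3.z_conj_x h
  have h2 : z⁻¹ * y * z = y := by
    have hc : Commute y z := h.hyz
    rw [mul_assoc, hc.eq, inv_mul_cancel_left]
  have h3 : z⁻¹ * x * z * y = x := by
    calc z⁻¹ * x * z * y = z⁻¹ * x * z * (z⁻¹ * y * z) := by rw [h2]
      _ = z⁻¹ * (x * y) * z := by group
      _ = z⁻¹ * (z * x * z⁻¹) * z := by rw [h1]
      _ = x := by group
  exact eq_mul_inv_of_mul_eq h3

/-- `M₀ = ⟨x, y, z^p⟩` is normal. -/
theorem T3.m0_normal (h : T3 p n s x y z) :
    (Subgroup.closure ({x, y, z ^ p} : Set G)).Normal := by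
  have hxm : x ∈ Subgroup.closure ({x, y, z ^ p} : Set G) := Subgroup.subset_closure (by simp)
  have hym : y ∈ Subgroup.closure ({x, y, z ^ p} : Set G) := Subgroup.subset_closure (by simp)
  have hzm : z ^ p ∈ Subgroup.closure ({x, y, z ^ p} : Set G) := Subgroup.subset_closure (by simp)
  have hcz : Commute z y := (show Commute y z from h.hyz).symm
  apply normal_closure_of_gens ({x, y, z} : Set G) _ h.gen
  · intro u hu t ht
    rcases hu with rfl | rfl | rfl
    · exact mul_mem (mul_mem hxm (Subgroup.subset_closure ht)) (inv_mem hxm)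
    · exact mul_mem (mul_mem hym (Subgroup.subset_closure ht)) (inv_mem hym)
    · rcases ht with rfl | rfl | rfl
      · rw [T3.z_conj_x h]; exact mul_mem hxm hym
      · rw [hcz.eq, mul_inv_cancel_right]; exact hym
      · rw [T3.zp_central h u, mul_inv_cancel_right]; exact hzm
  · intro u hu t ht
    rcases hu with rfl | rfl | rfl
    · exact mul_mem (mul_mem (inv_mem hxm) (Subgroup.subset_closure ht)) hxm
    · exact mul_mem (mul_mem (inv_mem hym) (Subgroup.subset_closure ht)) hym
    · rcases ht with rfl | rfl | rfl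
      · rw [T3.zinv_conj_x h]; exact mul_mem hxm (inv_mem hym)
      · rw [mul_assoc, ← hcz.eq, inv_mul_cancel_left]; exact hym
      · rw [mul_assoc, ← T3.zp_central h u, inv_mul_cancel_left]; exact hzm

/-- **T3M3**.  `G = ⟨z⟩ M₀`, `M₀ = ⟨x, y, z^p⟩`. -/
theorem T3.m3 (h : T3 p n s x y z) :
    ∀ g : G, ∃ i : ℕ, ∃ r ∈ Subgroup.closure ({x, y, z ^ p} : Set G), g = z ^ i * r := by
  have := T3.m0_normal h
  have hle : Subgroup.closure ({x, y, z} : Set G) ≤
      Subgroup.zpowers z ⊔ Subgroup.closure ({x, y, z ^ p} : Set G) := by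
    rw [Subgroup.closure_le]
    intro t ht
    rcases ht with rfl | rfl | rfl
    · exact (le_sup_right : _ ≤ Subgroup.zpowers z ⊔ _) (Subgroup.subset_closure (by simp))
    · exact (le_sup_right : _ ≤ Subgroup.zpowers z ⊔ _) (Subgroup.subset_closure (by simp))
    · exact (le_sup_left : Subgroup.zpowers t ≤ _) (Subgroup.mem_zpowers t)
  intro g
  apply exists_pow_mul_of_mem_sup z (isOfFinOrder_of_finite z)
  apply hle
  rw [h.gen]
  exact Subgroup.mem_top g

/-- `Y = ⟨y, z^p⟩` is normal. -/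
theorem T3.y_normal (h : T3 p n s x y z) :
    (Subgroup.closure ({y, z ^ p} : Set G)).Normal := by
  have hym : y ∈ Subgroup.closure ({y, z ^ p} : Set G) := Subgroup.subset_closure (by simp)
  have hzm : z ^ p ∈ Subgroup.closure ({y, z ^ p} : Set G) := Subgroup.subset_closure (by simp)
  have hzle : Subgroup.zpowers (z ^ p) ≤ Subgroup.closure ({y, z ^ p} : Set G) := by
    rw [Subgroup.zpowers_le]; exact hzm
  have hcz : Commute z y := (show Commute y z from h.hyz).symm
  have hW := T3.ws_mem h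
  have hWc := T3.zpowers_central h _ hW
  apply normal_closure_of_gens ({x, y, z} : Set G) _ h.gen
  · intro u hu t ht
    rcases ht with rfl | rfl
    · rcases hu with rfl | rfl | rfl
      · -- x y x⁻¹ = y W⁻¹
        have e : u * t * u⁻¹ = t * (z ^ (s * p ^ (n - 3)))⁻¹ := by
          have h1 : u * (u⁻¹ * t * u) * u⁻¹ = u * t * (z ^ (s * p ^ (n - 3))) * u⁻¹ := by
            rw [h.hxy]; group
          have h2 : u * (u⁻¹ * t * u) * u⁻¹ = t := by group
          rw [h2] at h1
          -- t = u t W u⁻¹ = u t u⁻¹ W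
          have h3 : u * t * z ^ (s * p ^ (n - 3)) * u⁻¹ = u * t * u⁻¹ * z ^ (s * p ^ (n - 3)) := by
            rw [mul_assoc (u * t), ← hWc u⁻¹, ← mul_assoc]
          rw [h3] at h1
          exact eq_mul_inv_of_mul_eq h1.symm
        rw [e]
        exact mul_mem hym (inv_mem (hzle hW))
      · rw [mul_inv_cancel_right]; exact hym
      · rw [hcz.eq, mul_inv_cancel_right]; exact hym
    · rw [T3.zp_central h u, mul_inv_cancel_right]; exact hzm
  · intro u hu t ht
    rcases ht with rfl | rfl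
    · rcases hu with rfl | rfl | rfl
      · rw [h.hxy]; exact mul_mem hym (hzle hW)
      · rw [inv_mul_cancel, one_mul]; exact hym
      · rw [mul_assoc, ← hcz.eq, inv_mul_cancel_left]; exact hym
    · rw [mul_assoc, ← T3.zp_central h u, inv_mul_cancel_left]; exact hzm

/-- **T3M9**.  `M₀ = ⟨x⟩ Y`, `Y = ⟨y, z^p⟩`. -/
theorem T3.m9 (h : T3 p n s x y z) :
    ∀ r ∈ Subgroup.closure ({x, y, z ^ p} : Set G),
      ∃ i : ℕ, ∃ e ∈ Subgroup.closure ({y, z ^ p} : Set G), r = x ^ i * e := by
  have := T3.y_normal h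
  have hle : Subgroup.closure ({x, y, z ^ p} : Set G) ≤
      Subgroup.zpowers x ⊔ Subgroup.closure ({y, z ^ p} : Set G) := by
    rw [Subgroup.closure_le]
    intro t ht
    rcases ht with rfl | rfl | rfl
    · exact (le_sup_left : Subgroup.zpowers t ≤ _) (Subgroup.mem_zpowers t)
    · exact (le_sup_right : _ ≤ Subgroup.zpowers x ⊔ _) (Subgroup.subset_closure (by simp))
    · exact (le_sup_right : _ ≤ Subgroup.zpowers x ⊔ _) (Subgroup.subset_closure (by simp))
  intro r hr
  exact exists_pow_mul_of_mem_sup x (isOfFinOrder_of_finite x) _ (hle hr)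

/-- **T3M7**.  `Y = ⟨y⟩ ⟨z^p⟩`. -/
theorem T3.m7 (h : T3 p n s x y z) :
    ∀ r ∈ Subgroup.closure ({y, z ^ p} : Set G),
      ∃ k : ℕ, ∃ d ∈ Subgroup.zpowers (z ^ p), r = y ^ k * d := by
  have := T3.zpowers_normal h
  have hle : Subgroup.closure ({y, z ^ p} : Set G) ≤
      Subgroup.zpowers y ⊔ Subgroup.zpowers (z ^ p) := by
    rw [Subgroup.closure_le]
    intro t ht
    rcases ht with rfl | rfl
    · exact (le_sup_left : Subgroup.zpowers t ≤ _) (Subgroup.mem_zpowers t)
    · exact (le_sup_right : _ ≤ Subgroup.zpowers y ⊔ _) (Subgroup.mem_zpowers _)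
  intro r hr
  exact exists_pow_mul_of_mem_sup y (isOfFinOrder_of_finite y) _ (hle hr)

end T3

end Cfsg.Agent.Lib.H7.RK2
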