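import Mathlib
import Cfsg.Agent.Lib.H11.RK2Defs

/-!
# S5289 piece T3OM (helper7): `T3.omega_le`, `T3.exp_m0`

For Blackburn's type `G(p,n;ε)` with multiplicative `p`-th power map: `Ω₁(G) ≤ M₀ = ⟨x, y, z^p⟩`, and
`M₀` has exponent `p` for `n = 4`.
-/

set_option autoImplicit false

namespace Cfsg.Agent.Lib.H7.RK2

open Cfsg.Agent.Lib.H11.RK2

section T3

variable {G : Type*} [Group G] [Finite G] {p n s : ℕ} [Fact p.Prime] {x y z : G}

/-- **T3OM**.  `Ω₁(G) ≤ M₀`: if `g = z^i r` (`r ∈ M₀`) has `g^p = 1` then `z^(pi) = (r^p)⁻¹ ∈ ⟨z^(p²)⟩`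
(power map multiplicative, `x^p = y^p = 1`), so `p ∣ i` as `o(z) = p^(n-2)`, `n ≥ 4`. -/
theorem T3.omega_le (h : T3 p n s x y z) (hpow : ∀ g k : G, (g * k) ^ p = g ^ p * k ^ p)
    (hord : orderOf z = p ^ (n - 2))
    (hm3 : ∀ g : G, ∃ i : ℕ, ∃ r ∈ Subgroup.closure ({x, y, z ^ p} : Set G), g = z ^ i * r) :
    ∀ g : G, g ^ p = 1 → g ∈ Subgroup.closure ({x, y, z ^ p} : Set G) := by
  intro g hg
  obtain ⟨i, r, hr, rfl⟩ := hm3 g
  let π : G →* G := { toFun := fun g => g ^ p, map_one' := one_pow p, map_mul' := hpow }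
  have hπ : Subgroup.closure ({x, y, z ^ p} : Set G) ≤
      (Subgroup.zpowers (z ^ (p * p))).comap π := by
    rw [Subgroup.closure_le]
    intro t ht
    rcases ht with rfl | rfl | rfl
    · show t ^ p ∈ Subgroup.zpowers (z ^ (p * p))
      rw [h.hx]; exact one_mem _
    · show t ^ p ∈ Subgroup.zpowers (z ^ (p * p))
      rw [h.hy]; exact one_mem _
    · show (z ^ p) ^ p ∈ Subgroup.zpowers (z ^ (p * p))
      rw [← pow_mul]; exact Subgroup.mem_zpowers _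
  have hr' : r ^ p ∈ Subgroup.zpowers (z ^ (p * p)) := hπ hr
  obtain ⟨k, hk⟩ := Subgroup.mem_zpowers_iff.mp hr'
  have h1 : (z ^ i * r) ^ p = (z ^ i) ^ p * r ^ p := hpow _ _
  rw [h1] at hg
  have h2 : z ^ (((i * p : ℕ) : ℤ) + ((p * p : ℕ) : ℤ) * k) = 1 := by
    rw [zpow_add, zpow_mul, zpow_natCast, zpow_natCast, hk, pow_mul]; exact hg
  have h3 := (orderOf_dvd_iff_zpow_eq_one).mpr h2
  rw [hord] at h3
  have hp2 : ((p * p : ℕ) : ℤ) ∣ ((p ^ (n - 2) : ℕ) : ℤ) := by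
    have h4 : p * p ∣ p ^ (n - 2) := by
      have h5 : p ^ 2 ∣ p ^ (n - 2) := pow_dvd_pow p (by have := h.hn; omega)
      rwa [sq] at h5
    exact_mod_cast h4
  have h4 : ((p * p : ℕ) : ℤ) ∣ ((i * p : ℕ) : ℤ) :=
    (dvd_add_left (dvd_mul_right _ _)).mp (dvd_trans hp2 h3)
  have h5 : p * p ∣ i * p := by exact_mod_cast h4
  have h6 : p ∣ i := Nat.dvd_of_mul_dvd_mul_right (Fact.out : p.Prime).pos h5
  obtain ⟨j, rfl⟩ := h6
  rw [pow_mul]
  exact mul_mem (pow_mem (Subgroup.subset_closure (by simp)) _) hr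

/-- **T3EX**.  For `n = 4`, `M₀` has exponent `p`. -/
theorem T3.exp_m0 (h : T3 p n s x y z) (hpow : ∀ g k : G, (g * k) ^ p = g ^ p * k ^ p) (hn4 : n = 4) :
    ∀ r ∈ Subgroup.closure ({x, y, z ^ p} : Set G), r ^ p = 1 := by
  let π : G →* G := { toFun := fun g => g ^ p, map_one' := one_pow p, map_mul' := hpow }
  have hπ : Subgroup.closure ({x, y, z ^ p} : Set G) ≤ π.ker := by
    rw [Subgroup.closure_le]
    intro t ht
    rw [SetLike.mem_coe, MonoidHom.mem_ker]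
    rcases ht with rfl | rfl | rfl
    · exact h.hx
    · exact h.hy
    · show (z ^ p) ^ p = 1
      have hz := h.hz
      rw [hn4] at hz
      rw [← pow_mul, ← sq]
      exact hz
  intro r hr
  exact MonoidHom.mem_ker.mp (hπ hr)

end T3

end Cfsg.Agent.Lib.H7.RK2
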