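import Mathlib
import Cfsg.Prelude.Def_Local
import Cfsg.Agent.Lib.H7.Components

/-!
# Components of centralizers of elements (helper7 library)

Transport of "`L` is a component of the subgroup `H`" (stated as
`IsComponent (L.subgroupOf H)`) along isomorphisms and conjugation, and the basic dichotomy for two
components of one subgroup, stated inside the ambient group.
-/

set_option autoImplicit false

namespace Cfsg.Agent.Lib.H7

open Cfsg
open scoped commutatorElement

universe u v

section transport

variable {G : Type u} [Group G] {G' : Type v} [Group G']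

/-- The image of `L.subgroupOf H` under the isomorphism `H ≃* H.map e`. -/
theorem map_equivMap_subgroupOf (e : G ≃* G') (L H : Subgroup G) :
    (L.subgroupOf H).map (H.equivMapOfInjective e.toMonoidHom e.injective).toMonoidHom =
      (L.map e.toMonoidHom).subgroupOf (H.map e.toMonoidHom) := by
  ext ⟨y, hy⟩
  constructor
  · rintro ⟨⟨x, hx⟩, hxL, hxy⟩
    rw [Subgroup.mem_subgroupOf]
    have h1 : e x = y := congrArg Subtype.val hxy
    exact ⟨x, Subgroup.mem_subgroupOf.1 hxL, h1⟩
  · intro h
    rw [Subgroup.mem_subgroupOf] at h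
    obtain ⟨x, hxL, hxy⟩ := h
    obtain ⟨x', hx'H, hx'y⟩ := hy
    have hxx' : x = x' := e.injective (by
      have h1 : e x = y := hxy
      have h2 : e x' = y := hx'y
      rw [h1, h2])
    subst hxx'
    refine ⟨⟨x, hx'H⟩, Subgroup.mem_subgroupOf.2 hxL, ?_⟩
    apply Subtype.ext
    exact hxy

/-- Transport of a component of a subgroup along an isomorphism of the ambient groups. -/
theorem isComponent_subgroupOf_map_equiv (e : G ≃* G') {L H : Subgroup G}
    (h : IsComponent (L.subgroupOf H)) :
    IsComponent ((L.map e.toMonoidHom).subgroupOf (H.map e.toMonoidHom)) := by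
  have := isComponent_map_equiv (H.equivMapOfInjective e.toMonoidHom e.injective) h
  rwa [map_equivMap_subgroupOf] at this

/-- Conjugating the centralizer of an element. -/
theorem centralizer_singleton_map_conj (g y : G) :
    (Subgroup.centralizer ({y} : Set G)).map (MulAut.conj g).toMonoidHom =
      Subgroup.centralizer ({g * y * g⁻¹} : Set G) := by
  ext z
  constructor
  · rintro ⟨w, hw, rfl⟩
    rw [SetLike.mem_coe] at hw
    rw [Subgroup.mem_centralizer_singleton_iff] at hw ⊢
    simp only [MulEquiv.toMonoidHom_eq_coe, MonoidHom.coe_coe, MulAut.conj_apply]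
    calc g * w * g⁻¹ * (g * y * g⁻¹) = g * (w * y) * g⁻¹ := by group
      _ = g * (y * w) * g⁻¹ := by rw [hw]
      _ = g * y * g⁻¹ * (g * w * g⁻¹) := by group
  · intro hz
    rw [Subgroup.mem_centralizer_singleton_iff] at hz
    refine ⟨g⁻¹ * z * g, ?_, ?_⟩
    · rw [SetLike.mem_coe, Subgroup.mem_centralizer_singleton_iff]
      calc g⁻¹ * z * g * y = g⁻¹ * (z * (g * y * g⁻¹)) * g := by group
        _ = g⁻¹ * ((g * y * g⁻¹) * z) * g := by rw [hz]
        _ = y * (g⁻¹ * z * g) := by group
    · simp only [MulEquiv.toMonoidHom_eq_coe, MonoidHom.coe_coe, MulAut.conj_apply]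
      group

/-- A conjugate of a component of `C_G(y)` is a component of `C_G(g y g⁻¹)`. -/
theorem isComponent_centralizer_conj (g y : G) {L : Subgroup G}
    (h : IsComponent (L.subgroupOf (Subgroup.centralizer ({y} : Set G)))) :
    IsComponent ((L.map (MulAut.conj g).toMonoidHom).subgroupOf
      (Subgroup.centralizer ({g * y * g⁻¹} : Set G))) := by
  have := isComponent_subgroupOf_map_equiv (MulAut.conj g) h
  rwa [centralizer_singleton_map_conj] at this

theorem le_centralizer_conj (g y : G) {L : Subgroup G}
    (h : L ≤ Subgroup.centralizer ({y} : Set G)) :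
    L.map (MulAut.conj g).toMonoidHom ≤ Subgroup.centralizer ({g * y * g⁻¹} : Set G) := by
  rw [← centralizer_singleton_map_conj]
  exact Subgroup.map_mono h

end transport

section dichotomy

variable {G : Type u} [Group G] [Finite G]

/-- Two components of one subgroup `H`, viewed in `G`, are equal or commute. -/
theorem eq_or_commutator_eq_bot_of_isComponent_subgroupOf {L M H : Subgroup G}
    (hLH : L ≤ H) (hMH : M ≤ H)
    (hL : IsComponent (L.subgroupOf H)) (hM : IsComponent (M.subgroupOf H)) :
    L = M ∨ ⁅L, M⁆ = ⊥ := by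
  by_cases hne : L.subgroupOf H = M.subgroupOf H
  · left
    have h1 := congrArg (Subgroup.map H.subtype) hne
    rwa [Subgroup.map_subgroupOf_eq_of_le hLH, Subgroup.map_subgroupOf_eq_of_le hMH] at h1
  · right
    have h1 := components_commute hL hM hne
    rw [eq_bot_iff] at h1 ⊢
    rw [Subgroup.commutator_le]
    intro a ha b hb
    have h2 : ⁅(⟨a, hLH ha⟩ : H), (⟨b, hMH hb⟩ : H)⁆ ∈ (⊥ : Subgroup H) :=
      h1 (Subgroup.commutator_mem_commutator (Subgroup.mem_subgroupOf.2 ha)
        (Subgroup.mem_subgroupOf.2 hb))
    rw [Subgroup.mem_bot] at h2 ⊢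
    have := congrArg Subtype.val h2
    simpa [commutatorElement_def] using this

end dichotomy

end Cfsg.Agent.Lib.H7
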