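import Mathlib
import Cfsg.Prelude.Def_Local
import Cfsg.Agent.Lib.H7.PLocal

set_option autoImplicit false
open Cfsg

namespace Cfsg.Agent.Lib.H7

universe u
variable {G : Type u} [Group G]

/-- Whatever normalizes `H` normalizes `O_p(H)`. -/
theorem normalizer_le_normalizer_pCoreOf (p : ℕ) (H : Subgroup G) :
    Subgroup.normalizer (H : Set G) ≤ Subgroup.normalizer (pCoreOf p H : Set G) := by
  intro g hg
  rw [Subgroup.mem_normalizer_iff_map_conj_eq] at hg ⊢
  have h1 := Cfsg.Agent.Lib.H14.pCoreOf_map_conj p H g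
  have h2 : H.map (MulAut.conj g).toMonoidHom = H := hg
  rw [h2] at h1
  exact h1.symm

/-- If `C ≤ M` is normalized by `M` then `O_p(C) ≤ O_p(M)`. -/
theorem pCoreOf_le_pCoreOf_of_le_normalizer (p : ℕ) {C M : Subgroup G} (hCM : C ≤ M)
    (hM : M ≤ Subgroup.normalizer (C : Set G)) : pCoreOf p C ≤ pCoreOf p M :=
  Cfsg.Agent.Lib.H14.le_pCoreOf p M _ ((Cfsg.Agent.Lib.H14.pCoreOf_le p C).trans hCM)
    (hM.trans (normalizer_le_normalizer_pCoreOf p C)) (Cfsg.Agent.Lib.H14.pCoreOf_isPGroup p C)

/-- `F*(H)` is a `p`-group iff `F*(H) = O_p(H)`. -/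
theorem isPGroup_generalizedFittingSubgroup_iff [Finite G] (p : ℕ) [Fact p.Prime] :
    IsPGroup p (generalizedFittingSubgroup G) ↔ generalizedFittingSubgroup G = pCore p G := by
  constructor
  · intro h
    apply le_antisymm (Cfsg.Agent.Lib.H1.le_pCore inferInstance h)
    have hpn : (pCore p G).Normal := Cfsg.Agent.Lib.H1.pCore_normal p G
    exact (le_fittingSubgroup hpn (Cfsg.Agent.Lib.H1.pCore_isPGroup p G).isNilpotent).trans
      fittingSubgroup_le_generalizedFittingSubgroup
  · intro h
    rw [h]
    exact Cfsg.Agent.Lib.H1.pCore_isPGroup p G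

/-- Step: if `V ⊴ V'` are `p`-subgroups and `F*(C_G(V)) = O_p(C_G(V))`, then the same holds for
`C_G(V')`. -/
theorem generalizedFittingSubgroup_centralizer_step [Finite G] (p : ℕ) [Fact p.Prime]
    {V V' : Subgroup G} (hV' : IsPGroup p V') (hVV' : V ≤ V')
    (hn : V' ≤ Subgroup.normalizer (V : Set G))
    (h : generalizedFittingSubgroup (Subgroup.centralizer (V : Set G)) =
      pCore p (Subgroup.centralizer (V : Set G))) :
    generalizedFittingSubgroup (Subgroup.centralizer (V' : Set G)) =
      pCore p (Subgroup.centralizer (V' : Set G)) := by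
  set H : Subgroup G := Subgroup.centralizer (V : Set G) with hH
  have hMH : Subgroup.centralizer (V' : Set G) ≤ H := Subgroup.centralizer_le hVV'
  apply generalizedFittingSubgroup_eq_pCore_of_le_centralizer p
    (Cfsg.Agent.Lib.H14.pCoreOf_isPGroup p H) hV'
  · exact hMH.trans (Cfsg.Agent.Lib.H14.pCoreOf_normalized p H)
  · exact le_rfl
  · exact (hn.trans (normalizer_le_normalizer_centralizer V)).trans
      (normalizer_le_normalizer_pCoreOf p H)
  · exact inf_le_right
  · intro y hy hc hyQ
    exact eq_one_of_generalizedFittingSubgroup_eq_pCore p H h (hMH hy) hc hyQ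

/-- Monotonicity: if `V ≤ U` are `p`-subgroups and `F*(C_G(V)) = O_p(C_G(V))`, then the same holds
for `C_G(U)`. -/
theorem generalizedFittingSubgroup_centralizer_mono [Finite G] (p : ℕ) [Fact p.Prime]
    {U : Subgroup G} (hU : IsPGroup p U) :
    ∀ V : Subgroup G, V ≤ U →
      generalizedFittingSubgroup (Subgroup.centralizer (V : Set G)) =
        pCore p (Subgroup.centralizer (V : Set G)) →
      generalizedFittingSubgroup (Subgroup.centralizer (U : Set G)) =
        pCore p (Subgroup.centralizer (U : Set G)) := by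
  intro V
  induction V using WellFoundedGT.induction with
  | ind V ih =>
  intro hVU h
  by_cases hVeq : V = U
  · rw [← hVeq]; exact h
  · have hlt : V < U := lt_of_le_of_ne hVU hVeq
    -- normalizer grows in the nilpotent group `U`
    have hUnil : Group.IsNilpotent U := hU.isNilpotent
    have hnc := Group.normalizerCondition_of_isNilpotent (G := U)
    have hlt' : V.subgroupOf U < ⊤ := by
      rw [lt_top_iff_ne_top, Ne, Subgroup.subgroupOf_eq_top]
      exact not_le_of_gt hlt
    have h1 := hnc (V.subgroupOf U) hlt'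
    set V' : Subgroup G := U ⊓ Subgroup.normalizer (V : Set G) with hV'
    have hVV' : V ≤ V' := le_inf hVU Subgroup.le_normalizer
    have hV'U : V' ≤ U := inf_le_left
    have hne : V ≠ V' := by
      intro heq
      apply h1.ne
      rw [← Subgroup.subgroupOf_normalizer_eq hVU]
      conv_lhs => rw [heq]
      rw [hV', Subgroup.inf_subgroupOf_left]
    exact ih V' (lt_of_le_of_ne hVV' hne) hV'U
      (generalizedFittingSubgroup_centralizer_step p (hU.to_le hV'U) hVV' inf_le_right h)


/-- A nontrivial finite `p`-subgroup has a central element of order `p`. -/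
theorem exists_orderOf_eq_prime_central [Finite G] (p : ℕ) [hp : Fact p.Prime] {T : Subgroup G}
    (hT : IsPGroup p T) (hT1 : T ≠ ⊥) :
    ∃ t ∈ T, orderOf t = p ∧ ∀ x ∈ T, x * t = t * x := by
  have : Nontrivial T := (Subgroup.nontrivial_iff_ne_bot T).2 hT1
  have hcn : Nontrivial (Subgroup.center T) := hT.center_nontrivial
  have hcp : IsPGroup p (Subgroup.center T) := hT.to_subgroup _
  obtain ⟨n, hn⟩ := IsPGroup.iff_card.1 hcp
  have hn0 : n ≠ 0 := by
    rintro rfl
    rw [pow_zero] at hn
    have := (Nat.card_eq_one_iff_unique.1 hn).1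
    exact not_subsingleton _ this
  have hdvd : p ∣ Nat.card (Subgroup.center T) := by rw [hn]; exact dvd_pow_self p hn0
  obtain ⟨z, hz⟩ := exists_prime_orderOf_dvd_card' p hdvd
  refine ⟨((z : T) : G), (z : T).2, ?_, ?_⟩
  · rw [Subgroup.orderOf_coe, Subgroup.orderOf_coe]; exact hz
  · intro x hx
    have := Subgroup.mem_center_iff.1 z.2 ⟨x, hx⟩
    exact congrArg Subtype.val this

/-- If `F*(C_G(t)) = O_p(C_G(t))` for every element `t` of order `p`, then
`F*(N_G(T)) = O_p(N_G(T))` for every nontrivial `p`-subgroup `T`. -/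
theorem generalizedFittingSubgroup_normalizer_of_centralizers [Finite G] (p : ℕ) [Fact p.Prime]
    (h : ∀ t : G, orderOf t = p → generalizedFittingSubgroup (Subgroup.centralizer ({t} : Set G)) =
      pCore p (Subgroup.centralizer ({t} : Set G)))
    (T : Subgroup G) (hT : IsPGroup p T) (hT1 : T ≠ ⊥) :
    generalizedFittingSubgroup (Subgroup.normalizer (T : Set G)) =
      pCore p (Subgroup.normalizer (T : Set G)) := by
  obtain ⟨t, htT, hto, htc⟩ := exists_orderOf_eq_prime_central p hT hT1
  set H : Subgroup G := Subgroup.centralizer ({t} : Set G) with hH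
  set M : Subgroup G := Subgroup.normalizer (T : Set G) with hM
  set C : Subgroup G := Subgroup.centralizer (T : Set G) with hC
  have hTH : T ≤ H := by
    intro x hx
    rw [hH, Subgroup.mem_centralizer_singleton_iff]
    exact (htc x hx)
  have hCH : C ≤ H := by
    rw [hC, hH]
    apply Subgroup.centralizer_le
    simpa using htT
  have hCM : C ≤ M := Subgroup.centralizer_le_normalizer _
  apply generalizedFittingSubgroup_eq_pCore_of_coprime
  intro y hyM hy hyO
  have hyC : y ∈ C :=
    Subgroup.centralizer_le (Cfsg.Agent.Lib.H14.le_pCoreOf p M T Subgroup.le_normalizer le_rfl hT) hyO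
  have hyOC : y ∈ Subgroup.centralizer (pCoreOf p C : Set G) :=
    Subgroup.centralizer_le (pCoreOf_le_pCoreOf_of_le_normalizer p hCM
      (normalizer_le_normalizer_centralizer T)) hyO
  refine eq_one_of_centralizes_pCoreOf p (Q := pCoreOf p H) (P := T) (M := C)
    (Cfsg.Agent.Lib.H14.pCoreOf_isPGroup p H) hT
    (hCH.trans (Cfsg.Agent.Lib.H14.pCoreOf_normalized p H)) hCM
    (hTH.trans (Cfsg.Agent.Lib.H14.pCoreOf_normalized p H)) inf_le_right ?_ hyC hy hyC hyOC
  intro y' hy' hc' hyQ'
  exact eq_one_of_generalizedFittingSubgroup_eq_pCore p H (h t hto) (hCH hy') hc' hyQ'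

end Cfsg.Agent.Lib.H7
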