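import Mathlib
import Cfsg.Prelude.Def_Local
import Cfsg.Prelude.Def_Transfer
import Cfsg.Agent.Lib.H7.PLocal2
import Cfsg.Agent.Lib.H6.PResidual

set_option autoImplicit false
open Cfsg

namespace Cfsg.Agent.Lib.H7

universe u
variable {G : Type u} [Group G]

/-- A finite perfect group is generated by its `p'`-elements. -/
theorem pResidual_eq_top_of_isPerfect [Finite G] (p : ℕ) [Fact p.Prime] [hG : Group.IsPerfect G] :
    pResidual p G = ⊤ := by
  have hn : (pResidual p G).Normal := Cfsg.Agent.Lib.H6.pResidual_normal p
  have hp : IsPGroup p (G ⧸ pResidual p G) := Cfsg.Agent.Lib.H6.isPGroup_quotient_pResidual p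
  have hperf : Group.IsPerfect (G ⧸ pResidual p G) :=
    Group.IsPerfect.ofSurjective (f := QuotientGroup.mk' (pResidual p G))
      (QuotientGroup.mk'_surjective _)
  have hnil : Group.IsNilpotent (G ⧸ pResidual p G) := hp.isNilpotent
  have hsub : Subsingleton (G ⧸ pResidual p G) := by
    by_contra hns
    rw [not_subsingleton_iff_nontrivial] at hns
    exact Group.IsPerfect.not_isSolvable (G ⧸ pResidual p G) inferInstance
  exact QuotientGroup.subgroup_eq_top_of_subsingleton _ hsub

/-- A perfect subgroup whose `p'`-elements all lie in `C` lies in `C`. -/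
theorem le_of_isPerfect_of_coprime_mem [Finite G] (p : ℕ) [Fact p.Prime] {K C : Subgroup G}
    [hK : Group.IsPerfect K] (h : ∀ y ∈ K, (orderOf y).Coprime p → y ∈ C) : K ≤ C := by
  have h1 : pResidual p K ≤ C.subgroupOf K := by
    unfold pResidual
    rw [Subgroup.closure_le]
    intro g hg
    rw [SetLike.mem_coe, Subgroup.mem_subgroupOf]
    apply h _ g.2
    rw [Subgroup.orderOf_coe]
    exact hg
  rw [pResidual_eq_top_of_isPerfect] at h1
  intro x hx
  have : (⟨x, hx⟩ : K) ∈ C.subgroupOf K := h1 (Subgroup.mem_top _)
  exact Subgroup.mem_subgroupOf.1 this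

/-- If `K ≤ C ≤ N`, `C` is subnormal in `G` and `K` is subnormal in `N`, then `K` is subnormal in
`G`. -/
theorem isSubnormal_of_le_of_le {K C N : Subgroup G} (hKC : K ≤ C) (hCN : C ≤ N)
    (hC : C.IsSubnormal) (hK : (K.subgroupOf N).IsSubnormal) : K.IsSubnormal := by
  apply Subgroup.IsSubnormal.trans hKC _ hC
  have h1 := hK.comap (Subgroup.inclusion hCN)
  have h2 : (K.subgroupOf N).comap (Subgroup.inclusion hCN) = K.subgroupOf C := by
    ext x
    simp [Subgroup.mem_subgroupOf]
  rwa [h2] at h1


/-- The layer centralizes `O_p`. -/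
theorem layer_le_centralizer_pCore [Finite G] (p : ℕ) [Fact p.Prime] :
    layer G ≤ Subgroup.centralizer (pCore p G : Set G) := by
  have hpn : (pCore p G).Normal := Cfsg.Agent.Lib.H1.pCore_normal p G
  have hpF : pCore p G ≤ fittingSubgroup G :=
    le_fittingSubgroup hpn (Cfsg.Agent.Lib.H1.pCore_isPGroup p G).isNilpotent
  have h1 : layer G ≤ Subgroup.centralizer (fittingSubgroup G : Set G) := by
    rw [← Subgroup.commutator_eq_bot_iff_le_centralizer]
    exact layer_commutator_fitting
  exact h1.trans (Subgroup.centralizer_le hpF)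

/-- For `P ≤ O_p(G)`, `E(N_G(P)) = E(G)`. -/
theorem layer_normalizer_eq_layer [Finite G] (p : ℕ) [Fact p.Prime] (P : Subgroup G)
    (hP : P ≤ pCore p G) :
    (layer (Subgroup.normalizer (P : Set G))).map (Subgroup.normalizer (P : Set G)).subtype =
      layer G := by
  set N : Subgroup G := Subgroup.normalizer (P : Set G) with hN
  set Q : Subgroup G := pCore p G with hQdef
  have hQn : Q.Normal := Cfsg.Agent.Lib.H1.pCore_normal p G
  have hQ : IsPGroup p Q := Cfsg.Agent.Lib.H1.pCore_isPGroup p G
  have hPp : IsPGroup p P := hQ.to_le hP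
  have hNQ : Subgroup.normalizer (Q : Set G) = ⊤ := Subgroup.normalizer_eq_top _
  have hCN : Subgroup.centralizer (Q : Set G) ≤ N :=
    (Subgroup.centralizer_le hP).trans (Subgroup.centralizer_le_normalizer _)
  apply le_antisymm
  · rw [Subgroup.map_le_iff_le_comap]
    apply sSup_le
    intro K hK
    rw [← Subgroup.map_le_iff_le_comap]
    apply component_le_layer
    have hq : IsQuasisimple (K.map N.subtype) :=
      quasisimple_of_mulEquiv (K.equivMapOfInjective N.subtype (Subgroup.subtype_injective N)) hK.2
    refine ⟨?_, hq⟩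
    have hperf : Group.IsPerfect (K.map N.subtype) := hq.1
    have hKC : K.map N.subtype ≤ Subgroup.centralizer (Q : Set G) := by
      apply le_of_isPerfect_of_coprime_mem p
      intro y hyK hy
      have hyO : y ∈ Subgroup.centralizer (pCoreOf p N : Set G) := by
        obtain ⟨k, hk, rfl⟩ := hyK
        rw [Subgroup.mem_centralizer_iff]
        rintro _ ⟨z, hz, rfl⟩
        have h1 := layer_le_centralizer_pCore (G := N) p (component_le_layer hK hk)
        have h2 := Subgroup.mem_centralizer_iff.1 h1 z hz
        exact congrArg Subtype.val h2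
      have hyP : y ∈ Subgroup.centralizer (P : Set G) :=
        Subgroup.centralizer_le
          (Cfsg.Agent.Lib.H14.le_pCoreOf p N P Subgroup.le_normalizer le_rfl hPp) hyO
      refine mem_centralizer_of_centralizes_pCoreOf p hQ hPp ?_ le_rfl ?_ ?_ ?_ hy hyP hyO
      · rw [hNQ]; exact le_top
      · rw [hNQ]; exact le_top
      · exact inf_le_right.trans (Subgroup.centralizer_le_normalizer _)
      · exact Subgroup.map_subtype_le _ hyK
    apply isSubnormal_of_le_of_le hKC hCN
      (Subgroup.Normal.isSubnormal (inferInstance : (Subgroup.centralizer (Q : Set G)).Normal))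
    have : (K.map N.subtype).subgroupOf N = K := by
      rw [Subgroup.subgroupOf, Subgroup.comap_map_eq_self_of_injective (Subgroup.subtype_injective N)]
    rw [this]
    exact hK.1
  · apply sSup_le
    intro L hL
    have hLN : L ≤ N :=
      ((component_le_layer hL).trans (layer_le_centralizer_pCore p)).trans hCN
    have h1 : L.subgroupOf N ≤ layer N := component_le_layer (isComponent_subgroupOf hL hLN)
    have h2 := Subgroup.map_mono (f := N.subtype) h1
    rwa [Subgroup.map_subgroupOf_eq_of_le hLN] at h2

end Cfsg.Agent.Lib.H7
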