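import Mathlib
import Cfsg.Prelude.Def_Local
import Cfsg.Agent.Lib.H7.PLocal3
import Cfsg.Agent.Lib.H22.PPrimeCore

set_option autoImplicit false
open Cfsg

namespace Cfsg.Agent.Lib.H7

universe u
variable {Y : Type u} [Group Y]

/-- The preimage in `Y` of `E(Y / O_{p'}(Y))`. -/
abbrev pPrimeLayerPre (p : ℕ) (Y : Type u) [Group Y] : Subgroup Y :=
  (layer (Y ⧸ pPrimeCore p Y)).comap (QuotientGroup.mk' (pPrimeCore p Y))

theorem pPrimeCore_le_pPrimeLayerPre (p : ℕ) : pPrimeCore p Y ≤ pPrimeLayerPre p Y := by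
  intro x hx
  rw [Subgroup.mem_comap]
  have : QuotientGroup.mk' (pPrimeCore p Y) x = 1 := by
    rw [QuotientGroup.mk'_apply, QuotientGroup.eq_one_iff]; exact hx
  rw [this]; exact Subgroup.one_mem _

/-- A normal `p`-subgroup meets `O_{p'}` trivially. -/
theorem pPrimeCore_inf_eq_bot_of_isPGroup [Finite Y] (p : ℕ) [Fact p.Prime] {D : Subgroup Y}
    (hD : IsPGroup p D) : pPrimeCore p Y ⊓ D = ⊥ := by
  apply Disjoint.eq_bot
  apply Subgroup.disjoint_of_coprime_natCard
  obtain ⟨k, hk⟩ := IsPGroup.iff_card.1 hD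
  rw [hk]
  exact Nat.Coprime.pow_right k (Cfsg.Agent.Lib.H22.card_pPrimeCore_coprime p)

/-- The preimage of `E(Y / O_{p'}(Y))` centralizes every normal `p`-subgroup of `Y`. -/
theorem pPrimeLayerPre_le_centralizer [Finite Y] (p : ℕ) [Fact p.Prime] {D : Subgroup Y}
    [hDn : D.Normal] (hD : IsPGroup p D) :
    pPrimeLayerPre p Y ≤ Subgroup.centralizer (D : Set Y) := by
  set O := pPrimeCore p Y with hO
  set π := QuotientGroup.mk' O with hπ
  have hπs : Function.Surjective π := QuotientGroup.mk'_surjective O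
  have hDπn : (D.map π).Normal := hDn.map π hπs
  have hDπp : IsPGroup p (D.map π) := hD.map π
  have hDπF : D.map π ≤ fittingSubgroup (Y ⧸ O) := le_fittingSubgroup hDπn hDπp.isNilpotent
  have hcomm : layer (Y ⧸ O) ≤ Subgroup.centralizer (D.map π : Set (Y ⧸ O)) := by
    have h1 : layer (Y ⧸ O) ≤ Subgroup.centralizer (fittingSubgroup (Y ⧸ O) : Set (Y ⧸ O)) := by
      rw [← Subgroup.commutator_eq_bot_iff_le_centralizer]
      exact layer_commutator_fitting
    exact h1.trans (Subgroup.centralizer_le hDπF)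
  intro x hx
  rw [Subgroup.mem_centralizer_iff]
  intro d hd
  have h1 : π d * π x = π x * π d :=
    Subgroup.mem_centralizer_iff.1 (hcomm hx) (π d) (Subgroup.mem_map_of_mem π hd)
  -- the commutator lies in `O ⊓ D = ⊥`
  have h2 : x * d * x⁻¹ * d⁻¹ ∈ O := by
    rw [← QuotientGroup.eq_one_iff, ← QuotientGroup.mk'_apply, ← hπ]
    simp only [map_mul, map_inv]
    rw [← h1]; group
  have h3 : x * d * x⁻¹ * d⁻¹ ∈ D := D.mul_mem (hDn.conj_mem d hd x) (D.inv_mem hd)
  have h4 : x * d * x⁻¹ * d⁻¹ ∈ O ⊓ D := ⟨h2, h3⟩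
  rw [hO, pPrimeCore_inf_eq_bot_of_isPGroup p hD, Subgroup.mem_bot] at h4
  have : x * d = d * x := by
    have h5 : x * d * x⁻¹ = d := by
      have := mul_inv_eq_one.1 h4
      exact this
    calc x * d = (x * d * x⁻¹) * x := by group
      _ = d * x := by rw [h5]
  exact this.symm


/-- If `H = H' · O` with `O ≤ O^p(H)` then `O^p(H) = H`. -/
theorem pResidual_eq_top_of_commutator_sup [Finite Y] (p : ℕ) [Fact p.Prime] (O : Subgroup Y)
    (hO : O ≤ pResidual p Y) (h : commutator Y ⊔ O = ⊤) : pResidual p Y = ⊤ := by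
  have hn : (pResidual p Y).Normal := Cfsg.Agent.Lib.H6.pResidual_normal p
  set π := QuotientGroup.mk' (pResidual p Y) with hπ
  have hπs : Function.Surjective π := QuotientGroup.mk'_surjective _
  have hp : IsPGroup p (Y ⧸ pResidual p Y) := Cfsg.Agent.Lib.H6.isPGroup_quotient_pResidual p
  have hperf : Group.IsPerfect (Y ⧸ pResidual p Y) := by
    rw [Group.isPerfect_def]
    have h1 := congrArg (Subgroup.map π) h
    rw [Subgroup.map_sup, Subgroup.map_top_of_surjective π hπs, map_commutator_eq,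
      MonoidHom.range_eq_top.2 hπs, ← commutator_def] at h1
    have h2 : O.map π = ⊥ := by
      rw [← le_bot_iff, Subgroup.map_le_iff_le_comap, MonoidHom.comap_bot, hπ,
        QuotientGroup.ker_mk']
      exact hO
    rw [h2, sup_bot_eq] at h1
    exact h1
  have hnil : Group.IsNilpotent (Y ⧸ pResidual p Y) := hp.isNilpotent
  have hsub : Subsingleton (Y ⧸ pResidual p Y) := by
    by_contra hns
    rw [not_subsingleton_iff_nontrivial] at hns
    exact Group.IsPerfect.not_isSolvable (Y ⧸ pResidual p Y) inferInstance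
  exact QuotientGroup.subgroup_eq_top_of_subsingleton _ hsub

/-- A subgroup `K` with `O^p(K) = K` whose `p'`-elements all lie in `C` lies in `C`. -/
theorem le_of_pResidual_eq_top_of_coprime_mem (p : ℕ) {K C : Subgroup Y}
    (hK : pResidual p K = ⊤) (h : ∀ y ∈ K, (orderOf y).Coprime p → y ∈ C) : K ≤ C := by
  have h1 : pResidual p K ≤ C.subgroupOf K := by
    unfold pResidual
    rw [Subgroup.closure_le]
    intro g hg
    rw [SetLike.mem_coe, Subgroup.mem_subgroupOf]
    apply h _ g.2
    rw [Subgroup.orderOf_coe]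
    exact hg
  rw [hK] at h1
  intro x hx
  have : (⟨x, hx⟩ : K) ∈ C.subgroupOf K := h1 (Subgroup.mem_top _)
  exact Subgroup.mem_subgroupOf.1 this

/-- The preimage of `E(Y / O_{p'}(Y))` is generated by its `p'`-elements. -/
theorem pResidual_pPrimeLayerPre_eq_top [Finite Y] (p : ℕ) [Fact p.Prime] :
    pResidual p (pPrimeLayerPre p Y) = ⊤ := by
  set O := pPrimeCore p Y with hO
  set π := QuotientGroup.mk' O with hπ
  have hπs : Function.Surjective π := QuotientGroup.mk'_surjective O
  set Xn := pPrimeLayerPre p Y with hXn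
  have hOX : O ≤ Xn := pPrimeCore_le_pPrimeLayerPre p
  have hmap : Xn.map π = layer (Y ⧸ O) := Subgroup.map_comap_eq_self_of_surjective hπs _
  have hle : Xn ≤ ⁅Xn, Xn⁆ ⊔ O := by
    have h1 : (⁅Xn, Xn⁆).map π = Xn.map π := by
      rw [Subgroup.map_commutator, hmap, layer_commutator_self]
    calc Xn ≤ (Xn.map π).comap π := Subgroup.le_comap_map π Xn
      _ = ((⁅Xn, Xn⁆).map π).comap π := by rw [h1]
      _ = ⁅Xn, Xn⁆ ⊔ π.ker := Subgroup.comap_map_eq π _
      _ = ⁅Xn, Xn⁆ ⊔ O := by rw [hπ, QuotientGroup.ker_mk']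
  apply pResidual_eq_top_of_commutator_sup p (O.subgroupOf Xn)
  · intro z hz
    apply Subgroup.subset_closure
    show (orderOf z).Coprime p
    rw [← Subgroup.orderOf_coe]
    have h1 : orderOf (z : Y) ∣ Nat.card O := by
      have := orderOf_dvd_natCard (⟨(z : Y), Subgroup.mem_subgroupOf.1 hz⟩ : O)
      rwa [← Subgroup.orderOf_coe] at this
    exact Nat.Coprime.coprime_dvd_left h1 (Cfsg.Agent.Lib.H22.card_pPrimeCore_coprime p)
  · rw [eq_top_iff]
    intro x _
    have hx := hle x.2
    rw [← Subgroup.map_subtype_commutator] at hx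
    obtain ⟨a, ha, b, hb, hab⟩ := Subgroup.mem_sup_of_normal_right.1 hx
    obtain ⟨a', ha', rfl⟩ := ha
    have hbX : b ∈ Xn := hOX hb
    have : x = a' * ⟨b, hbX⟩ := Subtype.ext hab.symm
    rw [this]
    exact Subgroup.mul_mem_sup ha' (Subgroup.mem_subgroupOf.2 hb)


section ambient

variable {G : Type u} [Group G]

/-- Elements of the preimage of `E(N / O_{p'}(N))` centralize (in `G`) every `p`-subgroup of `N`
normalized by `N`. -/
theorem coe_mem_centralizer_of_mem_pPrimeLayerPre [Finite G] (p : ℕ) [Fact p.Prime]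
    {N D : Subgroup G} (hD : IsPGroup p D) (hDN : D ≤ N)
    (hN : N ≤ Subgroup.normalizer (D : Set G))
    {y : N} (hy : y ∈ pPrimeLayerPre p N) : (y : G) ∈ Subgroup.centralizer (D : Set G) := by
  have hn : (D.subgroupOf N).Normal := Subgroup.normal_subgroupOf_of_le_normalizer hN
  have hp : IsPGroup p (D.subgroupOf N) := hD.comap_subtype
  have h1 := pPrimeLayerPre_le_centralizer p hp hy
  rw [Subgroup.mem_centralizer_iff] at h1 ⊢
  intro d hd
  have := h1 ⟨d, hDN hd⟩ (Subgroup.mem_subgroupOf.2 hd)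
  exact congrArg Subtype.val this

/-- Thompson `A × B` for a single `p'`-element. -/
theorem mem_centralizer_of_AxB [Finite G] (p : ℕ) [Fact p.Prime] {Q P : Subgroup G}
    (hQ : IsPGroup p Q) (hP : IsPGroup p P) (hPQ : P ≤ Subgroup.normalizer (Q : Set G))
    {y : G} (hyQ : y ∈ Subgroup.normalizer (Q : Set G)) (hy : (orderOf y).Coprime p)
    (hyP : y ∈ Subgroup.centralizer (P : Set G))
    (hyD : y ∈ Subgroup.centralizer ((Q ⊓ Subgroup.centralizer (P : Set G) : Subgroup G) : Set G)) :
    y ∈ Subgroup.centralizer (Q : Set G) := by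
  set A : Subgroup G := Subgroup.zpowers y with hA
  have hAc : (Nat.card A).Coprime p := by rw [hA, Nat.card_zpowers]; exact hy
  have hAle : ∀ {K : Subgroup G}, y ∈ K → A ≤ K := fun h => by
    rw [hA, Subgroup.zpowers_le]; exact h
  have hAP : ⁅A, P⁆ = ⊥ := by
    rw [Subgroup.commutator_eq_bot_iff_le_centralizer]
    exact hAle hyP
  have hAC : ⁅A, Q ⊓ Subgroup.centralizer (P : Set G)⁆ = ⊥ := by
    rw [Subgroup.commutator_eq_bot_iff_le_centralizer]
    exact hAle hyD
  have := thompson_AxB' p hQ hP hAc hAP (hAle hyQ) hPQ hAC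
  rw [Subgroup.commutator_eq_bot_iff_le_centralizer] at this
  exact this (Subgroup.mem_zpowers y)

/-- Let `P` be a `p`-subgroup of the finite group `G` and `N = N_G(P)`. Then the preimage in `N` of
`E(N / O_{p'}(N))` centralizes `O_p(G)`. -/
theorem pPrimeLayerPre_normalizer_le_centralizer_pCore [Finite G] (p : ℕ) [Fact p.Prime]
    (P : Subgroup G) (hP : IsPGroup p P) :
    (pPrimeLayerPre p (Subgroup.normalizer (P : Set G))).map
      (Subgroup.normalizer (P : Set G)).subtype ≤ Subgroup.centralizer (pCore p G : Set G) := by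
  set N : Subgroup G := Subgroup.normalizer (P : Set G) with hN
  set Q : Subgroup G := pCore p G with hQdef
  have hQn : Q.Normal := Cfsg.Agent.Lib.H1.pCore_normal p G
  have hQ : IsPGroup p Q := Cfsg.Agent.Lib.H1.pCore_isPGroup p G
  have hNQ : Subgroup.normalizer (Q : Set G) = ⊤ := Subgroup.normalizer_eq_top _
  rw [Subgroup.map_le_iff_le_comap]
  apply le_of_pResidual_eq_top_of_coprime_mem p (pResidual_pPrimeLayerPre_eq_top p)
  intro y hy hyc
  rw [Subgroup.mem_comap, Subgroup.coe_subtype]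
  apply mem_centralizer_of_AxB p hQ hP
  · rw [hNQ]; exact le_top
  · rw [hNQ]; exact Subgroup.mem_top _
  · rw [Subgroup.orderOf_coe]; exact hyc
  · exact coe_mem_centralizer_of_mem_pPrimeLayerPre p hP Subgroup.le_normalizer le_rfl hy
  · apply coe_mem_centralizer_of_mem_pPrimeLayerPre p (hQ.to_le inf_le_left)
      (inf_le_right.trans (Subgroup.centralizer_le_normalizer _)) _ hy
    intro g hg
    have h1 : g ∈ Subgroup.normalizer (Q : Set G) := by rw [hNQ]; exact Subgroup.mem_top _
    have h2 := normalizer_le_normalizer_centralizer P hg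
    rw [Subgroup.mem_normalizer_iff] at h1 h2 ⊢
    intro x
    rw [Subgroup.mem_inf, Subgroup.mem_inf, h1 x, h2 x]

end ambient

end Cfsg.Agent.Lib.H7
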