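import Mathlib
import Cfsg.Prelude.Def_Local
import Cfsg.Prelude.Def_Amalgam
import Cfsg.Agent.Lib.H7.PPrimeLayer
import Cfsg.Agent.Lib.H9.PPrimeCore

set_option autoImplicit false
open Cfsg

namespace Cfsg.Agent.Lib.H7

universe u

section generic

variable {Y : Type u} [Group Y]

/-- If `S` is normalized by `o` and `s ∈ S`, then `(s * o) ^ k ∈ S * o ^ k`. -/
theorem exists_mul_pow_eq {S : Subgroup Y} {s o : Y} (hs : s ∈ S)
    (ho : o ∈ Subgroup.normalizer (S : Set Y)) (k : ℕ) : ∃ s' ∈ S, (s * o) ^ k = s' * o ^ k := by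
  induction k with
  | zero => exact ⟨1, S.one_mem, by simp⟩
  | succ k ih =>
    obtain ⟨s', hs', h⟩ := ih
    refine ⟨s' * (o ^ k * s * (o ^ k)⁻¹), S.mul_mem hs' ?_, ?_⟩
    · have hok : o ^ k ∈ Subgroup.normalizer (S : Set Y) := Subgroup.pow_mem _ ho k
      exact (Subgroup.mem_normalizer_iff.1 hok s).1 hs
    · rw [pow_succ, h, pow_succ]; group

/-- In a finite group, if `S` is subnormal, `O` is a normal `p'`-subgroup and `S ⊔ O = ⊤`, then `S`
contains every element of `p`-power order. -/
theorem mem_of_isSubnormal_of_sup_eq_top [Finite Y] (p : ℕ) (O : Subgroup Y)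
    [hOn : O.Normal] (hO : (Nat.card O).Coprime p) {S : Subgroup Y} (hS : S.IsSubnormal)
    (hSO : S ⊔ O = ⊤) {g : Y} {k : ℕ} (hg : g ^ (p ^ k) = 1) : g ∈ S := by
  induction hS with
  | top => exact Subgroup.mem_top g
  | step S M h_le hM hN ih =>
    have hMO : M ⊔ O = ⊤ := by
      rw [eq_top_iff, ← hSO]; exact sup_le_sup_right h_le O
    have hgM : g ∈ M := ih hMO
    have hgSO : g ∈ S ⊔ O := by rw [hSO]; exact Subgroup.mem_top g
    obtain ⟨s, hs, o, ho, hso⟩ := Subgroup.mem_sup_of_normal_right.1 hgSO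
    have hoM : o ∈ M := by
      have : o = s⁻¹ * g := by rw [← hso]; group
      rw [this]; exact M.mul_mem (M.inv_mem (h_le hs)) hgM
    have hMn : M ≤ Subgroup.normalizer (S : Set Y) :=
      (Subgroup.normal_subgroupOf_iff_le_normalizer h_le).1 hN
    obtain ⟨s', hs', h⟩ := exists_mul_pow_eq hs (hMn hoM) (Nat.card O)
    have hon : o ^ Nat.card O = 1 := by
      have := pow_card_eq_one' (G := O) (x := ⟨o, ho⟩)
      exact congrArg Subtype.val this
    have h1 : g ^ Nat.card O ∈ S := by
      rw [← hso, h, hon, mul_one]; exact hs'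
    have h2 : g ^ (p ^ k) ∈ S := by rw [hg]; exact S.one_mem
    exact Cfsg.Agent.Lib.H6.mem_of_pow_mem_of_coprime (Nat.Coprime.pow_right k hO) h1 h2

/-- A homomorphism from a perfect group to a commutative group is trivial. -/
theorem monoidHom_eq_one_of_isPerfect {A : Type*} [Group A] (hA : ∀ a b : A, a * b = b * a)
    [hY : Group.IsPerfect Y] (f : Y →* A) (y : Y) : f y = 1 := by
  have h1 : commutator Y ≤ f.ker := by
    rw [commutator_eq_closure, Subgroup.closure_le]
    rintro _ ⟨a, b, rfl⟩
    rw [SetLike.mem_coe, MonoidHom.mem_ker, map_commutatorElement, commutatorElement_def,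
      hA (f a) (f b)]
    group
  rw [hY.commutator_eq_top] at h1
  exact MonoidHom.mem_ker.1 (h1 (Subgroup.mem_top y))

/-- In a finite perfect group, `g ^ [G : Z(G)] = 1`. -/
theorem pow_index_center_eq_one_of_isPerfect [Finite Y] [hY : Group.IsPerfect Y] (g : Y) :
    g ^ (Subgroup.center Y).index = 1 := by
  have h1 := monoidHom_eq_one_of_isPerfect (fun a b => Subtype.ext (Subgroup.mem_center_iff.1 b.2 (a : Y))) (MonoidHom.transferCenterPow Y) g
  have h2 := congrArg Subtype.val h1
  simpa using h2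

/-- If every element of a finite group has order prime to `p` then the order of the group is prime
to `p`. -/
theorem card_coprime_of_forall_orderOf_coprime [Finite Y] (p : ℕ) [hp : Fact p.Prime]
    (h : ∀ g : Y, (orderOf g).Coprime p) : (Nat.card Y).Coprime p := by
  rw [Nat.coprime_comm, Nat.Prime.coprime_iff_not_dvd hp.out]
  intro hdvd
  obtain ⟨g, hg⟩ := exists_prime_orderOf_dvd_card' p hdvd
  have := h g
  rw [hg] at this
  exact hp.out.ne_one (Nat.coprime_self p |>.1 this)

/-- A finite quasisimple group of order divisible by `p` has no proper normal subgroup `N` such that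
every element has a `p'`-power in `N`. -/
theorem quasisimple_eq_top_of_forall_pow_mem [Finite Y] (p : ℕ) [hp : Fact p.Prime]
    (hY : IsQuasisimple Y) (hpY : ¬ (Nat.card Y).Coprime p) (N : Subgroup Y) [hN : N.Normal]
    (h : ∀ g : Y, ∃ m : ℕ, m.Coprime p ∧ g ^ m ∈ N) : N = ⊤ := by
  rcases quasisimple_normal hY N with h1 | h1
  · exact h1
  · exfalso
    apply hpY
    have hperf : Group.IsPerfect Y := hY.1
    apply card_coprime_of_forall_orderOf_coprime
    intro g
    -- the order of `g` divides the index `n` of the centre, and is coprime to `p`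
    set n := (Subgroup.center Y).index with hn
    have hgn : orderOf g ∣ n := orderOf_dvd_of_pow_eq_one (pow_index_center_eq_one_of_isPerfect g)
    apply Nat.Coprime.coprime_dvd_left hgn
    -- `n` is coprime to `p`
    rw [hn, Subgroup.index_eq_card]
    apply card_coprime_of_forall_orderOf_coprime
    intro q
    obtain ⟨x, rfl⟩ := QuotientGroup.mk_surjective q
    obtain ⟨m, hm, hxm⟩ := h x
    have : (QuotientGroup.mk x : Y ⧸ Subgroup.center Y) ^ m = 1 := by
      rw [← QuotientGroup.mk_pow, QuotientGroup.eq_one_iff]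
      exact h1 hxm
    exact Nat.Coprime.coprime_dvd_left (orderOf_dvd_of_pow_eq_one this) hm

/-- Every element `x` of a finite group has a power `x ^ m`, `m` prime to `p`, of `p`-power
order. -/
theorem exists_coprime_pow_orderOf_eq_prime_pow [Finite Y] (p : ℕ) [hp : Fact p.Prime] (x : Y) :
    ∃ m : ℕ, m.Coprime p ∧ ∃ k : ℕ, orderOf (x ^ m) = p ^ k := by
  obtain ⟨k, m, hm, hom⟩ := Nat.exists_eq_pow_mul_and_not_dvd (orderOf_pos x).ne' p hp.out.ne_one
  refine ⟨m, ((Nat.Prime.coprime_iff_not_dvd hp.out).2 hm).symm, k, ?_⟩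
  rw [orderOf_pow, hom, Nat.gcd_eq_right (Dvd.intro_left _ rfl)]
  exact Nat.mul_div_cancel _ (Nat.pos_of_ne_zero (fun h0 => hm (by rw [h0]; exact dvd_zero p)))

end generic


section pcomp

variable {X : Type u} [Group X]

theorem mem_pElementClosure {p : ℕ} {H : Subgroup X} {x : X} (hx : x ∈ H) {k : ℕ}
    (hk : orderOf x = p ^ k) : x ∈ pElementClosure p H :=
  Subgroup.subset_closure ⟨hx, k, hk⟩

theorem pElementClosure_le_of_forall {p : ℕ} {H S : Subgroup X}
    (h : ∀ x ∈ H, ∀ k : ℕ, orderOf x = p ^ k → x ∈ S) : pElementClosure p H ≤ S := by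
  unfold pElementClosure
  rw [Subgroup.closure_le]
  rintro x ⟨hx, k, hk⟩
  exact h x hx k hk

/-- Whatever normalizes `H` normalizes `O^{p'}(H)`. -/
theorem normalizer_le_normalizer_pElementClosure (p : ℕ) (H : Subgroup X) :
    Subgroup.normalizer (H : Set X) ≤ Subgroup.normalizer (pElementClosure p H : Set X) := by
  have key : ∀ g ∈ Subgroup.normalizer (H : Set X), ∀ x ∈ pElementClosure p H,
      g * x * g⁻¹ ∈ pElementClosure p H := by
    intro g hg
    have h1 : pElementClosure p H ≤ (pElementClosure p H).comap (MulAut.conj g).toMonoidHom := by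
      apply pElementClosure_le_of_forall
      intro x hx k hk
      rw [Subgroup.mem_comap]
      apply mem_pElementClosure (k := k)
      · exact (Subgroup.mem_normalizer_iff.1 hg x).1 hx
      · rw [← hk]
        exact orderOf_injective (MulAut.conj g).toMonoidHom (MulAut.conj g).injective x
    intro x hx
    exact h1 hx
  intro g hg
  rw [Subgroup.mem_normalizer_iff]
  intro x
  constructor
  · exact key g hg x
  · intro hx
    have := key g⁻¹ (Subgroup.inv_mem _ hg) _ hx
    simpa [mul_assoc] using this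

/-- The `p`-component lying over a subgroup `K̄` of `X / O_{p'}(X)`: `O^{p'}` of the full preimage. -/
def pCompOver (p : ℕ) (Kbar : Subgroup (X ⧸ pPrimeCore p X)) : Subgroup X :=
  pElementClosure p (Kbar.comap (QuotientGroup.mk' (pPrimeCore p X)))

theorem pCompOver_le_comap (p : ℕ) (Kbar : Subgroup (X ⧸ pPrimeCore p X)) :
    pCompOver p Kbar ≤ Kbar.comap (QuotientGroup.mk' (pPrimeCore p X)) :=
  Cfsg.Agent.Lib.H14.pElementClosure_le p _

theorem comap_le_normalizer_pCompOver (p : ℕ) (Kbar : Subgroup (X ⧸ pPrimeCore p X)) :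
    Kbar.comap (QuotientGroup.mk' (pPrimeCore p X)) ≤
      Subgroup.normalizer (pCompOver p Kbar : Set X) :=
  Subgroup.le_normalizer.trans (normalizer_le_normalizer_pElementClosure p _)

theorem pCompOver_isSubnormal (p : ℕ) {Kbar : Subgroup (X ⧸ pPrimeCore p X)}
    (hK : Kbar.IsSubnormal) : (pCompOver p Kbar).IsSubnormal := by
  apply Subgroup.IsSubnormal.step _ _ (pCompOver_le_comap p Kbar)
    (hK.comap (QuotientGroup.mk' (pPrimeCore p X)))
  exact Subgroup.normal_subgroupOf_of_le_normalizer (comap_le_normalizer_pCompOver p Kbar)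

variable [Finite X]

/-- A component of `X / O_{p'}(X)` has order divisible by `p`. -/
theorem not_coprime_card_component_quotient (p : ℕ) [Fact p.Prime]
    {Kbar : Subgroup (X ⧸ pPrimeCore p X)} (hK : IsComponent Kbar) :
    ¬ (Nat.card Kbar).Coprime p := by
  intro hc
  have h1 := Cfsg.Agent.Lib.H9.subnormal_coprime_le_pPrimeCore p hK.1 hc
  rw [Cfsg.Agent.Lib.H9.pPrimeCore_quotient_eq_bot] at h1
  exact component_ne_bot hK (le_bot_iff.1 h1)

theorem map_pCompOver (p : ℕ) [Fact p.Prime] {Kbar : Subgroup (X ⧸ pPrimeCore p X)}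
    (hK : IsComponent Kbar) :
    (pCompOver p Kbar).map (QuotientGroup.mk' (pPrimeCore p X)) = Kbar := by
  set π := QuotientGroup.mk' (pPrimeCore p X) with hπ
  have hπs : Function.Surjective π := QuotientGroup.mk'_surjective _
  set T := pCompOver p Kbar with hT
  apply le_antisymm
  · exact (Subgroup.map_mono (pCompOver_le_comap p Kbar)).trans (Subgroup.map_comap_le _ _)
  · have hn : ((T.map π).subgroupOf Kbar).Normal := by
      constructor
      intro n hn g
      rw [Subgroup.mem_subgroupOf] at hn ⊢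
      obtain ⟨t, ht, htn⟩ := hn
      obtain ⟨h, hh⟩ := hπs (g : X ⧸ pPrimeCore p X)
      have hhH : h ∈ Kbar.comap π := by rw [Subgroup.mem_comap, hh]; exact g.2
      have h1 := (Subgroup.mem_normalizer_iff.1 (comap_le_normalizer_pCompOver p Kbar hhH) t).1 ht
      refine ⟨h * t * h⁻¹, h1, ?_⟩
      simp only [map_mul, map_inv, hh, htn, Subgroup.coe_mul, InvMemClass.coe_inv]
    have := quasisimple_eq_top_of_forall_pow_mem p hK.2 (not_coprime_card_component_quotient p hK)
      ((T.map π).subgroupOf Kbar) (by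
        intro g
        obtain ⟨h, hh⟩ := hπs (g : X ⧸ pPrimeCore p X)
        have hhH : h ∈ Kbar.comap π := by rw [Subgroup.mem_comap, hh]; exact g.2
        obtain ⟨m, hm, k, hk⟩ := exists_coprime_pow_orderOf_eq_prime_pow p h
        refine ⟨m, hm, ?_⟩
        rw [Subgroup.mem_subgroupOf]
        refine ⟨h ^ m, mem_pElementClosure (Subgroup.pow_mem _ hhH m) hk, ?_⟩
        simp only [map_pow, hh, Subgroup.coe_pow])
    exact Subgroup.subgroupOf_eq_top.1 this

/-- Every subnormal subgroup of `X` with image `K̄` contains the `p`-component over `K̄`. -/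
theorem pCompOver_le_of_map_eq (p : ℕ) {Kbar : Subgroup (X ⧸ pPrimeCore p X)}
    {S : Subgroup X} (hS : S.IsSubnormal)
    (hmap : S.map (QuotientGroup.mk' (pPrimeCore p X)) = Kbar) : pCompOver p Kbar ≤ S := by
  set π := QuotientGroup.mk' (pPrimeCore p X) with hπ
  set O := pPrimeCore p X with hO
  set H := Kbar.comap π with hH
  have hHeq : H = S ⊔ O := by
    rw [hH, ← hmap, Subgroup.comap_map_eq, hπ, QuotientGroup.ker_mk']
  have hSH : S ≤ H := by rw [hHeq]; exact le_sup_left
  have hOH : O ≤ H := by rw [hHeq]; exact le_sup_right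
  apply pElementClosure_le_of_forall
  intro x hx k hk
  have hOc : (Nat.card (O.subgroupOf H)).Coprime p := by
    rw [Nat.card_congr (Subgroup.subgroupOfEquivOfLe hOH).toEquiv]
    exact Cfsg.Agent.Lib.H22.card_pPrimeCore_coprime p
  have hsup : S.subgroupOf H ⊔ O.subgroupOf H = ⊤ := by
    rw [← Subgroup.subgroupOf_sup hSH hOH, Subgroup.subgroupOf_eq_top, hHeq]
  have hg : (⟨x, hx⟩ : H) ^ (p ^ k) = 1 := by
    apply Subtype.ext
    rw [Subgroup.coe_pow, Subgroup.coe_one, ← hk]
    exact pow_orderOf_eq_one x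
  have := mem_of_isSubnormal_of_sup_eq_top p (O.subgroupOf H) hOc (hS.subgroupOf (K := H)) hsup hg
  exact Subgroup.mem_subgroupOf.1 this

theorem isPComponent_pCompOver (p : ℕ) [Fact p.Prime] {Kbar : Subgroup (X ⧸ pPrimeCore p X)}
    (hK : IsComponent Kbar) : IsPComponent p (pCompOver p Kbar) := by
  refine ⟨pCompOver_isSubnormal p hK.1, ?_, ?_⟩
  · rw [map_pCompOver p hK]; exact hK
  · intro S hS hle hmap
    rw [map_pCompOver p hK] at hmap
    exact le_antisymm hle (pCompOver_le_of_map_eq p hS hmap)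

theorem eq_pCompOver_of_isPComponent (p : ℕ) [Fact p.Prime] {K : Subgroup X}
    (hK : IsPComponent p K) :
    K = pCompOver p (K.map (QuotientGroup.mk' (pPrimeCore p X))) := by
  have h1 := pCompOver_le_of_map_eq p hK.1 (rfl : K.map (QuotientGroup.mk' (pPrimeCore p X)) = _)
  exact (hK.2.2 _ (pCompOver_isSubnormal p hK.2.1.1) h1 (map_pCompOver p hK.2.1)).symm

/-- Characterization of `p`-components. -/
theorem isPComponent_iff (p : ℕ) [Fact p.Prime] {K : Subgroup X} :
    IsPComponent p K ↔ IsComponent (K.map (QuotientGroup.mk' (pPrimeCore p X))) ∧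
      K = pCompOver p (K.map (QuotientGroup.mk' (pPrimeCore p X))) := by
  constructor
  · intro hK
    exact ⟨hK.2.1, eq_pCompOver_of_isPComponent p hK⟩
  · rintro ⟨h1, h2⟩
    rw [h2]
    exact isPComponent_pCompOver p h1

end pcomp

end Cfsg.Agent.Lib.H7
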