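import Mathlib
import Cfsg.Prelude.Def_Local
import Cfsg.Agent.Lib.H7.PComponent

set_option autoImplicit false
open Cfsg

namespace Cfsg.Agent.Lib.H7

universe u v

section quasisimple

variable {Q : Type u} [Group Q]

/-- A nontrivial perfect group all of whose proper normal subgroups are central is quasisimple. -/
theorem isQuasisimple_of_forall_normal (hperf : Group.IsPerfect Q) (hnt : Nontrivial Q)
    (h : ∀ N : Subgroup Q, N.Normal → N = ⊤ ∨ N ≤ Subgroup.center Q) : IsQuasisimple Q := by
  refine ⟨hperf, ?_⟩
  have hπs : Function.Surjective (QuotientGroup.mk' (Subgroup.center Q)) :=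
    QuotientGroup.mk'_surjective _
  have hnt' : Nontrivial (Q ⧸ Subgroup.center Q) := by
    by_contra hns
    rw [not_nontrivial_iff_subsingleton] at hns
    have h1 : Subgroup.center Q = ⊤ := QuotientGroup.subgroup_eq_top_of_subsingleton _ hns
    have h2 : commutator Q = ⊥ := by
      rw [commutator_def, Subgroup.commutator_eq_bot_iff_le_centralizer]
      intro x _
      rw [Subgroup.mem_centralizer_iff]
      intro y _
      have : y ∈ Subgroup.center Q := by rw [h1]; exact Subgroup.mem_top y
      exact (Subgroup.mem_center_iff.1 this x).symm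
    rw [hperf.commutator_eq_top] at h2
    exact (top_ne_bot (α := Subgroup Q)) h2
  refine { exists_pair_ne := hnt'.exists_pair_ne, eq_bot_or_eq_top_of_normal := ?_ }
  intro M hM
  have hn : (M.comap (QuotientGroup.mk' (Subgroup.center Q))).Normal := hM.comap _
  rcases h _ hn with h1 | h1
  · right
    rw [← Subgroup.map_comap_eq_self_of_surjective hπs M, h1,
      Subgroup.map_top_of_surjective _ hπs]
  · left
    rw [← Subgroup.map_comap_eq_self_of_surjective hπs M, ← le_bot_iff,
      Subgroup.map_le_iff_le_comap, MonoidHom.comap_bot, QuotientGroup.ker_mk']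
    exact h1

/-- A nontrivial homomorphic image of a quasisimple group is quasisimple. -/
theorem quasisimple_of_surjective {Q' : Type v} [Group Q'] (hQ : IsQuasisimple Q)
    (f : Q →* Q') (hf : Function.Surjective f) (hnt : Nontrivial Q') : IsQuasisimple Q' := by
  have hperf : Group.IsPerfect Q := hQ.1
  apply isQuasisimple_of_forall_normal (Group.IsPerfect.ofSurjective hf) hnt
  intro M hM
  have hn : (M.comap f).Normal := hM.comap f
  rcases quasisimple_normal hQ (M.comap f) with h1 | h1
  · left
    rw [← Subgroup.map_comap_eq_self_of_surjective hf M, h1, Subgroup.map_top_of_surjective _ hf]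
  · right
    intro m hm
    obtain ⟨x, rfl⟩ := hf m
    have hx : x ∈ Subgroup.center Q := h1 hm
    rw [Subgroup.mem_center_iff]
    intro g
    obtain ⟨y, rfl⟩ := hf g
    rw [← map_mul, ← map_mul, Subgroup.mem_center_iff.1 hx y]

end quasisimple

section pcomp2

variable {X : Type u} [Group X] [Finite X]

/-- `O_{p'}(K) = O_{p'}(X) ∩ K` for a subnormal subgroup `K`. -/
theorem pPrimeCore_eq_subgroupOf_of_isSubnormal (p : ℕ) {K : Subgroup X} (hK : K.IsSubnormal) :
    pPrimeCore p K = (pPrimeCore p X).subgroupOf K := by
  apply le_antisymm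
  · intro x hx
    rw [Subgroup.mem_subgroupOf]
    exact Cfsg.Agent.Lib.H9.pPrimeCore_subnormal_le p hK ⟨x, hx, rfl⟩
  · apply Cfsg.Agent.Lib.H22.le_pPrimeCore p _ inferInstance
    have h1 : Nat.card ((pPrimeCore p X).subgroupOf K) =
        Nat.card (((pPrimeCore p X).subgroupOf K).map K.subtype) :=
      Nat.card_congr (((pPrimeCore p X).subgroupOf K).equivMapOfInjective K.subtype
        (Subgroup.subtype_injective K)).toEquiv
    rw [h1, Subgroup.subgroupOf_map_subtype]
    exact Nat.Coprime.coprime_dvd_left (Subgroup.card_dvd_of_le inf_le_left)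
      (Cfsg.Agent.Lib.H22.card_pPrimeCore_coprime p)

theorem map_pPrimeCore_of_isSubnormal (p : ℕ) {K : Subgroup X} (hK : K.IsSubnormal) :
    (pPrimeCore p K).map K.subtype = pPrimeCore p X ⊓ K := by
  rw [pPrimeCore_eq_subgroupOf_of_isSubnormal p hK, Subgroup.subgroupOf_map_subtype]

variable (p : ℕ) [Fact p.Prime]

theorem isPComponent_commutator_self {K : Subgroup X} (hK : IsPComponent p K) : ⁅K, K⁆ = K := by
  apply hK.2.2 _ _ (Subgroup.commutator_le_self K)
  · rw [Subgroup.map_commutator]
    exact component_commutator_self hK.2.1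
  · apply Subgroup.IsSubnormal.step _ _ (Subgroup.commutator_le_self K) hK.1
    apply Subgroup.normal_subgroupOf_of_le_normalizer
    exact (Subgroup.normalizer_commutator_ge_left K K)

theorem dvd_card_of_isPComponent {K : Subgroup X} (hK : IsPComponent p K) : p ∣ Nat.card K := by
  by_contra hnd
  have hc : (Nat.card K).Coprime p :=
    ((Nat.Prime.coprime_iff_not_dvd (Fact.out : p.Prime)).2 hnd).symm
  have h1 := Cfsg.Agent.Lib.H9.subnormal_coprime_le_pPrimeCore p hK.1 hc
  apply component_ne_bot hK.2.1
  rw [← le_bot_iff, Subgroup.map_le_iff_le_comap, MonoidHom.comap_bot, QuotientGroup.ker_mk']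
  exact h1

/-- An element whose image normalizes `K̄` normalizes the `p`-component `K`. -/
theorem mem_normalizer_of_isPComponent {K : Subgroup X} (hK : IsPComponent p K) {g : X}
    (hg : QuotientGroup.mk' (pPrimeCore p X) g ∈
      Subgroup.normalizer ((K.map (QuotientGroup.mk' (pPrimeCore p X)) : Subgroup _) : Set _)) :
    g ∈ Subgroup.normalizer (K : Set X) := by
  rw [eq_pCompOver_of_isPComponent p hK]
  apply normalizer_le_normalizer_pElementClosure
  exact Subgroup.le_normalizer_comap _ (Subgroup.mem_comap.2 hg)

/-- Distinct `p`-components have distinct images. -/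
theorem map_ne_of_isPComponent_ne {K L : Subgroup X} (hK : IsPComponent p K)
    (hL : IsPComponent p L) (hne : K ≠ L) :
    K.map (QuotientGroup.mk' (pPrimeCore p X)) ≠ L.map (QuotientGroup.mk' (pPrimeCore p X)) := by
  intro h
  apply hne
  rw [eq_pCompOver_of_isPComponent p hK, eq_pCompOver_of_isPComponent p hL, h]

/-- `p`-components normalize each other. -/
theorem isPComponent_le_normalizer {K L : Subgroup X} (hK : IsPComponent p K)
    (hL : IsPComponent p L) : L ≤ Subgroup.normalizer (K : Set X) := by
  intro l hl
  apply mem_normalizer_of_isPComponent p hK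
  have hlL : QuotientGroup.mk' (pPrimeCore p X) l ∈ L.map (QuotientGroup.mk' (pPrimeCore p X)) :=
    Subgroup.mem_map_of_mem _ hl
  by_cases h : L.map (QuotientGroup.mk' (pPrimeCore p X)) =
      K.map (QuotientGroup.mk' (pPrimeCore p X))
  · rw [h] at hlL
    exact Subgroup.le_normalizer hlL
  · have h1 := components_commute hL.2.1 hK.2.1 h
    rw [Subgroup.commutator_eq_bot_iff_le_centralizer] at h1
    exact Subgroup.centralizer_le_normalizer _ (h1 hlL)

theorem pLayer_le_normalizer {K : Subgroup X} (hK : IsPComponent p K) :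
    pLayer p X ≤ Subgroup.normalizer (K : Set X) :=
  sSup_le (fun _ hL => isPComponent_le_normalizer p hK hL)

theorem isPComponent_le_pLayer {K : Subgroup X} (hK : IsPComponent p K) : K ≤ pLayer p X :=
  le_sSup hK

theorem map_pLayer :
    (pLayer p X).map (QuotientGroup.mk' (pPrimeCore p X)) = layer (X ⧸ pPrimeCore p X) := by
  apply le_antisymm
  · rw [Subgroup.map_le_iff_le_comap]
    apply sSup_le
    intro K hK
    rw [← Subgroup.map_le_iff_le_comap]
    exact component_le_layer hK.2.1
  · apply sSup_le
    intro Kbar hK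
    rw [← map_pCompOver p hK]
    apply Subgroup.map_mono
    exact le_sSup (isPComponent_pCompOver p hK)

end pcomp2

end Cfsg.Agent.Lib.H7
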