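import Mathlib
import Cfsg.Prelude.Def_Local
import Cfsg.Agent.Lib.H7.CoprimeQuot
import Cfsg.Agent.Lib.H7.PComponent2

set_option autoImplicit false
open Cfsg

namespace Cfsg.Agent.Lib.H7

universe u
variable {Y : Type u} [Group Y] [Finite Y]

/-- If `O_{p'}(Y) = 1` and `E(Y) = 1` then `C_Y(O_p(Y)) ≤ O_p(Y)`. -/
theorem centralizer_pCore_le_of_layer_eq_bot (p : ℕ) [Fact p.Prime] (hO : pPrimeCore p Y = ⊥)
    (hE : layer Y = ⊥) : Subgroup.centralizer (pCore p Y : Set Y) ≤ pCore p Y := by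
  apply centralizer_pCore_le_of_generalizedFittingSubgroup_eq
  unfold generalizedFittingSubgroup
  rw [hE, bot_sup_eq, Cfsg.Agent.Lib.H1.fittingSubgroup_eq_iSup_pCore]
  apply le_antisymm
  · apply iSup_le
    intro q
    have : Fact (q : ℕ).Prime := ⟨q.2⟩
    by_cases hq : (q : ℕ) = p
    · rw [hq]
    · have h1 : pCore (q : ℕ) Y ≤ pPrimeCore p Y := by
        apply Cfsg.Agent.Lib.H22.le_pPrimeCore p _ (Cfsg.Agent.Lib.H1.pCore_normal _ Y)
        obtain ⟨k, hk⟩ := IsPGroup.iff_card.1 (Cfsg.Agent.Lib.H1.pCore_isPGroup (q : ℕ) Y)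
        rw [hk]
        apply Nat.Coprime.pow_left
        exact (Nat.coprime_primes q.2 (Fact.out : p.Prime)).2 hq
      rw [hO] at h1
      exact h1.trans bot_le
  · exact le_iSup (fun q : Nat.Primes => pCore (q : ℕ) Y) ⟨p, (Fact.out : p.Prime)⟩

/-- `O_{p'}(C_H(P)) ≤ O_{p'}(H)` when `H / O_{p'}(H)` has `C(O_p) ≤ O_p`: a `p'`-subgroup `W` of
`C_H(P)` normalized by `C_H(P)`, `P` a `p`-subgroup, lies in `O_{p'}(H)`. -/
theorem le_pPrimeCore_of_le_centralizer (p : ℕ) [Fact p.Prime]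
    (hF : Subgroup.centralizer (pCore p (Y ⧸ pPrimeCore p Y) : Set (Y ⧸ pPrimeCore p Y)) ≤
      pCore p (Y ⧸ pPrimeCore p Y))
    {P W : Subgroup Y} (hP : IsPGroup p P) (hW : (Nat.card W).Coprime p)
    (hWP : W ≤ Subgroup.centralizer (P : Set Y))
    (hn : Subgroup.centralizer (P : Set Y) ≤ Subgroup.normalizer (W : Set Y)) :
    W ≤ pPrimeCore p Y := by
  set O := pPrimeCore p Y with hO
  set π := QuotientGroup.mk' O with hπ
  set Q := pCore p (Y ⧸ O) with hQ
  have hQn : Q.Normal := Cfsg.Agent.Lib.H1.pCore_normal p _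
  have hQp : IsPGroup p Q := Cfsg.Agent.Lib.H1.pCore_isPGroup p _
  have hNQ : Subgroup.normalizer (Q : Set (Y ⧸ O)) = ⊤ := Subgroup.normalizer_eq_top _
  have hWc : (Nat.card (W.map π)).Coprime p := by
    have h1 : Nat.card (W.map π) ∣ Nat.card W := Subgroup.card_map_dvd W π
    exact Nat.Coprime.coprime_dvd_left h1 hW
  have hOc : (Nat.card O).Coprime p := Cfsg.Agent.Lib.H22.card_pPrimeCore_coprime p
  have hCP : Subgroup.centralizer ((P.map π : Subgroup (Y ⧸ O)) : Set (Y ⧸ O)) =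
      (Subgroup.centralizer (P : Set Y)).map π := (map_centralizer_of_coprime p hOc hP).symm
  have hWP' : W.map π ≤ Subgroup.centralizer ((P.map π : Subgroup (Y ⧸ O)) : Set (Y ⧸ O)) := by
    rw [hCP]; exact Subgroup.map_mono hWP
  have hAB : ⁅W.map π, P.map π⁆ = ⊥ := by
    rw [Subgroup.commutator_eq_bot_iff_le_centralizer]; exact hWP'
  set D := Q ⊓ Subgroup.centralizer ((P.map π : Subgroup (Y ⧸ O)) : Set (Y ⧸ O)) with hD
  have hDp : IsPGroup p D := hQp.to_le inf_le_left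
  have hAD : ⁅W.map π, D⁆ = ⊥ := by
    have h1 : ⁅W.map π, D⁆ ≤ W.map π := by
      rw [Subgroup.commutator_comm]
      apply Subgroup.le_normalizer_iff_commutator_le_right.1
      calc D ≤ Subgroup.centralizer ((P.map π : Subgroup (Y ⧸ O)) : Set (Y ⧸ O)) := inf_le_right
        _ = (Subgroup.centralizer (P : Set Y)).map π := hCP
        _ ≤ (Subgroup.normalizer (W : Set Y)).map π := Subgroup.map_mono hn
        _ ≤ Subgroup.normalizer ((W.map π : Subgroup (Y ⧸ O)) : Set (Y ⧸ O)) :=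
          Subgroup.le_normalizer_map π
    have h2 : ⁅W.map π, D⁆ ≤ D := by
      apply Subgroup.le_normalizer_iff_commutator_le_right.1
      intro w hw
      have hw1 : w ∈ Subgroup.normalizer (Q : Set (Y ⧸ O)) := by rw [hNQ]; exact Subgroup.mem_top w
      have hw2 : w ∈ Subgroup.normalizer ((Subgroup.centralizer
          ((P.map π : Subgroup (Y ⧸ O)) : Set (Y ⧸ O)) : Subgroup (Y ⧸ O)) : Set (Y ⧸ O)) :=
        Subgroup.le_normalizer (hWP' hw)
      rw [Subgroup.mem_normalizer_iff] at hw1 hw2 ⊢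
      intro x
      rw [hD, Subgroup.mem_inf, Subgroup.mem_inf, hw1 x, hw2 x]
    have hdisj : Disjoint (W.map π) D := by
      apply Subgroup.disjoint_of_coprime_natCard
      obtain ⟨k, hk⟩ := IsPGroup.iff_card.1 hDp
      rw [hk]
      exact Nat.Coprime.pow_right k hWc
    rw [← le_bot_iff, ← hdisj.eq_bot]
    exact le_inf h1 h2
  have hAQ := thompson_AxB' p hQp (hP.map π) hWc hAB (by rw [hNQ]; exact le_top)
    (by rw [hNQ]; exact le_top) hAD
  rw [Subgroup.commutator_eq_bot_iff_le_centralizer] at hAQ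
  have hWQ : W.map π ≤ Q := hAQ.trans hF
  have hdisj : Disjoint (W.map π) Q := by
    apply Subgroup.disjoint_of_coprime_natCard
    obtain ⟨k, hk⟩ := IsPGroup.iff_card.1 hQp
    rw [hk]
    exact Nat.Coprime.pow_right k hWc
  have hbot : W.map π = ⊥ := by
    rw [← le_bot_iff, ← hdisj.eq_bot]
    exact le_inf le_rfl hWQ
  rw [← le_bot_iff, Subgroup.map_le_iff_le_comap, MonoidHom.comap_bot, hπ,
    QuotientGroup.ker_mk'] at hbot
  exact hbot

/-- For a finite solvable group `H`, `C_{H̄}(O_p(H̄)) ≤ O_p(H̄)` where `H̄ = H / O_{p'}(H)`. -/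
theorem centralizer_pCore_quotient_le_of_isSolvable (p : ℕ) [Fact p.Prime]
    (hs : Group.IsSolvable Y) :
    Subgroup.centralizer (pCore p (Y ⧸ pPrimeCore p Y) : Set (Y ⧸ pPrimeCore p Y)) ≤
      pCore p (Y ⧸ pPrimeCore p Y) := by
  apply centralizer_pCore_le_of_layer_eq_bot p (Cfsg.Agent.Lib.H9.pPrimeCore_quotient_eq_bot p)
  rw [layer_eq_bot_iff]
  intro L hL
  apply component_not_solvable hL
  have : Group.IsSolvable (Y ⧸ pPrimeCore p Y) :=
    Group.isSolvable_of_surjective (QuotientGroup.mk'_surjective (pPrimeCore p Y))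
  exact Group.isSolvable_of_isSolvable_injective (Subgroup.subtype_injective L)

end Cfsg.Agent.Lib.H7
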