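import Mathlib
import Cfsg.Prelude.Def_Local
import Cfsg.Agent.Lib.H7.PConstrained

set_option autoImplicit false
open Cfsg

namespace Cfsg.Agent.Lib.H7

theorem cppc_le {G : Type*} [Group G] (p : ℕ) (x : G) :
    centralizerPPrimeCore p x ≤ Subgroup.centralizer ({x} : Set G) := by
  unfold centralizerPPrimeCore
  exact Subgroup.map_subtype_le _

theorem cppc_conj_mem {G : Type*} [Group G] (p : ℕ) (a : G) {x y : G}
    (hx : x ∈ Subgroup.centralizer ({a} : Set G)) (hy : y ∈ centralizerPPrimeCore p a) :
    x * y * x⁻¹ ∈ centralizerPPrimeCore p a := by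
  obtain ⟨z, hz, rfl⟩ := hy
  have hn : (pPrimeCore p ↥(Subgroup.centralizer ({a} : Set G))).Normal := inferInstance
  exact ⟨⟨x, hx⟩ * z * ⟨x, hx⟩⁻¹, hn.conj_mem z hz _, rfl⟩

theorem cppc_card_coprime {G : Type*} [Group G] [Finite G] (p : ℕ) (a : G) :
    (Nat.card (centralizerPPrimeCore p a)).Coprime p := by
  unfold centralizerPPrimeCore
  exact Nat.Coprime.coprime_dvd_left (Subgroup.card_map_dvd _ _)
    (Cfsg.Agent.Lib.H22.card_pPrimeCore_coprime p)

/-- Balance for solvable centralizers. -/
theorem cppc_inf_centralizer_le {G : Type*} [Group G] [Finite G] (p : ℕ) [Fact p.Prime] {a b : G}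
    (hao : orderOf a = p) (hab : a * b = b * a)
    (hsolv : Group.IsSolvable ↥(Subgroup.centralizer ({b} : Set G))) :
    centralizerPPrimeCore p a ⊓ Subgroup.centralizer ({b} : Set G) ≤ centralizerPPrimeCore p b := by
  set H : Subgroup G := Subgroup.centralizer ({b} : Set G) with hH
  have haH : a ∈ H := by
    rw [hH, Subgroup.mem_centralizer_singleton_iff]; exact hab
  set a' : H := ⟨a, haH⟩ with ha'
  set P : Subgroup H := Subgroup.zpowers a' with hP
  set W : Subgroup H := (centralizerPPrimeCore p a).subgroupOf H with hW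
  have hPp : IsPGroup p P := by
    apply IsPGroup.of_card (n := 1)
    rw [hP, Nat.card_zpowers, pow_one, ← hao, ← Subgroup.orderOf_coe]
  have hWc : (Nat.card W).Coprime p := by
    have h1 : Nat.card W = Nat.card (W.map H.subtype) :=
      Nat.card_congr (W.equivMapOfInjective H.subtype (Subgroup.subtype_injective H)).toEquiv
    rw [h1, hW, Subgroup.subgroupOf_map_subtype]
    exact Nat.Coprime.coprime_dvd_left (Subgroup.card_dvd_of_le inf_le_left)
      (cppc_card_coprime p a)
  have hCP : ∀ x : H, x ∈ Subgroup.centralizer (P : Set H) ↔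
      (x : G) ∈ Subgroup.centralizer ({a} : Set G) := by
    intro x
    rw [hP, Subgroup.zpowers_eq_closure, Subgroup.centralizer_closure,
      Subgroup.mem_centralizer_singleton_iff, Subgroup.mem_centralizer_singleton_iff]
    constructor
    · intro h; exact congrArg Subtype.val h
    · intro h; exact Subtype.ext h
  have hWP : W ≤ Subgroup.centralizer (P : Set H) := by
    intro w hw
    rw [hCP]
    exact cppc_le p a (Subgroup.mem_subgroupOf.1 hw)
  have hn : Subgroup.centralizer (P : Set H) ≤ Subgroup.normalizer (W : Set H) := by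
    intro x hx
    rw [hCP] at hx
    rw [Subgroup.mem_normalizer_iff]
    intro y
    rw [hW, Subgroup.mem_subgroupOf, Subgroup.mem_subgroupOf]
    constructor
    · intro hy
      exact cppc_conj_mem p a hx hy
    · intro hy
      have := cppc_conj_mem p a (Subgroup.inv_mem _ hx) hy
      simpa [mul_assoc] using this
  have hF := centralizer_pCore_quotient_le_of_isSolvable (Y := H) p hsolv
  have hle := le_pPrimeCore_of_le_centralizer p hF hPp hWc hWP hn
  rintro x ⟨hx1, hx2⟩
  exact ⟨⟨x, hx2⟩, hle (Subgroup.mem_subgroupOf.2 hx1), rfl⟩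

end Cfsg.Agent.Lib.H7
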