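import Mathlib
import Cfsg.Agent.Lib.H7.Components
import Cfsg.Agent.Lib.H7.FStar
import Cfsg.Agent.Lib.H6.PResidual
import Cfsg.Agent.Lib.H7.PComponent
import Cfsg.Agent.Lib.H7.PComponent2
import Cfsg.Agent.Lib.H7.Signalizer
import Cfsg.Agent.Lib.H9.PPrimeCore

set_option autoImplicit false

namespace Cfsg.Agent.Lib.H7

open Cfsg

universe u
variable {G : Type u} [Group G]

/-- `x ^ n * l * (x ^ n)⁻¹`. -/
def cjPow (x : G) (n : ℕ) (l : G) : G := x ^ n * l * (x ^ n)⁻¹

/-- The ordered product `∏_{i < n} x ^ i * l * x ^ (-i)`. -/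
def orbProd (x : G) : ℕ → G → G
  | 0, _ => 1
  | (n + 1), l => orbProd x n l * cjPow x n l

@[simp] theorem orbProd_zero (x l : G) : orbProd x 0 l = 1 := rfl

theorem orbProd_succ (x : G) (n : ℕ) (l : G) :
    orbProd x (n + 1) l = orbProd x n l * cjPow x n l := rfl

theorem cjPow_zero (x l : G) : cjPow x 0 l = l := by simp [cjPow]

theorem cjPow_succ (x : G) (n : ℕ) (l : G) : cjPow x (n + 1) l = x * cjPow x n l * x⁻¹ := by
  unfold cjPow
  rw [pow_succ']
  group

theorem cjPow_mul (x : G) (n : ℕ) (l l' : G) : cjPow x n (l * l') = cjPow x n l * cjPow x n l' := by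
  unfold cjPow; group

theorem cjPow_one (x : G) (n : ℕ) : cjPow x n 1 = 1 := by
  unfold cjPow; group

theorem cjPow_mem_map (x : G) (n : ℕ) {L : Subgroup G} {l : G} (hl : l ∈ L) :
    cjPow x n l ∈ L.map (MulAut.conj (x ^ n)).toMonoidHom :=
  ⟨l, hl, rfl⟩

theorem orbProd_succ' (x : G) (n : ℕ) (l : G) :
    orbProd x (n + 1) l = l * (x * orbProd x n l * x⁻¹) := by
  induction n with
  | zero => simp [orbProd_succ, cjPow_zero]
  | succ n ih =>
    calc orbProd x (n + 1 + 1) l = orbProd x (n + 1) l * cjPow x (n + 1) l := rfl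
      _ = l * (x * orbProd x n l * x⁻¹) * (x * cjPow x n l * x⁻¹) := by rw [ih, cjPow_succ]
      _ = l * (x * (orbProd x n l * cjPow x n l) * x⁻¹) := by group
      _ = l * (x * orbProd x (n + 1) l * x⁻¹) := rfl

theorem conj_cjPow {x c : G} (hc : Commute c x) (n : ℕ) (l : G) :
    c * cjPow x n l * c⁻¹ = cjPow x n (c * l * c⁻¹) := by
  have h : Commute c (x ^ n) := hc.pow_right n
  unfold cjPow
  calc c * (x ^ n * l * (x ^ n)⁻¹) * c⁻¹ = (c * x ^ n) * l * (c * x ^ n)⁻¹ := by group
    _ = (x ^ n * c) * l * (x ^ n * c)⁻¹ := by rw [h.eq]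
    _ = _ := by group

theorem conj_orbProd {x c : G} (hc : Commute c x) (n : ℕ) (l : G) :
    c * orbProd x n l * c⁻¹ = orbProd x n (c * l * c⁻¹) := by
  induction n with
  | zero => simp
  | succ n ih =>
    rw [orbProd_succ, orbProd_succ, ← ih, ← conj_cjPow hc]
    group

theorem orbProd_mem (x : G) (S : Subgroup G) (n : ℕ) (l : G)
    (h : ∀ i, i < n → cjPow x i l ∈ S) : orbProd x n l ∈ S := by
  induction n with
  | zero => simp
  | succ n ih =>
    rw [orbProd_succ]
    exact S.mul_mem (ih (fun i hi => h i (Nat.lt_succ_of_lt hi))) (h n (Nat.lt_succ_self n))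

theorem conj_orbProd_mem (x : G) (S : Subgroup G) (n : ℕ) (l : G)
    (h : ∀ i, 1 ≤ i → i ≤ n → cjPow x i l ∈ S) : x * orbProd x n l * x⁻¹ ∈ S := by
  induction n with
  | zero => simp
  | succ n ih =>
    rw [orbProd_succ]
    have e : x * (orbProd x n l * cjPow x n l) * x⁻¹ =
        (x * orbProd x n l * x⁻¹) * cjPow x (n + 1) l := by
      rw [cjPow_succ]; group
    rw [e]
    exact S.mul_mem (ih (fun i h1 h2 => h i h1 (Nat.le_succ_of_le h2)))
      (h (n + 1) (Nat.succ_le_succ (Nat.zero_le n)) le_rfl)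

theorem commute_orbProd (x : G) (n : ℕ) (g l : G) (h : ∀ i, i < n → Commute g (cjPow x i l)) :
    Commute g (orbProd x n l) := by
  induction n with
  | zero => simp
  | succ n ih =>
    rw [orbProd_succ]
    exact (ih (fun i hi => h i (Nat.lt_succ_of_lt hi))).mul_right (h n (Nat.lt_succ_self n))

theorem orbProd_mul (x : G) (n : ℕ) (l l' : G)
    (h : ∀ i j, i < n → j < n → i ≠ j → Commute (cjPow x i l') (cjPow x j l)) :
    orbProd x n (l * l') = orbProd x n l * orbProd x n l' := by
  induction n with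
  | zero => simp
  | succ n ih =>
    rw [orbProd_succ, orbProd_succ, orbProd_succ, cjPow_mul,
      ih (fun i j hi hj hij => h i j (Nat.lt_succ_of_lt hi) (Nat.lt_succ_of_lt hj) hij)]
    have hc : Commute (orbProd x n l') (cjPow x n l) := by
      apply Commute.symm
      apply commute_orbProd
      intro i hi
      exact (h i n (Nat.lt_succ_of_lt hi) (Nat.lt_succ_self n) (Nat.ne_of_lt hi)).symm
    calc orbProd x n l * orbProd x n l' * (cjPow x n l * cjPow x n l')
        = orbProd x n l * (orbProd x n l' * cjPow x n l) * cjPow x n l' := by group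
      _ = orbProd x n l * (cjPow x n l * orbProd x n l') * cjPow x n l' := by rw [hc.eq]
      _ = _ := by group

section Orbit

variable [Finite G] {p : ℕ} {x : G} {L : Subgroup G}

/-- If `x` has order dividing the prime `p` and moves `L`, then `x ^ k` moves `L` for `0 < k < p`. -/
theorem map_conj_pow_ne (hp : p.Prime) (hxp : x ^ p = 1)
    (hLx : L.map (MulAut.conj x).toMonoidHom ≠ L) {k : ℕ} (hk0 : 0 < k) (hkp : k < p) :
    L.map (MulAut.conj (x ^ k)).toMonoidHom ≠ L := by
  intro h
  apply hLx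
  have h1 : x ^ k ∈ Subgroup.normalizer (L : Set G) := by
    rw [Subgroup.mem_normalizer_iff_map_conj_eq]; exact h
  have h2 : x ^ p ∈ Subgroup.normalizer (L : Set G) := by rw [hxp]; exact Subgroup.one_mem _
  have hcop : Nat.Coprime k p :=
    Nat.Coprime.symm ((Nat.Prime.coprime_iff_not_dvd hp).2 (Nat.not_dvd_of_pos_of_lt hk0 hkp))
  have h3 := Cfsg.Agent.Lib.H6.mem_of_pow_mem_of_coprime hcop h1 h2
  exact Subgroup.mem_normalizer_iff_map_conj_eq.1 h3

theorem commute_cjPow_of_lt (hp : p.Prime) (hxp : x ^ p = 1) (hL : IsComponent L)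
    (hLx : L.map (MulAut.conj x).toMonoidHom ≠ L) {i j : ℕ} (hij : i < j) (hj : j < p)
    {l l' : G} (hl : l ∈ L) (hl' : l' ∈ L) : Commute (cjPow x i l') (cjPow x j l) := by
  have hk0 : 0 < j - i := Nat.sub_pos_of_lt hij
  have hkp : j - i < p := lt_of_le_of_lt (Nat.sub_le j i) hj
  have hne := map_conj_pow_ne hp hxp hLx hk0 hkp
  have hcomp : IsComponent (L.map (MulAut.conj (x ^ (j - i))).toMonoidHom) :=
    isComponent_map_conj _ hL
  have h1 : ⁅L, L.map (MulAut.conj (x ^ (j - i))).toMonoidHom⁆ = ⊥ :=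
    components_commute hL hcomp hne.symm
  have h2 : Commute l' (cjPow x (j - i) l) := by
    have := Subgroup.commutator_mem_commutator hl' (cjPow_mem_map x (j - i) hl)
    rw [h1, Subgroup.mem_bot, commutatorElement_eq_one_iff_mul_comm] at this
    exact this
  have e : cjPow x j l = x ^ i * cjPow x (j - i) l * (x ^ i)⁻¹ := by
    unfold cjPow
    have : x ^ j = x ^ i * x ^ (j - i) := by rw [← pow_add, Nat.add_sub_cancel' hij.le]
    rw [this]; group
  rw [e]
  unfold cjPow at h2 ⊢
  exact (Commute.conj_iff (x ^ i)).2 h2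

theorem commute_cjPow (hp : p.Prime) (hxp : x ^ p = 1) (hL : IsComponent L)
    (hLx : L.map (MulAut.conj x).toMonoidHom ≠ L) {i j : ℕ} (hi : i < p) (hj : j < p)
    (hij : i ≠ j) {l l' : G} (hl : l ∈ L) (hl' : l' ∈ L) :
    Commute (cjPow x i l') (cjPow x j l) := by
  rcases lt_or_gt_of_ne hij with h | h
  · exact commute_cjPow_of_lt hp hxp hL hLx h hj hl hl'
  · exact (commute_cjPow_of_lt hp hxp hL hLx h hi hl' hl).symm

/-- The diagonal homomorphism `l ↦ ∏_{i < p} x ^ i l x ^ (-i)`. -/
def orbHom (hp : p.Prime) (hxp : x ^ p = 1) (hL : IsComponent L)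
    (hLx : L.map (MulAut.conj x).toMonoidHom ≠ L) : ↥L →* G where
  toFun l := orbProd x p (l : G)
  map_one' := by
    have : ∀ n, orbProd x n (1 : G) = 1 := by
      intro n
      induction n with
      | zero => rfl
      | succ n ih => rw [orbProd_succ, ih, cjPow_one, one_mul]
    exact this p
  map_mul' a b := by
    rw [Subgroup.coe_mul]
    apply orbProd_mul
    intro i j hi hj hij
    exact commute_cjPow hp hxp hL hLx hi hj hij a.2 b.2

theorem orbHom_apply (hp : p.Prime) (hxp : x ^ p = 1) (hL : IsComponent L)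
    (hLx : L.map (MulAut.conj x).toMonoidHom ≠ L) (l : ↥L) :
    orbHom hp hxp hL hLx l = orbProd x p (l : G) := rfl

/-- `φ(l) = l * ψ(l)` with `ψ(l)` centralizing `L`. -/
theorem orbProd_eq_mul (hp : p.Prime) (hxp : x ^ p = 1) (hL : IsComponent L)
    (hLx : L.map (MulAut.conj x).toMonoidHom ≠ L) {l : G} (hl : l ∈ L) :
    ∃ c ∈ Subgroup.centralizer (L : Set G), orbProd x p l = l * c := by
  obtain ⟨m, rfl⟩ := Nat.exists_eq_succ_of_ne_zero hp.pos.ne'
  refine ⟨x * orbProd x m l * x⁻¹, ?_, orbProd_succ' x m l⟩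
  apply conj_orbProd_mem
  intro i h1 h2
  rw [Subgroup.mem_centralizer_iff]
  intro g hg
  have := commute_cjPow (i := 0) (j := i) hp hxp hL hLx (Nat.succ_pos m)
    (Nat.lt_succ_of_le h2) (by omega) hl hg
  rw [cjPow_zero] at this
  exact this.eq

theorem orbProd_mem_centralizer (hp : p.Prime) (hxp : x ^ p = 1) (hL : IsComponent L)
    (hLx : L.map (MulAut.conj x).toMonoidHom ≠ L) {l : G} (hl : l ∈ L) :
    orbProd x p l ∈ Subgroup.centralizer ({x} : Set G) := by
  obtain ⟨c, hc, hlc⟩ := orbProd_eq_mul hp hxp hL hLx hl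
  have hcl : c * l = l * c := (Subgroup.mem_centralizer_iff.1 hc l hl).symm
  have h1 : orbProd x (p + 1) l = orbProd x p l * l := by
    rw [orbProd_succ]
    unfold cjPow
    rw [hxp]; simp
  have h2 := orbProd_succ' x p l
  rw [h1, hlc] at h2
  -- l * c * l = l * (x * (l * c) * x⁻¹)
  rw [Subgroup.mem_centralizer_singleton_iff, hlc]
  have h3 : c * l = x * (l * c) * x⁻¹ := by
    have : l * (c * l) = l * (x * (l * c) * x⁻¹) := by rw [← mul_assoc]; exact h2
    exact mul_left_cancel this
  rw [← hcl] at h3 ⊢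
  calc c * l * x = x * (c * l) * x⁻¹ * x := by rw [← h3]
    _ = x * (c * l) := by group

theorem orbProd_mem_layer (hL : IsComponent L) {l : G} (hl : l ∈ L) (n : ℕ) :
    orbProd x n l ∈ layer G := by
  apply orbProd_mem
  intro i _
  exact component_le_layer (isComponent_map_conj (x ^ i) hL) (cjPow_mem_map x i hl)

theorem mem_centralizer_of_orbProd_eq_one (hp : p.Prime) (hxp : x ^ p = 1) (hL : IsComponent L)
    (hLx : L.map (MulAut.conj x).toMonoidHom ≠ L) {l : G} (hl : l ∈ L)
    (h : orbProd x p l = 1) : l ∈ Subgroup.centralizer (L : Set G) := by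
  obtain ⟨c, hc, hlc⟩ := orbProd_eq_mul hp hxp hL hLx hl
  rw [h] at hlc
  have : l = c⁻¹ := eq_inv_of_mul_eq_one_left hlc.symm
  rw [this]
  exact Subgroup.inv_mem _ hc

end Orbit

theorem layer_le_normalizer_component [Finite G] {L : Subgroup G} (hL : IsComponent L) :
    layer G ≤ Subgroup.normalizer (L : Set G) := by
  unfold layer
  apply sSup_le
  intro K hK
  by_cases h : K = L
  · rw [h]; exact Subgroup.le_normalizer
  · have h1 := components_commute hK hL h
    rw [Subgroup.commutator_eq_bot_iff_le_centralizer] at h1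
    exact h1.trans (Subgroup.centralizer_le_normalizer _)

/-- A component has order divisible by `p` when `O_{p'}(G) = 1`. -/
theorem not_coprime_card_component [Finite G] (p : ℕ) [Fact p.Prime]
    (hO : pPrimeCore p G = ⊥) {L : Subgroup G} (hL : IsComponent L) :
    ¬ (Nat.card L).Coprime p := by
  intro hc
  have h1 := Cfsg.Agent.Lib.H9.subnormal_coprime_le_pPrimeCore p hL.1 hc
  rw [hO] at h1
  exact component_ne_bot hL (le_bot_iff.1 h1)

section Diag

variable [Finite G] {p : ℕ} [Fact p.Prime] {x : G} {L : Subgroup G}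

/-- `L ≤ C_G(L)` is impossible for a component. -/
theorem component_not_le_centralizer (hL : IsComponent L) :
    ¬ L ≤ Subgroup.centralizer (L : Set G) := by
  intro h
  apply component_not_solvable hL
  have hc : ∀ a b : L, a * b = b * a := by
    intro a b
    apply Subtype.ext
    exact (Subgroup.mem_centralizer_iff.1 (h b.2) a a.2)
  exact Group.isSolvable_of_comm hc

theorem exists_orbProd_ne_one (hp : p.Prime) (hxp : x ^ p = 1) (hL : IsComponent L)
    (hLx : L.map (MulAut.conj x).toMonoidHom ≠ L) : ∃ l ∈ L, orbProd x p l ≠ 1 := by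
  by_contra hcon
  push Not at hcon
  apply component_not_le_centralizer hL
  intro l hl
  exact mem_centralizer_of_orbProd_eq_one hp hxp hL hLx hl (hcon l hl)

/-- The diagonal `D = φ(L)` commutes with `O_{p'}(C_G(x))`. -/
theorem commute_orbProd_cppc (hp : p.Prime) (hxp : x ^ p = 1) (hO : pPrimeCore p G = ⊥)
    (hL : IsComponent L) (hLx : L.map (MulAut.conj x).toMonoidHom ≠ L) {l w : G} (hl : l ∈ L)
    (hw : w ∈ centralizerPPrimeCore p x) : Commute (orbProd x p l) w := by
  -- the range of φ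
  have hDC : (orbHom hp hxp hL hLx).range ≤ Subgroup.centralizer ({x} : Set G) := by
    rintro _ ⟨l, rfl⟩
    exact orbProd_mem_centralizer hp hxp hL hLx l.2
  have hDE : (orbHom hp hxp hL hLx).range ≤ layer G := by
    rintro _ ⟨l, rfl⟩
    exact orbProd_mem_layer hL l.2 p
  -- subnormality
  have hEn : ((layer G).subgroupOf (Subgroup.centralizer ({x} : Set G))).Normal :=
    Subgroup.Normal.subgroupOf inferInstance _
  have hDE' : (orbHom hp hxp hL hLx).range.subgroupOf (Subgroup.centralizer ({x} : Set G)) ≤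
      (layer G).subgroupOf (Subgroup.centralizer ({x} : Set G)) := by
    intro d hd
    exact Subgroup.mem_subgroupOf.2 (hDE (Subgroup.mem_subgroupOf.1 hd))
  have hDn : (((orbHom hp hxp hL hLx).range.subgroupOf (Subgroup.centralizer ({x} : Set G))).subgroupOf
      ((layer G).subgroupOf (Subgroup.centralizer ({x} : Set G)))).Normal := by
    constructor
    rintro ⟨d, hdE⟩ hd ⟨e, heE⟩
    rw [Subgroup.mem_subgroupOf, Subgroup.mem_subgroupOf] at hd ⊢
    obtain ⟨l, hl⟩ := hd
    have hex : Commute (e : G) x := (Subgroup.mem_centralizer_singleton_iff.1 e.2)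
    have heL : (e : G) ∈ Subgroup.normalizer (L : Set G) :=
      layer_le_normalizer_component hL (Subgroup.mem_subgroupOf.1 heE)
    have hl' : (e : G) * l * (e : G)⁻¹ ∈ L := (Subgroup.mem_normalizer_iff.1 heL _).1 l.2
    refine ⟨⟨(e : G) * l * (e : G)⁻¹, hl'⟩, ?_⟩
    rw [orbHom_apply] at hl ⊢
    show orbProd x p ((e : G) * l * (e : G)⁻¹) = (e : G) * (d : G) * (e : G)⁻¹
    rw [← conj_orbProd hex, hl]
  have hDsub : ((orbHom hp hxp hL hLx).range.subgroupOf
      (Subgroup.centralizer ({x} : Set G))).IsSubnormal :=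
    Subgroup.IsSubnormal.step _ _ hDE' hEn.isSubnormal hDn
  -- quasisimple
  obtain ⟨l₀, hl₀, hl₀1⟩ := exists_orbProd_ne_one hp hxp hL hLx
  have hnt : Nontrivial ↥((orbHom hp hxp hL hLx).range.subgroupOf
      (Subgroup.centralizer ({x} : Set G))) := by
    refine ⟨⟨⟨⟨orbProd x p l₀, hDC ⟨⟨l₀, hl₀⟩, rfl⟩⟩, Subgroup.mem_subgroupOf.2 ⟨⟨l₀, hl₀⟩, rfl⟩⟩, 1, ?_⟩⟩
    intro h
    apply hl₀1
    exact congrArg Subtype.val (congrArg Subtype.val h)
  let f : ↥L →* ↥((orbHom hp hxp hL hLx).range.subgroupOf (Subgroup.centralizer ({x} : Set G))) :=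
    { toFun := fun l => ⟨⟨orbHom hp hxp hL hLx l, hDC ⟨l, rfl⟩⟩, Subgroup.mem_subgroupOf.2 ⟨l, rfl⟩⟩
      map_one' := by
        apply Subtype.ext; apply Subtype.ext
        simp
      map_mul' := fun a b => by
        apply Subtype.ext; apply Subtype.ext
        simp }
  have hf : Function.Surjective f := by
    rintro ⟨⟨d, hdC⟩, hd⟩
    obtain ⟨l, hl⟩ := Subgroup.mem_subgroupOf.1 hd
    refine ⟨l, ?_⟩
    apply Subtype.ext; apply Subtype.ext
    exact hl
  have hDq : IsQuasisimple ↥((orbHom hp hxp hL hLx).range.subgroupOf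
      (Subgroup.centralizer ({x} : Set G))) := quasisimple_of_surjective hL.2 f hf hnt
  have hDcomp : IsComponent ((orbHom hp hxp hL hLx).range.subgroupOf
      (Subgroup.centralizer ({x} : Set G))) := ⟨hDsub, hDq⟩
  have hOn : (pPrimeCore p ↥(Subgroup.centralizer ({x} : Set G))).Normal := inferInstance
  rcases component_le_or_commutator_eq_bot hDcomp hOn.isSubnormal with h | h
  · exfalso
    -- then `D` is a `p'`-group and so is `L`
    have hDc : (Nat.card ↥((orbHom hp hxp hL hLx).range.subgroupOf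
        (Subgroup.centralizer ({x} : Set G)))).Coprime p :=
      Nat.Coprime.coprime_dvd_left (Subgroup.card_dvd_of_le h)
        (Cfsg.Agent.Lib.H22.card_pPrimeCore_coprime p)
    have hker : f.ker = ⊤ := by
      apply quasisimple_eq_top_of_forall_pow_mem p hL.2 (not_coprime_card_component p hO hL)
      intro g
      refine ⟨_, hDc, ?_⟩
      rw [MonoidHom.mem_ker, map_pow]
      exact pow_card_eq_one'
    apply hl₀1
    have h1 : f ⟨l₀, hl₀⟩ = 1 := by
      rw [← MonoidHom.mem_ker, hker]; exact Subgroup.mem_top _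
    exact congrArg Subtype.val (congrArg Subtype.val h1)
  · obtain ⟨w', hw', rfl⟩ := hw
    have hmem : (⟨⟨orbProd x p l, hDC ⟨⟨l, hl⟩, rfl⟩⟩, Subgroup.mem_subgroupOf.2 ⟨⟨l, hl⟩, rfl⟩⟩ :
      ↥((orbHom hp hxp hL hLx).range.subgroupOf (Subgroup.centralizer ({x} : Set G)))).1 ∈
        (orbHom hp hxp hL hLx).range.subgroupOf (Subgroup.centralizer ({x} : Set G)) :=
      Subgroup.mem_subgroupOf.2 ⟨⟨l, hl⟩, rfl⟩
    have := Subgroup.commutator_mem_commutator hmem hw'
    rw [h, Subgroup.mem_bot, commutatorElement_eq_one_iff_mul_comm] at this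
    exact congrArg Subtype.val this

end Diag

end Cfsg.Agent.Lib.H7
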