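import Mathlib
import Cfsg.Agent.Lib.H7.CoprimeGen

set_option autoImplicit false

namespace Cfsg.Agent.Lib.H7

/-- Normalizers grow in `q`-groups: if `D < Q` then `N_Q(D) ≰ D`. -/
theorem exists_mem_normalizer_notMem {G : Type*} [Group G] [Finite G] (q : ℕ) [Fact q.Prime]
    {D Q : Subgroup G} (hQ : IsPGroup q Q) (hDQ : D ≤ Q) (hne : D ≠ Q) :
    ∃ x ∈ Subgroup.normalizer (D : Set G) ⊓ Q, x ∉ D := by
  have : Group.IsNilpotent Q := hQ.isNilpotent
  have hlt : D.subgroupOf Q < ⊤ := by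
    rw [lt_top_iff_ne_top]
    intro h
    rw [Subgroup.subgroupOf_eq_top] at h
    exact hne (le_antisymm hDQ h)
  have h1 := normalizerCondition_of_isNilpotent (G := Q) (D.subgroupOf Q) hlt
  obtain ⟨x, hxN, hxD⟩ := SetLike.exists_of_lt h1
  refine ⟨(x : G), ⟨Subgroup.mem_normalizer_iff.2 ?_, x.2⟩,
    fun h => hxD (Subgroup.mem_subgroupOf.2 h)⟩
  intro g
  constructor
  · intro hg
    have := (Subgroup.mem_normalizer_iff.1 hxN ⟨g, hDQ hg⟩).1 (Subgroup.mem_subgroupOf.2 hg)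
    exact Subgroup.mem_subgroupOf.1 this
  · intro hg
    have hgQ : g ∈ Q := by
      have : g = (x : G)⁻¹ * ((x : G) * g * (x : G)⁻¹) * (x : G) := by group
      rw [this]
      exact Q.mul_mem (Q.mul_mem (Q.inv_mem x.2) (hDQ hg)) x.2
    have := (Subgroup.mem_normalizer_iff.1 hxN ⟨g, hgQ⟩).2 (Subgroup.mem_subgroupOf.2 hg)
    exact Subgroup.mem_subgroupOf.1 this

/-- For an `A`-invariant `q`-group `N` (`q ≠ p`) not contained in `D`, some `B ≤ A` of index at most `p`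
has `C_N(B)` not contained in `D`. -/
theorem exists_hyp_centralizer_not_le {G : Type*} [Group G] [Finite G] (p : ℕ) [Fact p.Prime]
    {A N D : Subgroup G} (hAc : ∀ a ∈ A, ∀ b ∈ A, a * b = b * a) (hAp : ∀ a ∈ A, a ^ p = 1)
    (hNp : (Nat.card N).Coprime p) (hAN : A ≤ Subgroup.normalizer (N : Set G)) (hND : ¬ N ≤ D) :
    ∃ B : Subgroup G, B ≤ A ∧ B.relIndex A ≤ p ∧ ¬ N ⊓ Subgroup.centralizer (B : Set G) ≤ D := by
  by_contra hcon
  push Not at hcon
  apply hND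
  refine le_trans (le_hypGen p hAc hAp hNp hAN) ?_
  apply iSup_le
  rintro ⟨B, hBA, hBp⟩
  exact hcon B hBA hBp

end Cfsg.Agent.Lib.H7
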