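import Mathlib
import Cfsg.Prelude.Def_Balance
import Cfsg.Agent.Lib.H7.Signalizer2
import Cfsg.Agent.S1280
import Cfsg.Agent.S1282

/-! Signalizer functor families and the Transitivity Theorem. -/

set_option autoImplicit false
open scoped Pointwise

namespace Cfsg.Agent.Lib.H7

universe u
variable {G : Type u} [Group G]

section Family

variable {p : ℕ} {A : Subgroup G} {θ : G → Subgroup G}

theorem family_le_normalizer [Finite G] {U : Subgroup G}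
    (hU : U ∈ Cfsg.signalizerFamily p A θ) : A ≤ Subgroup.normalizer (U : Set G) := by
  intro b hb
  exact zpowers_le_normalizer_of_conj_mem (hU.2.2.1 b hb) (Subgroup.mem_zpowers b)

theorem conj_mem_of_le_normalizer {U : Subgroup G} (h : A ≤ Subgroup.normalizer (U : Set G)) :
    ∀ b ∈ A, ∀ u ∈ U, b * u * b⁻¹ ∈ U :=
  fun b hb u hu => (Subgroup.mem_normalizer_iff.1 (h hb) u).1 hu

theorem family_of_le [Finite G] {U V : Subgroup G} (hU : U ∈ Cfsg.signalizerFamily p A θ)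
    (hVU : V ≤ U) (hVA : A ≤ Subgroup.normalizer (V : Set G)) :
    V ∈ Cfsg.signalizerFamily p A θ := by
  obtain ⟨hs, hp, -, hθ⟩ := hU
  refine ⟨?_, ?_, conj_mem_of_le_normalizer hVA, ?_⟩
  · exact Group.isSolvable_of_isSolvable_injective (f := Subgroup.inclusion hVU)
      (Subgroup.inclusion_injective hVU)
  · exact fun h => hp (h.trans (Subgroup.card_dvd_of_le hVU))
  · intro a ha ha1
    exact (inf_le_inf_right _ hVU).trans (hθ a ha ha1)

theorem bot_mem_family [Finite G] (hp : 1 < p) : (⊥ : Subgroup G) ∈ Cfsg.signalizerFamily p A θ := by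
  refine ⟨inferInstance, ?_, ?_, ?_⟩
  · rw [Subgroup.card_bot]
    intro h
    have := Nat.le_of_dvd Nat.one_pos h
    omega
  · intro b _ u hu
    rw [Subgroup.mem_bot] at hu ⊢
    rw [hu]; group
  · intro a _ _
    exact inf_le_left.trans bot_le

theorem theta_mem_family (hθ : Cfsg.IsSolvableSignalizerFunctor p A θ) {a : G} (ha : a ∈ A)
    (ha1 : a ≠ 1) : θ a ∈ Cfsg.signalizerFamily p A θ :=
  ⟨hθ.2 a ha ha1, hθ.1.2.1 a ha ha1, hθ.1.2.2.1 a ha ha1, hθ.1.2.2.2 a ha ha1⟩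

theorem theta_inf_normalizer_mem_family [Finite G] (hθ : Cfsg.IsSolvableSignalizerFunctor p A θ)
    {a : G} (ha : a ∈ A) (ha1 : a ≠ 1) {D : Subgroup G}
    (hAD : A ≤ Subgroup.normalizer (D : Set G)) :
    θ a ⊓ Subgroup.normalizer (D : Set G) ∈ Cfsg.signalizerFamily p A θ :=
  family_of_le (theta_mem_family hθ ha ha1) inf_le_left
    (le_normalizer_inf (family_le_normalizer (theta_mem_family hθ ha ha1))
      (hAD.trans Subgroup.le_normalizer))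

theorem signalizerInf_le_theta {a : G} (ha : a ∈ A) (ha1 : a ≠ 1) :
    Cfsg.signalizerInf A θ ≤ θ a :=
  iInf_le (fun a : {a : G // a ∈ A ∧ a ≠ 1} => θ (a : G)) ⟨a, ha, ha1⟩

theorem signalizerInf_le_centralizer (hθ : Cfsg.IsSignalizerFunctor p A θ) :
    Cfsg.signalizerInf A θ ≤ Subgroup.centralizer (A : Set G) := by
  intro c hc
  rw [Subgroup.mem_centralizer_iff]
  intro a ha
  by_cases ha1 : a = 1
  · rw [ha1]; simp
  · have := hθ.1 a ha ha1 (signalizerInf_le_theta ha ha1 hc)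
    exact (Subgroup.mem_centralizer_singleton_iff.1 this).symm

theorem inf_centralizer_le_signalizerInf {U : Subgroup G}
    (hU : U ∈ Cfsg.signalizerFamily p A θ) :
    U ⊓ Subgroup.centralizer (A : Set G) ≤ Cfsg.signalizerInf A θ := by
  intro c hc
  unfold Cfsg.signalizerInf
  rw [Subgroup.mem_iInf]
  rintro ⟨a, ha, ha1⟩
  apply hU.2.2.2 a ha ha1
  exact ⟨hc.1, Subgroup.mem_centralizer_singleton_iff.2
    (Subgroup.mem_centralizer_iff.1 hc.2 a ha).symm⟩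

theorem family_map_conj [Finite G] (hθ : Cfsg.IsSignalizerFunctor p A θ) {U : Subgroup G}
    (hU : U ∈ Cfsg.signalizerFamily p A θ) {c : G} (hc : c ∈ Cfsg.signalizerInf A θ) :
    U.map (MulAut.conj c).toMonoidHom ∈ Cfsg.signalizerFamily p A θ := by
  obtain ⟨hs, hp, hA, hb⟩ := hU
  have hcA := signalizerInf_le_centralizer hθ hc
  refine ⟨?_, ?_, ?_, ?_⟩
  · exact Group.isSolvable_of_surjective
      (f := (U.equivMapOfInjective _ (MulAut.conj c).injective).toMonoidHom)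
      (U.equivMapOfInjective _ (MulAut.conj c).injective).surjective
  · rw [card_map_conj']; exact hp
  · rintro b hb' _ ⟨u, hu, rfl⟩
    refine ⟨b * u * b⁻¹, hA b hb' u hu, ?_⟩
    have hcb : b * c = c * b := Subgroup.mem_centralizer_iff.1 hcA b hb'
    simp only [MulEquiv.coe_toMonoidHom, MulAut.conj_apply]
    calc c * (b * u * b⁻¹) * c⁻¹ = (c * b) * u * (c * b)⁻¹ := by group
      _ = (b * c) * u * (b * c)⁻¹ := by rw [hcb]
      _ = b * (c * u * c⁻¹) * b⁻¹ := by group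
  · intro a ha ha1
    rintro x ⟨⟨u, hu, rfl⟩, hx⟩
    have hca : a * c = c * a := Subgroup.mem_centralizer_iff.1 hcA a ha
    have hcθ : c ∈ θ a := signalizerInf_le_theta ha ha1 hc
    have hu' : u ∈ U ⊓ Subgroup.centralizer {a} := by
      refine ⟨hu, Subgroup.mem_centralizer_singleton_iff.2 ?_⟩
      have h1 : (c * u * c⁻¹) * a = a * (c * u * c⁻¹) :=
        Subgroup.mem_centralizer_singleton_iff.1 hx
      have hw : Commute (c * u * c⁻¹) a := h1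
      have hc' : Commute c a := hca.symm
      have h2 : Commute (c⁻¹ * (c * u * c⁻¹) * c) a := (hc'.inv_left.mul_left hw).mul_left hc'
      have e1 : c⁻¹ * (c * u * c⁻¹) * c = u := by group
      rw [e1] at h2
      exact h2
    have := hb a ha ha1 hu'
    show c * u * c⁻¹ ∈ θ a
    exact (θ a).mul_mem ((θ a).mul_mem hcθ this) ((θ a).inv_mem hcθ)

theorem map_conj_map_conj (c d : G) (S : Subgroup G) :
    (S.map (MulAut.conj c).toMonoidHom).map (MulAut.conj d).toMonoidHom =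
      S.map (MulAut.conj (d * c)).toMonoidHom := by
  rw [Subgroup.map_map]
  congr 1
  ext x
  simp [mul_assoc]

theorem map_conj_one (S : Subgroup G) : S.map (MulAut.conj (1 : G)).toMonoidHom = S := by
  rw [map_one]
  exact Subgroup.map_id S

theorem le_normalizer_sup {X Y K : Subgroup G} (hX : K ≤ Subgroup.normalizer (X : Set G))
    (hY : K ≤ Subgroup.normalizer (Y : Set G)) :
    K ≤ Subgroup.normalizer ((X ⊔ Y : Subgroup G) : Set G) := by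
  intro g hg
  rw [Subgroup.mem_normalizer_iff_map_conj_eq]
  have h1 := Subgroup.mem_normalizer_iff_map_conj_eq.1 (hX hg)
  have h2 := Subgroup.mem_normalizer_iff_map_conj_eq.1 (hY hg)
  rw [Subgroup.map_sup, h1, h2]

/-- `Q` is maximal among the `q`-subgroups in the family of `θ`. -/
def IsMaxQ (p : ℕ) (A : Subgroup G) (θ : G → Subgroup G) (q : ℕ) (Q : Subgroup G) : Prop :=
  Q ∈ Cfsg.signalizerFamily p A θ ∧ IsPGroup q Q ∧
    ∀ R ∈ Cfsg.signalizerFamily p A θ, IsPGroup q R → Q ≤ R → R = Q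

theorem exists_isMaxQ_ge [Finite G] {q : ℕ} {S : Subgroup G}
    (hS : S ∈ Cfsg.signalizerFamily p A θ) (hSq : IsPGroup q S) :
    ∃ R, IsMaxQ p A θ q R ∧ S ≤ R := by
  obtain ⟨R, hSR, hR⟩ := Finite.exists_le_maximal
    (p := fun V : Subgroup G => V ∈ Cfsg.signalizerFamily p A θ ∧ IsPGroup q V) (a := S) ⟨hS, hSq⟩
  refine ⟨R, ⟨hR.1.1, hR.1.2, ?_⟩, hSR⟩
  intro R' hR'F hR'q hle
  exact le_antisymm (hR.2 ⟨hR'F, hR'q⟩ hle) hle

theorem isMaxQ_map_conj [Finite G] (hθ : Cfsg.IsSignalizerFunctor p A θ) {q : ℕ} {Q : Subgroup G}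
    (hQ : IsMaxQ p A θ q Q) {c : G} (hc : c ∈ Cfsg.signalizerInf A θ) :
    IsMaxQ p A θ q (Q.map (MulAut.conj c).toMonoidHom) := by
  obtain ⟨hF, hq, hmax⟩ := hQ
  refine ⟨family_map_conj hθ hF hc, hq.map _, ?_⟩
  intro R hRF hRq hle
  have hc' : c⁻¹ ∈ Cfsg.signalizerInf A θ := Subgroup.inv_mem _ hc
  have h1 : Q ≤ R.map (MulAut.conj c⁻¹).toMonoidHom := by
    have := Subgroup.map_mono (f := (MulAut.conj c⁻¹).toMonoidHom) hle
    rwa [map_conj_map_conj, inv_mul_cancel, map_conj_one] at this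
  have h2 := hmax _ (family_map_conj hθ hRF hc') (hRq.map _) h1
  rw [← h2, map_conj_map_conj, mul_inv_cancel, map_conj_one]

end Family

section Transitivity

variable {p : ℕ} [Fact p.Prime] {A : Subgroup G} {θ : G → Subgroup G}

theorem transitivity_aux [Finite G] (hA : Cfsg.IsElementaryAbelian p A)
    (hA3 : p ^ 3 ≤ Nat.card A) (hθ : Cfsg.IsSolvableSignalizerFunctor p A θ)
    (q : ℕ) [Fact q.Prime] :
    ∀ (n : ℕ) (Q₁ Q₂ : Subgroup G), IsMaxQ p A θ q Q₁ → IsMaxQ p A θ q Q₂ →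
      Nat.card G - Nat.card (Q₁ ⊓ Q₂ : Subgroup G) ≤ n →
      ∃ c ∈ Cfsg.signalizerInf A θ, Q₁.map (MulAut.conj c).toMonoidHom = Q₂ := by
  have hp : p.Prime := Fact.out
  have hq : q.Prime := Fact.out
  have hA2 : p ^ 2 ≤ Nat.card A :=
    le_trans (Nat.pow_le_pow_right hp.pos (by norm_num)) hA3
  have hAc : ∀ a ∈ A, ∀ b ∈ A, a * b = b * a := by
    intro a ha b hb
    have := hA.1
    have h := mul_comm' (⟨a, ha⟩ : A) ⟨b, hb⟩
    exact congrArg Subtype.val h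
  intro n
  induction n using Nat.strong_induction_on with
  | _ n ih =>
  intro Q₁ Q₂ hQ₁ hQ₂ hn
  obtain ⟨hQ₁F, hQ₁q, hQ₁max⟩ := id hQ₁
  obtain ⟨hQ₂F, hQ₂q, hQ₂max⟩ := id hQ₂
  by_cases h1 : Q₁ ⊓ Q₂ = Q₁
  · have hle : Q₁ ≤ Q₂ := inf_eq_left.1 h1
    have := hQ₁max Q₂ hQ₂F hQ₂q hle
    exact ⟨1, Subgroup.one_mem _, by rw [map_conj_one, this]⟩
  by_cases h2 : Q₁ ⊓ Q₂ = Q₂
  · have hle : Q₂ ≤ Q₁ := inf_eq_right.1 h2
    have := hQ₂max Q₁ hQ₁F hQ₁q hle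
    exact ⟨1, Subgroup.one_mem _, by rw [map_conj_one, this]⟩
  have hqp : q ≠ p := by
    rintro rfl
    apply h1
    obtain ⟨k, hk⟩ := IsPGroup.iff_card.1 hQ₁q
    have hnd := hQ₁F.2.1
    have hk0 : k = 0 := by
      by_contra hk0
      exact hnd (hk ▸ dvd_pow_self q hk0)
    rw [hk0, pow_zero] at hk
    have : Q₁ = ⊥ := Subgroup.card_eq_one.1 hk
    rw [this, bot_inf_eq]
  have hA₁ := family_le_normalizer hQ₁F
  have hA₂ := family_le_normalizer hQ₂F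
  obtain ⟨a, haA, ha1, hN₁, hN₂⟩ := Cfsg.Agent.S1282.result p A hA hA3 q hqp Q₁ Q₂ hQ₁q hQ₂q
    hA₁ hA₂ h1 h2
  have hAD : A ≤ Subgroup.normalizer ((Q₁ ⊓ Q₂ : Subgroup G) : Set G) :=
    le_normalizer_inf hA₁ hA₂
  have hDF : Q₁ ⊓ Q₂ ∈ Cfsg.signalizerFamily p A θ := family_of_le hQ₁F inf_le_left hAD
  have hMF := theta_inf_normalizer_mem_family hθ haA ha1 hAD
  have hHF := Cfsg.Agent.S1280.result p A hA hA2 θ hθ _ _ hDF hMF inf_le_right
  have hAH := family_le_normalizer hHF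
  have hHp : (Nat.card ((Q₁ ⊓ Q₂) ⊔ (θ a ⊓ Subgroup.normalizer ((Q₁ ⊓ Q₂ : Subgroup G) : Set G)) :
      Subgroup G)).Coprime p := ((Nat.Prime.coprime_iff_not_dvd hp).2 hHF.2.1).symm
  have hact := coprimeAction_of_le p hAc hA.2 hHp hAH (le_refl A)
  have hAa : A ≤ Subgroup.normalizer ((Subgroup.centralizer {a} : Subgroup G) : Set G) := by
    refine le_trans ?_ Subgroup.le_normalizer
    intro g hg
    rw [Subgroup.mem_centralizer_singleton_iff]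
    exact hAc g hg a haA
  -- the step for each `Q_i`
  have step : ∀ Q : Subgroup G, Q ∈ Cfsg.signalizerFamily p A θ → IsPGroup q Q → Q₁ ⊓ Q₂ ≤ Q →
      ¬ (Subgroup.normalizer ((Q₁ ⊓ Q₂ : Subgroup G) : Set G) ⊓ Q ⊓ Subgroup.centralizer {a} ≤
        Q₁ ⊓ Q₂) →
      ∃ S, Cfsg.Agent.Lib.H1.IsSylowOf q ((Q₁ ⊓ Q₂) ⊔
        (θ a ⊓ Subgroup.normalizer ((Q₁ ⊓ Q₂ : Subgroup G) : Set G))) S ∧
        A ≤ Subgroup.normalizer (S : Set G) ∧
        Nat.card (Q₁ ⊓ Q₂ : Subgroup G) < Nat.card (Q ⊓ S : Subgroup G) := by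
    intro Q hQF hQq hDQ hN
    have hAQ := family_le_normalizer hQF
    have hUQ : (Q₁ ⊓ Q₂) ⊔ (Subgroup.normalizer ((Q₁ ⊓ Q₂ : Subgroup G) : Set G) ⊓ Q ⊓
        Subgroup.centralizer {a}) ≤ Q := sup_le hDQ (inf_le_left.trans inf_le_right)
    have hUH : (Q₁ ⊓ Q₂) ⊔ (Subgroup.normalizer ((Q₁ ⊓ Q₂ : Subgroup G) : Set G) ⊓ Q ⊓
        Subgroup.centralizer {a}) ≤ (Q₁ ⊓ Q₂) ⊔
        (θ a ⊓ Subgroup.normalizer ((Q₁ ⊓ Q₂ : Subgroup G) : Set G)) := by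
      apply sup_le_sup_left
      intro x hx
      exact ⟨hQF.2.2.2 a haA ha1 ⟨hx.1.2, hx.2⟩, hx.1.1⟩
    have hUA : A ≤ Subgroup.normalizer (((Q₁ ⊓ Q₂) ⊔ (Subgroup.normalizer
        ((Q₁ ⊓ Q₂ : Subgroup G) : Set G) ⊓ Q ⊓ Subgroup.centralizer {a}) : Subgroup G) : Set G) :=
      le_normalizer_sup hAD (le_normalizer_inf (le_normalizer_inf
        (hAD.trans Subgroup.le_normalizer) hAQ) hAa)
    obtain ⟨S, hS, hUS, hAS⟩ := Cfsg.Agent.Lib.H1.coprime_invariant_psubgroup_le_sylow hact hUH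
      (hQq.to_le hUQ) hUA
    refine ⟨S, hS, hAS, ?_⟩
    obtain ⟨x, hx, hxD⟩ := SetLike.not_le_iff_exists.1 hN
    have h3 : Nat.card (Q₁ ⊓ Q₂ : Subgroup G) < Nat.card ((Q₁ ⊓ Q₂) ⊔ (Subgroup.normalizer
        ((Q₁ ⊓ Q₂ : Subgroup G) : Set G) ⊓ Q ⊓ Subgroup.centralizer {a}) : Subgroup G) :=
      card_lt_card_of_le_of_mem_of_notMem le_sup_left (Subgroup.mem_sup_right hx) hxD
    exact lt_of_lt_of_le h3 (Subgroup.card_le_of_le (le_inf hUQ hUS))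
  obtain ⟨S₁, hS₁, hAS₁, hlt₁⟩ := step Q₁ hQ₁F hQ₁q inf_le_left hN₁
  obtain ⟨S₂, hS₂, hAS₂, hlt₂⟩ := step Q₂ hQ₂F hQ₂q inf_le_right hN₂
  obtain ⟨c, hc, hcS⟩ := Cfsg.Agent.Lib.H1.coprime_invariant_sylow_conj hact hS₁ hS₂ hAS₁ hAS₂
  have hcT : c ∈ Cfsg.signalizerInf A θ := inf_centralizer_le_signalizerInf hHF hc
  have hcS' : S₁.map (MulAut.conj c).toMonoidHom = S₂ := hcS
  obtain ⟨R₁, hR₁, hSR₁⟩ := exists_isMaxQ_ge (family_of_le hHF hS₁.le hAS₁) hS₁.isPGroup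
  obtain ⟨R₂, hR₂, hSR₂⟩ := exists_isMaxQ_ge (family_of_le hHF hS₂.le hAS₂) hS₂.isPGroup
  have hG : ∀ K : Subgroup G, Nat.card K ≤ Nat.card G := fun K => Subgroup.card_le_card_group K
  -- Q₁ ~ R₁
  have hm₁ : Nat.card G - Nat.card (Q₁ ⊓ R₁ : Subgroup G) < n := by
    have h3 : Nat.card (Q₁ ⊓ S₁ : Subgroup G) ≤ Nat.card (Q₁ ⊓ R₁ : Subgroup G) :=
      Subgroup.card_le_of_le (inf_le_inf_left _ hSR₁)
    have := hG (Q₁ ⊓ R₁)
    omega
  obtain ⟨c₁, hc₁, hc₁Q⟩ := ih _ hm₁ Q₁ R₁ hQ₁ hR₁ le_rfl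
  have hm₂ : Nat.card G - Nat.card (Q₂ ⊓ R₂ : Subgroup G) < n := by
    have h3 : Nat.card (Q₂ ⊓ S₂ : Subgroup G) ≤ Nat.card (Q₂ ⊓ R₂ : Subgroup G) :=
      Subgroup.card_le_of_le (inf_le_inf_left _ hSR₂)
    have := hG (Q₂ ⊓ R₂)
    omega
  obtain ⟨c₂, hc₂, hc₂Q⟩ := ih _ hm₂ Q₂ R₂ hQ₂ hR₂ le_rfl
  have hR₁c := isMaxQ_map_conj hθ.1 hR₁ hcT
  have hm₃ : Nat.card G - Nat.card (R₁.map (MulAut.conj c).toMonoidHom ⊓ R₂ : Subgroup G) < n := by
    have h3 : S₂ ≤ R₁.map (MulAut.conj c).toMonoidHom ⊓ R₂ := by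
      refine le_inf ?_ hSR₂
      rw [← hcS']
      exact Subgroup.map_mono hSR₁
    have h4 := Subgroup.card_le_of_le h3
    have h5 : Nat.card (Q₂ ⊓ S₂ : Subgroup G) ≤ Nat.card S₂ := Subgroup.card_le_of_le inf_le_right
    have := hG (R₁.map (MulAut.conj c).toMonoidHom ⊓ R₂)
    omega
  obtain ⟨c₃, hc₃, hc₃Q⟩ := ih _ hm₃ _ R₂ hR₁c hR₂ le_rfl
  refine ⟨c₂⁻¹ * (c₃ * (c * c₁)), ?_, ?_⟩
  · exact Subgroup.mul_mem _ (Subgroup.inv_mem _ hc₂) (Subgroup.mul_mem _ hc₃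
      (Subgroup.mul_mem _ hcT hc₁))
  · rw [← map_conj_map_conj, ← map_conj_map_conj, ← map_conj_map_conj, hc₁Q, hc₃Q, ← hc₂Q,
      map_conj_map_conj, inv_mul_cancel, map_conj_one]

end Transitivity

end Cfsg.Agent.Lib.H7
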