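import Mathlib
import Cfsg.Agent.Lib.H7.OrbitDiag
import Cfsg.Agent.Lib.H7.Signalizer3

set_option autoImplicit false

namespace Cfsg.Agent.Lib.H7

open Cfsg
open scoped commutatorElement

universe u
variable {G : Type u} [Group G]

section Diag2

variable [Finite G] {p : ℕ} [Fact p.Prime] {x : G} {L : Subgroup G}

theorem map_conj_eq_of_mem_normalizer {g : G} {L : Subgroup G}
    (h : g ∈ Subgroup.normalizer (L : Set G)) : L.map (MulAut.conj g).toMonoidHom = L :=
  Subgroup.mem_normalizer_iff_map_conj_eq.1 h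

/-- `O_{p'}(C_G(x))` normalizes a component moved by `x`. -/
theorem map_conj_eq_of_mem_cppc (hp : p.Prime) (hxp : x ^ p = 1) (hO : pPrimeCore p G = ⊥)
    (hL : IsComponent L) (hLx : L.map (MulAut.conj x).toMonoidHom ≠ L) {w : G}
    (hw : w ∈ centralizerPPrimeCore p x) : L.map (MulAut.conj w).toMonoidHom = L := by
  have hwx : Commute w x := Subgroup.mem_centralizer_singleton_iff.1 (cppc_le p x hw)
  have hwD : ∀ l ∈ L, Commute (orbProd x p l) w :=
    fun l hl => commute_orbProd_cppc hp hxp hO hL hLx hl hw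
  have hmcop : (orderOf w).Coprime p :=
    Nat.Coprime.coprime_dvd_left (Subgroup.orderOf_dvd_natCard _ hw) (cppc_card_coprime p x)
  by_contra hne
  by_cases hA : ∃ j : ℕ, L.map (MulAut.conj w).toMonoidHom = L.map (MulAut.conj (x ^ j)).toMonoidHom
  · obtain ⟨j, hj⟩ := hA
    have hind : ∀ n : ℕ, L.map (MulAut.conj (w ^ n)).toMonoidHom =
        L.map (MulAut.conj (x ^ (j * n))).toMonoidHom := by
      intro n
      induction n with
      | zero => simp
      | succ n ih =>
        have hc : w * x ^ (j * n) = x ^ (j * n) * w := (hwx.pow_right _).eq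
        calc L.map (MulAut.conj (w ^ (n + 1))).toMonoidHom
            = (L.map (MulAut.conj (w ^ n)).toMonoidHom).map (MulAut.conj w).toMonoidHom := by
              rw [map_conj_map_conj, pow_succ']
          _ = (L.map (MulAut.conj (x ^ (j * n))).toMonoidHom).map (MulAut.conj w).toMonoidHom := by
              rw [ih]
          _ = L.map (MulAut.conj (x ^ (j * n) * w)).toMonoidHom := by
              rw [map_conj_map_conj, hc]
          _ = (L.map (MulAut.conj w).toMonoidHom).map (MulAut.conj (x ^ (j * n))).toMonoidHom := by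
              rw [map_conj_map_conj]
          _ = (L.map (MulAut.conj (x ^ j)).toMonoidHom).map
                (MulAut.conj (x ^ (j * n))).toMonoidHom := by rw [hj]
          _ = L.map (MulAut.conj (x ^ (j * (n + 1)))).toMonoidHom := by
              rw [map_conj_map_conj, ← pow_add, mul_add, mul_one]
    have h1 := hind (orderOf w)
    rw [pow_orderOf_eq_one, map_conj_one] at h1
    have h2 : (x ^ j) ^ orderOf w ∈ Subgroup.normalizer (L : Set G) := by
      rw [Subgroup.mem_normalizer_iff_map_conj_eq, ← pow_mul]; exact h1.symm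
    have h3 : (x ^ j) ^ p ∈ Subgroup.normalizer (L : Set G) := by
      rw [← pow_mul, mul_comm, pow_mul, hxp, one_pow]; exact Subgroup.one_mem _
    have h4 := Cfsg.Agent.Lib.H6.mem_of_pow_mem_of_coprime hmcop h2 h3
    apply hne
    rw [hj]
    exact map_conj_eq_of_mem_normalizer h4
  · push Not at hA
    -- all conjugates `(L^{x^i})^w` differ from all `L^{x^k}`
    have hcomm : ∀ l ∈ L, ∀ l' ∈ L, Commute (orbProd x p l) (orbProd x p l') := by
      intro l hl l' hl'
      have e : orbProd x p l = orbProd x p (w * l * w⁻¹) := by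
        rw [← conj_orbProd hwx]
        have := (hwD l hl).eq
        calc orbProd x p l = (orbProd x p l * w) * w⁻¹ := by group
          _ = (w * orbProd x p l) * w⁻¹ := by rw [this]
      rw [e]
      apply commute_orbProd
      intro k _
      apply Commute.symm
      apply commute_orbProd
      intro i _
      -- components
      have hK₁ : IsComponent ((L.map (MulAut.conj w).toMonoidHom).map
          (MulAut.conj (x ^ i)).toMonoidHom) :=
        isComponent_map_conj _ (isComponent_map_conj _ hL)
      have hK₂ : IsComponent (L.map (MulAut.conj (x ^ k)).toMonoidHom) :=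
        isComponent_map_conj _ hL
      have hne' : (L.map (MulAut.conj w).toMonoidHom).map (MulAut.conj (x ^ i)).toMonoidHom ≠
          L.map (MulAut.conj (x ^ k)).toMonoidHom := by
        intro heq
        apply hA ((p - 1) * i + k)
        have h5 := congrArg (fun S => S.map (MulAut.conj (x ^ ((p - 1) * i))).toMonoidHom) heq
        have h6 : x ^ ((p - 1) * i) * x ^ i = 1 := by
          rw [← pow_add, ← Nat.succ_mul, Nat.succ_eq_add_one, Nat.sub_add_cancel hp.one_le,
            pow_mul, hxp, one_pow]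
        have h7 : ((L.map (MulAut.conj w).toMonoidHom).map (MulAut.conj (x ^ i)).toMonoidHom).map
            (MulAut.conj (x ^ ((p - 1) * i))).toMonoidHom = L.map (MulAut.conj w).toMonoidHom := by
          rw [map_conj_map_conj (x ^ i), h6, map_conj_one]
        have h8 : (L.map (MulAut.conj (x ^ k)).toMonoidHom).map
            (MulAut.conj (x ^ ((p - 1) * i))).toMonoidHom =
            L.map (MulAut.conj (x ^ ((p - 1) * i + k))).toMonoidHom := by
          rw [map_conj_map_conj, ← pow_add]
        rw [← h7, ← h8]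
        exact h5
      have hbot := components_commute hK₁ hK₂ hne'
      have hm₁ : cjPow x i (w * l * w⁻¹) ∈ (L.map (MulAut.conj w).toMonoidHom).map
          (MulAut.conj (x ^ i)).toMonoidHom :=
        cjPow_mem_map x i ⟨l, hl, by simp⟩
      have hm₂ : cjPow x k l' ∈ L.map (MulAut.conj (x ^ k)).toMonoidHom := cjPow_mem_map x k hl'
      have := Subgroup.commutator_mem_commutator hm₁ hm₂
      rw [hbot, Subgroup.mem_bot, commutatorElement_eq_one_iff_mul_comm] at this
      exact (show Commute _ _ from this).symm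
    apply component_not_le_centralizer hL
    have hle : ⁅L, L⁆ ≤ Subgroup.centralizer (L : Set G) := by
      rw [Subgroup.commutator_le]
      intro l hl l' hl'
      apply mem_centralizer_of_orbProd_eq_one hp hxp hL hLx
        (L.mul_mem (L.mul_mem (L.mul_mem hl hl') (L.inv_mem hl)) (L.inv_mem hl'))
      have h7 : orbProd x p (l * l' * l⁻¹ * l'⁻¹) =
          orbHom hp hxp hL hLx ⁅(⟨l, hl⟩ : L), ⟨l', hl'⟩⁆ := rfl
      rw [h7, map_commutatorElement, commutatorElement_eq_one_iff_mul_comm]
      exact (hcomm l hl l' hl').eq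
    rw [component_commutator_self hL] at hle
    exact hle

/-- `O_{p'}(C_G(x))` centralizes a component moved by `x`. -/
theorem commutator_cppc_eq_bot_of_moved (hp : p.Prime) (hxp : x ^ p = 1)
    (hO : pPrimeCore p G = ⊥) (hL : IsComponent L)
    (hLx : L.map (MulAut.conj x).toMonoidHom ≠ L) : ⁅L, centralizerPPrimeCore p x⁆ = ⊥ := by
  have key : ⁅L, centralizerPPrimeCore p x⁆ ≤ Subgroup.centralizer (L : Set G) := by
    rw [Subgroup.commutator_le]
    intro l hl w hw
    have hwL := map_conj_eq_of_mem_cppc hp hxp hO hL hLx hw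
    have hwN : w ∈ Subgroup.normalizer (L : Set G) := by
      rw [Subgroup.mem_normalizer_iff_map_conj_eq]; exact hwL
    have hwNC := normalizer_le_normalizer_centralizer L hwN
    obtain ⟨c, hc, hlc⟩ := orbProd_eq_mul hp hxp hL hLx hl
    have hD := (commute_orbProd_cppc hp hxp hO hL hLx hl hw).eq
    rw [hlc] at hD
    -- l c w = w l c  ⇒  l w l⁻¹ w⁻¹ = ...
    have hc' : w * c * w⁻¹ ∈ Subgroup.centralizer (L : Set G) :=
      (Subgroup.mem_normalizer_iff.1 hwNC c).1 hc
    have hwl : w * l * w⁻¹ ∈ L := (Subgroup.mem_normalizer_iff.1 hwN l).1 hl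
    have hcomm1 : Commute (w * l * w⁻¹) c⁻¹ :=
      (Subgroup.mem_centralizer_iff.1 (Subgroup.inv_mem _ hc) _ hwl)
    have e : ⁅l, w⁆ = (w * c * w⁻¹) * c⁻¹ := by
      rw [commutatorElement_def]
      have h1 : w * (l * c) * w⁻¹ = l * c := by rw [← hD]; group
      have h2 : (w * l * w⁻¹) * (w * c * w⁻¹) = l * c := by rw [← h1]; group
      have h3 : l = (w * l * w⁻¹) * (w * c * w⁻¹) * c⁻¹ := by rw [h2]; group
      have h4 : l * w * l⁻¹ * w⁻¹ = l * (w * l * w⁻¹)⁻¹ := by group
      rw [h4]
      have hcomm2 : Commute (w * l * w⁻¹) (w * c * w⁻¹) :=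
        (Subgroup.mem_centralizer_iff.1 hc' _ hwl)
      calc l * (w * l * w⁻¹)⁻¹ = (w * l * w⁻¹) * (w * c * w⁻¹) * c⁻¹ * (w * l * w⁻¹)⁻¹ := by
            rw [← h3]
        _ = (w * c * w⁻¹) * (w * l * w⁻¹) * c⁻¹ * (w * l * w⁻¹)⁻¹ := by rw [hcomm2.eq]
        _ = (w * c * w⁻¹) * ((w * l * w⁻¹) * c⁻¹) * (w * l * w⁻¹)⁻¹ := by group
        _ = (w * c * w⁻¹) * (c⁻¹ * (w * l * w⁻¹)) * (w * l * w⁻¹)⁻¹ := by rw [hcomm1.eq]
        _ = (w * c * w⁻¹) * c⁻¹ := by group
    rw [e]
    exact Subgroup.mul_mem _ hc' (Subgroup.inv_mem _ hc)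
  -- three subgroups
  have h1 : ⁅⁅L, centralizerPPrimeCore p x⁆, L⁆ = ⊥ := by
    rw [Subgroup.commutator_eq_bot_iff_le_centralizer]; exact key
  have h2 : ⁅⁅centralizerPPrimeCore p x, L⁆, L⁆ = ⊥ := by
    rw [Subgroup.commutator_comm (centralizerPPrimeCore p x) L]; exact h1
  have h3 := Subgroup.commutator_commutator_eq_bot_of_rotate h1 h2
  rwa [component_commutator_self hL] at h3

end Diag2

end Cfsg.Agent.Lib.H7
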