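import Mathlib
import Cfsg.Prelude.Def_Local
import Cfsg.Agent.Lib.H7.OrbitDiag2
import Cfsg.Agent.Lib.H7.Coprime
import Cfsg.Agent.Lib.H3.SubnormalP
import Cfsg.Agent.Lib.H9.PPrimeCore
import Cfsg.Agent.Lib.H6.PResidual

/-!
# The `p'`-core of `C_G(x)` normalizes every component (helper7 library)

Let `G` be a finite group with `O_{p'}(G) = 1`, `x` an element with `x ^ p = 1` and
`D = O_{p'}(C_G(x))`.  Then `D` normalizes every component of `G`
(`cppc_le_normalizer_component`).  Also: `D` centralizes `O_p(G)`, and the centre of a component lies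
in `O_p(G)`.
-/

set_option autoImplicit false

namespace Cfsg.Agent.Lib.H7

open Cfsg
open scoped commutatorElement

universe u
variable {G : Type u} [Group G]

/-- Two subgroups of coprime orders normalizing each other commute. -/
theorem commutator_eq_bot_of_coprime_of_le_normalizer [Finite G] {A B : Subgroup G}
    (hAB : A ≤ Subgroup.normalizer (B : Set G)) (hBA : B ≤ Subgroup.normalizer (A : Set G))
    (hco : (Nat.card A).Coprime (Nat.card B)) : ⁅A, B⁆ = ⊥ := by
  rw [eq_bot_iff, ← (Subgroup.disjoint_of_coprime_natCard hco).eq_bot]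
  apply le_inf
  · exact Subgroup.le_normalizer_iff_commutator_le_left.1 hBA
  · exact Subgroup.le_normalizer_iff_commutator_le_right.1 hAB

section

variable [Finite G] {p : ℕ} [Fact p.Prime]

/-- `O_{p'}(C_G(x))` centralizes `O_p(G)` when `x` is a `p`-element of order dividing `p`. -/
theorem cppc_le_centralizer_pCore {x : G} (hxp : x ^ p = 1) :
    centralizerPPrimeCore p x ≤ Subgroup.centralizer (pCore p G : Set G) := by
  have hp : p.Prime := Fact.out
  set D := centralizerPPrimeCore p x with hD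
  set Q := pCore p G with hQ
  have hQn : Q.Normal := Cfsg.Agent.Lib.H1.pCore_normal p G
  have hQp : IsPGroup p Q := Cfsg.Agent.Lib.H1.pCore_isPGroup p G
  have hNQ : Subgroup.normalizer (Q : Set G) = ⊤ := Subgroup.normalizer_eq_top _
  have hBp : IsPGroup p (Subgroup.zpowers x) := by
    by_cases h1 : x = 1
    · apply IsPGroup.of_card (n := 0)
      rw [Nat.card_zpowers, h1, orderOf_one, pow_zero]
    · apply IsPGroup.of_card (n := 1)
      rw [Nat.card_zpowers, pow_one]
      exact orderOf_eq_prime hxp h1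
  have hDx : D ≤ Subgroup.centralizer (Subgroup.zpowers x : Set G) := by
    intro d hd
    rw [Subgroup.zpowers_eq_closure, Subgroup.centralizer_closure]
    exact cppc_le p x hd
  have hAB : ⁅D, Subgroup.zpowers x⁆ = ⊥ := by
    rw [Subgroup.commutator_eq_bot_iff_le_centralizer]
    exact hDx
  have hcen : Subgroup.centralizer (Subgroup.zpowers x : Set G) =
      Subgroup.centralizer ({x} : Set G) := by
    rw [Subgroup.zpowers_eq_closure, Subgroup.centralizer_closure]
  -- `R = Q ∩ C(x)` and `D` normalize each other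
  have hC : ⁅D, Q ⊓ Subgroup.centralizer (Subgroup.zpowers x : Set G)⁆ = ⊥ := by
    apply commutator_eq_bot_of_coprime_of_le_normalizer
    · intro d hd
      have hdx : d ∈ Subgroup.centralizer ({x} : Set G) := cppc_le p x hd
      rw [Subgroup.mem_normalizer_iff]
      intro r
      rw [Subgroup.mem_inf, Subgroup.mem_inf, hcen]
      have h1 : r ∈ Q ↔ d * r * d⁻¹ ∈ Q := by
        constructor
        · intro h; exact hQn.conj_mem r h d
        · intro h
          have := hQn.conj_mem _ h d⁻¹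
          simpa [mul_assoc] using this
      have h2 : r ∈ Subgroup.centralizer ({x} : Set G) ↔
          d * r * d⁻¹ ∈ Subgroup.centralizer ({x} : Set G) := by
        constructor
        · intro h
          exact Subgroup.mul_mem _ (Subgroup.mul_mem _ hdx h) (Subgroup.inv_mem _ hdx)
        · intro h
          have := Subgroup.mul_mem _ (Subgroup.mul_mem _ (Subgroup.inv_mem _ hdx) h) hdx
          simpa [mul_assoc] using this
      rw [h1, h2]
    · intro r hr
      rw [Subgroup.mem_inf, hcen] at hr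
      rw [Subgroup.mem_normalizer_iff]
      intro d
      constructor
      · intro hd; exact cppc_conj_mem p x hr.2 hd
      · intro hd
        have := cppc_conj_mem p x (Subgroup.inv_mem _ hr.2) hd
        simpa [mul_assoc] using this
    · have h1 : IsPGroup p ↥(Q ⊓ Subgroup.centralizer (Subgroup.zpowers x : Set G)) :=
        hQp.to_le inf_le_left
      obtain ⟨k, hk⟩ := IsPGroup.iff_card.1 h1
      rw [hk]
      exact Nat.Coprime.pow_right k (cppc_card_coprime p x)
  have := thompson_AxB' p hQp hBp (cppc_card_coprime p x) hAB (hNQ ▸ le_top) (hNQ ▸ le_top) hC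
  rwa [Subgroup.commutator_eq_bot_iff_le_centralizer] at this

/-- The centre of a component lies in `O_p(G)` when `O_{p'}(G) = 1`. -/
theorem component_inf_centralizer_le_pCore (hO : pPrimeCore p G = ⊥) {L : Subgroup G}
    (hL : IsComponent L) : L ⊓ Subgroup.centralizer (L : Set G) ≤ pCore p G := by
  have h1 : IsPGroup p (Subgroup.center ↥L) :=
    Cfsg.Agent.Lib.H9.center_isPGroup_of_subnormal p hO L hL.1
  have h2 : ((Subgroup.center ↥L).map L.subtype).IsSubnormal :=
    (inferInstance : (Subgroup.center ↥L).Normal).isSubnormal.trans' hL.1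
  have h3 : IsPGroup p ↥((Subgroup.center ↥L).map L.subtype) := h1.map L.subtype
  have h4 := Cfsg.Agent.Lib.H3.isSubnormal_isPGroup_le_pCore h2 h3
  refine le_trans ?_ h4
  rintro z ⟨hzL, hzC⟩
  refine ⟨⟨z, hzL⟩, ?_, rfl⟩
  rw [SetLike.mem_coe, Subgroup.mem_center_iff]
  intro l
  apply Subtype.ext
  exact Subgroup.mem_centralizer_iff.1 hzC l l.2

/-- Elements of distinct components commute. -/
theorem commute_of_mem_components {K L : Subgroup G} (hK : IsComponent K) (hL : IsComponent L)
    (hne : K ≠ L) {a b : G} (ha : a ∈ K) (hb : b ∈ L) : Commute a b := by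
  have h := components_commute hK hL hne
  have h1 := Subgroup.commutator_mem_commutator ha hb
  rw [h, Subgroup.mem_bot, commutatorElement_eq_one_iff_mul_comm] at h1
  exact h1

omit [Finite G] in
/-- If `a` commutes with `c`, `c` centralizes `K`, and `(a ^ m * c) ^ k = 1`, then `a ^ (m * k)`
centralizes `K`. -/
theorem pow_mem_centralizer_of_mul_pow_eq_one {K : Subgroup G} {a c : G} {m k : ℕ}
    (hac : Commute a c) (hc : c ∈ Subgroup.centralizer (K : Set G))
    (h : (a ^ m * c) ^ k = 1) : a ^ (m * k) ∈ Subgroup.centralizer (K : Set G) := by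
  have h1 : (a ^ m * c) ^ k = (a ^ m) ^ k * c ^ k := (hac.pow_left m).mul_pow k
  rw [h1] at h
  have h2 : (a ^ m) ^ k = (c ^ k)⁻¹ := eq_inv_of_mul_eq_one_left h
  rw [pow_mul, h2]
  exact Subgroup.inv_mem _ (Subgroup.pow_mem _ hc k)

/-- Key computation: a `p`-element `s` of an `x`-invariant component `L` moved by `d ∈ O_{p'}(C_G(x))`
with `[s, x] ∈ Z(L)` is central in `L`. -/
theorem mem_centralizer_of_moved_by_cppc (hO : pPrimeCore p G = ⊥) {x : G} (hxp : x ^ p = 1)
    {L : Subgroup G} (hL : IsComponent L) (hLx : L.map (MulAut.conj x).toMonoidHom = L)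
    {d : G} (hd : d ∈ centralizerPPrimeCore p x) (hLd : L.map (MulAut.conj d).toMonoidHom ≠ L)
    {s : G} (hs : s ∈ L) {n : ℕ} (hsp : s ^ p ^ n = 1)
    (hz : s⁻¹ * (x * s * x⁻¹) ∈ Subgroup.centralizer (L : Set G)) :
    s ∈ Subgroup.centralizer (L : Set G) := by
  have hp : p.Prime := Fact.out
  set z := s⁻¹ * (x * s * x⁻¹) with hzdef
  have hxs : x * s * x⁻¹ ∈ L := by
    rw [← hLx]; exact ⟨s, hs, rfl⟩
  have hzL : z ∈ L := L.mul_mem (L.inv_mem hs) hxs
  have hxsz : x * s * x⁻¹ = s * z := by rw [hzdef]; group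
  -- `d` centralizes `z`
  have hdz : d * z * d⁻¹ = z := by
    have h1 : z ∈ pCore p G := component_inf_centralizer_le_pCore hO hL ⟨hzL, hz⟩
    have h2 := cppc_le_centralizer_pCore hxp hd
    have h3 := Subgroup.mem_centralizer_iff.1 h2 z h1
    rw [← h3]; group
  have hdx : d * x = x * d := by
    have := cppc_le p x hd
    rw [Subgroup.mem_centralizer_singleton_iff] at this
    exact this
  -- the conjugate components
  set L₁ := L.map (MulAut.conj d).toMonoidHom with hL₁
  set L₂ := L₁.map (MulAut.conj d).toMonoidHom with hL₂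
  have hcL₁ : IsComponent L₁ := isComponent_map_conj d hL
  have hcL₂ : IsComponent L₂ := isComponent_map_conj d hcL₁
  have hL₂₁ : L₂ ≠ L₁ := by
    intro h
    apply hLd
    have := congrArg (fun S => S.map (MulAut.conj d⁻¹).toMonoidHom) h
    simp only [hL₂] at this
    rw [map_conj_map_conj, inv_mul_cancel, map_conj_one, hL₁, map_conj_map_conj, inv_mul_cancel,
      map_conj_one] at this
    rw [hL₁]
    exact this
  set s₁ := d * s * d⁻¹ with hs₁
  set s₂ := d * s₁ * d⁻¹ with hs₂
  have hs₁L : s₁ ∈ L₁ := ⟨s, hs, rfl⟩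
  have hs₂L : s₂ ∈ L₂ := ⟨s₁, hs₁L, rfl⟩
  have hs₁p : s₁ ^ p ^ n = 1 := by
    rw [hs₁, conj_pow, hsp]; group
  -- `u = s⁻¹ s₁` commutes with `x`
  have hss₁ : Commute s s₁ := commute_of_mem_components hL hcL₁ (Ne.symm hLd) hs hs₁L
  have hzs₁ : Commute z s₁ := commute_of_mem_components hL hcL₁ (Ne.symm hLd) hzL hs₁L
  have hzs : Commute z s := ((Subgroup.mem_centralizer_iff.1 hz) s hs).symm
  have hxs₁ : x * s₁ * x⁻¹ = s₁ * z := by
    calc x * s₁ * x⁻¹ = d * (x * s * x⁻¹) * d⁻¹ := by
          rw [hs₁]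
          have : x * (d * s * d⁻¹) * x⁻¹ = (x * d) * s * (x * d)⁻¹ := by group
          rw [this, ← hdx]; group
      _ = d * (s * z) * d⁻¹ := by rw [hxsz]
      _ = (d * s * d⁻¹) * (d * z * d⁻¹) := by group
      _ = s₁ * z := by rw [hdz]
  have hu : s⁻¹ * s₁ ∈ Subgroup.centralizer ({x} : Set G) := by
    rw [Subgroup.mem_centralizer_singleton_iff]
    have h1 : x * (s⁻¹ * s₁) * x⁻¹ = s⁻¹ * s₁ := by
      calc x * (s⁻¹ * s₁) * x⁻¹ = (x * s * x⁻¹)⁻¹ * (x * s₁ * x⁻¹) := by group
        _ = (s * z)⁻¹ * (s₁ * z) := by rw [hxsz, hxs₁]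
        _ = z⁻¹ * s⁻¹ * s₁ * z := by group
        _ = s⁻¹ * s₁ * (z⁻¹ * z) := by
          have e1 : z⁻¹ * s⁻¹ = s⁻¹ * z⁻¹ := (hzs.inv_left.inv_right).eq
          have e2 : z⁻¹ * s₁ = s₁ * z⁻¹ := (hzs₁.inv_left).eq
          calc z⁻¹ * s⁻¹ * s₁ * z = s⁻¹ * (z⁻¹ * s₁) * z := by rw [e1]; group
            _ = s⁻¹ * (s₁ * z⁻¹) * z := by rw [e2]
            _ = s⁻¹ * s₁ * (z⁻¹ * z) := by group
        _ = s⁻¹ * s₁ := by group
    calc s⁻¹ * s₁ * x = (x * (s⁻¹ * s₁) * x⁻¹) * x := by rw [h1]
      _ = x * (s⁻¹ * s₁) := by group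
  -- `w = u⁻¹ d u d⁻¹ ∈ D`
  set w := s₁⁻¹ * s * s₁⁻¹ * s₂ with hw
  have hwD : w ∈ centralizerPPrimeCore p x := by
    have h1 : (s⁻¹ * s₁)⁻¹ * d * (s⁻¹ * s₁)⁻¹⁻¹ ∈ centralizerPPrimeCore p x :=
      cppc_conj_mem p x (Subgroup.inv_mem _ hu) hd
    have h2 := Subgroup.mul_mem _ h1 (Subgroup.inv_mem _ hd)
    have e : (s⁻¹ * s₁)⁻¹ * d * (s⁻¹ * s₁)⁻¹⁻¹ * d⁻¹ = w := by
      rw [hw, hs₂, hs₁]; group
    rwa [e] at h2
  set k := orderOf w with hk
  have hkco : k.Coprime p :=
    Nat.Coprime.coprime_dvd_left (Subgroup.orderOf_dvd_natCard _ hwD) (cppc_card_coprime p x)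
  have hwk : w ^ k = 1 := pow_orderOf_eq_one w
  have hL₁cen : L₁ ≤ Subgroup.centralizer (L : Set G) := by
    intro a ha
    rw [Subgroup.mem_centralizer_iff]
    intro l hl
    exact (commute_of_mem_components hL hcL₁ (Ne.symm hLd) hl ha).eq
  have hLcen₁ : L ≤ Subgroup.centralizer (L₁ : Set G) := by
    intro a ha
    rw [Subgroup.mem_centralizer_iff]
    intro l hl
    exact (commute_of_mem_components hL hcL₁ (Ne.symm hLd) ha hl).eq.symm
  by_cases hcase : L₂ = L
  · -- `d²` normalizes `L`; then `p` is odd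
    have hp2 : p ≠ 2 := by
      intro hp2
      apply hLd
      have hdN2 : d ^ 2 ∈ Subgroup.normalizer (L : Set G) := by
        rw [Subgroup.mem_normalizer_iff_map_conj_eq]
        have : L.map (MulAut.conj (d ^ 2)).toMonoidHom = L₂ := by
          rw [hL₂, hL₁, map_conj_map_conj, pow_two]
        exact this.trans hcase
      have hdN : d ^ orderOf d ∈ Subgroup.normalizer (L : Set G) := by
        rw [pow_orderOf_eq_one]; exact Subgroup.one_mem _
      have hco : (orderOf d).Coprime 2 := by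
        rw [← hp2]
        exact Nat.Coprime.coprime_dvd_left (Subgroup.orderOf_dvd_natCard _ hd)
          (cppc_card_coprime p x)
      have := Cfsg.Agent.Lib.H6.mem_of_pow_mem_of_coprime hco hdN hdN2
      exact map_conj_eq_of_mem_normalizer this
    -- `w = (s₁⁻¹)² · (s s₂)`
    have hs₂L' : s₂ ∈ L := hcase ▸ hs₂L
    have hc : s * s₂ ∈ Subgroup.centralizer (L₁ : Set G) := hLcen₁ (L.mul_mem hs hs₂L')
    have hcomm : Commute s₁⁻¹ (s * s₂) := by
      have h1 : Commute s₁ (s * s₂) :=
        (commute_of_mem_components hL hcL₁ (Ne.symm hLd) (L.mul_mem hs hs₂L') hs₁L).symm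
      exact h1.inv_left
    have hweq : w = s₁⁻¹ ^ 2 * (s * s₂) := by
      rw [hw, pow_two]
      have e1 : s * s₁⁻¹ = s₁⁻¹ * s := (hss₁.inv_right).eq
      calc s₁⁻¹ * s * s₁⁻¹ * s₂ = s₁⁻¹ * (s * s₁⁻¹) * s₂ := by group
        _ = s₁⁻¹ * (s₁⁻¹ * s) * s₂ := by rw [e1]
        _ = s₁⁻¹ * s₁⁻¹ * (s * s₂) := by group
    rw [hweq] at hwk
    have h1 := pow_mem_centralizer_of_mul_pow_eq_one hcomm hc hwk
    have h2 : s₁⁻¹ ^ p ^ n ∈ Subgroup.centralizer (L₁ : Set G) := by
      rw [inv_pow, hs₁p, inv_one]; exact Subgroup.one_mem _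
    have hco : (2 * k).Coprime (p ^ n) := by
      apply Nat.Coprime.pow_right
      apply Nat.Coprime.mul_left _ hkco
      rw [Nat.coprime_comm]
      exact (Nat.coprime_primes hp Nat.prime_two).2 hp2
    have h3 := Cfsg.Agent.Lib.H6.mem_of_pow_mem_of_coprime hco h1 h2
    have h4 : s₁ ∈ Subgroup.centralizer (L₁ : Set G) := by
      have := Subgroup.inv_mem _ h3
      rwa [inv_inv] at this
    -- conjugate back
    rw [Subgroup.mem_centralizer_iff]
    intro l hl
    have h5 := Subgroup.mem_centralizer_iff.1 h4 (d * l * d⁻¹) ⟨l, hl, rfl⟩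
    rw [hs₁] at h5
    have h6 : d * (l * s) * d⁻¹ = d * (s * l) * d⁻¹ := by
      calc d * (l * s) * d⁻¹ = d * l * d⁻¹ * (d * s * d⁻¹) := by group
        _ = d * s * d⁻¹ * (d * l * d⁻¹) := h5
        _ = d * (s * l) * d⁻¹ := by group
    exact mul_left_cancel (mul_right_cancel h6)
  · -- `L₂ ≠ L`: `w = s · (s₁⁻¹ s₁⁻¹ s₂)`
    have hL₂cen : L₂ ≤ Subgroup.centralizer (L : Set G) := by
      intro a ha
      rw [Subgroup.mem_centralizer_iff]
      intro l hl
      exact (commute_of_mem_components hL hcL₂ (Ne.symm hcase) hl ha).eq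
    have hc : s₁⁻¹ * s₁⁻¹ * s₂ ∈ Subgroup.centralizer (L : Set G) :=
      Subgroup.mul_mem _ (Subgroup.mul_mem _ (Subgroup.inv_mem _ (hL₁cen hs₁L))
        (Subgroup.inv_mem _ (hL₁cen hs₁L))) (hL₂cen hs₂L)
    have hcomm : Commute s (s₁⁻¹ * s₁⁻¹ * s₂) :=
      ((Subgroup.mem_centralizer_iff.1 hc) s hs)
    have hweq : w = s ^ 1 * (s₁⁻¹ * s₁⁻¹ * s₂) := by
      rw [hw, pow_one]
      have e1 : s₁⁻¹ * s = s * s₁⁻¹ := (hss₁.inv_right).eq.symm
      calc s₁⁻¹ * s * s₁⁻¹ * s₂ = (s₁⁻¹ * s) * s₁⁻¹ * s₂ := by group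
        _ = (s * s₁⁻¹) * s₁⁻¹ * s₂ := by rw [e1]
        _ = s * (s₁⁻¹ * s₁⁻¹ * s₂) := by group
    rw [hweq] at hwk
    have h1 := pow_mem_centralizer_of_mul_pow_eq_one hcomm hc hwk
    have h2 : s ^ p ^ n ∈ Subgroup.centralizer (L : Set G) := by
      rw [hsp]; exact Subgroup.one_mem _
    have hco : (1 * k).Coprime (p ^ n) := by
      rw [one_mul]
      exact Nat.Coprime.pow_right n hkco
    exact Cfsg.Agent.Lib.H6.mem_of_pow_mem_of_coprime hco h1 h2

/-- Under the hypotheses of `mem_centralizer_of_moved_by_cppc`, every `p`-subgroup containing `x`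
meets `L` inside `Z(L)`. -/
theorem inf_le_centralizer_of_moved_by_cppc (hO : pPrimeCore p G = ⊥) {x : G} (hxp : x ^ p = 1)
    {L : Subgroup G} (hL : IsComponent L) (hLx : L.map (MulAut.conj x).toMonoidHom = L)
    {d : G} (hd : d ∈ centralizerPPrimeCore p x) (hLd : L.map (MulAut.conj d).toMonoidHom ≠ L)
    {P : Subgroup G} (hP : IsPGroup p P) (hxP : x ∈ P) :
    P ⊓ L ≤ Subgroup.centralizer (L : Set G) := by
  have hnil : Group.IsNilpotent ↥P := hP.isNilpotent
  obtain ⟨n, hn⟩ := hnil.nilpotent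
  have key : ∀ n : ℕ, ∀ g : ↥P, g ∈ Subgroup.upperCentralSeries ↥P n → (g : G) ∈ L →
      (g : G) ∈ Subgroup.centralizer (L : Set G) := by
    intro n
    induction n with
    | zero =>
      intro g hg _
      rw [Subgroup.upperCentralSeries_zero, Subgroup.mem_bot] at hg
      rw [hg]; exact Subgroup.one_mem _
    | succ n ih =>
      intro g hg hgL
      have hg' : g⁻¹ ∈ Subgroup.upperCentralSeries ↥P (n + 1) := Subgroup.inv_mem _ hg
      rw [Subgroup.mem_upperCentralSeries_succ_iff] at hg'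
      have h1 := hg' ⟨x, hxP⟩
      have hxg : x * (g : G) * x⁻¹ ∈ L := by
        rw [← hLx]; exact ⟨g, hgL, rfl⟩
      have h2 : ((⁅g⁻¹, (⟨x, hxP⟩ : ↥P)⁆ : ↥P) : G) = (g : G)⁻¹ * (x * (g : G) * x⁻¹) := by
        rw [commutatorElement_def]
        simp only [Subgroup.coe_mul, Subgroup.coe_inv, inv_inv]
        group
      have h3 : ((⁅g⁻¹, (⟨x, hxP⟩ : ↥P)⁆ : ↥P) : G) ∈ L := by
        rw [h2]; exact L.mul_mem (L.inv_mem hgL) hxg
      have h4 := ih _ h1 h3
      rw [h2] at h4
      obtain ⟨k, hk⟩ := hP g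
      have hk' : (g : G) ^ p ^ k = 1 := by
        have := congrArg Subtype.val hk
        simpa using this
      exact mem_centralizer_of_moved_by_cppc hO hxp hL hLx hd hLd hgL hk' h4
  rintro g ⟨hgP, hgL⟩
  exact key n ⟨g, hgP⟩ (by rw [hn]; exact Subgroup.mem_top _) hgL

/-- A quasisimple group whose centre is a `p`-group of index prime to `p` has order prime to `p`. -/
theorem not_dvd_card_of_center_index {L : Type*} [Group L] [Finite L] [Group.IsPerfect L]
    (h1 : IsPGroup p (Subgroup.center L)) (h2 : ¬ p ∣ (Subgroup.center L).index) :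
    ¬ p ∣ Nat.card L := by
  set S : Sylow p L := h1.toSylow h2 with hS
  have hSc : (S : Subgroup L) = Subgroup.center L := IsPGroup.toSylow_coe h1 h2
  have hN : Subgroup.normalizer ((S : Subgroup L) : Set L) ≤ Subgroup.centralizer ((S : Subgroup L) : Set L) := by
    rw [hSc]
    have : Subgroup.centralizer ((Subgroup.center L : Subgroup L) : Set L) = ⊤ := by
      rw [Subgroup.centralizer_eq_top_iff_subset]
    rw [this]; exact le_top
  have hker : (MonoidHom.transferSylow S hN).ker = ⊤ := by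
    rw [eq_top_iff, ← Group.IsPerfect.commutator_eq_top (G := L), commutator_def,
      Subgroup.commutator_le]
    intro a _ b _
    rw [MonoidHom.mem_ker, map_commutatorElement, commutatorElement_eq_one_iff_mul_comm]
    apply Subtype.ext
    have h3 : ((MonoidHom.transferSylow S hN a : ↥(S : Subgroup L)) : L) ∈ Subgroup.center L := by
      rw [← hSc]; exact (MonoidHom.transferSylow S hN a).2
    rw [Subgroup.coe_mul, Subgroup.coe_mul]
    exact ((Subgroup.mem_center_iff.1 h3) _).symm
  have hcomp := MonoidHom.ker_transferSylow_isComplement' S hN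
  have h4 := hcomp.index_eq_card
  rw [hker] at h4
  have h5 : Nat.card (⊤ : Subgroup L) = Nat.card L := Subgroup.card_top
  rw [h5] at h4
  rw [← h4]
  exact S.not_dvd_index

/-- **`O_{p'}(C_G(x))` normalizes every component** of a finite group `G` with `O_{p'}(G) = 1`. -/
theorem cppc_le_normalizer_component (hO : pPrimeCore p G = ⊥) {x : G} (hxp : x ^ p = 1)
    {L : Subgroup G} (hL : IsComponent L) :
    centralizerPPrimeCore p x ≤ Subgroup.normalizer (L : Set G) := by
  have hp : p.Prime := Fact.out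
  intro d hd
  rw [Subgroup.mem_normalizer_iff_map_conj_eq]
  by_cases hLx : L.map (MulAut.conj x).toMonoidHom = L
  · by_contra hLd
    have hLd' : L.map (MulAut.conj d).toMonoidHom ≠ L := hLd
    -- a Sylow `p`-subgroup containing `x`
    have hBp : IsPGroup p (Subgroup.zpowers x) := by
      by_cases h1 : x = 1
      · apply IsPGroup.of_card (n := 0)
        rw [Nat.card_zpowers, h1, orderOf_one, pow_zero]
      · apply IsPGroup.of_card (n := 1)
        rw [Nat.card_zpowers, pow_one]
        exact orderOf_eq_prime hxp h1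
    obtain ⟨P, hxP⟩ := hBp.exists_le_sylow
    have h1 := inf_le_centralizer_of_moved_by_cppc hO hxp hL hLx hd hLd' P.isPGroup'
      (hxP (Subgroup.mem_zpowers x))
    have h2 : ¬ p ∣ (P : Subgroup G).relIndex L :=
      Cfsg.Agent.Lib.H3.not_dvd_relIndex_of_isSubnormal (P : Subgroup G) hL.1 P.not_dvd_index
    have h3 : IsPGroup p (Subgroup.center ↥L) :=
      Cfsg.Agent.Lib.H9.center_isPGroup_of_subnormal p hO L hL.1
    have h4 : (P : Subgroup G).subgroupOf L ≤ Subgroup.center ↥L := by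
      intro g hg
      rw [Subgroup.mem_subgroupOf] at hg
      have h5 := h1 ⟨hg, g.2⟩
      rw [Subgroup.mem_center_iff]
      intro l
      apply Subtype.ext
      exact Subgroup.mem_centralizer_iff.1 h5 l l.2
    have h5 : ¬ p ∣ (Subgroup.center ↥L).index := by
      intro h
      apply h2
      exact h.trans (Subgroup.index_dvd_of_le h4)
    have : Group.IsPerfect ↥L := hL.2.1
    have h6 := not_dvd_card_of_center_index h3 h5
    apply not_coprime_card_component p hO hL
    rw [Nat.coprime_comm]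
    exact (Nat.Prime.coprime_iff_not_dvd hp).2 h6
  · exact map_conj_eq_of_mem_cppc hp hxp hO hL hLx hd

end

end Cfsg.Agent.Lib.H7
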