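import Mathlib

/-!
# The Baer trick for groups of class at most two and odd prime exponent (helper7 library)

For a group `W` of exponent `p` (odd prime) in which all commutators are central,
`x ⊕ y = x y [y,x]^((p+1)/2)` makes `W` into an abelian group `Baer W` on which all
automorphisms of `W` act additively.
-/

set_option autoImplicit false

namespace Cfsg.Agent.Lib.H7

open scoped commutatorElement

universe u

/-- Hypotheses: `p` odd prime, `W` of exponent `p` with central commutators. -/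
structure BaerData (W : Type u) [Group W] (p : ℕ) : Prop where
  hp : p.Prime
  hodd : p ≠ 2
  hexp : ∀ w : W, w ^ p = 1
  hcl : ∀ x y z : W, ⁅x, y⁆ * z = z * ⁅x, y⁆

namespace BaerData

variable {W : Type u} [Group W] {p : ℕ} (D : BaerData W p)

include D

theorem comm_mem_center (x y : W) : ⁅x, y⁆ ∈ Subgroup.center W := by
  rw [Subgroup.mem_center_iff]
  intro g
  exact (D.hcl x y g).symm

theorem comm_mul_left (x y z : W) : ⁅x * y, z⁆ = ⁅x, z⁆ * ⁅y, z⁆ := by
  have hc : ∀ g : W, g * ⁅y, z⁆ = ⁅y, z⁆ * g := fun g => (D.hcl y z g).symm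
  have hyz : y * z = ⁅y, z⁆ * z * y := by rw [commutatorElement_def]; group
  calc ⁅x * y, z⁆ = x * (y * z) * y⁻¹ * x⁻¹ * z⁻¹ := by rw [commutatorElement_def]; group
    _ = x * (⁅y, z⁆ * z * y) * y⁻¹ * x⁻¹ * z⁻¹ := by rw [← hyz]
    _ = (x * ⁅y, z⁆) * (z * x⁻¹ * z⁻¹) := by group
    _ = (⁅y, z⁆ * x) * (z * x⁻¹ * z⁻¹) := by rw [hc x]
    _ = ⁅y, z⁆ * (x * z * x⁻¹ * z⁻¹) := by group
    _ = ⁅y, z⁆ * ⁅x, z⁆ := by rw [commutatorElement_def x z]
    _ = ⁅x, z⁆ * ⁅y, z⁆ := (hc _).symm

theorem comm_mul_right (x y z : W) : ⁅x, y * z⁆ = ⁅x, y⁆ * ⁅x, z⁆ := by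
  have h1 := D.comm_mul_left y z x
  have h2 : ⁅x, y * z⁆ = (⁅y * z, x⁆)⁻¹ := (commutatorElement_inv (y * z) x).symm
  rw [h2, h1, mul_inv_rev, commutatorElement_inv, commutatorElement_inv]
  exact D.hcl x z _

omit D in
theorem comm_central_right (x : W) {k : W} (hk : k ∈ Subgroup.center W) : ⁅x, k⁆ = 1 := by
  rw [commutatorElement_eq_one_iff_mul_comm]
  exact (Subgroup.mem_center_iff.1 hk x)

omit D in
theorem comm_central_left (x : W) {k : W} (hk : k ∈ Subgroup.center W) : ⁅k, x⁆ = 1 := by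
  rw [commutatorElement_eq_one_iff_mul_comm]
  exact (Subgroup.mem_center_iff.1 hk x).symm

theorem comm_pow_mem_center (x y : W) (n : ℕ) : ⁅x, y⁆ ^ n ∈ Subgroup.center W :=
  Subgroup.pow_mem _ (D.comm_mem_center x y) n

theorem two_mul_half : 2 * ((p + 1) / 2) = p + 1 := by
  have h := D.hp.eq_one_or_self_of_dvd 2
  have hodd : ¬ 2 ∣ p := by
    intro h2
    rcases h h2 with h3 | h3
    · omega
    · exact D.hodd h3.symm
  omega

theorem pow_half_sq (k : W) : (k ^ ((p + 1) / 2)) ^ 2 = k := by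
  rw [← pow_mul, mul_comm, D.two_mul_half, pow_succ, D.hexp, one_mul]

end BaerData

/-- The Baer sum. -/
def baerAdd {W : Type u} [Group W] (p : ℕ) (x y : W) : W := x * y * ⁅y, x⁆ ^ ((p + 1) / 2)

namespace BaerData

variable {W : Type u} [Group W] {p : ℕ} (D : BaerData W p)

include D

theorem baerAdd_comm (x y : W) : baerAdd p x y = baerAdd p y x := by
  unfold baerAdd
  set h := (p + 1) / 2 with hh
  set c := ⁅y, x⁆ with hc
  have hcx : ⁅x, y⁆ = c⁻¹ := by rw [hc, commutatorElement_inv]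
  have hyx : y * x = x * y * c := by
    have : y * x = c * x * y := by rw [hc, commutatorElement_def]; group
    rw [this, mul_assoc, (D.hcl y x (x * y))]
  have h1 : c ^ h * c ^ h = c := by
    have := D.pow_half_sq c
    rwa [pow_two] at this
  rw [hcx, hyx, inv_pow]
  have : c = c ^ h * c ^ h := h1.symm
  calc x * y * c ^ h = x * y * (c ^ h * c ^ h) * (c ^ h)⁻¹ := by group
    _ = x * y * c * (c ^ h)⁻¹ := by rw [h1]

theorem baerAdd_assoc (x y z : W) :
    baerAdd p (baerAdd p x y) z = baerAdd p x (baerAdd p y z) := by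
  unfold baerAdd
  set h := (p + 1) / 2 with hh
  set a := ⁅y, x⁆ ^ h with ha
  set b := ⁅z, x⁆ ^ h with hb
  set d := ⁅z, y⁆ ^ h with hd
  have haZ : a ∈ Subgroup.center W := D.comm_pow_mem_center y x h
  have hbZ : b ∈ Subgroup.center W := D.comm_pow_mem_center z x h
  have hdZ : d ∈ Subgroup.center W := D.comm_pow_mem_center z y h
  have hac : ∀ g : W, g * a = a * g := Subgroup.mem_center_iff.1 haZ
  have hbc : ∀ g : W, g * b = b * g := Subgroup.mem_center_iff.1 hbZ
  have hdc : ∀ g : W, g * d = d * g := Subgroup.mem_center_iff.1 hdZ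
  have e1 : ⁅z, x * y * a⁆ = ⁅z, x⁆ * ⁅z, y⁆ := by
    rw [D.comm_mul_right, D.comm_mul_right, comm_central_right z haZ, mul_one]
  have e2 : ⁅y * z * d, x⁆ = ⁅y, x⁆ * ⁅z, x⁆ := by
    rw [D.comm_mul_left, D.comm_mul_left, comm_central_left x hdZ, mul_one]
  have e3 : (⁅z, x⁆ * ⁅z, y⁆) ^ h = b * d := by
    have : Commute ⁅z, x⁆ ⁅z, y⁆ := (D.hcl z x _)
    rw [this.mul_pow]
  have e4 : (⁅y, x⁆ * ⁅z, x⁆) ^ h = a * b := by
    have : Commute ⁅y, x⁆ ⁅z, x⁆ := (D.hcl y x _)
    rw [this.mul_pow]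
  rw [e1, e2, e3, e4]
  calc x * y * a * z * (b * d) = x * y * (a * z) * (b * d) := by group
    _ = x * y * (z * a) * (b * d) := by rw [hac z]
    _ = x * y * z * (a * (b * d)) := by group
    _ = x * y * z * ((b * d) * a) := by rw [← hac (b * d)]
    _ = x * y * z * (b * (d * a)) := by group
    _ = x * y * z * ((d * a) * b) := by rw [← hbc (d * a)]
    _ = x * (y * z * d) * (a * b) := by group

omit D in
theorem baerAdd_one (x : W) : baerAdd p x 1 = x := by
  unfold baerAdd
  have : ⁅(1 : W), x⁆ = 1 := by rw [commutatorElement_def]; group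
  rw [this, one_pow, mul_one, mul_one]

omit D in
theorem baerAdd_inv (x : W) : baerAdd p x⁻¹ x = 1 := by
  unfold baerAdd
  have : ⁅x, x⁻¹⁆ = 1 := by rw [commutatorElement_def]; group
  rw [this, one_pow, mul_one, inv_mul_cancel]

omit D in
theorem baerAdd_map (f : W →* W) (x y : W) : f (baerAdd p x y) = baerAdd p (f x) (f y) := by
  unfold baerAdd
  rw [map_mul, map_mul, map_pow, map_commutatorElement]

end BaerData


/-- Type synonym carrying the Baer sum. -/
def Baer (W : Type u) : Type u := W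

/-- `Baer W → W`. -/
def Baer.toW {W : Type u} (x : Baer W) : W := x

/-- `W → Baer W`. -/
def Baer.ofW {W : Type u} (x : W) : Baer W := x

@[simp] theorem Baer.toW_ofW {W : Type u} (x : W) : (Baer.ofW x).toW = x := rfl
@[simp] theorem Baer.ofW_toW {W : Type u} (x : Baer W) : Baer.ofW x.toW = x := rfl

instance {W : Type u} [Finite W] : Finite (Baer W) := inferInstanceAs (Finite W)

theorem Baer.card {W : Type u} : Nat.card (Baer W) = Nat.card W := rfl

namespace BaerData

variable {W : Type u} [Group W] {p : ℕ}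

/-- The Baer abelian group structure. -/
@[reducible] def addCommGroup (D : BaerData W p) : AddCommGroup (Baer W) :=
  letI : Add (Baer W) := ⟨fun x y => Baer.ofW (baerAdd p x.toW y.toW)⟩
  letI : Zero (Baer W) := ⟨Baer.ofW (1 : W)⟩
  letI : Neg (Baer W) := ⟨fun x => Baer.ofW (x.toW⁻¹)⟩
  { AddGroup.ofLeftAxioms (G := Baer W)
      (fun x y z => D.baerAdd_assoc x.toW y.toW z.toW)
      (fun x => by
        show baerAdd p (1 : W) x.toW = x.toW
        rw [D.baerAdd_comm]; exact baerAdd_one x.toW)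
      (fun x => baerAdd_inv (p := p) x.toW) with
    add_comm := fun x y => D.baerAdd_comm x.toW y.toW }

variable (D : BaerData W p)

theorem add_def (x y : Baer W) : letI := D.addCommGroup;
    x + y = Baer.ofW (baerAdd p x.toW y.toW) := rfl

theorem zero_def : letI := D.addCommGroup;
    (0 : Baer W) = Baer.ofW (1 : W) := rfl

theorem neg_def (x : Baer W) : letI := D.addCommGroup;
    -x = Baer.ofW (x.toW⁻¹) := rfl

theorem nsmul_def (n : ℕ) (x : Baer W) : letI := D.addCommGroup;
    n • x = Baer.ofW (x.toW ^ n) := by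
  let _ := D.addCommGroup
  induction n with
  | zero => rw [zero_nsmul, pow_zero]; rfl
  | succ n ih =>
    rw [succ_nsmul, ih, pow_succ]
    show baerAdd p (x.toW ^ n) x.toW = x.toW ^ n * x.toW
    unfold baerAdd
    have : ⁅x.toW, x.toW ^ n⁆ = 1 := by
      rw [commutatorElement_eq_one_iff_mul_comm]
      exact ((Commute.refl x.toW).pow_right n).eq
    rw [this, one_pow, mul_one]

/-- An automorphism of `W` as an additive endomorphism of `Baer W`. -/
def toAdd (f : MulAut W) : letI := D.addCommGroup;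
    Baer W →+ Baer W :=
  letI := D.addCommGroup
  { toFun := fun x => Baer.ofW (f x.toW)
    map_zero' := map_one f
    map_add' := fun x y => baerAdd_map (p := p) f.toMonoidHom x.toW y.toW }

theorem toAdd_apply (f : MulAut W) (x : Baer W) : letI := D.addCommGroup;
    D.toAdd f x = Baer.ofW (f x.toW) := rfl


include D in
/-- **Baer fixed-point lemma.** Let `W` be a finite group of odd prime exponent `p` with central
commutators, `Q` a `p'`-group and `A` a `p`-group of automorphisms of `W` with `A` normalizing `Q`.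
If `Q` acts nontrivially, then some element fixed by `A` is moved by `Q`. -/
theorem exists_fixed_not_fixed [Finite W] (Q A : Subgroup (MulAut W))
    (hQ : (Nat.card Q).Coprime p) (hA : IsPGroup p A)
    (hAQ : A ≤ Subgroup.normalizer (Q : Set (MulAut W)))
    (hne : ∃ q ∈ Q, ∃ w : W, q w ≠ w) :
    ∃ u : W, (∀ a ∈ A, a u = u) ∧ ∃ q ∈ Q, q u ≠ u := by
  classical
  let _ := D.addCommGroup
  have : Fact p.Prime := ⟨D.hp⟩
  let _ : Fintype ↥Q := Fintype.ofFinite _
  -- the trace map
  set e : Baer W →+ Baer W := ∑ q : ↥Q, D.toAdd (q : MulAut W) with he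
  have he_apply : ∀ x : Baer W, e x = ∑ q : ↥Q, D.toAdd (q : MulAut W) x := by
    intro x
    rw [he, AddMonoidHom.finsetSum_apply]
  -- invariance under `Q`
  have heQ : ∀ q₀ ∈ Q, ∀ x : Baer W, e (D.toAdd q₀ x) = e x := by
    intro q₀ hq₀ x
    rw [he_apply, he_apply]
    refine Fintype.sum_equiv (Equiv.mulRight (⟨q₀, hq₀⟩ : ↥Q)) _ _ ?_
    intro q
    rfl
  -- equivariance under `A`
  have heA : ∀ a ∈ A, ∀ x : Baer W, D.toAdd a (e x) = e (D.toAdd a x) := by
    intro a ha x
    rw [he_apply, he_apply, map_sum]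
    have haN := hAQ ha
    refine Fintype.sum_equiv ((Subgroup.normalizerMonoidHom Q ⟨a, haN⟩).toEquiv) _ _ ?_
    intro q
    show Baer.ofW (a ((q : MulAut W) x.toW)) = Baer.ofW ((a * (q : MulAut W) * a⁻¹) (a x.toW))
    simp
  -- on `Q`-fixed points `e` is multiplication by `|Q|`
  have hefix : ∀ x : Baer W, (∀ q ∈ Q, q x.toW = x.toW) → e x = Baer.ofW (x.toW ^ Nat.card Q) := by
    intro x hx
    rw [he_apply]
    have : ∀ q : ↥Q, D.toAdd (q : MulAut W) x = x := by
      intro q
      rw [D.toAdd_apply, hx q q.2]; rfl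
    rw [Finset.sum_congr rfl (fun q _ => this q), Finset.sum_const, Finset.card_univ,
      D.nsmul_def, Nat.card_eq_fintype_card]
  -- the kernel
  set K : AddSubgroup (Baer W) := e.ker with hK
  have hKA : ∀ a ∈ A, ∀ x ∈ K, D.toAdd a x ∈ K := by
    intro a ha x hx
    rw [hK, AddMonoidHom.mem_ker] at hx ⊢
    rw [← heA a ha, hx, map_zero]
  have hKfix : ∀ x ∈ K, (∀ q ∈ Q, q x.toW = x.toW) → x = 0 := by
    intro x hx hfix
    rw [hK, AddMonoidHom.mem_ker, hefix x hfix] at hx
    have h1 : x.toW ^ Nat.card Q = 1 := hx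
    have h2 : x.toW ^ p = 1 := D.hexp _
    have h3 : x.toW ^ Nat.gcd (Nat.card Q) p = 1 := by
      rw [← orderOf_dvd_iff_pow_eq_one]
      exact Nat.dvd_gcd (orderOf_dvd_of_pow_eq_one h1) (orderOf_dvd_of_pow_eq_one h2)
    rw [hQ.gcd_eq_one, pow_one] at h3
    exact h3
  -- `K` is nontrivial
  obtain ⟨q₀, hq₀, w, hw⟩ := hne
  have hKne : ∃ y ∈ K, y ≠ 0 := by
    refine ⟨D.toAdd q₀ (Baer.ofW w) - Baer.ofW w, ?_, ?_⟩
    · rw [hK, AddMonoidHom.mem_ker, map_sub, heQ q₀ hq₀, sub_self]
    · intro h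
      rw [sub_eq_zero] at h
      exact hw h
  -- `A` acts on `K`
  let _ : MulAction ↥A ↥K :=
    { smul := fun a k => ⟨D.toAdd (a : MulAut W) k, hKA a a.2 k k.2⟩
      one_smul := fun k => by
        apply Subtype.ext
        show Baer.ofW (((1 : ↥A) : MulAut W) (k : Baer W).toW) = (k : Baer W)
        simp
      mul_smul := fun a b k => by
        apply Subtype.ext
        show Baer.ofW (((a * b : ↥A) : MulAut W) (k : Baer W).toW) =
          Baer.ofW ((a : MulAut W) ((b : MulAut W) (k : Baer W).toW))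
        simp }
  have hpW : IsPGroup p W := fun g => ⟨1, by rw [pow_one]; exact D.hexp g⟩
  have hcardK : p ∣ Nat.card ↥K := by
    obtain ⟨n, hn⟩ := IsPGroup.iff_card.1 hpW
    have h1 : Nat.card ↥K ∣ p ^ n := by
      rw [← hn, ← Baer.card]
      exact AddSubgroup.card_addSubgroup_dvd_card K
    obtain ⟨m, -, hm⟩ := (Nat.dvd_prime_pow D.hp).1 h1
    rcases Nat.eq_zero_or_pos m with rfl | hm0
    · exfalso
      rw [pow_zero] at hm
      obtain ⟨y, hyK, hy0⟩ := hKne
      have hsub : Subsingleton ↥K := (Nat.card_eq_one_iff_unique.1 hm).1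
      have := Subsingleton.elim (⟨y, hyK⟩ : ↥K) 0
      exact hy0 (congrArg Subtype.val this)
    · rw [hm]; exact dvd_pow_self p hm0.ne'
  have h0fix : (0 : ↥K) ∈ MulAction.fixedPoints ↥A ↥K := by
    intro a
    apply Subtype.ext
    show D.toAdd (a : MulAut W) 0 = 0
    exact map_zero _
  obtain ⟨u, hufix, hu0⟩ := hA.exists_fixed_point_of_prime_dvd_card_of_fixed_point ↥K hcardK h0fix
  refine ⟨(u : Baer W).toW, ?_, ?_⟩
  · intro a ha
    have := hufix ⟨a, ha⟩
    exact congrArg (fun k : ↥K => (k : Baer W).toW) this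
  · by_contra hcon
    push Not at hcon
    have := hKfix u u.2 hcon
    exact hu0 (Subtype.ext this.symm)

end BaerData

end Cfsg.Agent.Lib.H7
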