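import Mathlib
import Cfsg.Agent.Lib.H7.Baer

/-!
# Ambient form of the Baer fixed-point lemma (helper7 library)
-/

set_option autoImplicit false

namespace Cfsg.Agent.Lib.H7

open scoped commutatorElement

universe u
variable {G : Type u} [Group G]

/-- Ambient Baer lemma: `W` of odd prime exponent `p` with commutators central in `W`; `Q` a
`p'`-subgroup and `A` a `p`-subgroup, both normalizing `W`, with `A` normalizing `Q`. If `Q` does not
centralize `W` then some `u ∈ C_W(A)` is not centralized by `Q`. -/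
theorem exists_mem_centralizer_not_centralized [Finite G] {p : ℕ} (hp : p.Prime) (hodd : p ≠ 2)
    {W Q A : Subgroup G} (hexp : ∀ w ∈ W, w ^ p = 1)
    (hcl : ∀ x ∈ W, ∀ y ∈ W, ∀ z ∈ W, ⁅x, y⁆ * z = z * ⁅x, y⁆)
    (hQW : Q ≤ Subgroup.normalizer (W : Set G)) (hAW : A ≤ Subgroup.normalizer (W : Set G))
    (hAQ : A ≤ Subgroup.normalizer (Q : Set G)) (hQ : (Nat.card Q).Coprime p) (hA : IsPGroup p A)
    (hne : ¬ W ≤ Subgroup.centralizer (Q : Set G)) :
    ∃ u ∈ W, (∀ a ∈ A, a * u = u * a) ∧ ∃ q ∈ Q, q * u ≠ u * q := by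
  set N := Subgroup.normalizer (W : Set G) with hN
  set ν := Subgroup.normalizerMonoidHom W with hν
  have D : BaerData ↥W p :=
    { hp := hp
      hodd := hodd
      hexp := fun w => Subtype.ext (by rw [Subgroup.coe_pow]; exact hexp w w.2)
      hcl := fun x y z => Subtype.ext (by
        have := hcl x x.2 y y.2 z z.2
        simpa [commutatorElement_def] using this) }
  set Q' := (Q.subgroupOf N).map ν with hQ'
  set A' := (A.subgroupOf N).map ν with hA'
  have hQ'c : (Nat.card Q').Coprime p := by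
    have h1 : Nat.card Q' ∣ Nat.card (Q.subgroupOf N) := Subgroup.card_map_dvd _ _
    have h2 : Nat.card (Q.subgroupOf N) = Nat.card Q :=
      Nat.card_congr (Subgroup.subgroupOfEquivOfLe hQW).toEquiv
    rw [h2] at h1
    exact Nat.Coprime.coprime_dvd_left h1 hQ
  have hA'p : IsPGroup p A' := (hA.comap_subtype).map ν
  have hA'Q' : A' ≤ Subgroup.normalizer (Q' : Set (MulAut ↥W)) := by
    have h1 : A.subgroupOf N ≤ Subgroup.normalizer ((Q.subgroupOf N : Subgroup ↥N) : Set ↥N) := by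
      intro a ha
      rw [Subgroup.mem_subgroupOf] at ha
      have h2 := hAQ ha
      rw [Subgroup.mem_normalizer_iff] at h2 ⊢
      intro h
      rw [Subgroup.mem_subgroupOf, Subgroup.mem_subgroupOf]
      exact h2 (h : G)
    exact (Subgroup.map_mono h1).trans (Subgroup.le_normalizer_map ν)
  have hne' : ∃ q ∈ Q', ∃ w : ↥W, q w ≠ w := by
    by_contra hcon
    push Not at hcon
    apply hne
    intro w hw
    rw [Subgroup.mem_centralizer_iff]
    intro q hq
    have h1 := hcon (ν ⟨q, hQW hq⟩) ⟨⟨q, hQW hq⟩, Subgroup.mem_subgroupOf.2 hq, rfl⟩ ⟨w, hw⟩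
    have h2 : q * w * q⁻¹ = w := congrArg Subtype.val h1
    calc q * w = (q * w * q⁻¹) * q := by group
      _ = w * q := by rw [h2]
  obtain ⟨u, huA, q', hq', hqu⟩ := D.exists_fixed_not_fixed Q' A' hQ'c hA'p hA'Q' hne'
  refine ⟨(u : G), u.2, ?_, ?_⟩
  · intro a ha
    have h1 := huA (ν ⟨a, hAW ha⟩) ⟨⟨a, hAW ha⟩, Subgroup.mem_subgroupOf.2 ha, rfl⟩
    have h2 : a * (u : G) * a⁻¹ = u := congrArg Subtype.val h1
    calc a * (u : G) = (a * u * a⁻¹) * a := by group
      _ = u * a := by rw [h2]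
  · obtain ⟨q, hq, rfl⟩ := hq'
    rw [SetLike.mem_coe, Subgroup.mem_subgroupOf] at hq
    refine ⟨(q : G), hq, ?_⟩
    intro h
    apply hqu
    apply Subtype.ext
    show (q : G) * u * (q : G)⁻¹ = u
    rw [h]; group

end Cfsg.Agent.Lib.H7
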