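import Mathlib
import Cfsg.Agent.Lib.H7.CoprimeGen

set_option autoImplicit false

namespace Cfsg.Agent.Lib.H7

variable {G : Type*} [Group G]

/-- A nontrivial `p`-subgroup has a subgroup of index `p`. -/
theorem exists_hyperplane [Finite G] (p : ℕ) [Fact p.Prime] (B : Subgroup G)
    (hB : IsPGroup p B) (hB1 : B ≠ ⊥) : ∃ D : Subgroup G, D ≤ B ∧ D.relIndex B = p := by
  have hp : p.Prime := Fact.out
  obtain ⟨k, hk⟩ := IsPGroup.iff_card.1 hB
  have hk1 : k ≠ 0 := by
    rintro rfl
    rw [pow_zero] at hk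
    exact hB1 (Subgroup.card_eq_one.1 hk)
  obtain ⟨m, rfl⟩ := Nat.exists_eq_succ_of_ne_zero hk1
  obtain ⟨K, hK⟩ := Sylow.exists_subgroup_card_pow_prime (G := B) p (n := m)
    (by rw [hk]; exact pow_dvd_pow p (Nat.le_succ m))
  refine ⟨K.map B.subtype, Subgroup.map_subtype_le K, ?_⟩
  have h1 := card_mul_relIndex_of_le (Subgroup.map_subtype_le K)
  have h2 : Nat.card (K.map B.subtype) = p ^ m := by
    rw [← hK]
    exact (Nat.card_congr (K.equivMapOfInjective _ (Subgroup.subtype_injective B)).toEquiv).symm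
  rw [h2, hk, pow_succ] at h1
  exact Nat.eq_of_mul_eq_mul_left (pow_pos hp.pos m) h1

/-- A subgroup of index at most `p` in a `p`-group is everything or has index exactly `p`. -/
theorem eq_or_relIndex_eq_of_relIndex_le [Finite G] (p : ℕ) [Fact p.Prime] {B A : Subgroup G}
    (hA : IsPGroup p A) (hBA : B ≤ A) (h : B.relIndex A ≤ p) : B = A ∨ B.relIndex A = p := by
  have hp : p.Prime := Fact.out
  have h1 := card_mul_relIndex_of_le hBA
  obtain ⟨k, hk⟩ := IsPGroup.iff_card.1 hA
  have h2 : B.relIndex A ∣ p ^ k := by rw [← hk, ← h1]; exact dvd_mul_left _ _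
  obtain ⟨m, -, hm⟩ := (Nat.dvd_prime_pow hp).1 h2
  have hm1 : m ≤ 1 := by
    by_contra hcon
    push Not at hcon
    have : p ^ 2 ≤ p ^ m := Nat.pow_le_pow_right hp.pos hcon
    have h3 : p < p ^ 2 := by
      calc p = p ^ 1 := (pow_one p).symm
        _ < p ^ 2 := Nat.pow_lt_pow_right hp.one_lt (by norm_num)
    rw [hm] at h
    omega
  interval_cases m
  · left
    rw [pow_zero] at hm
    apply Subgroup.eq_of_le_of_card_ge hBA
    rw [← h1, hm, mul_one]
  · right
    rw [pow_one] at hm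
    exact hm

/-- Every subgroup `B ≤ A` of index at most `p` in the nontrivial `p`-group `A` contains... is
centralized-comparable: there is a subgroup `B₁ ≤ B` of index exactly `p` in `A`. -/
theorem exists_hyperplane_le [Finite G] (p : ℕ) [Fact p.Prime] {B A : Subgroup G}
    (hA : IsPGroup p A) (hA1 : A ≠ ⊥) (hBA : B ≤ A) (h : B.relIndex A ≤ p) :
    ∃ B₁ : Subgroup G, B₁ ≤ B ∧ B₁.relIndex A = p := by
  rcases eq_or_relIndex_eq_of_relIndex_le p hA hBA h with rfl | h'
  · exact exists_hyperplane p B hA hA1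
  · exact ⟨B, le_rfl, h'⟩

end Cfsg.Agent.Lib.H7
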