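import Mathlib
import Cfsg.Agent.Lib.H7.BaerAmbient
import Cfsg.Agent.Lib.H7.Coprime
import Cfsg.Agent.Lib.H7.Hyperplane
import Cfsg.Agent.Lib.H22.UniqueOrderP

/-!
# Invariant `p'`-subgroups and abelian `p`-subgroups containing `Ω₁` of their centralizer
(helper7 library)

Main result `le_centralizer_of_omega_le`: `p` odd, `R` a `p`-subgroup, `Q` a `p'`-subgroup and `A` a
`p`-subgroup normalizing `R`, `A` normalizing `Q`, and every element of order `p` of `C_G(A)` lies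
in `A`, `Q ∩ R`-commutators trivial: then `Q` centralizes `R`.
-/

set_option autoImplicit false

namespace Cfsg.Agent.Lib.H7

open scoped commutatorElement

universe u
variable {G : Type u} [Group G]

/-- An element conjugating a generating set into itself (both ways) normalizes the closure. -/
theorem mem_normalizer_closure {S : Set G} {g : G} (h : ∀ s ∈ S, g * s * g⁻¹ ∈ S)
    (h' : ∀ s ∈ S, g⁻¹ * s * g ∈ S) : g ∈ Subgroup.normalizer (Subgroup.closure S : Set G) := by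
  have key : ∀ (k : G), (∀ s ∈ S, k * s * k⁻¹ ∈ S) → ∀ x ∈ Subgroup.closure S,
      k * x * k⁻¹ ∈ Subgroup.closure S := by
    intro k hk x hx
    induction hx using Subgroup.closure_induction with
    | mem s hs => exact Subgroup.subset_closure (hk s hs)
    | one => simp
    | mul a b _ _ iha ihb =>
      have : k * (a * b) * k⁻¹ = (k * a * k⁻¹) * (k * b * k⁻¹) := by group
      rw [this]; exact Subgroup.mul_mem _ iha ihb
    | inv a _ iha =>
      have : k * a⁻¹ * k⁻¹ = (k * a * k⁻¹)⁻¹ := by group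
      rw [this]; exact Subgroup.inv_mem _ iha
  rw [Subgroup.mem_normalizer_iff]
  intro x
  constructor
  · exact key g h x
  · intro hx
    have := key g⁻¹ (fun s hs => by simpa using h' s hs) _ hx
    simpa [mul_assoc] using this

/-- The subgroup generated by commutators and `p`-th powers of `W` (its Frattini subgroup when `W`
is a `p`-group). -/
def frattiniLike (p : ℕ) (W : Subgroup G) : Subgroup G :=
  Subgroup.closure ({g | ∃ x ∈ W, ∃ y ∈ W, g = ⁅x, y⁆} ∪ {g | ∃ x ∈ W, g = x ^ p})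

theorem frattiniLike_le (p : ℕ) (W : Subgroup G) : frattiniLike p W ≤ W := by
  unfold frattiniLike
  rw [Subgroup.closure_le]
  rintro g (⟨x, hx, y, hy, rfl⟩ | ⟨x, hx, rfl⟩)
  · exact W.mul_mem (W.mul_mem (W.mul_mem hx hy) (W.inv_mem hx)) (W.inv_mem hy)
  · exact W.pow_mem hx p

theorem comm_mem_frattiniLike (p : ℕ) {W : Subgroup G} {x y : G} (hx : x ∈ W) (hy : y ∈ W) :
    ⁅x, y⁆ ∈ frattiniLike p W :=
  Subgroup.subset_closure (Or.inl ⟨x, hx, y, hy, rfl⟩)

theorem pow_mem_frattiniLike (p : ℕ) {W : Subgroup G} {x : G} (hx : x ∈ W) :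
    x ^ p ∈ frattiniLike p W :=
  Subgroup.subset_closure (Or.inr ⟨x, hx, rfl⟩)

theorem normalizer_le_normalizer_frattiniLike (p : ℕ) (W : Subgroup G) :
    Subgroup.normalizer (W : Set G) ≤ Subgroup.normalizer (frattiniLike p W : Set G) := by
  intro g hg
  have hg' : g⁻¹ ∈ Subgroup.normalizer (W : Set G) := Subgroup.inv_mem _ hg
  have key : ∀ k ∈ Subgroup.normalizer (W : Set G), ∀ s ∈ ({g | ∃ x ∈ W, ∃ y ∈ W, g = ⁅x, y⁆} ∪
      {g | ∃ x ∈ W, g = x ^ p} : Set G), k * s * k⁻¹ ∈ ({g | ∃ x ∈ W, ∃ y ∈ W, g = ⁅x, y⁆} ∪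
      {g | ∃ x ∈ W, g = x ^ p} : Set G) := by
    intro k hk s hs
    have hkW : ∀ x ∈ W, k * x * k⁻¹ ∈ W := fun x hx => (Subgroup.mem_normalizer_iff.1 hk x).1 hx
    rcases hs with ⟨x, hx, y, hy, rfl⟩ | ⟨x, hx, rfl⟩
    · left
      refine ⟨k * x * k⁻¹, hkW x hx, k * y * k⁻¹, hkW y hy, ?_⟩
      rw [commutatorElement_def, commutatorElement_def]; group
    · right
      exact ⟨k * x * k⁻¹, hkW x hx, (conj_pow).symm⟩
  unfold frattiniLike
  apply mem_normalizer_closure (key g hg)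
  intro s hs
  have := key g⁻¹ hg' s hs
  simpa using this

theorem frattiniLike_lt [Finite G] {p : ℕ} [Fact p.Prime] {W : Subgroup G} (hW : IsPGroup p W)
    (hW1 : W ≠ ⊥) : frattiniLike p W < W := by
  have hp : p.Prime := Fact.out
  obtain ⟨D, hDW, hD⟩ := exists_hyperplane p W hW hW1
  have hidx : (D.subgroupOf W).index = p := hD
  have h1 : frattiniLike p W ≤ D := by
    unfold frattiniLike
    rw [Subgroup.closure_le]
    rintro g (⟨x, hx, y, hy, rfl⟩ | ⟨x, hx, rfl⟩)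
    · have h2 := Cfsg.Agent.Lib.H22.commutator_le_of_index_eq_prime hW (D.subgroupOf W) hidx
      have h3 : ⁅(⟨x, hx⟩ : ↥W), ⟨y, hy⟩⁆ ∈ commutator ↥W :=
        Subgroup.commutator_mem_commutator (Subgroup.mem_top _) (Subgroup.mem_top _)
      have h4 := h2 h3
      rw [Subgroup.mem_subgroupOf] at h4
      exact h4
    · have h2 := Cfsg.Agent.Lib.H22.pow_mem_of_index_eq_prime hW (D.subgroupOf W) hidx ⟨x, hx⟩
      rw [Subgroup.mem_subgroupOf] at h2
      exact h2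
  refine lt_of_le_of_ne (frattiniLike_le p W) ?_
  intro heq
  have h2 : D = W := le_antisymm hDW (heq ▸ h1)
  rw [h2, Subgroup.relIndex_self] at hD
  exact hp.one_lt.ne hD


/-- A minimal invariant subgroup on which `Q` acts nontrivially has exponent `p` and class at most
two (`p` odd). -/
theorem small_of_minimal_invariant [Finite G] {p : ℕ} [Fact p.Prime] (hodd : p ≠ 2)
    {W Q A : Subgroup G} (hW : IsPGroup p W)
    (hQW : Q ≤ Subgroup.normalizer (W : Set G)) (hAW : A ≤ Subgroup.normalizer (W : Set G))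
    (hAQ : A ≤ Subgroup.normalizer (Q : Set G))
    (hQ : (Nat.card Q).Coprime p) (hne : ¬ W ≤ Subgroup.centralizer (Q : Set G))
    (hmin : ∀ W₀ : Subgroup G, W₀ < W → Q ≤ Subgroup.normalizer (W₀ : Set G) →
      A ≤ Subgroup.normalizer (W₀ : Set G) → W₀ ≤ Subgroup.centralizer (Q : Set G)) :
    (∀ w ∈ W, w ^ p = 1) ∧ (∀ x ∈ W, ∀ y ∈ W, ∀ z ∈ W, ⁅x, y⁆ * z = z * ⁅x, y⁆) := by
  have hp : p.Prime := Fact.out
  have hW1 : W ≠ ⊥ := by
    rintro rfl
    exact hne bot_le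
  -- (1) `[W, Q] = W`
  have hWQle : ⁅W, Q⁆ ≤ W := Subgroup.le_normalizer_iff_commutator_le_left.1 hQW
  have hnorm : ∀ g : G, g ∈ Subgroup.normalizer (W : Set G) → g ∈ Subgroup.normalizer (Q : Set G) →
      g ∈ Subgroup.normalizer ((⁅W, Q⁆ : Subgroup G) : Set G) := by
    intro g hgW hgQ
    rw [Subgroup.mem_normalizer_iff_map_conj_eq, Subgroup.map_commutator,
      Subgroup.mem_normalizer_iff_map_conj_eq.1 hgW, Subgroup.mem_normalizer_iff_map_conj_eq.1 hgQ]
  have hcopWQ : (Nat.card Q).Coprime (Nat.card W) := by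
    obtain ⟨k, hk⟩ := IsPGroup.iff_card.1 hW
    rw [hk]; exact Nat.Coprime.pow_right k hQ
  have hWQ : ⁅W, Q⁆ = W := by
    by_contra hneq
    have hlt : ⁅W, Q⁆ < W := lt_of_le_of_ne hWQle hneq
    have h1 := hmin _ hlt (fun q hq => hnorm q (hQW hq) (Subgroup.le_normalizer hq))
      (fun a ha => hnorm a (hAW ha) (hAQ ha))
    rw [← Subgroup.commutator_eq_bot_iff_le_centralizer] at h1
    have h2 := commutator_eq_bot_of_commutator_commutator_eq_bot hcopWQ hQW h1
    rw [Subgroup.commutator_eq_bot_iff_le_centralizer] at h2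
    exact hne h2
  -- (2) the Frattini-like subgroup is centralized by `Q`
  set M := frattiniLike p W with hM
  have hMW : M ≤ W := frattiniLike_le p W
  have hMlt : M < W := frattiniLike_lt hW hW1
  have hNM := normalizer_le_normalizer_frattiniLike p W
  have hMQ : M ≤ Subgroup.centralizer (Q : Set G) := hmin M hMlt (hQW.trans hNM) (hAW.trans hNM)
  -- (3) three subgroups: `[W, M] = 1`
  have hWM : ⁅W, M⁆ = ⊥ := by
    have h1 : ⁅⁅Q, M⁆, W⁆ = ⊥ := by
      have : ⁅Q, M⁆ = ⊥ := by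
        rw [Subgroup.commutator_comm, Subgroup.commutator_eq_bot_iff_le_centralizer]; exact hMQ
      rw [this, Subgroup.commutator_bot_left]
    have h2 : ⁅⁅M, W⁆, Q⁆ = ⊥ := by
      have h3 : ⁅M, W⁆ ≤ M :=
        Subgroup.le_normalizer_iff_commutator_le_left.1 (Subgroup.le_normalizer.trans hNM)
      have h4 : ⁅M, Q⁆ = ⊥ := by
        rw [Subgroup.commutator_eq_bot_iff_le_centralizer]; exact hMQ
      rw [← le_bot_iff, ← h4]
      exact Subgroup.commutator_mono h3 le_rfl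
    have h5 := Subgroup.commutator_commutator_eq_bot_of_rotate h1 h2
    rwa [hWQ] at h5
  have hcen : ∀ w ∈ W, ∀ m ∈ M, m * w = w * m := by
    intro w hw m hm
    have h1 := Subgroup.commutator_mem_commutator hw hm
    rw [hWM, Subgroup.mem_bot, commutatorElement_eq_one_iff_mul_comm] at h1
    exact h1.symm
  have hclass : ∀ x ∈ W, ∀ y ∈ W, ∀ z ∈ W, ⁅x, y⁆ * z = z * ⁅x, y⁆ := by
    intro x hx y hy z hz
    exact hcen z hz _ (comm_mem_frattiniLike p hx hy)
  refine ⟨?_, hclass⟩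
  -- (4) `x ↦ x ^ p` is multiplicative on `W`
  have hmulpow : ∀ x ∈ W, ∀ y ∈ W, (x * y) ^ p = x ^ p * y ^ p := by
    intro x hx y hy
    have hc : ∀ g : ↥W, g * ((⟨y, hy⟩ : ↥W) * ⟨x, hx⟩ * (⟨y, hy⟩ : ↥W)⁻¹ * (⟨x, hx⟩ : ↥W)⁻¹) =
        ((⟨y, hy⟩ : ↥W) * ⟨x, hx⟩ * (⟨y, hy⟩ : ↥W)⁻¹ * (⟨x, hx⟩ : ↥W)⁻¹) * g := by
      intro g
      apply Subtype.ext
      have := hclass y hy x hx g g.2
      rw [commutatorElement_def] at this
      simpa using this.symm
    have h1 := Cfsg.Agent.Lib.H22.mul_pow_of_central hc p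
    have h2 := Cfsg.Agent.Lib.H22.pow_mul_comm_of_central hc p
    set c : ↥W := (⟨y, hy⟩ : ↥W) * ⟨x, hx⟩ * (⟨y, hy⟩ : ↥W)⁻¹ * (⟨x, hx⟩ : ↥W)⁻¹ with hcdef
    have hcp : c ^ p = 1 := by
      have h3 : (⟨y, hy⟩ : ↥W) ^ p * ⟨x, hx⟩ = ⟨x, hx⟩ * (⟨y, hy⟩ : ↥W) ^ p := by
        apply Subtype.ext
        simp only [Subgroup.coe_mul, Subgroup.coe_pow]
        exact hcen x hx _ (pow_mem_frattiniLike p hy)
      rw [h3] at h2
      have h4 : c ^ p * (⟨x, hx⟩ * (⟨y, hy⟩ : ↥W) ^ p) = ⟨x, hx⟩ * (⟨y, hy⟩ : ↥W) ^ p := by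
        rw [← mul_assoc]; exact h2.symm
      exact mul_eq_right.1 h4
    have hdiv : p ∣ p * (p - 1) / 2 := by
      have h2dvd : 2 ∣ p - 1 := by
        rcases hp.eq_two_or_odd with h | h
        · exact absurd h hodd
        · omega
      obtain ⟨k, hk⟩ := h2dvd
      refine ⟨k, ?_⟩
      rw [hk, ← mul_assoc, mul_comm p 2, mul_assoc, Nat.mul_div_cancel_left _ (by norm_num)]
    obtain ⟨k, hk⟩ := hdiv
    rw [hk, pow_mul, hcp, one_pow, mul_one] at h1
    have := congrArg Subtype.val h1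
    simpa using this
  -- the elements of order dividing `p` form a subgroup containing `[W, Q]`
  let E : Subgroup G :=
    { carrier := {x | x ∈ W ∧ x ^ p = 1}
      one_mem' := ⟨W.one_mem, one_pow p⟩
      mul_mem' := by
        rintro a b ⟨ha, hap⟩ ⟨hb, hbp⟩
        exact ⟨W.mul_mem ha hb, by rw [hmulpow a ha b hb, hap, hbp, one_mul]⟩
      inv_mem' := by
        rintro a ⟨ha, hap⟩
        exact ⟨W.inv_mem ha, by rw [inv_pow, hap, inv_one]⟩ }
  have hE : ⁅W, Q⁆ ≤ E := by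
    rw [Subgroup.commutator_le]
    intro w hw q hq
    have hv : q * w⁻¹ * q⁻¹ ∈ W :=
      (Subgroup.mem_normalizer_iff.1 (hQW hq) w⁻¹).1 (W.inv_mem hw)
    have hwq : ⁅w, q⁆ = w * (q * w⁻¹ * q⁻¹) := by rw [commutatorElement_def]; group
    refine ⟨hwq ▸ W.mul_mem hw hv, ?_⟩
    rw [hwq, hmulpow w hw _ hv, conj_pow, inv_pow]
    have h1 : (w ^ p)⁻¹ ∈ M := Subgroup.inv_mem _ (pow_mem_frattiniLike p hw)
    have h2 := Subgroup.mem_centralizer_iff.1 (hMQ h1) q hq
    have h3 : q * (w ^ p)⁻¹ * q⁻¹ = (w ^ p)⁻¹ := by rw [h2]; group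
    rw [h3, mul_inv_cancel]
  intro w hw
  have : w ∈ E := hE (hWQ.symm ▸ hw)
  exact this.2


/-- If the `p'`-group `Q` acts nontrivially on the `p`-group `R` (`p` odd), there is a `QA`-invariant
subgroup of `R` of exponent `p` and class at most two on which `Q` acts nontrivially. -/
theorem exists_small_invariant [Finite G] {p : ℕ} [Fact p.Prime] (hodd : p ≠ 2)
    {Q A : Subgroup G} (hAQ : A ≤ Subgroup.normalizer (Q : Set G))
    (hQ : (Nat.card Q).Coprime p) :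
    ∀ (n : ℕ) (R : Subgroup G), Nat.card R = n → IsPGroup p R →
      Q ≤ Subgroup.normalizer (R : Set G) → A ≤ Subgroup.normalizer (R : Set G) →
      ¬ R ≤ Subgroup.centralizer (Q : Set G) →
      ∃ W : Subgroup G, W ≤ R ∧ Q ≤ Subgroup.normalizer (W : Set G) ∧
        A ≤ Subgroup.normalizer (W : Set G) ∧ ¬ W ≤ Subgroup.centralizer (Q : Set G) ∧
        (∀ w ∈ W, w ^ p = 1) ∧ (∀ x ∈ W, ∀ y ∈ W, ∀ z ∈ W, ⁅x, y⁆ * z = z * ⁅x, y⁆) := by
  intro n
  induction n using Nat.strong_induction_on with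
  | _ n ih =>
    intro R hn hR hQR hAR hne
    by_cases hex : ∃ W₀ : Subgroup G, W₀ < R ∧ Q ≤ Subgroup.normalizer (W₀ : Set G) ∧
        A ≤ Subgroup.normalizer (W₀ : Set G) ∧ ¬ W₀ ≤ Subgroup.centralizer (Q : Set G)
    · obtain ⟨W₀, hlt, hQW₀, hAW₀, hne₀⟩ := hex
      have hcard : Nat.card W₀ < n := by
        rw [← hn]
        exact Set.Finite.card_lt_card (Set.toFinite _) (SetLike.coe_ssubset_coe.2 hlt)
          |> fun h => by simpa using h
      obtain ⟨W, hWW₀, h1, h2, h3, h4, h5⟩ :=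
        ih _ hcard W₀ rfl (hR.to_le hlt.le) hQW₀ hAW₀ hne₀
      exact ⟨W, hWW₀.trans hlt.le, h1, h2, h3, h4, h5⟩
    · push Not at hex
      have := small_of_minimal_invariant hodd hR hQR hAR hAQ hQ hne
        (fun W₀ hlt h1 h2 => hex W₀ hlt h1 h2)
      exact ⟨R, le_rfl, hQR, hAR, hne, this.1, this.2⟩

/-- **Core lemma.** `p` odd; `R` a `p`-subgroup normalized by the `p'`-subgroup `Q` and the
`p`-subgroup `A`; `A` normalizes `Q` and contains every element of order `p` of `C_G(A)`.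
Then `Q` centralizes `R`. -/
theorem le_centralizer_of_omega_le [Finite G] {p : ℕ} [Fact p.Prime] (hodd : p ≠ 2)
    {R Q A : Subgroup G} (hR : IsPGroup p R)
    (hQR : Q ≤ Subgroup.normalizer (R : Set G)) (hAR : A ≤ Subgroup.normalizer (R : Set G))
    (hAQ : A ≤ Subgroup.normalizer (Q : Set G))
    (hQ : (Nat.card Q).Coprime p) (hA : IsPGroup p A)
    (hΩ : ∀ x ∈ Subgroup.centralizer (A : Set G), orderOf x = p → x ∈ A) :
    R ≤ Subgroup.centralizer (Q : Set G) := by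
  have hp : p.Prime := Fact.out
  by_contra hne
  obtain ⟨W, hWR, hQW, hAW, hneW, hexp, hcl⟩ :=
    exists_small_invariant hodd hAQ hQ (Nat.card R) R rfl hR hQR hAR hne
  obtain ⟨u, huW, huA, q, hq, hqu⟩ :=
    exists_mem_centralizer_not_centralized hp hodd hexp hcl hQW hAW hAQ hQ hA hneW
  have hu1 : u ≠ 1 := by
    rintro rfl
    exact hqu (by rw [mul_one, one_mul])
  have huo : orderOf u = p := orderOf_eq_prime (hexp u huW) hu1
  have huC : u ∈ Subgroup.centralizer (A : Set G) := by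
    rw [Subgroup.mem_centralizer_iff]
    exact huA
  have huAm : u ∈ A := hΩ u huC huo
  have huR : u ∈ R := hWR huW
  -- `[u, q] ∈ Q ∩ R = 1`
  have h1 : u * q * u⁻¹ * q⁻¹ ∈ Q :=
    Q.mul_mem ((Subgroup.mem_normalizer_iff.1 (hAQ huAm) q).1 hq) (Q.inv_mem hq)
  have h2 : u * q * u⁻¹ * q⁻¹ ∈ R := by
    have h3 : q * u⁻¹ * q⁻¹ ∈ R := (Subgroup.mem_normalizer_iff.1 (hQR hq) u⁻¹).1 (R.inv_mem huR)
    have : u * q * u⁻¹ * q⁻¹ = u * (q * u⁻¹ * q⁻¹) := by group
    rw [this]; exact R.mul_mem huR h3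
  have hdisj : Q ⊓ R = ⊥ := by
    obtain ⟨k, hk⟩ := IsPGroup.iff_card.1 hR
    apply (Subgroup.disjoint_of_coprime_natCard _).eq_bot
    rw [hk]; exact Nat.Coprime.pow_right k hQ
  have h3 : u * q * u⁻¹ * q⁻¹ = 1 := by
    have : u * q * u⁻¹ * q⁻¹ ∈ Q ⊓ R := ⟨h1, h2⟩
    rwa [hdisj, Subgroup.mem_bot] at this
  apply hqu
  calc q * u = (u * q * u⁻¹ * q⁻¹)⁻¹ * (u * q) := by group
    _ = u * q := by rw [h3, inv_one, one_mul]

end Cfsg.Agent.Lib.H7
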