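import Mathlib
import Cfsg.Prelude.Def_Local
import Cfsg.Agent.Lib.H7.CentComp
import Cfsg.Agent.Lib.H7.FStar
import Cfsg.Agent.Lib.H7.PLocal
import Cfsg.Agent.Lib.H7.CoreComp
import Cfsg.Agent.Lib.H7.OddInvariant
import Cfsg.Agent.Lib.H1.Fitting

set_option autoImplicit false
open Cfsg

namespace Cfsg.Agent.Lib.H7.PrimPair

open Cfsg.Agent.Lib.H7
open scoped commutatorElement

universe u

variable {G : Type u} [Group G]

/-- The image in `G` of a normal subgroup of `M` is normalized by `M`. -/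
theorem le_normalizer_map_subtype {M : Subgroup G} (N : Subgroup ↥M) [hn : N.Normal] :
    M ≤ Subgroup.normalizer ((N.map M.subtype : Subgroup G) : Set G) := by
  intro g hg
  rw [Subgroup.mem_normalizer_iff]
  intro x
  constructor
  · rintro ⟨y, hy, rfl⟩
    exact ⟨⟨g, hg⟩ * y * ⟨g, hg⟩⁻¹, hn.conj_mem y hy _, rfl⟩
  · rintro ⟨y, hy, hyx⟩
    refine ⟨⟨g, hg⟩⁻¹ * y * ⟨g, hg⟩, ?_, ?_⟩
    · have := hn.conj_mem y hy ⟨g, hg⟩⁻¹
      simpa using this
    · simp only [Subgroup.coe_subtype, Subgroup.coe_mul, InvMemClass.coe_inv] at hyx ⊢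
      rw [hyx]; group

/-- Elements of `P ⊔ Q` are products when `P` centralizes `Q`. -/
theorem mem_sup_of_le_centralizer {P Q : Subgroup G} (h : P ≤ Subgroup.centralizer (Q : Set G))
    {z : G} (hz : z ∈ P ⊔ Q) : ∃ a ∈ P, ∃ b ∈ Q, z = a * b := by
  rw [Subgroup.sup_eq_closure] at hz
  induction hz using Subgroup.closure_induction with
  | mem x hx =>
    rcases hx with hx | hx
    · exact ⟨x, hx, 1, Q.one_mem, (mul_one x).symm⟩
    · exact ⟨1, P.one_mem, x, hx, (one_mul x).symm⟩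
  | one => exact ⟨1, P.one_mem, 1, Q.one_mem, (mul_one 1).symm⟩
  | mul x y _ _ hx hy =>
    obtain ⟨a, ha, b, hb, rfl⟩ := hx
    obtain ⟨a', ha', b', hb', rfl⟩ := hy
    refine ⟨a * a', P.mul_mem ha ha', b * b', Q.mul_mem hb hb', ?_⟩
    have hc : b * a' = a' * b := Subgroup.mem_centralizer_iff.1 (h ha') b hb
    calc a * b * (a' * b') = a * (b * a') * b' := by group
      _ = a * (a' * b) * b' := by rw [hc]
      _ = a * a' * (b * b') := by group
  | inv x _ hx =>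
    obtain ⟨a, ha, b, hb, rfl⟩ := hx
    refine ⟨a⁻¹, P.inv_mem ha, b⁻¹, Q.inv_mem hb, ?_⟩
    have hc : b * a = a * b := Subgroup.mem_centralizer_iff.1 (h ha) b hb
    rw [mul_inv_rev, ← mul_inv_rev, ← mul_inv_rev, hc]

/-- **Key lemma.** Let `P` (a `p`-group) and `Q` (a `p'`-group) be commuting subgroups normalized by
`M`, with `C_M(P) ∩ C_M(Q) ⊆ PQ`, and `P₂ ≤ M` a `p`-subgroup centralizing `Q`. Then every
`p'`-element of `C_M(P)` centralizes `P₂`. -/
theorem mem_centralizer_of_coprime [Finite G] (p : ℕ) [Fact p.Prime] {M P Q P₂ : Subgroup G}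
    (hP : IsPGroup p P) (hP₂ : IsPGroup p P₂) (hQ : (Nat.card Q).Coprime p)
    (hMP : M ≤ Subgroup.normalizer (P : Set G)) (hMQ : M ≤ Subgroup.normalizer (Q : Set G))
    (hP₂M : P₂ ≤ M) (hPQ : P ≤ Subgroup.centralizer (Q : Set G))
    (hP₂Q : P₂ ≤ Subgroup.centralizer (Q : Set G))
    (hC : M ⊓ Subgroup.centralizer (P : Set G) ⊓ Subgroup.centralizer (Q : Set G) ≤ P ⊔ Q)
    {k : G} (hkM : k ∈ M) (hkP : k ∈ Subgroup.centralizer (P : Set G))
    (hk : (orderOf k).Coprime p) : k ∈ Subgroup.centralizer (P₂ : Set G) := by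
  rw [Subgroup.mem_centralizer_iff]
  intro x hx
  have hxM : x ∈ M := hP₂M hx
  -- z = x⁻¹ k x k⁻¹
  have hzM : x⁻¹ * (k * x * k⁻¹) ∈ M :=
    M.mul_mem (M.inv_mem hxM) (M.mul_mem (M.mul_mem hkM hxM) (M.inv_mem hkM))
  have hzP : x⁻¹ * (k * x * k⁻¹) ∈ Subgroup.centralizer (P : Set G) := by
    have h1 : x⁻¹ * k * x ∈ Subgroup.centralizer (P : Set G) := by
      rw [Subgroup.mem_centralizer_iff]
      intro u hu
      have hu' : x * u * x⁻¹ ∈ P := (Subgroup.mem_normalizer_iff.1 (hMP hxM) u).1 hu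
      have h2 := Subgroup.mem_centralizer_iff.1 hkP _ hu'
      calc u * (x⁻¹ * k * x) = x⁻¹ * (x * u * x⁻¹ * k) * x := by group
        _ = x⁻¹ * (k * (x * u * x⁻¹)) * x := by rw [h2]
        _ = x⁻¹ * k * x * u := by group
    have h3 : x⁻¹ * (k * x * k⁻¹) = (x⁻¹ * k * x) * k⁻¹ := by group
    rw [h3]
    exact Subgroup.mul_mem _ h1 (Subgroup.inv_mem _ hkP)
  have hzQ : x⁻¹ * (k * x * k⁻¹) ∈ Subgroup.centralizer (Q : Set G) := by
    have h1 : k * x * k⁻¹ ∈ Subgroup.centralizer (Q : Set G) := by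
      rw [Subgroup.mem_centralizer_iff]
      intro u hu
      have hu' : k⁻¹ * u * k ∈ Q := by
        have := (Subgroup.mem_normalizer_iff.1 (hMQ (M.inv_mem hkM)) u).1 hu
        simpa using this
      have h2 := Subgroup.mem_centralizer_iff.1 (hP₂Q hx) _ hu'
      calc u * (k * x * k⁻¹) = k * (k⁻¹ * u * k * x) * k⁻¹ := by group
        _ = k * (x * (k⁻¹ * u * k)) * k⁻¹ := by rw [h2]
        _ = k * x * k⁻¹ * u := by group
    exact Subgroup.mul_mem _ (Subgroup.inv_mem _ (hP₂Q hx)) h1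
  obtain ⟨a, ha, b, hb, hab⟩ := mem_sup_of_le_centralizer hPQ
    (hC (Subgroup.mem_inf.2 ⟨Subgroup.mem_inf.2 ⟨hzM, hzP⟩, hzQ⟩))
  have hconj : k * x * k⁻¹ = x * a * b := by
    calc k * x * k⁻¹ = x * (x⁻¹ * (k * x * k⁻¹)) := by group
      _ = x * (a * b) := by rw [hab]
      _ = x * a * b := by group
  -- b commutes with x * a
  have hbx : Commute (x * a) b := by
    have h1 : b * x = x * b := Subgroup.mem_centralizer_iff.1 (hP₂Q hx) b hb
    have h2 : b * a = a * b := Subgroup.mem_centralizer_iff.1 (hPQ ha) b hb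
    show x * a * b = b * (x * a)
    calc x * a * b = x * (a * b) := by group
      _ = x * (b * a) := by rw [h2]
      _ = (x * b) * a := by group
      _ = (b * x) * a := by rw [h1]
      _ = b * (x * a) := by group
  -- P₂ ⊔ P is a p-group
  have hPP : IsPGroup p (P₂ ⊔ P : Subgroup G) :=
    hP₂.to_sup_of_normal_right' hP (hP₂M.trans hMP)
  obtain ⟨n, hn⟩ := hP₂ ⟨x, hx⟩
  have hxn : x ^ (p ^ n) = 1 := by
    have := congrArg Subtype.val hn
    simpa using this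
  obtain ⟨m, hm⟩ := hPP ⟨x * a, (P₂ ⊔ P).mul_mem (Subgroup.mem_sup_left hx) (Subgroup.mem_sup_right ha)⟩
  have hxam : (x * a) ^ (p ^ m) = 1 := by
    have := congrArg Subtype.val hm
    simpa using this
  have hb1 : b = 1 := by
    have h1 : (k * x * k⁻¹) ^ (p ^ (n + m)) = 1 := by
      rw [conj_pow, pow_add, pow_mul, hxn, one_pow, mul_one, mul_inv_cancel]
    have h2 : (x * a) ^ (p ^ (n + m)) = 1 := by
      rw [pow_add, mul_comm (p ^ n) (p ^ m), pow_mul, hxam, one_pow]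
    rw [hconj, hbx.mul_pow, h2, one_mul] at h1
    have h3 : orderOf b ∣ p ^ (n + m) := orderOf_dvd_of_pow_eq_one h1
    have h4 : orderOf b ∣ Nat.card Q := Subgroup.orderOf_dvd_natCard Q hb
    have h5 : (orderOf b).Coprime (p ^ (n + m)) :=
      Nat.Coprime.pow_right _ (Nat.Coprime.coprime_dvd_left h4 hQ)
    exact orderOf_eq_one_iff.1 (Nat.Coprime.eq_one_of_dvd h5 h3)
  rw [hb1, mul_one] at hconj
  have hka : k * a * k⁻¹ = a := by
    have h1 := Subgroup.mem_centralizer_iff.1 hkP a ha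
    rw [← h1]; group
  have hpow : ∀ j : ℕ, k ^ j * x * (k ^ j)⁻¹ = x * a ^ j := by
    intro j
    induction j with
    | zero => simp
    | succ j ih =>
      calc k ^ (j + 1) * x * (k ^ (j + 1))⁻¹ = k * (k ^ j * x * (k ^ j)⁻¹) * k⁻¹ := by
            rw [pow_succ']; group
        _ = k * (x * a ^ j) * k⁻¹ := by rw [ih]
        _ = (k * x * k⁻¹) * (k * a * k⁻¹) ^ j := by rw [conj_pow]; group
        _ = x * a * a ^ j := by rw [hconj, hka]
        _ = x * a ^ (j + 1) := by rw [pow_succ']; group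
  have h6 := hpow (orderOf k)
  rw [pow_orderOf_eq_one, one_mul, inv_one, mul_one] at h6
  have h7 : a ^ orderOf k = 1 := by
    have h8 : x * 1 = x * a ^ orderOf k := by rw [mul_one]; exact h6
    exact (mul_left_cancel h8).symm
  obtain ⟨s, hs⟩ := hP ⟨a, ha⟩
  have has : a ^ (p ^ s) = 1 := by
    have := congrArg Subtype.val hs
    simpa using this
  have h8 : orderOf a ∣ orderOf k := orderOf_dvd_of_pow_eq_one h7
  have h9 : orderOf a ∣ p ^ s := orderOf_dvd_of_pow_eq_one has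
  have h10 : (orderOf a).Coprime (p ^ s) :=
    Nat.Coprime.pow_right _ (Nat.Coprime.coprime_dvd_left h8 hk)
  have ha1 : a = 1 := orderOf_eq_one_iff.1 (Nat.Coprime.eq_one_of_dvd h10 h9)
  rw [ha1, mul_one] at hconj
  calc x * k = (k * x * k⁻¹) * k := by rw [hconj]
    _ = k * x := by group

/-- The preimage of a component under an injective homomorphism whose range contains it is a
component. -/
theorem isComponent_comap_of_le_range {H H' : Type*} [Group H] [Group H'] (f : H →* H')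
    (hf : Function.Injective f) {K : Subgroup H'} (hK : IsComponent K) (hKr : K ≤ f.range) :
    IsComponent (K.comap f) := by
  refine ⟨hK.1.comap f, ?_⟩
  have h1 : (K.comap f).map f = K := Subgroup.map_comap_eq_self hKr
  have e : ↥(K.comap f) ≃* ↥K :=
    ((K.comap f).equivMapOfInjective f hf).trans (MulEquiv.subgroupCongr h1)
  exact quasisimple_of_mulEquiv e.symm hK.2

/-- A component of `M` (viewed in `G`) lying in `L ≤ M` is a component of `L`. -/
theorem isComponent_subgroupOf_of_le {M L : Subgroup G} (hLM : L ≤ M) {K : Subgroup ↥M}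
    (hK : IsComponent K) (hKL : K.map M.subtype ≤ L) :
    IsComponent ((K.map M.subtype).subgroupOf L) := by
  have h1 : (K.map M.subtype).subgroupOf L = K.comap (Subgroup.inclusion hLM) := by
    ext y
    rw [Subgroup.mem_subgroupOf, Subgroup.mem_comap]
    constructor
    · rintro ⟨k, hk, hky⟩
      have : k = Subgroup.inclusion hLM y := Subtype.ext hky
      rwa [← this]
    · intro h
      exact ⟨Subgroup.inclusion hLM y, h, rfl⟩
  rw [h1]
  apply isComponent_comap_of_le_range _ (Subgroup.inclusion_injective hLM) hK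
  intro k hk
  exact ⟨⟨(k : G), hKL ⟨k, hk, rfl⟩⟩, Subtype.ext rfl⟩

/-- `F*(M)`, `E(M)`, `O_q(M)` as subgroups of `G`. -/
abbrev FsG (M : Subgroup G) : Subgroup G := (generalizedFittingSubgroup ↥M).map M.subtype
abbrev LayG (M : Subgroup G) : Subgroup G := (layer ↥M).map M.subtype
abbrev OpG (q : ℕ) (M : Subgroup G) : Subgroup G := (pCore q ↥M).map M.subtype

theorem LayG_le_FsG (M : Subgroup G) : LayG M ≤ FsG M :=
  Subgroup.map_mono layer_le_generalizedFittingSubgroup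

theorem OpG_le_FsG [Finite G] (q : ℕ) [Fact q.Prime] (M : Subgroup G) : OpG q M ≤ FsG M := by
  apply Subgroup.map_mono
  refine le_trans ?_ fittingSubgroup_le_generalizedFittingSubgroup
  exact le_fittingSubgroup (Cfsg.Agent.Lib.H1.pCore_normal q _)
    (Cfsg.Agent.Lib.H1.pCore_isPGroup q _).isNilpotent

theorem inf_centralizer_FsG_le [Finite G] (M : Subgroup G) :
    M ⊓ Subgroup.centralizer (FsG M : Set G) ≤ FsG M := by
  intro x hx
  obtain ⟨hxM, hxC⟩ := Subgroup.mem_inf.1 hx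
  refine ⟨⟨x, hxM⟩, ?_, rfl⟩
  apply centralizer_generalizedFittingSubgroup_le
  rw [Subgroup.mem_centralizer_iff]
  intro f hf
  exact Subtype.ext (Subgroup.mem_centralizer_iff.1 hxC _ (Subgroup.mem_map_of_mem _ hf))

theorem FsG_eq [Finite G] (M : Subgroup G) :
    FsG M = LayG M ⊔ ⨆ q : Nat.Primes, OpG (q : ℕ) M := by
  show (generalizedFittingSubgroup ↥M).map M.subtype = _
  unfold generalizedFittingSubgroup
  rw [Subgroup.map_sup, Cfsg.Agent.Lib.H1.fittingSubgroup_eq_iSup_pCore, Subgroup.map_iSup]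

/-- Under `F*(M₁) ≤ M₂` and `F*(M₂) ≤ M₁`, every component of `M₁` is a component of `M₂`. -/
theorem exists_component_map_eq [Finite G] {M₁ M₂ : Subgroup G} (h₁ : FsG M₁ ≤ M₂)
    (h₂ : FsG M₂ ≤ M₁) {K : Subgroup ↥M₁} (hK : IsComponent K) :
    ∃ K' : Subgroup ↥M₂, IsComponent K' ∧ K'.map M₂.subtype = K.map M₁.subtype := by
  by_contra hcon
  push Not at hcon
  have hKF : K.map M₁.subtype ≤ FsG M₁ :=
    (Subgroup.map_mono (component_le_layer hK)).trans (LayG_le_FsG M₁)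
  have hKL : K.map M₁.subtype ≤ M₁ ⊓ M₂ := le_inf (Subgroup.map_subtype_le _) (hKF.trans h₁)
  have hKc : IsComponent ((K.map M₁.subtype).subgroupOf (M₁ ⊓ M₂)) :=
    isComponent_subgroupOf_of_le inf_le_left hK hKL
  -- K centralizes E(M₂)
  have hE : LayG M₂ ≤ Subgroup.centralizer ((K.map M₁.subtype : Subgroup G) : Set G) := by
    show (layer ↥M₂).map M₂.subtype ≤ _
    rw [Subgroup.map_le_iff_le_comap]
    apply sSup_le
    intro K' hK'
    rw [← Subgroup.map_le_iff_le_comap]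
    have hK'F : K'.map M₂.subtype ≤ FsG M₂ :=
      (Subgroup.map_mono (component_le_layer hK')).trans (LayG_le_FsG M₂)
    have hK'L : K'.map M₂.subtype ≤ M₁ ⊓ M₂ :=
      le_inf (hK'F.trans h₂) (Subgroup.map_subtype_le _)
    have hK'c : IsComponent ((K'.map M₂.subtype).subgroupOf (M₁ ⊓ M₂)) :=
      isComponent_subgroupOf_of_le inf_le_right hK' hK'L
    rcases eq_or_commutator_eq_bot_of_isComponent_subgroupOf hK'L hKL hK'c hKc with h | h
    · exact absurd h (hcon K' hK')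
    · exact Subgroup.commutator_eq_bot_iff_le_centralizer.1 h
  -- K centralizes each O_q(M₂)
  have hF : ∀ q : Nat.Primes, OpG (q : ℕ) M₂ ≤
      Subgroup.centralizer ((K.map M₁.subtype : Subgroup G) : Set G) := by
    intro q
    have : Fact (q : ℕ).Prime := ⟨q.2⟩
    have hqL : OpG (q : ℕ) M₂ ≤ M₁ ⊓ M₂ :=
      le_inf ((OpG_le_FsG (q : ℕ) M₂).trans h₂) (Subgroup.map_subtype_le _)
    have hqp : IsPGroup (q : ℕ) (OpG (q : ℕ) M₂) :=
      (Cfsg.Agent.Lib.H1.pCore_isPGroup (q : ℕ) _).map _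
    have hqn : M₂ ≤ Subgroup.normalizer ((OpG (q : ℕ) M₂ : Subgroup G) : Set G) := by
      have hn : (pCore (q : ℕ) ↥M₂).Normal := Cfsg.Agent.Lib.H1.pCore_normal _ _
      exact le_normalizer_map_subtype _
    have hsolv : Group.IsSolvable ↥((OpG (q : ℕ) M₂).subgroupOf (M₁ ⊓ M₂)) := by
      have h1 : IsPGroup (q : ℕ) ↥((OpG (q : ℕ) M₂).subgroupOf (M₁ ⊓ M₂)) := hqp.comap_subtype
      have := h1.isNilpotent
      infer_instance
    have hnorm : (K.map M₁.subtype).subgroupOf (M₁ ⊓ M₂) ≤ Subgroup.normalizer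
        (((OpG (q : ℕ) M₂).subgroupOf (M₁ ⊓ M₂) : Subgroup ↥(M₁ ⊓ M₂)) : Set ↥(M₁ ⊓ M₂)) := by
      have hn : ((OpG (q : ℕ) M₂).subgroupOf (M₁ ⊓ M₂)).Normal :=
        Subgroup.normal_subgroupOf_of_le_normalizer (inf_le_right.trans hqn)
      rw [Subgroup.normalizer_eq_top]
      exact le_top
    have h2 := component_commutator_solvable hKc hsolv hnorm
    rw [Subgroup.le_centralizer_iff]
    intro k hk
    rw [Subgroup.mem_centralizer_iff]
    intro y hy
    have hy := SetLike.mem_coe.1 hy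
    have h3 : ⁅(⟨k, hKL hk⟩ : ↥(M₁ ⊓ M₂)), (⟨y, hqL hy⟩ : ↥(M₁ ⊓ M₂))⁆ ∈
        (⊥ : Subgroup ↥(M₁ ⊓ M₂)) := by
      rw [← h2]
      exact Subgroup.commutator_mem_commutator (Subgroup.mem_subgroupOf.2 hk)
        (Subgroup.mem_subgroupOf.2 hy)
    rw [Subgroup.mem_bot] at h3
    have h4 := congrArg Subtype.val h3
    simp only [commutatorElement_def, Subgroup.coe_mul, InvMemClass.coe_inv,
      Subgroup.coe_one] at h4
    -- k y k⁻¹ y⁻¹ = 1
    calc y * k = (k * y * k⁻¹ * y⁻¹)⁻¹ * (k * y) := by group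
      _ = k * y := by rw [h4, inv_one, one_mul]
  -- hence K ≤ Z(F*(M₂)) is abelian
  have hKC : K.map M₁.subtype ≤ Subgroup.centralizer (FsG M₂ : Set G) := by
    rw [Subgroup.le_centralizer_iff, FsG_eq]
    exact sup_le hE (iSup_le hF)
  have hKF₂ : K.map M₁.subtype ≤ FsG M₂ :=
    (le_inf (hKL.trans inf_le_right) hKC).trans (inf_centralizer_FsG_le M₂)
  apply quasisimple_not_solvable hK.2
  have hcomm : ∀ a b : ↥K, a * b = b * a := by
    intro a b
    apply Subtype.ext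
    apply Subtype.ext
    have ha : ((a : ↥M₁) : G) ∈ K.map M₁.subtype := ⟨a, a.2, rfl⟩
    have hb : ((b : ↥M₁) : G) ∈ K.map M₁.subtype := ⟨b, b.2, rfl⟩
    exact (Subgroup.mem_centralizer_iff.1 (hKC hb) _ (hKF₂ ha))
  let _ : CommGroup ↥K := { (inferInstance : Group ↥K) with mul_comm := hcomm }
  infer_instance

theorem LayG_le_LayG [Finite G] {M₁ M₂ : Subgroup G} (h₁ : FsG M₁ ≤ M₂) (h₂ : FsG M₂ ≤ M₁) :
    LayG M₁ ≤ LayG M₂ := by
  show (layer ↥M₁).map M₁.subtype ≤ _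
  rw [Subgroup.map_le_iff_le_comap]
  apply sSup_le
  intro K hK
  rw [← Subgroup.map_le_iff_le_comap]
  obtain ⟨K', hK', hKK'⟩ := exists_component_map_eq h₁ h₂ hK
  rw [← hKK']
  exact Subgroup.map_mono (component_le_layer hK')

/-- The `p'`-part of the Fitting subgroup of `M`, as a subgroup of `G`. -/
abbrev OpcG (p : ℕ) (M : Subgroup G) : Subgroup G :=
  (⨆ q : {q : Nat.Primes // (q : ℕ) ≠ p}, pCore ((q : Nat.Primes) : ℕ) ↥M).map M.subtype

theorem le_normalizer_OpG (q : ℕ) (M : Subgroup G) :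
    M ≤ Subgroup.normalizer ((OpG q M : Subgroup G) : Set G) := by
  have hn : (pCore q ↥M).Normal := Cfsg.Agent.Lib.H1.pCore_normal _ _
  exact le_normalizer_map_subtype _

theorem le_normalizer_OpcG (p : ℕ) (M : Subgroup G) :
    M ≤ Subgroup.normalizer ((OpcG p M : Subgroup G) : Set G) := by
  have hn : ∀ q : {q : Nat.Primes // (q : ℕ) ≠ p}, (pCore ((q : Nat.Primes) : ℕ) ↥M).Normal :=
    fun q => Cfsg.Agent.Lib.H1.pCore_normal _ _
  exact le_normalizer_map_subtype _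

theorem isPGroup_OpG (q : ℕ) [Fact q.Prime] (M : Subgroup G) : IsPGroup q (OpG q M) :=
  (Cfsg.Agent.Lib.H1.pCore_isPGroup q _).map _

theorem card_OpcG_coprime [Finite G] (p : ℕ) [hp : Fact p.Prime] (M : Subgroup G) :
    (Nat.card (OpcG p M)).Coprime p := by
  have h1 : (⨆ q : {q : Nat.Primes // (q : ℕ) ≠ p}, pCore ((q : Nat.Primes) : ℕ) ↥M) ≤
      pPrimeCore p ↥M := by
    apply iSup_le
    intro q
    have : Fact ((q : Nat.Primes) : ℕ).Prime := ⟨q.1.2⟩
    apply Cfsg.Agent.Lib.H22.le_pPrimeCore p _ (Cfsg.Agent.Lib.H1.pCore_normal _ _)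
    obtain ⟨k, hk⟩ := IsPGroup.iff_card.1
      (Cfsg.Agent.Lib.H1.pCore_isPGroup ((q : Nat.Primes) : ℕ) ↥M)
    rw [hk]
    apply Nat.Coprime.pow_left
    exact (Nat.coprime_primes q.1.2 hp.out).2 q.2
  have h2 : Nat.card (OpcG p M) ∣ Nat.card (pPrimeCore p ↥M) :=
    (Subgroup.card_map_dvd _ _).trans (Subgroup.card_dvd_of_le h1)
  exact Nat.Coprime.coprime_dvd_left h2 (Cfsg.Agent.Lib.H22.card_pPrimeCore_coprime p)

theorem FsG_eq_of_layer_eq_bot [Finite G] (p : ℕ) [hp : Fact p.Prime] (M : Subgroup G)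
    (hl : layer ↥M = ⊥) : FsG M = OpG p M ⊔ OpcG p M := by
  rw [FsG_eq]
  show (layer ↥M).map M.subtype ⊔ _ = _
  rw [hl, Subgroup.map_bot, bot_sup_eq]
  apply le_antisymm
  · apply iSup_le
    intro q
    by_cases hq : (q : ℕ) = p
    · rw [hq]; exact le_sup_left
    · refine le_trans ?_ le_sup_right
      apply Subgroup.map_mono
      exact le_iSup (fun q : {q : Nat.Primes // (q : ℕ) ≠ p} =>
        pCore ((q : Nat.Primes) : ℕ) ↥M) ⟨q, hq⟩
  · apply sup_le
    · exact le_iSup (fun q : Nat.Primes => OpG (q : ℕ) M) ⟨p, hp.out⟩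
    · show Subgroup.map _ _ ≤ _
      rw [Subgroup.map_iSup]
      apply iSup_le
      intro q
      exact le_iSup (fun q : Nat.Primes => OpG (q : ℕ) M) q.1

theorem OpG_le_centralizer_OpcG [Finite G] (p : ℕ) [hp : Fact p.Prime] (M : Subgroup G) :
    OpG p M ≤ Subgroup.centralizer (OpcG p M : Set G) := by
  rw [← Subgroup.commutator_eq_bot_iff_le_centralizer]
  apply commutator_eq_bot_of_coprime_of_le_normalizer
  · exact (Subgroup.map_subtype_le _).trans (le_normalizer_OpcG p M)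
  · exact (Subgroup.map_subtype_le _).trans (le_normalizer_OpG p M)
  · obtain ⟨k, hk⟩ := IsPGroup.iff_card.1 (isPGroup_OpG p M)
    rw [hk]
    exact (Nat.Coprime.pow_right k (card_OpcG_coprime p M)).symm

theorem mem_centralizer_sup {P Q : Subgroup G} {x : G}
    (hP : x ∈ Subgroup.centralizer (P : Set G)) (hQ : x ∈ Subgroup.centralizer (Q : Set G)) :
    x ∈ Subgroup.centralizer ((P ⊔ Q : Subgroup G) : Set G) := by
  have h1 : P ⊔ Q ≤ Subgroup.centralizer ({x} : Set G) := by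
    apply sup_le
    · intro y hy
      rw [Subgroup.mem_centralizer_singleton_iff]
      exact Subgroup.mem_centralizer_iff.1 hP y hy
    · intro y hy
      rw [Subgroup.mem_centralizer_singleton_iff]
      exact Subgroup.mem_centralizer_iff.1 hQ y hy
  rw [Subgroup.mem_centralizer_iff]
  intro y hy
  exact Subgroup.mem_centralizer_singleton_iff.1 (h1 hy)

theorem OpcG_le_FsG [Finite G] (p : ℕ) (M : Subgroup G) : OpcG p M ≤ FsG M := by
  apply Subgroup.map_mono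
  refine le_trans ?_ fittingSubgroup_le_generalizedFittingSubgroup
  apply iSup_le
  intro q
  have : Fact ((q : Nat.Primes) : ℕ).Prime := ⟨q.1.2⟩
  exact le_fittingSubgroup (Cfsg.Agent.Lib.H1.pCore_normal _ _)
    (Cfsg.Agent.Lib.H1.pCore_isPGroup _ _).isNilpotent

/-- The `p'`-elements of `C_M(O_p(M))`. -/
def Sset (p : ℕ) (M : Subgroup G) : Set G :=
  {k | k ∈ M ∧ k ∈ Subgroup.centralizer (OpG p M : Set G) ∧ (orderOf k).Coprime p}

theorem Sset_subset [Finite G] (p : ℕ) [hp : Fact p.Prime] {M₁ M₂ : Subgroup G}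
    (h₁ : FsG M₁ ≤ M₂) (h₂ : FsG M₂ ≤ M₁) (hl₁ : layer ↥M₁ = ⊥)
    (hprim : M₁ ⊓ Subgroup.normalizer ((OpG p M₂ : Subgroup G) : Set G) ≤ M₂) :
    Sset p M₁ ⊆ Sset p M₂ := by
  rintro k ⟨hkM, hkP, hk⟩
  have hP₂M : OpG p M₂ ≤ M₁ := (OpG_le_FsG p M₂).trans h₂
  have hP₂Q : OpG p M₂ ≤ Subgroup.centralizer (OpcG p M₁ : Set G) := by
    rw [← Subgroup.commutator_eq_bot_iff_le_centralizer]
    apply commutator_eq_bot_of_coprime_of_le_normalizer
    · exact hP₂M.trans (le_normalizer_OpcG p M₁)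
    · exact ((OpcG_le_FsG p M₁).trans h₁).trans (le_normalizer_OpG p M₂)
    · obtain ⟨n, hn⟩ := IsPGroup.iff_card.1 (isPGroup_OpG p M₂)
      rw [hn]
      exact (Nat.Coprime.pow_right n (card_OpcG_coprime p M₁)).symm
  have hC : M₁ ⊓ Subgroup.centralizer (OpG p M₁ : Set G) ⊓
      Subgroup.centralizer (OpcG p M₁ : Set G) ≤ OpG p M₁ ⊔ OpcG p M₁ := by
    intro x hx
    obtain ⟨hx1, hx3⟩ := Subgroup.mem_inf.1 hx
    obtain ⟨hx1, hx2⟩ := Subgroup.mem_inf.1 hx1
    rw [← FsG_eq_of_layer_eq_bot p M₁ hl₁]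
    apply inf_centralizer_FsG_le M₁
    refine Subgroup.mem_inf.2 ⟨hx1, ?_⟩
    rw [FsG_eq_of_layer_eq_bot p M₁ hl₁]
    exact mem_centralizer_sup hx2 hx3
  have hkP₂ := mem_centralizer_of_coprime p (isPGroup_OpG p M₁) (isPGroup_OpG p M₂)
    (card_OpcG_coprime p M₁) (le_normalizer_OpG p M₁) (le_normalizer_OpcG p M₁) hP₂M
    (OpG_le_centralizer_OpcG p M₁) hP₂Q hC hkM hkP hk
  refine ⟨hprim (Subgroup.mem_inf.2 ⟨hkM, Subgroup.centralizer_le_normalizer _ hkP₂⟩), hkP₂, hk⟩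

theorem le_normalizer_closure_Sset (p : ℕ) (M : Subgroup G) :
    M ≤ Subgroup.normalizer ((Subgroup.closure (Sset p M) : Subgroup G) : Set G) := by
  have key : ∀ g ∈ M, ∀ s ∈ Sset p M, g * s * g⁻¹ ∈ Sset p M := by
    rintro g hg s ⟨hsM, hsP, hs⟩
    refine ⟨M.mul_mem (M.mul_mem hg hsM) (M.inv_mem hg), ?_, ?_⟩
    · rw [Subgroup.mem_centralizer_iff]
      intro u hu
      have hu' : g⁻¹ * u * g ∈ OpG p M := by
        have := (Subgroup.mem_normalizer_iff.1 (le_normalizer_OpG p M (M.inv_mem hg)) u).1 hu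
        simpa using this
      have h2 := Subgroup.mem_centralizer_iff.1 hsP _ hu'
      calc u * (g * s * g⁻¹) = g * (g⁻¹ * u * g * s) * g⁻¹ := by group
        _ = g * (s * (g⁻¹ * u * g)) * g⁻¹ := by rw [h2]
        _ = g * s * g⁻¹ * u := by group
    · have hsc : SemiconjBy g s (g * s * g⁻¹) := by
        show g * s = g * s * g⁻¹ * g
        group
      rwa [← SemiconjBy.orderOf_eq g hsc]
  intro g hg
  apply mem_normalizer_closure
  · exact key g hg
  · intro s hs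
    have := key g⁻¹ (M.inv_mem hg) s hs
    simpa using this

/-- In a primitive pair with trivial layers and `O_p(M₁) ≠ 1 ≠ O_p(M₂)`, the `p'`-part of
`F(M₁)` is trivial. -/
theorem OpcG_eq_bot [Finite G] (p : ℕ) [hp : Fact p.Prime] {M₁ M₂ : Subgroup G}
    (hN : ∀ A : Subgroup G, A ≠ ⊥ → A ≤ M₁ ⊓ M₂ → M₁ ≤ Subgroup.normalizer (A : Set G) →
      M₂ ≤ Subgroup.normalizer (A : Set G) → False)
    (h₁ : FsG M₁ ≤ M₂) (h₂ : FsG M₂ ≤ M₁) (hl₁ : layer ↥M₁ = ⊥) (hl₂ : layer ↥M₂ = ⊥)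
    (hprim₁ : M₁ ⊓ Subgroup.normalizer ((OpG p M₂ : Subgroup G) : Set G) ≤ M₂)
    (hprim₂ : M₂ ⊓ Subgroup.normalizer ((OpG p M₁ : Subgroup G) : Set G) ≤ M₁) :
    OpcG p M₁ = ⊥ := by
  have hS : Sset p M₁ = Sset p M₂ :=
    Set.Subset.antisymm (Sset_subset p h₁ h₂ hl₁ hprim₁) (Sset_subset p h₂ h₁ hl₂ hprim₂)
  by_contra hne
  have hQX : OpcG p M₁ ≤ Subgroup.closure (Sset p M₁) := by
    intro b hb
    apply Subgroup.subset_closure
    refine ⟨Subgroup.map_subtype_le _ hb, ?_, ?_⟩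
    · have := OpG_le_centralizer_OpcG p M₁
      rw [Subgroup.le_centralizer_iff] at this
      exact this hb
    · exact Nat.Coprime.coprime_dvd_left (Subgroup.orderOf_dvd_natCard _ hb)
        (card_OpcG_coprime p M₁)
  apply hN (Subgroup.closure (Sset p M₁))
  · intro h
    apply hne
    rw [eq_bot_iff, ← h]
    exact hQX
  · rw [Subgroup.closure_le]
    intro k hk
    refine Subgroup.mem_inf.2 ⟨hk.1, ?_⟩
    rw [hS] at hk
    exact hk.1
  · exact le_normalizer_closure_Sset p M₁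
  · rw [hS]
    exact le_normalizer_closure_Sset p M₂

theorem OpG_le_centralizer_OpcG_cross [Finite G] (p : ℕ) [hp : Fact p.Prime] {M₁ M₂ : Subgroup G}
    (h₁ : FsG M₁ ≤ M₂) (h₂ : FsG M₂ ≤ M₁) :
    OpG p M₂ ≤ Subgroup.centralizer (OpcG p M₁ : Set G) := by
  rw [← Subgroup.commutator_eq_bot_iff_le_centralizer]
  apply commutator_eq_bot_of_coprime_of_le_normalizer
  · exact ((OpG_le_FsG p M₂).trans h₂).trans (le_normalizer_OpcG p M₁)
  · exact ((OpcG_le_FsG p M₁).trans h₁).trans (le_normalizer_OpG p M₂)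
  · obtain ⟨n, hn⟩ := IsPGroup.iff_card.1 (isPGroup_OpG p M₂)
    rw [hn]
    exact (Nat.Coprime.pow_right n (card_OpcG_coprime p M₁)).symm

theorem eq_bot_of_FsG_eq_bot [Finite G] (M : Subgroup G) (h : FsG M = ⊥) : M = ⊥ := by
  have h1 := inf_centralizer_FsG_le M
  rw [h] at h1
  rw [eq_bot_iff]
  intro x hx
  apply h1
  refine Subgroup.mem_inf.2 ⟨hx, ?_⟩
  rw [Subgroup.mem_centralizer_iff]
  intro y hy
  have : y = 1 := by simpa using hy
  rw [this, one_mul, mul_one]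

/-- **Bender's theorem on primitive pairs** (ambient form). -/
theorem exists_prime_of_primitive_pair [Finite G] (M₁ M₂ : Subgroup G) (hne : M₁ ≠ M₂)
    (hP : ∀ A : Subgroup G, A ≠ ⊥ → A ≤ M₁ ⊓ M₂ →
      (M₁ ≤ Subgroup.normalizer (A : Set G) → M₂ ⊓ Subgroup.normalizer (A : Set G) = M₁ ⊓ M₂) ∧
      (M₂ ≤ Subgroup.normalizer (A : Set G) → M₁ ⊓ Subgroup.normalizer (A : Set G) = M₁ ⊓ M₂))
    (h₁ : FsG M₁ ≤ M₂) (h₂ : FsG M₂ ≤ M₁) :
    ∃ p : ℕ, p.Prime ∧ generalizedFittingSubgroup ↥M₁ = pCore p ↥M₁ ∧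
      generalizedFittingSubgroup ↥M₂ = pCore p ↥M₂ := by
  have hN : ∀ A : Subgroup G, A ≠ ⊥ → A ≤ M₁ ⊓ M₂ → M₁ ≤ Subgroup.normalizer (A : Set G) →
      M₂ ≤ Subgroup.normalizer (A : Set G) → False := by
    intro A hA hAL hn1 hn2
    obtain ⟨hp1, hp2⟩ := hP A hA hAL
    have e1 := hp1 hn1
    have e2 := hp2 hn2
    rw [inf_eq_left.2 hn2] at e1
    rw [inf_eq_left.2 hn1] at e2
    apply hne
    apply le_antisymm
    · rw [e2]; exact inf_le_right
    · rw [e1]; exact inf_le_left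
  have hN' : ∀ A : Subgroup G, A ≠ ⊥ → A ≤ M₂ ⊓ M₁ → M₂ ≤ Subgroup.normalizer (A : Set G) →
      M₁ ≤ Subgroup.normalizer (A : Set G) → False := by
    intro A hA hAL hn2 hn1
    exact hN A hA (by rw [inf_comm]; exact hAL) hn1 hn2
  -- layers
  have hLay : LayG M₁ = LayG M₂ := le_antisymm (LayG_le_LayG h₁ h₂) (LayG_le_LayG h₂ h₁)
  have hLayB : LayG M₁ = ⊥ := by
    by_contra hA
    apply hN (LayG M₁) hA
    · exact le_inf (Subgroup.map_subtype_le _) ((LayG_le_FsG M₁).trans h₁)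
    · exact le_normalizer_map_subtype (layer ↥M₁)
    · rw [hLay]; exact le_normalizer_map_subtype (layer ↥M₂)
  have hl₁ : layer ↥M₁ = ⊥ :=
    (Subgroup.map_eq_bot_iff_of_injective _ M₁.subtype_injective).1 hLayB
  have hl₂ : layer ↥M₂ = ⊥ := by
    rw [hLay] at hLayB
    exact (Subgroup.map_eq_bot_iff_of_injective _ M₂.subtype_injective).1 hLayB
  -- a prime p with O_p(M₁) ≠ 1
  have hex : ∃ q : Nat.Primes, OpG (q : ℕ) M₁ ≠ ⊥ := by
    by_contra hcon
    push Not at hcon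
    have hF1 : FsG M₁ = ⊥ := by
      rw [FsG_eq]
      show (layer ↥M₁).map M₁.subtype ⊔ _ = ⊥
      rw [hl₁, Subgroup.map_bot, bot_sup_eq, eq_bot_iff]
      exact iSup_le (fun q => (hcon q).le)
    have hM1 := eq_bot_of_FsG_eq_bot M₁ hF1
    have hF2 : FsG M₂ = ⊥ := by
      rw [eq_bot_iff, ← hM1]; exact h₂
    exact hne (hM1.trans (eq_bot_of_FsG_eq_bot M₂ hF2).symm)
  obtain ⟨q, hq⟩ := hex
  have hp : Fact (q : ℕ).Prime := ⟨q.2⟩
  refine ⟨(q : ℕ), q.2, ?_⟩
  -- O_p(M₂) ≠ 1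
  have hq₂ : OpG (q : ℕ) M₂ ≠ ⊥ := by
    intro h
    have hF2 : FsG M₂ = OpcG (q : ℕ) M₂ := by
      rw [FsG_eq_of_layer_eq_bot (q : ℕ) M₂ hl₂, h, bot_sup_eq]
    have h3 : OpG (q : ℕ) M₁ ≤ FsG M₂ := by
      refine le_trans (le_inf ((OpG_le_FsG (q : ℕ) M₁).trans h₁) ?_) (inf_centralizer_FsG_le M₂)
      rw [hF2]
      exact OpG_le_centralizer_OpcG_cross (q : ℕ) h₂ h₁
    rw [hF2] at h3
    apply hq
    have hc := card_OpcG_coprime (q : ℕ) M₂
    obtain ⟨n, hn⟩ := IsPGroup.iff_card.1 (isPGroup_OpG (q : ℕ) M₁)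
    have hd : Nat.card (OpG (q : ℕ) M₁) ∣ Nat.card (OpcG (q : ℕ) M₂) := Subgroup.card_dvd_of_le h3
    have h1 : Nat.card (OpG (q : ℕ) M₁) = 1 := by
      apply Nat.Coprime.eq_one_of_dvd _ hd
      rw [hn]
      exact Nat.Coprime.pow_left n hc.symm
    exact (Subgroup.card_eq_one).1 h1
  have hqL₁ : OpG (q : ℕ) M₁ ≤ M₁ ⊓ M₂ :=
    le_inf (Subgroup.map_subtype_le _) ((OpG_le_FsG (q : ℕ) M₁).trans h₁)
  have hqL₂ : OpG (q : ℕ) M₂ ≤ M₁ ⊓ M₂ :=
    le_inf ((OpG_le_FsG (q : ℕ) M₂).trans h₂) (Subgroup.map_subtype_le _)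
  have hprim₁ : M₁ ⊓ Subgroup.normalizer ((OpG (q : ℕ) M₂ : Subgroup G) : Set G) ≤ M₂ := by
    rw [(hP _ hq₂ hqL₂).2 (le_normalizer_OpG (q : ℕ) M₂)]
    exact inf_le_right
  have hprim₂ : M₂ ⊓ Subgroup.normalizer ((OpG (q : ℕ) M₁ : Subgroup G) : Set G) ≤ M₁ := by
    rw [(hP _ hq hqL₁).1 (le_normalizer_OpG (q : ℕ) M₁)]
    exact inf_le_left
  have hQ₁ := OpcG_eq_bot (q : ℕ) hN h₁ h₂ hl₁ hl₂ hprim₁ hprim₂
  have hQ₂ := OpcG_eq_bot (q : ℕ) hN' h₂ h₁ hl₂ hl₁ hprim₂ hprim₁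
  constructor
  · apply Subgroup.map_injective M₁.subtype_injective
    show FsG M₁ = OpG (q : ℕ) M₁
    rw [FsG_eq_of_layer_eq_bot (q : ℕ) M₁ hl₁, hQ₁, sup_bot_eq]
  · apply Subgroup.map_injective M₂.subtype_injective
    show FsG M₂ = OpG (q : ℕ) M₂
    rw [FsG_eq_of_layer_eq_bot (q : ℕ) M₂ hl₂, hQ₂, sup_bot_eq]

end Cfsg.Agent.Lib.H7.PrimPair
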