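import Mathlib
import Cfsg.Prelude.Def_OddOrderLocal
import Cfsg.Prelude.Def_OddOrder
import Cfsg.Prelude.Def_CaseTheorems
import Cfsg.Agent.Lib.H1.CoprimeAction
import Cfsg.Agent.Lib.H1.CoprimeSylow
import Cfsg.Agent.Lib.H19.PiCore
import Cfsg.Agent.Lib.H7.PrimPair
import Cfsg.Agent.Lib.H7.CoprimeFactor

/-! # Bender–Glauberman §7, basic facts (helper7) -/

set_option autoImplicit false
set_option linter.style.haveILetI false
set_option linter.unusedSectionVars false
set_option linter.deprecated false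
open Cfsg

namespace Cfsg.Agent.Lib.H7.BG7

open Cfsg.Agent.Lib.H19 (IsPiCard)

universe u
variable {G : Type u} [Group G]

theorem piCoreOf_le (π : Set ℕ) (X : Subgroup G) : piCoreOf π X ≤ X :=
  Subgroup.map_subtype_le _

theorem le_normalizer_piCoreOf (π : Set ℕ) (X : Subgroup G) :
    X ≤ Subgroup.normalizer ((piCoreOf π X : Subgroup G) : Set G) :=
  Cfsg.Agent.Lib.H7.PrimPair.le_normalizer_map_subtype _

theorem card_piCoreOf (π : Set ℕ) (X : Subgroup G) :
    Nat.card (piCoreOf π X) = Nat.card (piCore π X) :=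
  (Nat.card_congr ((piCore π X).equivMapOfInjective X.subtype
    (Subgroup.subtype_injective X)).toEquiv).symm

theorem piCoreOf_isPiCard [Finite G] (π : Set ℕ) (X : Subgroup G) :
    IsPiCard π (Nat.card (piCoreOf π X)) := by
  rw [card_piCoreOf]
  exact Cfsg.Agent.Lib.H19.piCore_isPiCard π

/-- A `π`-subgroup of `X` normalized by `X` lies in `O_π(X)`. -/
theorem le_piCoreOf {π : Set ℕ} {X N : Subgroup G} (hNX : N ≤ X)
    (hXN : X ≤ Subgroup.normalizer (N : Set G)) (hN : IsPiCard π (Nat.card N)) :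
    N ≤ piCoreOf π X := by
  have hn : (N.subgroupOf X).Normal := (Subgroup.normal_subgroupOf_iff_le_normalizer hNX).2 hXN
  have hc : Nat.card (N.subgroupOf X) = Nat.card N :=
    Nat.card_congr (Subgroup.subgroupOfEquivOfLe hNX).toEquiv
  have h1 : N.subgroupOf X ≤ piCore π X := Cfsg.Agent.Lib.H19.le_piCore hn (by rw [hc]; exact hN)
  have h2 := Subgroup.map_mono (f := X.subtype) h1
  rwa [Subgroup.map_subgroupOf_eq_of_le hNX] at h2

theorem isPiCard_of_le [Finite G] {π : Set ℕ} {Y Z : Subgroup G} (h : Y ≤ Z)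
    (hZ : IsPiCard π (Nat.card Z)) : IsPiCard π (Nat.card Y) :=
  Cfsg.Agent.Lib.H19.isPiCard_of_dvd (Subgroup.card_dvd_of_le h) hZ

theorem coprime_of_isPiCard (m : ℕ) {n : ℕ} (hn : IsPiCard (primesNotDvd m) n) :
    m.Coprime n := by
  apply Nat.coprime_of_dvd
  intro k hk hkm hkn
  exact (hn k hk hkn).2 hkm

theorem isPiCard_of_isPGroup [Finite G] {q : ℕ} (hq : q.Prime) {π : Set ℕ} (hqπ : q ∈ π)
    {Q : Subgroup G} (hQ : IsPGroup q Q) : IsPiCard π (Nat.card Q) := by
  intro r hr hrQ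
  haveI : Fact q.Prime := ⟨hq⟩
  obtain ⟨k, hk⟩ := IsPGroup.iff_card.1 hQ
  rw [hk] at hrQ
  have := (Nat.prime_dvd_prime_iff_eq hr hq).1 (hr.dvd_of_dvd_pow hrQ)
  rw [this]; exact hqπ

theorem isPGroup_of_isPiCard_singleton [Finite G] {q : ℕ} (hq : q.Prime) {Q : Subgroup G}
    (hQ : IsPiCard ({q} : Set ℕ) (Nat.card Q)) : IsPGroup q Q := by
  haveI : Fact q.Prime := ⟨hq⟩
  rw [IsPGroup.iff_card]
  refine ⟨_, Nat.eq_prime_pow_of_unique_prime_dvd Nat.card_pos.ne' ?_⟩
  intro d hd hdQ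
  exact hQ d hd hdQ

section MinSimple

variable [Finite G]

theorem solvable_of_ne_top (hG : IsMinSimpleOddOrder G) {H : Subgroup G} (h : H ≠ ⊤) :
    Group.IsSolvable H := hG.2.2.2 H h

theorem solvable_of_le_ne_top (hG : IsMinSimpleOddOrder G) {H Y : Subgroup G} (h : H ≠ ⊤)
    (hY : Y ≤ H) : Group.IsSolvable Y := by
  haveI := solvable_of_ne_top hG h
  exact solvable_of_solvable_injective (Subgroup.inclusion_injective hY)

theorem normalizer_ne_top (hG : IsMinSimpleOddOrder G) {A : Subgroup G} (h1 : A ≠ ⊥)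
    (h2 : A ≠ ⊤) : Subgroup.normalizer (A : Set G) ≠ ⊤ := by
  intro h
  haveI := hG.2.1
  have hn : A.Normal := Subgroup.normalizer_eq_top_iff.1 h
  rcases hn.eq_bot_or_eq_top with h | h
  · exact h1 h
  · exact h2 h

theorem centralizer_singleton_ne_top (hG : IsMinSimpleOddOrder G) {b : G} (hb : b ≠ 1) :
    Subgroup.centralizer ({b} : Set G) ≠ ⊤ := by
  intro h
  haveI := hG.2.1
  have hbz : b ∈ Subgroup.center G := by
    rw [Subgroup.mem_center_iff]
    intro g
    have hg : g ∈ Subgroup.centralizer ({b} : Set G) := h ▸ Subgroup.mem_top g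
    rw [Subgroup.mem_centralizer_singleton_iff] at hg
    exact hg
  rcases (inferInstance : (Subgroup.center G).Normal).eq_bot_or_eq_top with h0 | h0
  · rw [h0, Subgroup.mem_bot] at hbz
    exact hb hbz
  · apply hG.2.2.1
    refine ⟨⟨fun x y => ?_⟩⟩
    have hx : x ∈ Subgroup.center G := h0 ▸ Subgroup.mem_top x
    exact (Subgroup.mem_center_iff.1 hx y).symm

end MinSimple

section TH

variable [Finite G] {A : Subgroup G}

theorem inv_le_core (hA : TransitivityHypothesis A) {X : Subgroup G} (hX : X ≠ ⊤) (hAX : A ≤ X)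
    {Y : Subgroup G} (hY : Y ∈ invSubgroups X A (primesNotDvd (Nat.card A))) :
    Y ≤ piCoreOf (primesNotDvd (Nat.card A)) X := by
  rw [← hA.2.2 X hX hAX]
  exact le_sSup hY

theorem coprimeAction_core (hG : IsMinSimpleOddOrder G) {X : Subgroup G} (hX : X ≠ ⊤)
    (hAX : A ≤ X) :
    Cfsg.Agent.Lib.H1.CoprimeAction A (piCoreOf (primesNotDvd (Nat.card A)) X) :=
  ⟨hAX.trans (le_normalizer_piCoreOf _ _),
    coprime_of_isPiCard _ (piCoreOf_isPiCard _ _),
    Or.inr (solvable_of_le_ne_top hG hX (piCoreOf_le _ _))⟩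

/-- `C_{O_{π'}(X)}(A) ≤ O_{π'}(C_G(A))`. -/
theorem core_inf_centralizer_le (hG : IsMinSimpleOddOrder G) (hA : TransitivityHypothesis A)
    {Y : Subgroup G} (hY : IsPiCard (primesNotDvd (Nat.card A)) (Nat.card Y))
    (hYA : Y ≤ Subgroup.centralizer (A : Set G)) :
    Y ≤ piCoreOf (primesNotDvd (Nat.card A)) (Subgroup.centralizer (A : Set G)) := by
  have hCN : Subgroup.centralizer (A : Set G) ≤ Subgroup.normalizer (A : Set G) :=
    Subgroup.centralizer_le_normalizer _
  have hN := normalizer_ne_top hG hA.1 hA.2.1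
  have h1 : Y ∈ invSubgroups (Subgroup.normalizer (A : Set G)) A (primesNotDvd (Nat.card A)) :=
    ⟨hYA.trans hCN, hY, (Subgroup.le_centralizer_iff.1 hYA).trans (Subgroup.centralizer_le_normalizer _)⟩
  have h2 := inv_le_core hA hN Subgroup.le_normalizer h1
  have h3 : Y ≤ piCoreOf (primesNotDvd (Nat.card A)) (Subgroup.normalizer (A : Set G)) ⊓
      Subgroup.centralizer (A : Set G) := le_inf h2 hYA
  refine h3.trans (le_piCoreOf inf_le_right ?_ (isPiCard_of_le inf_le_left (piCoreOf_isPiCard _ _)))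
  exact Cfsg.Agent.Lib.H7.le_normalizer_inf (hCN.trans (le_normalizer_piCoreOf _ _))
    Subgroup.le_normalizer

end TH

end Cfsg.Agent.Lib.H7.BG7
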