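import Mathlib
import Cfsg.Agent.Lib.H7.BG7a
import Cfsg.Agent.Lib.H7.Signalizer3

/-! # Bender–Glauberman §7: transitivity under the transitivity hypothesis (helper7) -/

set_option autoImplicit false
set_option linter.style.haveILetI false
set_option linter.unusedSectionVars false
set_option linter.deprecated false
open Cfsg

namespace Cfsg.Agent.Lib.H7.BG7

open Cfsg.Agent.Lib.H19 (IsPiCard)
open Cfsg.Agent.Lib.H7 (map_conj_map_conj map_conj_one)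

universe u
variable {G : Type u} [Group G] [Finite G] {A : Subgroup G}

/-- `Q` is a maximal `A`-invariant `q`-subgroup of `G`. -/
def IsMaxInv (A : Subgroup G) (q : ℕ) (Q : Subgroup G) : Prop :=
  IsPGroup q Q ∧ A ≤ Subgroup.normalizer (Q : Set G) ∧
    ∀ R : Subgroup G, IsPGroup q R → A ≤ Subgroup.normalizer (R : Set G) → Q ≤ R → R = Q

theorem mem_maxInv_iff {q : ℕ} (hq : q.Prime) {Q : Subgroup G} :
    Q ∈ maxInvSubgroups ⊤ A {q} ↔ IsMaxInv A q Q := by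
  constructor
  · rintro ⟨⟨_, h1, h2⟩, h3⟩
    refine ⟨isPGroup_of_isPiCard_singleton hq h1, h2, ?_⟩
    intro R hR hRA hQR
    exact h3 R ⟨le_top, isPiCard_of_isPGroup (π := {q}) hq (Set.mem_singleton q) hR, hRA⟩ hQR
  · rintro ⟨h1, h2, h3⟩
    refine ⟨⟨le_top, isPiCard_of_isPGroup (π := {q}) hq (Set.mem_singleton q) h1, h2⟩, ?_⟩
    rintro R ⟨_, hR1, hR2⟩ hQR
    exact h3 R (isPGroup_of_isPiCard_singleton hq hR1) hR2 hQR

theorem exists_isMaxInv_ge {q : ℕ} {S : Subgroup G} (hSq : IsPGroup q S)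
    (hSA : A ≤ Subgroup.normalizer (S : Set G)) : ∃ Q, IsMaxInv A q Q ∧ S ≤ Q := by
  obtain ⟨R, hSR, hR⟩ := Finite.exists_le_maximal
    (p := fun V : Subgroup G => IsPGroup q V ∧ A ≤ Subgroup.normalizer (V : Set G)) (a := S)
    ⟨hSq, hSA⟩
  refine ⟨R, ⟨hR.1.1, hR.1.2, ?_⟩, hSR⟩
  intro R' h1 h2 hle
  exact le_antisymm (hR.2 ⟨h1, h2⟩ hle) hle

theorem le_normalizer_map_conj {Q : Subgroup G} (hQA : A ≤ Subgroup.normalizer (Q : Set G))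
    {k : G} (hk : k ∈ Subgroup.centralizer (A : Set G)) :
    A ≤ Subgroup.normalizer ((Q.map (MulAut.conj k).toMonoidHom : Subgroup G) : Set G) := by
  intro a ha
  rw [Subgroup.mem_normalizer_iff_map_conj_eq]
  show (Q.map (MulAut.conj k).toMonoidHom).map (MulAut.conj a).toMonoidHom =
    Q.map (MulAut.conj k).toMonoidHom
  have hak : a * k = k * a := (Subgroup.mem_centralizer_iff.1 hk a ha)
  have hQa : Q.map (MulAut.conj a).toMonoidHom = Q :=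
    Subgroup.mem_normalizer_iff_map_conj_eq.1 (hQA ha)
  rw [map_conj_map_conj, hak, ← map_conj_map_conj, hQa]

theorem isMaxInv_map_conj {q : ℕ} {Q : Subgroup G} (hQ : IsMaxInv A q Q) {k : G}
    (hk : k ∈ Subgroup.centralizer (A : Set G)) :
    IsMaxInv A q (Q.map (MulAut.conj k).toMonoidHom) := by
  obtain ⟨hq, hA, hmax⟩ := hQ
  refine ⟨hq.map _, le_normalizer_map_conj hA hk, ?_⟩
  intro R hRq hRA hle
  have hk' : k⁻¹ ∈ Subgroup.centralizer (A : Set G) := Subgroup.inv_mem _ hk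
  have h1 : Q ≤ R.map (MulAut.conj k⁻¹).toMonoidHom := by
    have := Subgroup.map_mono (f := (MulAut.conj k⁻¹).toMonoidHom) hle
    rwa [map_conj_map_conj, inv_mul_cancel, map_conj_one] at this
  have h2 := hmax _ (hRq.map _) (le_normalizer_map_conj hRA hk') h1
  rw [← h2, map_conj_map_conj, mul_inv_cancel, map_conj_one]

/-- `K = O_{π(A)'}(C_G(A))`. -/
abbrev KK (A : Subgroup G) : Subgroup G :=
  piCoreOf (primesNotDvd (Nat.card A)) (Subgroup.centralizer (A : Set G))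

theorem KK_le_centralizer (A : Subgroup G) : KK A ≤ Subgroup.centralizer (A : Set G) :=
  piCoreOf_le _ _

/-- In a proper subgroup `X ≥ A`, two `A`-invariant `q`-subgroups lie in `A`-invariant
`q`-subgroups conjugate under `K`. -/
theorem exists_sylow_pair (hG : IsMinSimpleOddOrder G) (hA : TransitivityHypothesis A)
    {q : ℕ} [hq : Fact q.Prime] (hqA : ¬ q ∣ Nat.card A) {X : Subgroup G} (hX : X ≠ ⊤)
    (hAX : A ≤ X) {R₁ R₂ : Subgroup G} (h₁X : R₁ ≤ X) (h₁q : IsPGroup q R₁)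
    (h₁A : A ≤ Subgroup.normalizer (R₁ : Set G)) (h₂X : R₂ ≤ X) (h₂q : IsPGroup q R₂)
    (h₂A : A ≤ Subgroup.normalizer (R₂ : Set G)) :
    ∃ S₁ S₂ : Subgroup G, R₁ ≤ S₁ ∧ R₂ ≤ S₂ ∧ IsPGroup q S₁ ∧ IsPGroup q S₂ ∧
      A ≤ Subgroup.normalizer (S₁ : Set G) ∧ A ≤ Subgroup.normalizer (S₂ : Set G) ∧
      S₁ ≤ X ∧ S₂ ≤ X ∧
      ∃ k ∈ KK A, S₁.map (MulAut.conj k).toMonoidHom = S₂ := by
  have hqπ : q ∈ primesNotDvd (Nat.card A) := ⟨hq.out, hqA⟩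
  have hact := coprimeAction_core (A := A) hG hX hAX
  have hR₁ : R₁ ≤ piCoreOf (primesNotDvd (Nat.card A)) X :=
    inv_le_core hA hX hAX ⟨h₁X, isPiCard_of_isPGroup hq.out hqπ h₁q, h₁A⟩
  have hR₂ : R₂ ≤ piCoreOf (primesNotDvd (Nat.card A)) X :=
    inv_le_core hA hX hAX ⟨h₂X, isPiCard_of_isPGroup hq.out hqπ h₂q, h₂A⟩
  obtain ⟨S₁, hS₁, hRS₁, hAS₁⟩ :=
    Cfsg.Agent.Lib.H1.coprime_invariant_psubgroup_le_sylow hact hR₁ h₁q h₁A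
  obtain ⟨S₂, hS₂, hRS₂, hAS₂⟩ :=
    Cfsg.Agent.Lib.H1.coprime_invariant_psubgroup_le_sylow hact hR₂ h₂q h₂A
  obtain ⟨c, hc, hcS⟩ := Cfsg.Agent.Lib.H1.coprime_invariant_sylow_conj hact hS₁ hS₂ hAS₁ hAS₂
  refine ⟨S₁, S₂, hRS₁, hRS₂, hS₁.isPGroup, hS₂.isPGroup, hAS₁, hAS₂,
    hS₁.le.trans (piCoreOf_le _ _), hS₂.le.trans (piCoreOf_le _ _), c, ?_, hcS⟩
  exact core_inf_centralizer_le hG hA (isPiCard_of_le inf_le_left (piCoreOf_isPiCard _ _))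
    inf_le_right hc

theorem normalizer_ne_top_of_isPGroup (hG : IsMinSimpleOddOrder G) {q : ℕ} [Fact q.Prime]
    {D : Subgroup G} (hD : IsPGroup q D) (hD1 : D ≠ ⊥) :
    Subgroup.normalizer (D : Set G) ≠ ⊤ := by
  apply normalizer_ne_top hG hD1
  rintro rfl
  -- G would be a q-group, hence solvable... G simple nonabelian: contradiction via center
  have hGq : IsPGroup q G := hD.of_equiv Subgroup.topEquiv
  haveI := hG.2.1
  haveI : Nontrivial G := IsSimpleGroup.toNontrivial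
  have hz := hGq.center_nontrivial
  rcases (inferInstance : (Subgroup.center G).Normal).eq_bot_or_eq_top with h0 | h0
  · exact (Subgroup.nontrivial_iff_ne_bot _).1 hz h0
  · apply hG.2.2.1
    refine ⟨⟨fun x y => ?_⟩⟩
    have hx : x ∈ Subgroup.center G := h0 ▸ Subgroup.mem_top x
    exact (Subgroup.mem_center_iff.1 hx y).symm

/-- Maximal `A`-invariant `q`-subgroups with nontrivial intersection are conjugate under `K`. -/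
theorem conj_of_inf_ne_bot (hG : IsMinSimpleOddOrder G) (hA : TransitivityHypothesis A)
    {q : ℕ} [hq : Fact q.Prime] (hqA : ¬ q ∣ Nat.card A) :
    ∀ (n : ℕ) (Q₁ Q₂ : Subgroup G), IsMaxInv A q Q₁ → IsMaxInv A q Q₂ → Q₁ ⊓ Q₂ ≠ ⊥ →
      Nat.card G - Nat.card (Q₁ ⊓ Q₂ : Subgroup G) ≤ n →
      ∃ k ∈ KK A, Q₁.map (MulAut.conj k).toMonoidHom = Q₂ := by
  intro n
  induction n using Nat.strong_induction_on with
  | _ n ih =>
  intro Q₁ Q₂ hQ₁ hQ₂ hne hn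
  obtain ⟨hQ₁q, hQ₁A, hQ₁max⟩ := id hQ₁
  obtain ⟨hQ₂q, hQ₂A, hQ₂max⟩ := id hQ₂
  by_cases h1 : Q₁ ⊓ Q₂ = Q₁
  · have hle : Q₁ ≤ Q₂ := inf_eq_left.1 h1
    have := hQ₁max Q₂ hQ₂q hQ₂A hle
    exact ⟨1, Subgroup.one_mem _, by rw [map_conj_one, this]⟩
  by_cases h2 : Q₁ ⊓ Q₂ = Q₂
  · have hle : Q₂ ≤ Q₁ := inf_eq_right.1 h2
    have := hQ₂max Q₁ hQ₁q hQ₁A hle
    exact ⟨1, Subgroup.one_mem _, by rw [map_conj_one, this]⟩
  -- D = Q₁ ⊓ Q₂ is a proper subgroup of both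
  have hDq : IsPGroup q (Q₁ ⊓ Q₂ : Subgroup G) := hQ₁q.to_le inf_le_left
  have hAD : A ≤ Subgroup.normalizer ((Q₁ ⊓ Q₂ : Subgroup G) : Set G) :=
    Cfsg.Agent.Lib.H7.le_normalizer_inf hQ₁A hQ₂A
  have hX := normalizer_ne_top_of_isPGroup hG hDq hne
  have hANX : A ≤ Subgroup.normalizer ((Subgroup.normalizer ((Q₁ ⊓ Q₂ : Subgroup G) : Set G) :
      Subgroup G) : Set G) := hAD.trans Subgroup.le_normalizer
  -- normalizers grow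
  have grow : ∀ Q : Subgroup G, IsPGroup q Q → Q₁ ⊓ Q₂ ≤ Q → Q₁ ⊓ Q₂ ≠ Q →
      Nat.card (Q₁ ⊓ Q₂ : Subgroup G) <
        Nat.card (Subgroup.normalizer ((Q₁ ⊓ Q₂ : Subgroup G) : Set G) ⊓ Q : Subgroup G) := by
    intro Q hQq hle hneq
    obtain ⟨x, hx, hxD⟩ := Cfsg.Agent.Lib.H7.exists_mem_normalizer_notMem q hQq hle hneq
    exact Cfsg.Agent.Lib.H7.card_lt_card_of_le_of_mem_of_notMem
      (le_inf Subgroup.le_normalizer hle) hx hxD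
  have g₁ := grow Q₁ hQ₁q inf_le_left h1
  have g₂ := grow Q₂ hQ₂q inf_le_right h2
  obtain ⟨S₁, S₂, hRS₁, hRS₂, hS₁q, hS₂q, hAS₁, hAS₂, -, -, k, hk, hkS⟩ :=
    exists_sylow_pair hG hA hqA hX hAD (R₁ := Subgroup.normalizer ((Q₁ ⊓ Q₂ : Subgroup G) : Set G) ⊓ Q₁)
      (R₂ := Subgroup.normalizer ((Q₁ ⊓ Q₂ : Subgroup G) : Set G) ⊓ Q₂)
      inf_le_left (hQ₁q.to_le inf_le_right) (Cfsg.Agent.Lib.H7.le_normalizer_inf hANX hQ₁A)
      inf_le_left (hQ₂q.to_le inf_le_right) (Cfsg.Agent.Lib.H7.le_normalizer_inf hANX hQ₂A)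
  obtain ⟨T₁, hT₁, hST₁⟩ := exists_isMaxInv_ge hS₁q hAS₁
  obtain ⟨T₂, hT₂, hST₂⟩ := exists_isMaxInv_ge hS₂q hAS₂
  have hG' : ∀ K : Subgroup G, Nat.card K ≤ Nat.card G := fun K => Subgroup.card_le_card_group K
  have hpos : ∀ K : Subgroup G, K ≠ ⊥ ↔ 1 < Nat.card K := by
    intro K
    rw [Ne, ← Subgroup.card_eq_one]
    have := Nat.card_pos (α := K)
    omega
  have hD1 : 1 < Nat.card (Q₁ ⊓ Q₂ : Subgroup G) := (hpos _).1 hne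
  -- Q₁ ~ T₁
  have hc₁ : Nat.card (Subgroup.normalizer ((Q₁ ⊓ Q₂ : Subgroup G) : Set G) ⊓ Q₁ : Subgroup G) ≤
      Nat.card (Q₁ ⊓ T₁ : Subgroup G) :=
    Subgroup.card_le_of_le (le_inf inf_le_right (hRS₁.trans hST₁))
  obtain ⟨k₁, hk₁, hk₁Q⟩ := ih (Nat.card G - Nat.card (Q₁ ⊓ T₁ : Subgroup G))
    (by have := hG' (Q₁ ⊓ T₁); omega) Q₁ T₁ hQ₁ hT₁ ((hpos _).2 (by omega)) le_rfl
  have hc₂ : Nat.card (Subgroup.normalizer ((Q₁ ⊓ Q₂ : Subgroup G) : Set G) ⊓ Q₂ : Subgroup G) ≤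
      Nat.card (Q₂ ⊓ T₂ : Subgroup G) :=
    Subgroup.card_le_of_le (le_inf inf_le_right (hRS₂.trans hST₂))
  obtain ⟨k₂, hk₂, hk₂Q⟩ := ih (Nat.card G - Nat.card (Q₂ ⊓ T₂ : Subgroup G))
    (by have := hG' (Q₂ ⊓ T₂); omega) Q₂ T₂ hQ₂ hT₂ ((hpos _).2 (by omega)) le_rfl
  have hkC : k ∈ Subgroup.centralizer (A : Set G) := KK_le_centralizer A hk
  have hT₁k := isMaxInv_map_conj hT₁ hkC
  have hc₃ : Nat.card (Subgroup.normalizer ((Q₁ ⊓ Q₂ : Subgroup G) : Set G) ⊓ Q₂ : Subgroup G) ≤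
      Nat.card (T₁.map (MulAut.conj k).toMonoidHom ⊓ T₂ : Subgroup G) := by
    apply Subgroup.card_le_of_le
    refine le_inf ?_ (hRS₂.trans hST₂)
    refine hRS₂.trans ?_
    rw [← hkS]
    exact Subgroup.map_mono hST₁
  obtain ⟨k₃, hk₃, hk₃Q⟩ := ih
    (Nat.card G - Nat.card (T₁.map (MulAut.conj k).toMonoidHom ⊓ T₂ : Subgroup G))
    (by have := hG' (T₁.map (MulAut.conj k).toMonoidHom ⊓ T₂); omega) _ T₂ hT₁k hT₂
    ((hpos _).2 (by omega)) le_rfl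
  refine ⟨k₂⁻¹ * (k₃ * (k * k₁)), ?_, ?_⟩
  · exact Subgroup.mul_mem _ (Subgroup.inv_mem _ hk₂) (Subgroup.mul_mem _ hk₃
      (Subgroup.mul_mem _ hk hk₁))
  · rw [← map_conj_map_conj, ← map_conj_map_conj, ← map_conj_map_conj, hk₁Q, hk₃Q, ← hk₂Q,
      map_conj_map_conj, inv_mul_cancel, map_conj_one]

/-- BG Proposition 7.5-type statement (S1392). -/
theorem conj_of_common_overgroup (hG : IsMinSimpleOddOrder G) (hA : TransitivityHypothesis A)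
    {q : ℕ} [hq : Fact q.Prime] (hqA : ¬ q ∣ Nat.card A) {Q₁ Q₂ : Subgroup G}
    (hQ₁ : IsMaxInv A q Q₁) (hQ₂ : IsMaxInv A q Q₂) {H : Subgroup G} (hH : H ≠ ⊤) (hAH : A ≤ H)
    (hH₁ : H ⊓ Q₁ ≠ ⊥) (hH₂ : H ⊓ Q₂ ≠ ⊥) :
    ∃ k ∈ KK A, Q₁.map (MulAut.conj k).toMonoidHom = Q₂ := by
  obtain ⟨hQ₁q, hQ₁A, -⟩ := id hQ₁
  obtain ⟨hQ₂q, hQ₂A, -⟩ := id hQ₂
  have hAN : A ≤ Subgroup.normalizer ((H : Subgroup G) : Set G) := hAH.trans Subgroup.le_normalizer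
  obtain ⟨S₁, S₂, hRS₁, hRS₂, hS₁q, hS₂q, hAS₁, hAS₂, -, -, k, hk, hkS⟩ :=
    exists_sylow_pair hG hA hqA hH hAH (R₁ := H ⊓ Q₁) (R₂ := H ⊓ Q₂)
      inf_le_left (hQ₁q.to_le inf_le_right) (Cfsg.Agent.Lib.H7.le_normalizer_inf hAN hQ₁A)
      inf_le_left (hQ₂q.to_le inf_le_right) (Cfsg.Agent.Lib.H7.le_normalizer_inf hAN hQ₂A)
  obtain ⟨T₁, hT₁, hST₁⟩ := exists_isMaxInv_ge hS₁q hAS₁
  obtain ⟨T₂, hT₂, hST₂⟩ := exists_isMaxInv_ge hS₂q hAS₂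
  have ne_bot_of_le : ∀ {U V : Subgroup G}, U ≠ ⊥ → U ≤ V → V ≠ ⊥ := by
    intro U V hU hUV hV
    apply hU
    rw [hV] at hUV
    exact le_bot_iff.1 hUV
  have e₁ : Q₁ ⊓ T₁ ≠ ⊥ := ne_bot_of_le hH₁ (le_inf inf_le_right (hRS₁.trans hST₁))
  have e₂ : Q₂ ⊓ T₂ ≠ ⊥ := ne_bot_of_le hH₂ (le_inf inf_le_right (hRS₂.trans hST₂))
  obtain ⟨k₁, hk₁, hk₁Q⟩ := conj_of_inf_ne_bot hG hA hqA _ Q₁ T₁ hQ₁ hT₁ e₁ le_rfl
  obtain ⟨k₂, hk₂, hk₂Q⟩ := conj_of_inf_ne_bot hG hA hqA _ Q₂ T₂ hQ₂ hT₂ e₂ le_rfl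
  have hkC : k ∈ Subgroup.centralizer (A : Set G) := KK_le_centralizer A hk
  have hT₁k := isMaxInv_map_conj hT₁ hkC
  have e₃ : T₁.map (MulAut.conj k).toMonoidHom ⊓ T₂ ≠ ⊥ := by
    apply ne_bot_of_le hH₂
    refine le_inf ?_ (hRS₂.trans hST₂)
    refine hRS₂.trans ?_
    rw [← hkS]
    exact Subgroup.map_mono hST₁
  obtain ⟨k₃, hk₃, hk₃Q⟩ := conj_of_inf_ne_bot hG hA hqA _ _ T₂ hT₁k hT₂ e₃ le_rfl
  refine ⟨k₂⁻¹ * (k₃ * (k * k₁)), ?_, ?_⟩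
  · exact Subgroup.mul_mem _ (Subgroup.inv_mem _ hk₂) (Subgroup.mul_mem _ hk₃
      (Subgroup.mul_mem _ hk hk₁))
  · rw [← map_conj_map_conj, ← map_conj_map_conj, ← map_conj_map_conj, hk₁Q, hk₃Q, ← hk₂Q,
      map_conj_map_conj, inv_mul_cancel, map_conj_one]

end Cfsg.Agent.Lib.H7.BG7
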