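import Mathlib
import Cfsg.Agent.Lib.H7.BG7b

/-! # Bender–Glauberman §7: Theorem 7.6 (helper7) -/

set_option autoImplicit false
set_option linter.style.haveILetI false
set_option linter.unusedSectionVars false
set_option linter.deprecated false
open Cfsg

namespace Cfsg.Agent.Lib.H7.BG7

open Cfsg.Agent.Lib.H19 (IsPiCard)
open Cfsg.Agent.Lib.H7 (map_conj_map_conj map_conj_one)

universe u
variable {G : Type u} [Group G] [Finite G] {A : Subgroup G}

theorem exists_elemAb_of_not_pRankLE {p k : ℕ} (hp : p.Prime) {Z : Subgroup G}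
    (h : ¬ PRankLE p k ↥Z) :
    ∃ B : Subgroup G, B ≤ Z ∧ IsElementaryAbelian p B ∧ p ^ (k + 1) ≤ Nat.card B := by
  haveI : Fact p.Prime := ⟨hp⟩
  unfold PRankLE at h
  push Not at h
  obtain ⟨E, hEc, hEp, hlt⟩ := h
  refine ⟨E.map Z.subtype, Subgroup.map_subtype_le E, ⟨⟨⟨?_⟩⟩, ?_⟩, ?_⟩
  · rintro ⟨x, e₁, he₁, rfl⟩ ⟨y, e₂, he₂, rfl⟩
    have h1 := hEc.is_comm.comm ⟨e₁, he₁⟩ ⟨e₂, he₂⟩
    have h2 : e₁ * e₂ = e₂ * e₁ := congrArg Subtype.val h1
    apply Subtype.ext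
    show (Z.subtype e₁) * (Z.subtype e₂) = (Z.subtype e₂) * (Z.subtype e₁)
    rw [← map_mul, ← map_mul, h2]
  · rintro _ ⟨e, he, rfl⟩
    rw [← map_pow, hEp e he, map_one]
  · have hc : Nat.card (E.map Z.subtype) = Nat.card E :=
      (Nat.card_congr (E.equivMapOfInjective Z.subtype (Subgroup.subtype_injective Z)).toEquiv).symm
    rw [hc]
    have hEP : IsPGroup p E := by
      intro e
      refine ⟨1, ?_⟩
      rw [pow_one]
      exact Subtype.ext (hEp e.1 e.2)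
    obtain ⟨j, hj⟩ := IsPGroup.iff_card.1 hEP
    rw [hj] at hlt ⊢
    have hkj : k < j := (Nat.pow_lt_pow_iff_right hp.one_lt).1 hlt
    exact Nat.pow_le_pow_right hp.pos hkj

theorem isPGroup_of_elemAb {p : ℕ} {B : Subgroup G} (hB : IsElementaryAbelian p B) :
    IsPGroup p B := by
  intro b
  refine ⟨1, ?_⟩
  rw [pow_one]
  exact Subtype.ext (hB.2 b.1 b.2)

theorem dvd_card_of_elemAb {p : ℕ} (hp : p.Prime) {B : Subgroup G} (hB : IsElementaryAbelian p B)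
    (hBA : B ≤ A) (hB1 : p ≤ Nat.card B) : p ∣ Nat.card A := by
  haveI : Fact p.Prime := ⟨hp⟩
  obtain ⟨j, hj⟩ := IsPGroup.iff_card.1 (isPGroup_of_elemAb hB)
  have hj0 : j ≠ 0 := by
    rintro rfl
    rw [hj, pow_zero] at hB1
    exact absurd hB1 (by have := hp.two_le; omega)
  exact (hj ▸ dvd_pow_self p hj0 : p ∣ Nat.card B).trans (Subgroup.card_dvd_of_le hBA)

theorem le_centralizer_singleton_of_mem {a : G} (ha : a ∈ Subgroup.centralizer (A : Set G)) :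
    A ≤ Subgroup.centralizer ({a} : Set G) := by
  intro x hx
  rw [Subgroup.mem_centralizer_singleton_iff]
  exact (Subgroup.mem_centralizer_iff.1 ha x hx)

/-- BG Theorem 7.6(a) (S1393). -/
theorem trans_rank3 (hG : IsMinSimpleOddOrder G) (hA : TransitivityHypothesis A)
    {p : ℕ} [hp : Fact p.Prime] {B : Subgroup G} (hBZ : B ≤ A ⊓ Subgroup.centralizer (A : Set G))
    (hB : IsElementaryAbelian p B) (hB3 : p ^ 3 ≤ Nat.card B)
    {q : ℕ} [hq : Fact q.Prime] (hqA : ¬ q ∣ Nat.card A) {Q₁ Q₂ : Subgroup G}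
    (hQ₁ : IsMaxInv A q Q₁) (hQ₂ : IsMaxInv A q Q₂) :
    ∃ k ∈ KK A, Q₁.map (MulAut.conj k).toMonoidHom = Q₂ := by
  obtain ⟨hQ₁q, hQ₁A, hQ₁max⟩ := id hQ₁
  obtain ⟨hQ₂q, hQ₂A, hQ₂max⟩ := id hQ₂
  by_cases hi : Q₁ ⊓ Q₂ ≠ ⊥
  · exact conj_of_inf_ne_bot hG hA hqA _ Q₁ Q₂ hQ₁ hQ₂ hi le_rfl
  push Not at hi
  by_cases h1 : Q₁ = ⊥
  · have := hQ₁max Q₂ hQ₂q hQ₂A (h1 ▸ bot_le)
    exact ⟨1, Subgroup.one_mem _, by rw [map_conj_one, this]⟩
  by_cases h2 : Q₂ = ⊥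
  · have := hQ₂max Q₁ hQ₁q hQ₁A (h2 ▸ bot_le)
    exact ⟨1, Subgroup.one_mem _, by rw [map_conj_one, this]⟩
  have hpA : p ∣ Nat.card A := dvd_card_of_elemAb hp.out hB (hBZ.trans inf_le_left)
    (le_trans (by nth_rewrite 1 [← pow_one p]; exact Nat.pow_le_pow_right hp.out.pos (by norm_num)) hB3)
  have hqp : q ≠ p := by
    rintro rfl
    exact hqA hpA
  obtain ⟨a, haB, ha1, hN₁, hN₂⟩ := Cfsg.Agent.S1282.result p B hB hB3 q hqp Q₁ Q₂ hQ₁q hQ₂q
    ((hBZ.trans inf_le_left).trans hQ₁A) ((hBZ.trans inf_le_left).trans hQ₂A)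
    (by rw [hi]; exact fun h => h1 h.symm) (by rw [hi]; exact fun h => h2 h.symm)
  rw [hi] at hN₁ hN₂
  have haC : a ∈ Subgroup.centralizer (A : Set G) := (hBZ haB).2
  refine conj_of_common_overgroup hG hA hqA hQ₁ hQ₂ (centralizer_singleton_ne_top hG ha1)
    (le_centralizer_singleton_of_mem haC) ?_ ?_
  · intro h
    apply hN₁
    rw [← h]
    exact le_inf inf_le_right (inf_le_left.trans inf_le_right)
  · intro h
    apply hN₂
    rw [← h]
    exact le_inf inf_le_right (inf_le_left.trans inf_le_right)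

/-- BG Theorem 7.6(b) (S1394). -/
theorem trans_rank2 (hG : IsMinSimpleOddOrder G) (hA : TransitivityHypothesis A)
    {p : ℕ} [hp : Fact p.Prime] {B : Subgroup G} (hBZ : B ≤ A ⊓ Subgroup.centralizer (A : Set G))
    (hB : IsElementaryAbelian p B) (hB2 : p ^ 2 ≤ Nat.card B)
    {q : ℕ} [hq : Fact q.Prime] (hqA : ¬ q ∣ Nat.card A)
    (hqC : q ∣ Nat.card (Subgroup.centralizer (A : Set G))) {Q₁ Q₂ : Subgroup G}
    (hQ₁ : IsMaxInv A q Q₁) (hQ₂ : IsMaxInv A q Q₂) :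
    ∃ k ∈ KK A, Q₁.map (MulAut.conj k).toMonoidHom = Q₂ := by
  have hpA : p ∣ Nat.card A := dvd_card_of_elemAb hp.out hB (hBZ.trans inf_le_left)
    (le_trans (by nth_rewrite 1 [← pow_one p]; exact Nat.pow_le_pow_right hp.out.pos (by norm_num)) hB2)
  have hqp : q ≠ p := by
    rintro rfl
    exact hqA hpA
  -- a nontrivial q-subgroup of C_G(A)
  obtain ⟨P⟩ : Nonempty (Sylow q ↥(Subgroup.centralizer (A : Set G))) := inferInstance
  have hP1 : (P : Subgroup ↥(Subgroup.centralizer (A : Set G))) ≠ ⊥ := P.ne_bot_of_dvd_card hqC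
  obtain ⟨Q₀, hQ₀def⟩ : ∃ Q₀ : Subgroup G, Q₀ = (P : Subgroup ↥(Subgroup.centralizer (A : Set G))).map
      (Subgroup.centralizer (A : Set G)).subtype := ⟨_, rfl⟩
  have hQ₀q : IsPGroup q Q₀ := by rw [hQ₀def]; exact P.2.map _
  have hQ₀C : Q₀ ≤ Subgroup.centralizer (A : Set G) := by
    rw [hQ₀def]; exact Subgroup.map_subtype_le _
  have hQ₀1 : Q₀ ≠ ⊥ := by
    rw [hQ₀def]
    intro h
    apply hP1
    rw [Subgroup.map_eq_bot_iff, Subgroup.ker_subtype] at h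
    exact le_bot_iff.1 h
  have hQ₀A : A ≤ Subgroup.normalizer (Q₀ : Set G) :=
    (Subgroup.le_centralizer_iff.1 hQ₀C).trans (Subgroup.centralizer_le_normalizer _)
  obtain ⟨T, hT, hQ₀T⟩ := exists_isMaxInv_ge hQ₀q hQ₀A
  have ne_bot_of_le : ∀ {U V : Subgroup G}, U ≠ ⊥ → U ≤ V → V ≠ ⊥ := by
    intro U V hU hUV hV
    apply hU
    rw [hV] at hUV
    exact le_bot_iff.1 hUV
  have key : ∀ Q : Subgroup G, IsMaxInv A q Q → ∃ k ∈ KK A, Q.map (MulAut.conj k).toMonoidHom = T := by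
    intro Q hQ
    obtain ⟨hQq, hQA, hQmax⟩ := id hQ
    have hQ1 : Q ≠ ⊥ := by
      intro h
      have := hQmax Q₀ hQ₀q hQ₀A (h ▸ bot_le)
      exact hQ₀1 (this.trans h)
    have hBc : ∀ a ∈ B, ∀ b ∈ B, a * b = b * a := by
      intro a ha b hb
      have h := hB.1.is_comm.comm (⟨a, ha⟩ : B) ⟨b, hb⟩
      exact congrArg Subtype.val h
    have hQp : (Nat.card Q).Coprime p := by
      obtain ⟨j, hj⟩ := IsPGroup.iff_card.1 hQq
      rw [hj]
      exact Nat.Coprime.pow_left _ ((Nat.coprime_primes hq.out hp.out).2 hqp)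
    obtain ⟨B', hB'B, hB'p, hB'Q⟩ := Cfsg.Agent.Lib.H7.exists_hyp_centralizer_not_le p
      (A := B) (N := Q) (D := ⊥) hBc hB.2 hQp ((hBZ.trans inf_le_left).trans hQA)
      (fun h => hQ1 (le_bot_iff.1 h))
    -- B' is nontrivial
    have hcard := Cfsg.Agent.Lib.H7.card_mul_relIndex_of_le hB'B
    have hB'1 : B' ≠ ⊥ := by
      rintro rfl
      rw [Subgroup.card_bot, one_mul] at hcard
      have h3 : p ^ 2 ≤ p := by
        calc p ^ 2 ≤ Nat.card B := hB2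
          _ = (⊥ : Subgroup G).relIndex B := hcard.symm
          _ ≤ p := hB'p
      have := hp.out.two_le
      nlinarith
    obtain ⟨b, hb1⟩ := (Subgroup.ne_bot_iff_exists_ne_one).1 hB'1
    have hb1' : (b : G) ≠ 1 := fun h => hb1 (Subtype.ext h)
    have hbC : (b : G) ∈ Subgroup.centralizer (A : Set G) := (hBZ (hB'B b.2)).2
    have hbA : (b : G) ∈ A := (hBZ (hB'B b.2)).1
    refine conj_of_common_overgroup hG hA hqA hQ hT (centralizer_singleton_ne_top hG hb1')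
      (le_centralizer_singleton_of_mem hbC) ?_ ?_
    · intro h
      apply hB'Q
      rw [← h]
      refine le_inf ?_ inf_le_left
      refine inf_le_right.trans (Subgroup.centralizer_le ?_)
      intro x hx
      rw [Set.mem_singleton_iff] at hx
      rw [hx]; exact b.2
    · apply ne_bot_of_le hQ₀1
      refine le_inf ?_ hQ₀T
      intro x hx
      rw [Subgroup.mem_centralizer_singleton_iff]
      exact (Subgroup.mem_centralizer_iff.1 (hQ₀C hx) b hbA).symm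
  obtain ⟨k₁, hk₁, hk₁Q⟩ := key Q₁ hQ₁
  obtain ⟨k₂, hk₂, hk₂Q⟩ := key Q₂ hQ₂
  refine ⟨k₂⁻¹ * k₁, Subgroup.mul_mem _ (Subgroup.inv_mem _ hk₂) hk₁, ?_⟩
  rw [← map_conj_map_conj, hk₁Q, ← hk₂Q, map_conj_map_conj, inv_mul_cancel, map_conj_one]

end Cfsg.Agent.Lib.H7.BG7
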