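import Mathlib
import Cfsg.Prelude.Def_Local
import Cfsg.Agent.Lib.H7.PConstrained

set_option autoImplicit false
open Cfsg

namespace Cfsg.Agent.Lib.H7

/-- If `F*(Y) = O_p(Y)` then `E(Y) = 1`. -/
theorem layer_eq_bot_of_gfs_eq_pCore {Y : Type*} [Group Y] [Finite Y] (p : ℕ) [Fact p.Prime]
    (h : generalizedFittingSubgroup Y = pCore p Y) : layer Y = ⊥ := by
  have h2 : layer Y ≤ pCore p Y := by rw [← h]; exact layer_le_generalizedFittingSubgroup
  have hs : Group.IsSolvable (layer Y) := by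
    have : Group.IsNilpotent (layer Y) :=
      ((Cfsg.Agent.Lib.H1.pCore_isPGroup p Y).to_le h2).isNilpotent
    infer_instance
  have := layer_commutator_solvable (G := Y) (N := layer Y) hs
  rw [layer_commutator_self] at this
  exact this

/-- If `W / N` is a `p`-group then `W = P N` for every Sylow `p`-subgroup `P`. -/
theorem sylow_sup_eq_top_of_isPGroup_quotient {W : Type*} [Group W] [Finite W] (p : ℕ)
    [Fact p.Prime] (P : Sylow p W) (N : Subgroup W) [N.Normal] (h : IsPGroup p (W ⧸ N)) :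
    (P : Subgroup W) ⊔ N = ⊤ := by
  obtain ⟨n, hn⟩ := IsPGroup.iff_card.1 h
  have h1 : ((P : Subgroup W) ⊔ N).index ∣ (P : Subgroup W).index :=
    Subgroup.index_dvd_of_le le_sup_left
  have h2 : ((P : Subgroup W) ⊔ N).index ∣ N.index := Subgroup.index_dvd_of_le le_sup_right
  have h3 : N.index = p ^ n := by rw [Subgroup.index_eq_card]; exact hn
  rw [h3] at h2
  obtain ⟨j, _, hj⟩ := (Nat.dvd_prime_pow (Fact.out : p.Prime)).1 h2
  apply Subgroup.index_eq_one.1
  rcases Nat.eq_zero_or_pos j with rfl | hjpos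
  · simpa using hj
  · exfalso
    apply P.not_dvd_index
    apply Dvd.dvd.trans _ h1
    rw [hj]
    exact dvd_pow_self p hjpos.ne'

/-- A Sylow `p`-subgroup of `O_{p',p}(X)` maps onto `O_p(X / O_{p'}(X))`. -/
theorem map_sylow_pPrimePCore {X : Type*} [Group X] [Finite X] (p : ℕ) [Fact p.Prime]
    (P : Sylow p ↥(pPrimePCore p X)) :
    ((P : Subgroup ↥(pPrimePCore p X)).map (pPrimePCore p X).subtype).map
      (QuotientGroup.mk' (pPrimeCore p X)) = pCore p (X ⧸ pPrimeCore p X) := by
  have hmem : ∀ x : X, x ∈ pPrimePCore p X ↔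
      QuotientGroup.mk' (pPrimeCore p X) x ∈ pCore p (X ⧸ pPrimeCore p X) := fun x => Iff.rfl
  have hQp : IsPGroup p (pCore p (X ⧸ pPrimeCore p X)) := Cfsg.Agent.Lib.H1.pCore_isPGroup p _
  apply le_antisymm
  · rintro _ ⟨_, ⟨w, _, rfl⟩, rfl⟩
    exact (hmem _).1 w.2
  · have hOwn : ((pPrimeCore p X).subgroupOf (pPrimePCore p X)).Normal := inferInstance
    -- `W / Ow` is a `p`-group
    have hquot : IsPGroup p (↥(pPrimePCore p X) ⧸ (pPrimeCore p X).subgroupOf (pPrimePCore p X)) := by
      intro q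
      obtain ⟨w, rfl⟩ := QuotientGroup.mk_surjective q
      have hw := (hmem _).1 w.2
      obtain ⟨k, hk⟩ := hQp ⟨_, hw⟩
      refine ⟨k, ?_⟩
      rw [← QuotientGroup.mk_pow, QuotientGroup.eq_one_iff, Subgroup.mem_subgroupOf]
      have h1 : QuotientGroup.mk' (pPrimeCore p X) ((w : X) ^ (p ^ k)) = 1 := by
        rw [map_pow]
        exact congrArg Subtype.val hk
      rw [QuotientGroup.mk'_apply, QuotientGroup.eq_one_iff] at h1
      simpa using h1
    have htop := sylow_sup_eq_top_of_isPGroup_quotient p P _ hquot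
    intro q hq
    obtain ⟨x, rfl⟩ := QuotientGroup.mk'_surjective (pPrimeCore p X) q
    have hxW : x ∈ pPrimePCore p X := (hmem x).2 hq
    have hx : (⟨x, hxW⟩ : ↥(pPrimePCore p X)) ∈
        (P : Subgroup ↥(pPrimePCore p X)) ⊔ (pPrimeCore p X).subgroupOf (pPrimePCore p X) := by
      rw [htop]; exact Subgroup.mem_top _
    obtain ⟨u, hu, o, ho, huo⟩ := Subgroup.mem_sup_of_normal_right.1 hx
    refine ⟨(u : X), ⟨u, hu, rfl⟩, ?_⟩
    have h1 : x = (u : X) * (o : X) := by
      have := congrArg Subtype.val huo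
      simpa using this.symm
    have h2 : QuotientGroup.mk' (pPrimeCore p X) (o : X) = 1 := by
      rw [QuotientGroup.mk'_apply, QuotientGroup.eq_one_iff]
      exact Subgroup.mem_subgroupOf.1 ho
    rw [h1, map_mul, h2, mul_one]

theorem isPConstrained_iff_pLayer_eq_bot {X : Type*} [Group X] [Finite X] (p : ℕ) [Fact p.Prime] :
    IsPConstrained p X ↔ pLayer p X = ⊥ := by
  have hmem : ∀ x : X, x ∈ pPrimePCore p X ↔
      QuotientGroup.mk' (pPrimeCore p X) x ∈ pCore p (X ⧸ pPrimeCore p X) := fun x => Iff.rfl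
  have hOc : (Nat.card (pPrimeCore p X)).Coprime p := Cfsg.Agent.Lib.H22.card_pPrimeCore_coprime p
  have hD : layer (X ⧸ pPrimeCore p X) = ⊥ ↔ pLayer p X = ⊥ := by
    constructor
    · intro h
      rw [layer_eq_bot_iff] at h
      unfold pLayer
      rw [sSup_eq_bot]
      intro K hK
      exact absurd hK.2.1 (h _)
    · intro h
      rw [← map_pLayer p, h, Subgroup.map_bot]
  have hC : Subgroup.centralizer (pCore p (X ⧸ pPrimeCore p X) : Set (X ⧸ pPrimeCore p X)) ≤
      pCore p (X ⧸ pPrimeCore p X) ↔ layer (X ⧸ pPrimeCore p X) = ⊥ := by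
    constructor
    · intro h
      exact layer_eq_bot_of_gfs_eq_pCore p (generalizedFittingSubgroup_eq_pCore_of_centralizer_le p h)
    · intro h
      exact centralizer_pCore_le_of_layer_eq_bot p (Cfsg.Agent.Lib.H9.pPrimeCore_quotient_eq_bot p) h
  rw [← hD, ← hC]
  have hB : ∀ P : Sylow p ↥(pPrimePCore p X),
      (Subgroup.centralizer (((P : Subgroup ↥(pPrimePCore p X)).map (pPrimePCore p X).subtype :
        Subgroup X) : Set X) ≤ pPrimePCore p X ↔
        Subgroup.centralizer (pCore p (X ⧸ pPrimeCore p X) : Set (X ⧸ pPrimeCore p X)) ≤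
          pCore p (X ⧸ pPrimeCore p X)) := by
    intro P
    have hPp : IsPGroup p ((P : Subgroup ↥(pPrimePCore p X)).map (pPrimePCore p X).subtype) :=
      P.isPGroup'.map _
    have hmap := map_sylow_pPrimePCore p P
    have hcen := map_centralizer_of_coprime p hOc hPp
    rw [hmap] at hcen
    constructor
    · intro h q hq
      rw [← hcen] at hq
      obtain ⟨y, hy, rfl⟩ := hq
      exact (hmem y).1 (h hy)
    · intro h x hx
      rw [hmem]
      apply h
      rw [← hcen]
      exact Subgroup.mem_map_of_mem _ hx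
  constructor
  · intro h
    obtain ⟨P⟩ : Nonempty (Sylow p ↥(pPrimePCore p X)) := inferInstance
    exact (hB P).1 (h P)
  · intro h P
    exact (hB P).2 h

end Cfsg.Agent.Lib.H7
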