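import Mathlib
import Cfsg.Prelude.Def_Local
import Cfsg.Agent.Lib.H7.PConstrained2

set_option autoImplicit false
open Cfsg

namespace Cfsg.Agent.Lib.H7

/-- `L_{p'}(X) = 1` iff `E(X / O_{p'}(X)) = 1`. -/
theorem pLayer_eq_bot_iff_layer_quotient_eq_bot {X : Type*} [Group X] [Finite X] (p : ℕ)
    [Fact p.Prime] : pLayer p X = ⊥ ↔ layer (X ⧸ pPrimeCore p X) = ⊥ := by
  constructor
  · intro h
    rw [← map_pLayer p, h, Subgroup.map_bot]
  · intro h
    rw [layer_eq_bot_iff] at h
    unfold pLayer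
    rw [sSup_eq_bot]
    intro K hK
    exact absurd hK.2.1 (h _)

/-- If `C_G(O_p(G)) ≤ O_p(G)` then `F*(N_G(P)) = O_p(N_G(P))` for every `p`-subgroup `P`. -/
theorem gfs_normalizer_eq_pCore_of_centralizer_le {G : Type*} [Group G] [Finite G] (p : ℕ)
    [Fact p.Prime] (h : Subgroup.centralizer (pCore p G : Set G) ≤ pCore p G) (P : Subgroup G)
    (hP : IsPGroup p P) :
    generalizedFittingSubgroup ↥(Subgroup.normalizer (P : Set G)) =
      pCore p ↥(Subgroup.normalizer (P : Set G)) := by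
  have hQn : (pCore p G).Normal := Cfsg.Agent.Lib.H1.pCore_normal p G
  have hQ : IsPGroup p (pCore p G) := Cfsg.Agent.Lib.H1.pCore_isPGroup p G
  have hNQ : Subgroup.normalizer ((pCore p G : Subgroup G) : Set G) = ⊤ :=
    Subgroup.normalizer_eq_top _
  apply generalizedFittingSubgroup_eq_pCore_of_le_normalizer p hQ hP
  · rw [hNQ]; exact le_top
  · exact Subgroup.le_normalizer
  · exact le_rfl
  · rw [hNQ]; exact le_top
  · exact inf_le_right.trans (Subgroup.centralizer_le_normalizer _)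
  · intro y _ hy hyQ
    exact eq_one_of_mem_of_isPGroup_of_coprime hQ (h hyQ) hy

/-- `K / O_{p'}(K) ≃* K̄` when `O_{p'}(K) = O_{p'}(X) ∩ K`. -/
noncomputable def quotientPPrimeCoreEquiv' {X : Type*} [Group X] (p : ℕ) {K : Subgroup X}
    (hK : pPrimeCore p ↥K = (pPrimeCore p X).subgroupOf K) :
    (↥K ⧸ pPrimeCore p ↥K) ≃* ↥(K.map (QuotientGroup.mk' (pPrimeCore p X))) := by
  let f : ↥K →* X ⧸ pPrimeCore p X := (QuotientGroup.mk' (pPrimeCore p X)).comp K.subtype
  have hker : pPrimeCore p ↥K = f.ker := by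
    rw [hK]
    ext x
    rw [Subgroup.mem_subgroupOf, MonoidHom.mem_ker, MonoidHom.comp_apply, Subgroup.coe_subtype,
      QuotientGroup.mk'_apply, QuotientGroup.eq_one_iff]
  have hrange : f.range = K.map (QuotientGroup.mk' (pPrimeCore p X)) := by
    rw [MonoidHom.range_eq_map, ← Subgroup.map_map, ← MonoidHom.range_eq_map, Subgroup.range_subtype]
  exact ((QuotientGroup.quotientMulEquivOfEq hker).trans
    (QuotientGroup.quotientKerEquivRange f)).trans (MulEquiv.subgroupCongr hrange)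

theorem pLocal_of_pLayer_eq_bot {G : Type*} [Group G] [Finite G] (p : ℕ) [Fact p.Prime]
    (hL : pLayer p G = ⊥) (P : Subgroup G) (hP : IsPGroup p P) :
    pLayer p ↥(Subgroup.normalizer (P : Set G)) = ⊥ ∧
      (pPrimeCore p ↥(Subgroup.normalizer (P : Set G))).map
        (Subgroup.normalizer (P : Set G)).subtype ≤ pPrimeCore p G := by
  set N : Subgroup G := Subgroup.normalizer (P : Set G) with hN
  set O := pPrimeCore p G with hO
  set π := QuotientGroup.mk' O with hπ
  have hOc : (Nat.card O).Coprime p := Cfsg.Agent.Lib.H22.card_pPrimeCore_coprime p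
  have hF : Subgroup.centralizer (pCore p (G ⧸ O) : Set (G ⧸ O)) ≤ pCore p (G ⧸ O) :=
    centralizer_pCore_le_of_layer_eq_bot p (Cfsg.Agent.Lib.H9.pPrimeCore_quotient_eq_bot p)
      ((pLayer_eq_bot_iff_layer_quotient_eq_bot p).1 hL)
  -- (b)
  set W : Subgroup G := (pPrimeCore p ↥N).map N.subtype with hW
  have hWN : W ≤ N := Subgroup.map_subtype_le _
  have hWc : (Nat.card W).Coprime p :=
    Nat.Coprime.coprime_dvd_left (Subgroup.card_map_dvd _ _)
      (Cfsg.Agent.Lib.H22.card_pPrimeCore_coprime p)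
  have hNW : N ≤ Subgroup.normalizer (W : Set G) := by
    intro g hg
    have hn : (pPrimeCore p ↥N).Normal := inferInstance
    rw [Subgroup.mem_normalizer_iff]
    intro x
    constructor
    · rintro ⟨y, hy, rfl⟩
      exact ⟨⟨g, hg⟩ * y * ⟨g, hg⟩⁻¹, hn.conj_mem y hy _, rfl⟩
    · rintro ⟨y, hy, hyx⟩
      refine ⟨⟨g, hg⟩⁻¹ * y * ⟨g, hg⟩, ?_, ?_⟩
      · have := hn.conj_mem y hy ⟨g, hg⟩⁻¹
        simpa using this
      · simp only [Subgroup.coe_subtype, Subgroup.coe_mul, InvMemClass.coe_inv] at hyx ⊢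
        rw [hyx]; group
  have hWP : W ≤ Subgroup.centralizer (P : Set G) := by
    rw [← Subgroup.commutator_eq_bot_iff_le_centralizer]
    have h1 : ⁅W, P⁆ ≤ W := by
      rw [Subgroup.commutator_comm]
      exact Subgroup.le_normalizer_iff_commutator_le_right.1 (Subgroup.le_normalizer.trans hNW)
    have h2 : ⁅W, P⁆ ≤ P := Subgroup.le_normalizer_iff_commutator_le_right.1 hWN
    have hdisj : Disjoint W P := by
      apply Subgroup.disjoint_of_coprime_natCard
      obtain ⟨k, hk⟩ := IsPGroup.iff_card.1 hP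
      rw [hk]
      exact Nat.Coprime.pow_right k hWc
    rw [← le_bot_iff, ← hdisj.eq_bot]
    exact le_inf h1 h2
  have hb : W ≤ O :=
    le_pPrimeCore_of_le_centralizer p hF hP hWc hWP
      ((Subgroup.centralizer_le_normalizer _).trans hNW)
  refine ⟨?_, hb⟩
  -- (a)
  have hKeq : pPrimeCore p ↥N = O.subgroupOf N := by
    apply le_antisymm
    · intro x hx
      rw [Subgroup.mem_subgroupOf]
      exact hb ⟨x, hx, rfl⟩
    · apply Cfsg.Agent.Lib.H22.le_pPrimeCore p _ inferInstance
      have h1 : Nat.card (O.subgroupOf N) = Nat.card ((O.subgroupOf N).map N.subtype) :=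
        Nat.card_congr ((O.subgroupOf N).equivMapOfInjective N.subtype
          (Subgroup.subtype_injective N)).toEquiv
      rw [h1, Subgroup.subgroupOf_map_subtype]
      exact Nat.Coprime.coprime_dvd_left (Subgroup.card_dvd_of_le inf_le_left) hOc
  have hmapN : N.map π = Subgroup.normalizer ((P.map π : Subgroup (G ⧸ O)) : Set (G ⧸ O)) :=
    map_normalizer_of_coprime p hOc hP
  have e : (↥N ⧸ pPrimeCore p ↥N) ≃*
      ↥(Subgroup.normalizer ((P.map π : Subgroup (G ⧸ O)) : Set (G ⧸ O))) :=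
    (quotientPPrimeCoreEquiv' p hKeq).trans (MulEquiv.subgroupCongr hmapN)
  have h1 := gfs_normalizer_eq_pCore_of_centralizer_le p hF (P.map π) (hP.map π)
  have h2 := layer_eq_bot_of_gfs_eq_pCore p h1
  rw [pLayer_eq_bot_iff_layer_quotient_eq_bot]
  have h3 := layer_map_equiv e
  rw [h2] at h3
  exact (Subgroup.map_eq_bot_iff_of_injective _ e.injective).1 h3

end Cfsg.Agent.Lib.H7
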