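import Mathlib
import Cfsg.Prelude.Def_Local
import Cfsg.Prelude.Def_Balance
import Cfsg.Agent.Lib.H7.PConstrained3

set_option autoImplicit false
open Cfsg

namespace Cfsg.Agent.Lib.H7

/-- `O_{p',p}(X)` normalizes every `p`-component. -/
theorem pPrimePCore_le_normalizer_isPComponent {X : Type*} [Group X] [Finite X] (p : ℕ)
    [Fact p.Prime] {K : Subgroup X} (hK : IsPComponent p K) :
    pPrimePCore p X ≤ Subgroup.normalizer (K : Set X) := by
  intro g hg
  apply mem_normalizer_of_isPComponent p hK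
  have hg' : QuotientGroup.mk' (pPrimeCore p X) g ∈ pCore p (X ⧸ pPrimeCore p X) := hg
  have h1 : pCore p (X ⧸ pPrimeCore p X) ≤ fittingSubgroup (X ⧸ pPrimeCore p X) :=
    le_fittingSubgroup (Cfsg.Agent.Lib.H1.pCore_normal p _)
      (Cfsg.Agent.Lib.H1.pCore_isPGroup p _).isNilpotent
  have h2 : ⁅layer (X ⧸ pPrimeCore p X), fittingSubgroup (X ⧸ pPrimeCore p X)⁆ = ⊥ :=
    layer_commutator_fitting
  rw [Subgroup.commutator_comm, Subgroup.commutator_eq_bot_iff_le_centralizer] at h2
  have h3 := h2 (h1 hg')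
  apply Subgroup.centralizer_le_normalizer
  exact Subgroup.centralizer_le (component_le_layer hK.2.1) h3

/-- An element centralizing a Sylow `p`-subgroup of the `p`-component `K` normalizes `K`. -/
theorem mem_normalizer_of_centralizes_sylow {X : Type*} [Group X] [Finite X] (p : ℕ)
    [Fact p.Prime] {K : Subgroup X} (hK : IsPComponent p K) (R : Sylow p ↥K) {c : X}
    (hc : c ∈ Subgroup.centralizer (((R : Subgroup ↥K).map K.subtype : Subgroup X) : Set X)) :
    c ∈ Subgroup.normalizer (K : Set X) := by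
  set π := QuotientGroup.mk' (pPrimeCore p X) with hπ
  set Kb := K.map π with hKb
  apply mem_normalizer_of_isPComponent p hK
  by_contra hcon
  -- the conjugate component
  set Kb' := Kb.map (MulAut.conj (π c)).toMonoidHom with hKb'
  have hKb'c : IsComponent Kb' := isComponent_map_conj (π c) hK.2.1
  have hne : Kb' ≠ Kb := by
    intro h
    exact hcon (Subgroup.mem_normalizer_iff_map_conj_eq.2 h)
  have hcomm := components_commute hKb'c hK.2.1 hne
  rw [Subgroup.commutator_eq_bot_iff_le_centralizer] at hcomm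
  -- the image of `R` is central in `Kb`
  have hRc : ∀ r ∈ (R : Subgroup ↥K), π (r : X) ∈ Subgroup.centralizer (Kb : Set _) := by
    intro r hr
    apply hcomm
    refine ⟨π (r : X), Subgroup.mem_map_of_mem π r.2, ?_⟩
    have h1 : c * (r : X) = (r : X) * c :=
      (Subgroup.mem_centralizer_iff.1 hc (r : X) ⟨r, hr, rfl⟩).symm
    show π c * π (r : X) * (π c)⁻¹ = π (r : X)
    rw [← map_mul, h1, map_mul]; group
  -- every element of `Kb` has a `p'`-power in the centre
  have hall : ∀ g : ↥Kb, ∃ m : ℕ, m.Coprime p ∧ g ^ m ∈ Subgroup.center ↥Kb := by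
    rintro ⟨_, ⟨g, hg, rfl⟩⟩
    obtain ⟨m, hm, k, hk⟩ := exists_coprime_pow_orderOf_eq_prime_pow p (⟨g, hg⟩ : ↥K)
    refine ⟨m, hm, ?_⟩
    -- `g^m` lies in a conjugate of `R`
    have hz : IsPGroup p (Subgroup.zpowers ((⟨g, hg⟩ : ↥K) ^ m)) := by
      apply IsPGroup.of_card (n := k)
      rw [Nat.card_zpowers, hk]
    obtain ⟨y, hy⟩ := Cfsg.Agent.Lib.H26.exists_conj_mem_sylow R _ hz
    have h1 := hy _ (Subgroup.mem_zpowers _)
    have h2 := hRc _ h1
    rw [Subgroup.mem_center_iff]
    rintro ⟨_, ⟨h, hh, rfl⟩⟩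
    apply Subtype.ext
    -- unfold
    have h3 : π ((y : X) * (g ^ m) * (y : X)⁻¹) ∈ Subgroup.centralizer (Kb : Set _) := by
      simpa using h2
    have h4 := Subgroup.mem_centralizer_iff.1 h3 (π ((y : X) * h * (y : X)⁻¹))
      (Subgroup.mem_map_of_mem π (K.mul_mem (K.mul_mem y.2 hh) (K.inv_mem y.2)))
    have h5 : π (y : X) * (π h * π g ^ m) * (π (y : X))⁻¹ =
        π (y : X) * (π g ^ m * π h) * (π (y : X))⁻¹ := by
      simp only [map_mul, map_inv, map_pow] at h4
      calc π (y : X) * (π h * π g ^ m) * (π (y : X))⁻¹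
          = (π (y : X) * π h * (π (y : X))⁻¹) * (π (y : X) * π g ^ m * (π (y : X))⁻¹) := by group
        _ = (π (y : X) * π g ^ m * (π (y : X))⁻¹) * (π (y : X) * π h * (π (y : X))⁻¹) := h4
        _ = π (y : X) * (π g ^ m * π h) * (π (y : X))⁻¹ := by group
    have h6 := mul_left_cancel (mul_right_cancel h5)
    simpa using h6
  have hnc := not_coprime_card_component_quotient p hK.2.1
  have hcen : (Subgroup.center ↥Kb).Normal := inferInstance
  have htop := quasisimple_eq_top_of_forall_pow_mem p hK.2.1.2 hnc (Subgroup.center ↥Kb) hall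
  -- then `Kb` is abelian, contradicting perfection
  have hperf : Group.IsPerfect ↥Kb := hK.2.1.2.1
  have hnt : Nontrivial ↥Kb := quasisimple_nontrivial hK.2.1.2
  have hcomm' : commutator ↥Kb = ⊥ := by
    rw [commutator_def, Subgroup.commutator_eq_bot_iff_le_centralizer]
    intro a _
    rw [Subgroup.mem_centralizer_iff]
    intro b _
    have : b ∈ Subgroup.center ↥Kb := by rw [htop]; exact Subgroup.mem_top b
    exact (Subgroup.mem_center_iff.1 this a).symm
  rw [hperf.commutator_eq_top] at hcomm'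
  exact (top_ne_bot (α := Subgroup ↥Kb)) hcomm'

/-- The centralizer of a Sylow `p`-subgroup of `L_{p'}(X) O_{p',p}(X)` normalizes every
`p`-component. -/
theorem centralizer_sylow_le_normalizer_isPComponent {X : Type*} [Group X] [Finite X] (p : ℕ)
    [Fact p.Prime] {K : Subgroup X} (hK : IsPComponent p K)
    (T : Sylow p ↥(pLayer p X ⊔ pPrimePCore p X)) :
    Subgroup.centralizer (((T : Subgroup ↥(pLayer p X ⊔ pPrimePCore p X)).map
      (pLayer p X ⊔ pPrimePCore p X).subtype : Subgroup X) : Set X) ≤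
      Subgroup.normalizer (K : Set X) := by
  have hMK : pLayer p X ⊔ pPrimePCore p X ≤ Subgroup.normalizer (K : Set X) :=
    sup_le (pLayer_le_normalizer p hK) (pPrimePCore_le_normalizer_isPComponent p hK)
  have hKM : K ≤ pLayer p X ⊔ pPrimePCore p X := (isPComponent_le_pLayer p hK).trans le_sup_left
  obtain ⟨S⟩ : Nonempty (Sylow p ↥K) := inferInstance
  have hS'K : (S : Subgroup ↥K).map K.subtype ≤ K := Subgroup.map_subtype_le _
  have hS'p : IsPGroup p ((S : Subgroup ↥K).map K.subtype) := S.isPGroup'.map _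
  obtain ⟨g, hg⟩ := Cfsg.Agent.Lib.H26.exists_conj_mem_sylow T
    (((S : Subgroup ↥K).map K.subtype).subgroupOf (pLayer p X ⊔ pPrimePCore p X))
    hS'p.comap_subtype
  intro c hc
  have hgK : (g : X) ∈ Subgroup.normalizer (K : Set X) := hMK g.2
  -- `g⁻¹ c g` centralizes `S'`
  have h1 : (g : X)⁻¹ * c * (g : X) ∈
      Subgroup.centralizer (((S : Subgroup ↥K).map K.subtype : Subgroup X) : Set X) := by
    rw [Subgroup.mem_centralizer_iff]
    intro s hs
    have h2 := hg ⟨s, hKM (hS'K hs)⟩ (Subgroup.mem_subgroupOf.2 hs)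
    have h3 : (g : X) * s * (g : X)⁻¹ ∈
        (T : Subgroup ↥(pLayer p X ⊔ pPrimePCore p X)).map
          (pLayer p X ⊔ pPrimePCore p X).subtype := ⟨_, h2, by simp⟩
    have h4 := Subgroup.mem_centralizer_iff.1 hc _ h3
    calc s * ((g : X)⁻¹ * c * (g : X))
        = (g : X)⁻¹ * ((g : X) * s * (g : X)⁻¹ * c) * (g : X) := by group
      _ = (g : X)⁻¹ * (c * ((g : X) * s * (g : X)⁻¹)) * (g : X) := by rw [h4]
      _ = (g : X)⁻¹ * c * (g : X) * s := by group
  have h5 := mem_normalizer_of_centralizes_sylow p hK S h1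
  have h6 : c = (g : X) * ((g : X)⁻¹ * c * (g : X)) * (g : X)⁻¹ := by group
  rw [h6]
  exact Subgroup.mul_mem _ (Subgroup.mul_mem _ hgK h5) (Subgroup.inv_mem _ hgK)

end Cfsg.Agent.Lib.H7
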