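import Mathlib
import Cfsg.Prelude.Def_Local
import Cfsg.Prelude.Def_Balance
import Cfsg.Agent.Lib.H7.ExtLayer

set_option autoImplicit false
open Cfsg

namespace Cfsg.Agent.Lib.H7

theorem map_conj_map_mk' {X : Type*} [Group X] (N : Subgroup X) [N.Normal] (K : Subgroup X)
    (g : X) : (K.map (MulAut.conj g).toMonoidHom).map (QuotientGroup.mk' N) =
      (K.map (QuotientGroup.mk' N)).map (MulAut.conj (QuotientGroup.mk' N g)).toMonoidHom := by
  have hcomp : (QuotientGroup.mk' N).comp (MulAut.conj g).toMonoidHom =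
      (MulAut.conj (QuotientGroup.mk' N g)).toMonoidHom.comp (QuotientGroup.mk' N) := by
    ext x; simp
  rw [Subgroup.map_map, hcomp, ← Subgroup.map_map]

/-- A conjugate of a `p`-component is a `p`-component. -/
theorem isPComponent_map_conj {X : Type*} [Group X] [Finite X] (p : ℕ) [Fact p.Prime]
    {K : Subgroup X} (hK : IsPComponent p K) (g : X) :
    IsPComponent p (K.map (MulAut.conj g).toMonoidHom) := by
  set π := QuotientGroup.mk' (pPrimeCore p X) with hπ
  have hsub : (K.map (MulAut.conj g).toMonoidHom).IsSubnormal :=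
    hK.1.map (MulAut.conj g).surjective
  have hcomp : IsComponent ((K.map (MulAut.conj g).toMonoidHom).map π) := by
    rw [map_conj_map_mk']
    exact isComponent_map_conj _ hK.2.1
  rw [isPComponent_iff]
  refine ⟨hcomp, ?_⟩
  set T := pCompOver p ((K.map (MulAut.conj g).toMonoidHom).map π) with hT
  have hTle : T ≤ K.map (MulAut.conj g).toMonoidHom := pCompOver_le_of_map_eq p hsub rfl
  have hTs : T.IsSubnormal := pCompOver_isSubnormal p hcomp.1
  have hTmap : T.map π = (K.map (MulAut.conj g).toMonoidHom).map π := map_pCompOver p hcomp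
  -- conjugate back
  have h1 : T.map (MulAut.conj g⁻¹).toMonoidHom ≤ K := by
    have := Subgroup.map_mono (f := (MulAut.conj g⁻¹).toMonoidHom) hTle
    rwa [Cfsg.Agent.Lib.H14.map_conj_conj_inv] at this
  have h2 : (T.map (MulAut.conj g⁻¹).toMonoidHom).map π = K.map π := by
    rw [map_conj_map_mk', hTmap, ← map_conj_map_mk', Cfsg.Agent.Lib.H14.map_conj_conj_inv]
  have h3 := hK.2.2 _ (hTs.map (MulAut.conj g⁻¹).surjective) h1 h2
  have h4 := congrArg (Subgroup.map (MulAut.conj g).toMonoidHom) h3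
  have h5 := Cfsg.Agent.Lib.H14.map_conj_conj_inv T g⁻¹
  rw [inv_inv] at h5
  rw [h5] at h4
  exact h4.symm

theorem pLayer_map_conj_le {X : Type*} [Group X] [Finite X] (p : ℕ) [Fact p.Prime] (g : X) :
    (pLayer p X).map (MulAut.conj g).toMonoidHom ≤ pLayer p X := by
  rw [Subgroup.map_le_iff_le_comap]
  apply sSup_le
  intro K hK
  rw [← Subgroup.map_le_iff_le_comap]
  exact le_sSup (isPComponent_map_conj p hK g)

theorem normal_of_map_conj_le {X : Type*} [Group X] {H : Subgroup X}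
    (h : ∀ g : X, H.map (MulAut.conj g).toMonoidHom ≤ H) : H.Normal := by
  constructor
  intro n hn g
  exact h g ⟨n, hn, by simp⟩

theorem pLayer_normal {X : Type*} [Group X] [Finite X] (p : ℕ) [Fact p.Prime] :
    (pLayer p X).Normal :=
  normal_of_map_conj_le (pLayer_map_conj_le p)

theorem pPrimePCore_normal (p : ℕ) (X : Type*) [Group X] : (pPrimePCore p X).Normal := by
  unfold pPrimePCore
  have : (pCore p (X ⧸ pPrimeCore p X)).Normal := inferInstance
  infer_instance

/-- `O_{p'}(H)` as a subgroup of the ambient group. -/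
abbrev pPrimeCoreOf {X : Type*} [Group X] (p : ℕ) (H : Subgroup X) : Subgroup X :=
  (pPrimeCore p ↥H).map H.subtype

theorem pPrimeCoreOf_map_equiv {X : Type*} [Group X] (p : ℕ) (H : Subgroup X) (e : X ≃* X) :
    (pPrimeCoreOf p H).map e.toMonoidHom = pPrimeCoreOf p (H.map e.toMonoidHom) := by
  let e' : ↥H ≃* ↥(H.map e.toMonoidHom) := e.subgroupMap H
  have he' : ∀ h : ↥H, ((e' h : ↥(H.map e.toMonoidHom)) : X) = e (h : X) := fun h => rfl
  have h1 : (pPrimeCore p ↥H).map e'.toMonoidHom = pPrimeCore p ↥(H.map e.toMonoidHom) :=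
    Cfsg.Agent.Lib.H9.pPrimeCore_map_equiv p e'
  ext x
  constructor
  · rintro ⟨_, ⟨h, hh, rfl⟩, rfl⟩
    refine ⟨e' h, ?_, he' h⟩
    rw [← h1]
    exact ⟨h, hh, rfl⟩
  · rintro ⟨y, hy, rfl⟩
    rw [← h1] at hy
    obtain ⟨h, hh, rfl⟩ := hy
    exact ⟨(h : X), ⟨h, hh, rfl⟩, (he' h).symm⟩

theorem exists_sylow_map_conj {X : Type*} [Group X] (p : ℕ) (M : Subgroup X)
    [hM : M.Normal] (T : Sylow p ↥M) (g : X) :
    ∃ T2 : Sylow p ↥M, (T2 : Subgroup ↥M).map M.subtype =
      ((T : Subgroup ↥M).map M.subtype).map (MulAut.conj g).toMonoidHom := by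
  refine ⟨(MulAut.conjNormal g : MulAut M) • T, ?_⟩
  rw [Sylow.pointwise_smul_def]
  ext x
  constructor
  · rintro ⟨y, hy, rfl⟩
    have h := Subgroup.mem_pointwise_smul_iff_inv_smul_mem.1 hy
    refine ⟨(((MulAut.conjNormal g : MulAut M)⁻¹ • y : M) : X), ⟨_, h, rfl⟩, ?_⟩
    simp
    group
  · rintro ⟨_, ⟨t, ht, rfl⟩, rfl⟩
    refine ⟨(MulAut.conjNormal g : MulAut M) • t, Subgroup.smul_mem_pointwise_smul _ _ _ ht, ?_⟩
    simp [MulAut.conjNormal_apply]

theorem pPrimeCoreOf_congr {X : Type*} [Group X] (p : ℕ) {H H' : Subgroup X} (h : H = H') :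
    pPrimeCoreOf p H = pPrimeCoreOf p H' := by
  subst h; rfl

theorem extendedTwoLayer_normal {X : Type*} [Group X] [Finite X] : (extendedTwoLayer X).Normal := by
  apply normal_of_map_conj_le
  intro g
  have hM : (pLayer 2 X ⊔ pPrimePCore 2 X).Normal := by
    have := pLayer_normal (X := X) 2
    have := pPrimePCore_normal 2 X
    infer_instance
  unfold extendedTwoLayer
  rw [Subgroup.map_sup, Subgroup.map_sup]
  apply sup_le (sup_le ?_ ?_) ?_
  · exact (pLayer_map_conj_le 2 g).trans (le_sup_left.trans le_sup_left)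
  · have hn : (pPrimeCore 2 X).Normal := inferInstance
    have h1 : (pPrimeCore 2 X).map (MulAut.conj g).toMonoidHom ≤ pPrimeCore 2 X := by
      rintro _ ⟨x, hx, rfl⟩
      exact hn.conj_mem x hx g
    exact h1.trans (le_sup_right.trans le_sup_left)
  · rw [Subgroup.map_iSup]
    apply iSup_le
    intro T
    obtain ⟨T2, hT2⟩ := exists_sylow_map_conj 2 (pLayer 2 X ⊔ pPrimePCore 2 X) T g
    refine le_trans ?_ (le_sup_right)
    refine le_trans ?_ (le_iSup _ T2)
    show (pPrimeCoreOf 2 _).map (MulAut.conj g).toMonoidHom ≤ pPrimeCoreOf 2 _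
    rw [pPrimeCoreOf_map_equiv, ← Cfsg.Agent.Lib.H14.centralizer_map_conj]
    exact le_of_eq (pPrimeCoreOf_congr 2 (by rw [hT2]))

end Cfsg.Agent.Lib.H7
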