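import Mathlib
import Cfsg.Prelude.Def_Local
import Cfsg.Agent.Lib.H1.PCore
import Cfsg.Agent.Lib.H9.PPrimeCore
import Cfsg.Agent.Lib.H7.ExtLayer2

set_option autoImplicit false

namespace Cfsg.Agent.Lib.H7

open Cfsg

universe u

/-- Transport of a characteristic-subgroup functor along an automorphism of the ambient group. -/
theorem charMap_map_equiv {X : Type u} [Group X] (F : ∀ (Y : Type u) [Group Y], Subgroup Y)
    (hF : ∀ (Y Y' : Type u) [Group Y] [Group Y'] (e : Y ≃* Y'), (F Y).map e.toMonoidHom = F Y')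
    (H : Subgroup X) (e : X ≃* X) :
    ((F ↥H).map H.subtype).map e.toMonoidHom =
      (F ↥(H.map e.toMonoidHom)).map (H.map e.toMonoidHom).subtype := by
  have he' : ∀ h : ↥H, (((e.subgroupMap H) h : ↥(H.map e.toMonoidHom)) : X) = e (h : X) :=
    fun h => rfl
  have h1 := hF ↥H ↥(H.map e.toMonoidHom) (e.subgroupMap H)
  ext x
  constructor
  · rintro ⟨_, ⟨h, hh, rfl⟩, rfl⟩
    refine ⟨(e.subgroupMap H) h, ?_, he' h⟩
    rw [← h1]
    exact ⟨h, hh, rfl⟩
  · rintro ⟨y, hy, rfl⟩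
    rw [← h1] at hy
    obtain ⟨h, hh, rfl⟩ := hy
    exact ⟨(h : X), ⟨h, hh, rfl⟩, (he' h).symm⟩

theorem charMap_congr {X : Type u} [Group X] (F : ∀ (Y : Type u) [Group Y], Subgroup Y)
    {H H' : Subgroup X} (h : H = H') :
    (F ↥H).map H.subtype = (F ↥H').map H'.subtype := by
  subst h; rfl

/-- A characteristic subgroup of `H`, viewed in the ambient group, is normalized by `N(H)`. -/
theorem normalizer_le_normalizer_charMap {X : Type u} [Group X]
    (F : ∀ (Y : Type u) [Group Y], Subgroup Y)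
    (hF : ∀ (Y Y' : Type u) [Group Y] [Group Y'] (e : Y ≃* Y'), (F Y).map e.toMonoidHom = F Y')
    (H : Subgroup X) :
    Subgroup.normalizer (H : Set X) ≤
      Subgroup.normalizer (((F ↥H).map H.subtype : Subgroup X) : Set X) := by
  intro g hg
  rw [Subgroup.mem_normalizer_iff_map_conj_eq]
  have h1 : H.map (MulAut.conj g).toMonoidHom = H := Subgroup.mem_normalizer_iff_map_conj_eq.1 hg
  have h2 := charMap_map_equiv F hF H (MulAut.conj g)
  exact h2.trans (charMap_congr F h1)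

theorem pPrimePCore_map_equiv_le {Y Y' : Type u} [Group Y] [Group Y'] (p : ℕ)
    [Fact p.Prime] (e : Y ≃* Y') :
    (pPrimePCore p Y).map e.toMonoidHom ≤ pPrimePCore p Y' := by
  have hO : (pPrimeCore p Y).map e.toMonoidHom = pPrimeCore p Y' :=
    Cfsg.Agent.Lib.H9.pPrimeCore_map_equiv p e
  have hn : (pPrimePCore p Y).Normal := pPrimePCore_normal p Y
  have hn1 : ((pPrimePCore p Y).map e.toMonoidHom).Normal := hn.map _ e.surjective
  have hn2 : (((pPrimePCore p Y).map e.toMonoidHom).map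
      (QuotientGroup.mk' (pPrimeCore p Y'))).Normal :=
    hn1.map _ (QuotientGroup.mk'_surjective _)
  have hpg : IsPGroup p (((pPrimePCore p Y).map e.toMonoidHom).map
      (QuotientGroup.mk' (pPrimeCore p Y'))) := by
    rintro ⟨_, ⟨_, ⟨x, hx, rfl⟩, rfl⟩⟩
    have hx' : QuotientGroup.mk' (pPrimeCore p Y) x ∈ pCore p (Y ⧸ pPrimeCore p Y) := hx
    obtain ⟨k, hk⟩ := (Cfsg.Agent.Lib.H1.pCore_isPGroup p (Y ⧸ pPrimeCore p Y)) ⟨_, hx'⟩
    refine ⟨k, ?_⟩
    apply Subtype.ext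
    have hk' : (QuotientGroup.mk' (pPrimeCore p Y) x) ^ p ^ k = 1 := congrArg Subtype.val hk
    rw [← map_pow, QuotientGroup.mk'_apply, QuotientGroup.eq_one_iff] at hk'
    show (QuotientGroup.mk' (pPrimeCore p Y') (e.toMonoidHom x)) ^ p ^ k = 1
    rw [← map_pow, ← map_pow, QuotientGroup.mk'_apply, QuotientGroup.eq_one_iff, ← hO]
    exact ⟨_, hk', rfl⟩
  intro y hy
  show QuotientGroup.mk' (pPrimeCore p Y') y ∈ pCore p (Y' ⧸ pPrimeCore p Y')
  exact Cfsg.Agent.Lib.H1.le_pCore hn2 hpg ⟨y, hy, rfl⟩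

theorem pPrimePCore_map_equiv {Y Y' : Type u} [Group Y] [Group Y'] (p : ℕ)
    [Fact p.Prime] (e : Y ≃* Y') :
    (pPrimePCore p Y).map e.toMonoidHom = pPrimePCore p Y' := by
  apply le_antisymm (pPrimePCore_map_equiv_le p e)
  have h := pPrimePCore_map_equiv_le p e.symm
  intro y hy
  refine ⟨e.symm y, h ⟨y, hy, rfl⟩, ?_⟩
  simp

/-- A `p'`-subgroup of `O_{p',p}(Y)` lies in `O_{p'}(Y)`. -/
theorem le_pPrimeCore_of_le_pPrimePCore {Y : Type u} [Group Y] [Finite Y] (p : ℕ) [Fact p.Prime]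
    {W : Subgroup Y} (hW : W ≤ pPrimePCore p Y) (hWp : ¬ p ∣ Nat.card W) :
    W ≤ pPrimeCore p Y := by
  have hp : p.Prime := Fact.out
  have h1 : W.map (QuotientGroup.mk' (pPrimeCore p Y)) ≤ pCore p (Y ⧸ pPrimeCore p Y) := by
    rintro _ ⟨w, hw, rfl⟩
    exact hW hw
  have h2 : IsPGroup p (W.map (QuotientGroup.mk' (pPrimeCore p Y))) :=
    (Cfsg.Agent.Lib.H1.pCore_isPGroup p _).to_le h1
  obtain ⟨k, hk⟩ := IsPGroup.iff_card.1 h2
  have h3 : p ^ k ∣ Nat.card W := hk ▸ Subgroup.card_map_dvd W _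
  have hk0 : k = 0 := by
    by_contra hk0
    exact hWp ((dvd_pow_self p hk0).trans h3)
  rw [hk0, pow_zero] at hk
  have h4 : W.map (QuotientGroup.mk' (pPrimeCore p Y)) = ⊥ := Subgroup.card_eq_one.1 hk
  intro w hw
  have : QuotientGroup.mk' (pPrimeCore p Y) w ∈ W.map (QuotientGroup.mk' (pPrimeCore p Y)) :=
    ⟨w, hw, rfl⟩
  rw [h4, Subgroup.mem_bot, QuotientGroup.mk'_apply, QuotientGroup.eq_one_iff] at this
  exact this

end Cfsg.Agent.Lib.H7
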