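import Mathlib
import Cfsg.Agent.Lib.H7.BG7c
import Cfsg.Agent.Lib.H7.CharMap

/-! # Bender–Glauberman §7: Theorem 7.7 (helper7) -/

set_option autoImplicit false
set_option linter.style.haveILetI false
set_option linter.unusedSectionVars false
set_option linter.deprecated false
open Cfsg

namespace Cfsg.Agent.Lib.H7.BG7

open Cfsg.Agent.Lib.H19 (IsPiCard)
open Cfsg.Agent.Lib.H7 (map_conj_map_conj map_conj_one)

universe u
variable {G : Type u} [Group G] [Finite G] {A : Subgroup G}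

theorem pp_eq {P : Subgroup G} (hAP : A ≤ P)
    (hPπ : ∀ r : ℕ, r.Prime → r ∣ Nat.card P → r ∣ Nat.card A) :
    primesNotDvd (Nat.card P) = primesNotDvd (Nat.card A) := by
  ext r
  constructor
  · rintro ⟨hr, h⟩
    exact ⟨hr, fun h' => h (h'.trans (Subgroup.card_dvd_of_le hAP))⟩
  · rintro ⟨hr, h⟩
    exact ⟨hr, fun h' => h (hPπ r hr h')⟩

theorem TH_overgroup (hA : TransitivityHypothesis A) {P : Subgroup G} (hP : P ≠ ⊤) (hAP : A ≤ P)
    (hPπ : ∀ r : ℕ, r.Prime → r ∣ Nat.card P → r ∣ Nat.card A) : TransitivityHypothesis P := by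
  refine ⟨?_, hP, ?_⟩
  · rintro rfl
    exact hA.1 (le_bot_iff.1 hAP)
  · intro X hX hPX
    rw [pp_eq hAP hPπ]
    apply le_antisymm
    · apply sSup_le
      rintro Y ⟨hYX, hYπ, hYP⟩
      exact inv_le_core hA hX (hAP.trans hPX) ⟨hYX, hYπ, hAP.trans hYP⟩
    · apply le_sSup
      exact ⟨piCoreOf_le _ _, piCoreOf_isPiCard _ _, hPX.trans (le_normalizer_piCoreOf _ _)⟩

/-- BG Theorem 7.7(a). -/
theorem KK_inf_centralizer (hG : IsMinSimpleOddOrder G) (hA : TransitivityHypothesis A)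
    {P : Subgroup G} (hAP : A ≤ P) :
    KK A ⊓ Subgroup.centralizer (P : Set G) =
      piCoreOf (primesNotDvd (Nat.card A)) (Subgroup.centralizer (P : Set G)) := by
  have hCC : Subgroup.centralizer (P : Set G) ≤ Subgroup.centralizer (A : Set G) :=
    Subgroup.centralizer_le hAP
  apply le_antisymm
  · refine le_piCoreOf inf_le_right ?_ (isPiCard_of_le inf_le_left (piCoreOf_isPiCard _ _))
    exact Cfsg.Agent.Lib.H7.le_normalizer_inf (hCC.trans (le_normalizer_piCoreOf _ _))
      Subgroup.le_normalizer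
  · refine le_inf ?_ (piCoreOf_le _ _)
    exact core_inf_centralizer_le hG hA (piCoreOf_isPiCard _ _) ((piCoreOf_le _ _).trans hCC)

theorem card_le_of_isPGroup_le {q : ℕ} [hq : Fact q.Prime] {U K : Subgroup G} (hU : IsPGroup q U)
    (hUK : U ≤ K) : Nat.card U ≤ q ^ (Nat.card K).factorization q := by
  obtain ⟨j, hj⟩ := IsPGroup.iff_card.1 hU
  have hdvd : q ^ j ∣ Nat.card K := hj ▸ Subgroup.card_dvd_of_le hUK
  rw [hj]
  exact Nat.pow_le_pow_right hq.out.pos
    ((Nat.Prime.pow_dvd_iff_le_factorization hq.out Nat.card_pos.ne').1 hdvd)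

/-- BG Theorem 7.7(c) for nontrivial subgroups. -/
theorem maxInv_overgroup_of_ne_bot (hG : IsMinSimpleOddOrder G) (hA : TransitivityHypothesis A)
    {P : Subgroup G} (hP : P ≠ ⊤) (hAP : A ≤ P)
    (hPπ : ∀ r : ℕ, r.Prime → r ∣ Nat.card P → r ∣ Nat.card A)
    {q : ℕ} [hq : Fact q.Prime] (hqA : ¬ q ∣ Nat.card A) {Q : Subgroup G}
    (hQ : IsMaxInv P q Q) (hQ1 : Q ≠ ⊥) : IsMaxInv A q Q := by
  obtain ⟨hQq, hQP, hQmax⟩ := hQ
  refine ⟨hQq, hAP.trans hQP, ?_⟩
  intro R hRq hRA hQR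
  by_contra hne
  obtain ⟨x, hx, hxQ⟩ := Cfsg.Agent.Lib.H7.exists_mem_normalizer_notMem q hRq hQR
    (fun h => hne h.symm)
  have hX := normalizer_ne_top_of_isPGroup hG hQq hQ1
  have hqπ : q ∈ primesNotDvd (Nat.card A) := ⟨hq.out, hqA⟩
  have hANX : A ≤ Subgroup.normalizer ((Subgroup.normalizer (Q : Set G) : Subgroup G) : Set G) :=
    (hAP.trans hQP).trans Subgroup.le_normalizer
  have hQY : Q ≤ piCoreOf (primesNotDvd (Nat.card A)) (Subgroup.normalizer (Q : Set G)) :=
    inv_le_core hA hX (hAP.trans hQP)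
      ⟨Subgroup.le_normalizer, isPiCard_of_isPGroup hq.out hqπ hQq, hAP.trans hQP⟩
  have hRY : Subgroup.normalizer (Q : Set G) ⊓ R ≤
      piCoreOf (primesNotDvd (Nat.card A)) (Subgroup.normalizer (Q : Set G)) :=
    inv_le_core hA hX (hAP.trans hQP)
      ⟨inf_le_left, isPiCard_of_isPGroup hq.out hqπ (hRq.to_le inf_le_right),
        Cfsg.Agent.Lib.H7.le_normalizer_inf hANX hRA⟩
  have hactP := coprimeAction_core (A := P) hG hX hQP
  rw [pp_eq hAP hPπ] at hactP
  obtain ⟨S, hS, hQS, hPS⟩ :=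
    Cfsg.Agent.Lib.H1.coprime_invariant_psubgroup_le_sylow hactP hQY hQq hQP
  have hSQ : S = Q := hQmax S hS.isPGroup hPS hQS
  have h1 : Nat.card (Subgroup.normalizer (Q : Set G) ⊓ R : Subgroup G) ≤ Nat.card Q := by
    have := card_le_of_isPGroup_le (hRq.to_le inf_le_right) hRY
    have h3 : Nat.card S = Nat.card Q := by rw [hSQ]
    rw [← h3, hS.2]
    exact this
  have h2 : Nat.card Q < Nat.card (Subgroup.normalizer (Q : Set G) ⊓ R : Subgroup G) :=
    Cfsg.Agent.Lib.H7.card_lt_card_of_le_of_mem_of_notMem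
      (le_inf Subgroup.le_normalizer hQR) hx hxQ
  omega

theorem normalizer_le_normalizer_centralizer (A : Subgroup G) :
    Subgroup.normalizer (A : Set G) ≤
      Subgroup.normalizer ((Subgroup.centralizer (A : Set G) : Subgroup G) : Set G) := by
  intro g hg
  have key : ∀ g : G, g ∈ Subgroup.normalizer (A : Set G) → ∀ x ∈ Subgroup.centralizer (A : Set G),
      g * x * g⁻¹ ∈ Subgroup.centralizer (A : Set G) := by
    intro g hg x hx
    rw [Subgroup.mem_centralizer_iff]
    intro a ha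
    have ha' : g⁻¹ * a * g ∈ A := by
      have := (Subgroup.mem_normalizer_iff.1 (Subgroup.inv_mem _ hg) a).1 ha
      simpa using this
    have hc := Subgroup.mem_centralizer_iff.1 hx _ ha'
    calc a * (g * x * g⁻¹) = g * ((g⁻¹ * a * g) * x) * g⁻¹ := by group
      _ = g * (x * (g⁻¹ * a * g)) * g⁻¹ := by rw [hc]
      _ = g * x * g⁻¹ * a := by group
  rw [Subgroup.mem_normalizer_iff]
  intro x
  constructor
  · exact key g hg x
  · intro hx
    have := key g⁻¹ (Subgroup.inv_mem _ hg) _ hx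
    simpa [mul_assoc] using this

theorem normalizer_le_normalizer_KK (A : Subgroup G) :
    Subgroup.normalizer (A : Set G) ≤ Subgroup.normalizer ((KK A : Subgroup G) : Set G) := by
  refine (normalizer_le_normalizer_centralizer A).trans ?_
  exact Cfsg.Agent.Lib.H7.normalizer_le_normalizer_charMap
    (fun Y _ => piCore (primesNotDvd (Nat.card A)) Y)
    (fun Y Y' _ _ e => Cfsg.Agent.Lib.H19.piCore_map_equiv _ e) _

theorem le_normalizer_map_conj_of_mem_normalizer {Q : Subgroup G}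
    (hQA : A ≤ Subgroup.normalizer (Q : Set G))
    {g : G} (hg : g ∈ Subgroup.normalizer (A : Set G)) :
    A ≤ Subgroup.normalizer ((Q.map (MulAut.conj g).toMonoidHom : Subgroup G) : Set G) := by
  intro a ha
  rw [Subgroup.mem_normalizer_iff_map_conj_eq]
  show (Q.map (MulAut.conj g).toMonoidHom).map (MulAut.conj a).toMonoidHom =
    Q.map (MulAut.conj g).toMonoidHom
  have ha' : g⁻¹ * a * g ∈ A := by
    have := (Subgroup.mem_normalizer_iff.1 (Subgroup.inv_mem _ hg) a).1 ha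
    simpa using this
  have hQa : Q.map (MulAut.conj (g⁻¹ * a * g)).toMonoidHom = Q :=
    Subgroup.mem_normalizer_iff_map_conj_eq.1 (hQA ha')
  have e : a * g = g * (g⁻¹ * a * g) := by group
  rw [map_conj_map_conj, e, ← map_conj_map_conj, hQa]

theorem isMaxInv_map_conj_of_mem_normalizer {q : ℕ} {Q : Subgroup G} (hQ : IsMaxInv A q Q) {g : G}
    (hg : g ∈ Subgroup.normalizer (A : Set G)) :
    IsMaxInv A q (Q.map (MulAut.conj g).toMonoidHom) := by
  obtain ⟨hq, hA, hmax⟩ := hQ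
  refine ⟨hq.map _, le_normalizer_map_conj_of_mem_normalizer hA hg, ?_⟩
  intro R hRq hRA hle
  have hg' : g⁻¹ ∈ Subgroup.normalizer (A : Set G) := Subgroup.inv_mem _ hg
  have h1 : Q ≤ R.map (MulAut.conj g⁻¹).toMonoidHom := by
    have := Subgroup.map_mono (f := (MulAut.conj g⁻¹).toMonoidHom) hle
    rwa [map_conj_map_conj, inv_mul_cancel, map_conj_one] at this
  have h2 := hmax _ (hRq.map _) (le_normalizer_map_conj_of_mem_normalizer hRA hg') h1
  rw [← h2, map_conj_map_conj, mul_inv_cancel, map_conj_one]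

end Cfsg.Agent.Lib.H7.BG7
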