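import Mathlib
import Cfsg.Agent.Lib.H7.BG7d

/-! # Bender–Glauberman §7: Theorem 7.7, normal and subnormal steps (helper7) -/

set_option autoImplicit false
set_option linter.style.haveILetI false
set_option linter.unusedSectionVars false
set_option linter.unusedVariables false
set_option linter.deprecated false
open Cfsg
open scoped Pointwise

namespace Cfsg.Agent.Lib.H7.BG7

open Cfsg.Agent.Lib.H19 (IsPiCard)
open Cfsg.Agent.Lib.H7 (map_conj_map_conj map_conj_one)

universe u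
variable {G : Type u} [Group G] [Finite G] {A : Subgroup G}

/-- transitivity for `A` on its maximal invariant `q`-subgroups, under `K`. -/
def Trans (A : Subgroup G) (q : ℕ) : Prop :=
  ∀ Q₁ Q₂ : Subgroup G, IsMaxInv A q Q₁ → IsMaxInv A q Q₂ →
    ∃ k ∈ KK A, Q₁.map (MulAut.conj k).toMonoidHom = Q₂

theorem KK_congr {A P : Subgroup G}
    (h : primesNotDvd (Nat.card P) = primesNotDvd (Nat.card A)) :
    KK P = piCoreOf (primesNotDvd (Nat.card A)) (Subgroup.centralizer (P : Set G)) := by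
  unfold KK
  rw [h]

/-- The normal step of BG Theorem 7.7. -/
theorem normal_step (hG : IsMinSimpleOddOrder G) (hA : TransitivityHypothesis A)
    {P : Subgroup G} (hP : P ≠ ⊤) (hAP : A ≤ P) (hPN : P ≤ Subgroup.normalizer (A : Set G))
    (hPπ : ∀ r : ℕ, r.Prime → r ∣ Nat.card P → r ∣ Nat.card A)
    {q : ℕ} [hq : Fact q.Prime] (hqA : ¬ q ∣ Nat.card A) (htr : Trans A q) :
    (∀ Q, IsMaxInv P q Q → IsMaxInv A q Q) ∧ Trans P q := by
  let _ : MulAction G (Subgroup G) :=
    MulAction.compHom (Subgroup G) (MulAut.conj : G →* MulAut G)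
  have hsmul : ∀ (g : G) (H : Subgroup G), g • H = H.map (MulAut.conj g).toMonoidHom :=
    fun _ _ => rfl
  have hact : Cfsg.Agent.Lib.H1.CoprimeAction P (KK A) := by
    refine ⟨hPN.trans (normalizer_le_normalizer_KK A), ?_, Or.inr ?_⟩
    · have := coprime_of_isPiCard (Nat.card P) (n := Nat.card (KK A))
        (by rw [pp_eq hAP hPπ]; exact piCoreOf_isPiCard _ _)
      exact this
    · exact solvable_of_le_ne_top hG (normalizer_ne_top hG hA.1 hA.2.1)
        ((KK_le_centralizer A).trans (Subgroup.centralizer_le_normalizer _))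
  have hYne : {Q : Subgroup G | IsMaxInv A q Q}.Nonempty := by
    obtain ⟨Q, hQ, -⟩ := exists_isMaxInv_ge (A := A) (q := q) (S := ⊥) IsPGroup.of_bot
      (by
        have : Subgroup.normalizer (((⊥ : Subgroup G) : Subgroup G) : Set G) = ⊤ :=
          Subgroup.normalizer_eq_top_iff.2 inferInstance
        rw [this]; exact le_top)
    exact ⟨Q, hQ⟩
  have hYK : ∀ k ∈ KK A, ∀ y ∈ {Q : Subgroup G | IsMaxInv A q Q}, k • y ∈
      {Q : Subgroup G | IsMaxInv A q Q} := by
    intro k hk y hy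
    rw [hsmul]
    exact isMaxInv_map_conj hy (KK_le_centralizer A hk)
  have hYA : ∀ a ∈ P, ∀ y ∈ {Q : Subgroup G | IsMaxInv A q Q}, a • y ∈
      {Q : Subgroup G | IsMaxInv A q Q} := by
    intro a ha y hy
    rw [hsmul]
    exact isMaxInv_map_conj_of_mem_normalizer hy (hPN ha)
  have htrans : ∀ y ∈ {Q : Subgroup G | IsMaxInv A q Q}, ∀ y' ∈ {Q : Subgroup G | IsMaxInv A q Q},
      ∃ k ∈ KK A, k • y = y' := by
    intro y hy y' hy'
    obtain ⟨k, hk, hky⟩ := htr y y' hy hy'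
    exact ⟨k, hk, hky⟩
  have hfix : ∀ Q : Subgroup G, P ≤ Subgroup.normalizer (Q : Set G) → ∀ a ∈ P, a • Q = Q := by
    intro Q hQP a ha
    rw [hsmul]
    exact Subgroup.mem_normalizer_iff_map_conj_eq.1 (hQP ha)
  have part1 : ∀ Q, IsMaxInv P q Q → IsMaxInv A q Q := by
    intro Q hQ
    by_cases hQ1 : Q = ⊥
    · obtain ⟨y, hy, hyfix⟩ := Cfsg.Agent.Lib.H1.glauberman_set_exists_fixed hact
        {Q : Subgroup G | IsMaxInv A q Q} hYne hYK hYA htrans
      have hyP : P ≤ Subgroup.normalizer (y : Set G) := by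
        intro a ha
        rw [Subgroup.mem_normalizer_iff_map_conj_eq]
        exact hyfix a ha
      have := hQ.2.2 y hy.1 hyP (hQ1 ▸ bot_le)
      rw [← this]; exact hy
    · exact maxInv_overgroup_of_ne_bot hG hA hP hAP hPπ hqA hQ hQ1
  refine ⟨part1, ?_⟩
  intro Q₁ Q₂ hQ₁ hQ₂
  obtain ⟨c, hc, hcQ⟩ := Cfsg.Agent.Lib.H1.glauberman_set_fixed_trans hact
    {Q : Subgroup G | IsMaxInv A q Q} hYK hYA htrans (part1 Q₁ hQ₁) (part1 Q₂ hQ₂)
    (hfix Q₁ hQ₁.2.1) (hfix Q₂ hQ₂.2.1)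
  refine ⟨c, ?_, hcQ⟩
  rw [KK_congr (pp_eq hAP hPπ), ← KK_inf_centralizer hG hA hAP]
  exact hc

/-- The subnormal induction of BG Theorem 7.7. -/
theorem subnormal_step (hG : IsMinSimpleOddOrder G) {P : Subgroup G} (hP : P ≠ ⊤)
    {q : ℕ} [hq : Fact q.Prime] :
    ∀ S : Subgroup ↥P, S.IsSubnormal → ∀ A : Subgroup G, A = S.map P.subtype →
      TransitivityHypothesis A → (∀ r : ℕ, r.Prime → r ∣ Nat.card P → r ∣ Nat.card A) →
      ¬ q ∣ Nat.card A → Trans A q →
      (∀ Q, IsMaxInv P q Q → IsMaxInv A q Q) ∧ Trans P q := by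
  intro S hS
  induction hS with
  | top =>
    intro A hAdef hA hPπ hqA htr
    have hAP : A = P := by
      rw [hAdef, ← MonoidHom.range_eq_map, Subgroup.range_subtype]
    subst hAP
    exact ⟨fun Q hQ => hQ, htr⟩
  | step H K hHK hKsn hHn ih =>
    intro A hAdef hA hPπ hqA htr
    obtain ⟨K', hK'def⟩ : ∃ K' : Subgroup G, K' = K.map P.subtype := ⟨_, rfl⟩
    have hAK' : A ≤ K' := by
      rw [hAdef, hK'def]; exact Subgroup.map_mono hHK
    have hK'P : K' ≤ P := by rw [hK'def]; exact Subgroup.map_subtype_le K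
    have hK'top : K' ≠ ⊤ := by
      rintro rfl
      exact hP (top_le_iff.1 hK'P)
    have hK'π : ∀ r : ℕ, r.Prime → r ∣ Nat.card K' → r ∣ Nat.card A :=
      fun r hr h => hPπ r hr (h.trans (Subgroup.card_dvd_of_le hK'P))
    have hK'N : K' ≤ Subgroup.normalizer (A : Set G) := by
      rw [hK'def, hAdef]
      rintro _ ⟨k, hk, rfl⟩
      rw [Subgroup.mem_normalizer_iff]
      have hkn : k ∈ Subgroup.normalizer ((H : Subgroup ↥P) : Set ↥P) := by
        have := (Subgroup.normal_subgroupOf_iff_le_normalizer hHK).1 hHn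
        exact this hk
      intro x
      constructor
      · rintro ⟨h, hh, rfl⟩
        exact ⟨k * h * k⁻¹, (Subgroup.mem_normalizer_iff.1 hkn h).1 hh, by simp⟩
      · rintro ⟨h, hh, hhx⟩
        have hxP : x ∈ P := by
          have h1 : (P.subtype k)⁻¹ * (P.subtype h) * (P.subtype k) ∈ P :=
            P.mul_mem (P.mul_mem (P.inv_mem k.2) h.2) k.2
          have h2 : x = (P.subtype k)⁻¹ * (P.subtype h) * (P.subtype k) := by
            rw [hhx]; group
          rw [h2]; exact h1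
        refine ⟨⟨x, hxP⟩, ?_, rfl⟩
        have h3 : k * ⟨x, hxP⟩ * k⁻¹ = h := by
          apply Subtype.ext
          simpa using hhx.symm
        exact (Subgroup.mem_normalizer_iff.1 hkn ⟨x, hxP⟩).2 (by rw [h3]; exact hh)
    obtain ⟨n1, n2⟩ := normal_step hG hA hK'top hAK' hK'N hK'π hqA htr
    have hTHK' := TH_overgroup hA hK'top hAK' hK'π
    have hPπ' : ∀ r : ℕ, r.Prime → r ∣ Nat.card P → r ∣ Nat.card K' :=
      fun r hr h => (hPπ r hr h).trans (Subgroup.card_dvd_of_le hAK')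
    have hqK' : ¬ q ∣ Nat.card K' := fun h => hqA (hK'π q hq.out h)
    obtain ⟨i1, i2⟩ := ih K' hK'def hTHK' hPπ' hqK' n2
    exact ⟨fun Q hQ => n1 Q (i1 Q hQ), i2⟩

end Cfsg.Agent.Lib.H7.BG7
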