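import Mathlib
import Cfsg.Agent.Lib.H7.BG7e

/-! # Bender–Glauberman §7: Theorem 7.7(d) (helper7) -/

set_option autoImplicit false
set_option linter.style.haveILetI false
set_option linter.unusedSectionVars false
set_option linter.unusedVariables false
set_option linter.deprecated false
open Cfsg
open scoped Pointwise commutatorElement

namespace Cfsg.Agent.Lib.H7.BG7

open Cfsg.Agent.Lib.H19 (IsPiCard)
open Cfsg.Agent.Lib.H7 (map_conj_map_conj map_conj_one)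

universe u
variable {G : Type u} [Group G] [Finite G] {P : Subgroup G}

theorem normalizer_eq_sup {q : ℕ} (htr : Trans P q) {Q : Subgroup G} (hQ : IsMaxInv P q Q) :
    Subgroup.normalizer (P : Set G) =
      KK P ⊔ (Subgroup.normalizer (P : Set G) ⊓ Subgroup.normalizer (Q : Set G)) := by
  have hKN : KK P ≤ Subgroup.normalizer (P : Set G) :=
    (KK_le_centralizer P).trans (Subgroup.centralizer_le_normalizer _)
  apply le_antisymm
  · intro g hg
    obtain ⟨k, hk, hkQ⟩ := htr Q _ hQ (isMaxInv_map_conj_of_mem_normalizer hQ hg)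
    have hn : k⁻¹ * g ∈ Subgroup.normalizer (Q : Set G) := by
      rw [Subgroup.mem_normalizer_iff_map_conj_eq]
      show Q.map (MulAut.conj (k⁻¹ * g)).toMonoidHom = Q
      rw [← map_conj_map_conj, ← hkQ, map_conj_map_conj, inv_mul_cancel, map_conj_one]
    have hn' : k⁻¹ * g ∈ Subgroup.normalizer (P : Set G) :=
      Subgroup.mul_mem _ (Subgroup.inv_mem _ (hKN hk)) hg
    have : g = k * (k⁻¹ * g) := by group
    rw [this]
    exact Subgroup.mul_mem_sup hk ⟨hn', hn⟩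
  · exact sup_le hKN inf_le_left

theorem commutator_self_le (N : Subgroup G) : ⁅N, N⁆ ≤ N := by
  rw [Subgroup.commutator_le]
  intro a ha b hb
  rw [commutatorElement_def]
  exact N.mul_mem (N.mul_mem (N.mul_mem ha hb) (N.inv_mem ha)) (N.inv_mem hb)

theorem commutator_le_sup {K N : Subgroup G} (hNK : N ≤ Subgroup.normalizer (K : Set G)) :
    ⁅K ⊔ N, K ⊔ N⁆ ≤ K ⊔ ⁅N, N⁆ := by
  rw [Subgroup.commutator_le]
  intro g₁ hg₁ g₂ hg₂
  obtain ⟨k₁, hk₁, n₁, hn₁, rfl⟩ := Cfsg.Agent.Lib.H1.mem_sup_of_le_normalizer hNK hg₁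
  obtain ⟨k₂, hk₂, n₂, hn₂, rfl⟩ := Cfsg.Agent.Lib.H1.mem_sup_of_le_normalizer hNK hg₂
  have conj : ∀ n ∈ N, ∀ k ∈ K, n * k * n⁻¹ ∈ K := fun n hn k hk =>
    (Subgroup.mem_normalizer_iff.1 (hNK hn) k).1 hk
  have hc : ⁅n₁, n₂⁆ ∈ ⁅N, N⁆ := Subgroup.commutator_mem_commutator hn₁ hn₂
  have hcN : ⁅n₁, n₂⁆ ∈ N := commutator_self_le N hc
  have e : ⁅k₁ * n₁, k₂ * n₂⁆ = (k₁ * (n₁ * k₂ * n₁⁻¹) *
      ((n₁ * n₂ * n₁⁻¹) * k₁⁻¹ * (n₁ * n₂ * n₁⁻¹)⁻¹) *
      (⁅n₁, n₂⁆ * k₂⁻¹ * ⁅n₁, n₂⁆⁻¹)) * ⁅n₁, n₂⁆ := by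
    simp only [commutatorElement_def]
    group
  rw [e]
  refine Subgroup.mul_mem_sup ?_ hc
  refine K.mul_mem (K.mul_mem (K.mul_mem hk₁ (conj _ hn₁ _ hk₂)) ?_) ?_
  · exact conj _ (N.mul_mem (N.mul_mem hn₁ hn₂) (N.inv_mem hn₁)) _ (K.inv_mem hk₁)
  · exact conj _ hcN _ (K.inv_mem hk₂)

/-- an element `x = k c` of `N` with `k`, `x` of coprime "orders" and `c ∈ N'` lies in `N'`. -/
theorem mem_commutator_of_coprime {N : Subgroup G} {x k c : G} (hx : x ∈ N) (hk : k ∈ N)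
    (hc : c ∈ ⁅N, N⁆) (hxkc : x = k * c) {a b : ℕ} (hab : a.Coprime b) (hxa : x ^ a = 1)
    (hkb : k ^ b = 1) : x ∈ ⁅N, N⁆ := by
  have hcN : c ∈ N := commutator_self_le N hc
  have hc' : (⟨c, hcN⟩ : ↥N) ∈ commutator ↥N := by
    rw [← Subgroup.map_subtype_commutator] at hc
    obtain ⟨c', hc', hcc⟩ := hc
    have : c' = ⟨c, hcN⟩ := Subtype.ext hcc
    rw [← this]; exact hc'
  have h1 : Abelianization.of (⟨x, hx⟩ : ↥N) = Abelianization.of (⟨k, hk⟩ : ↥N) := by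
    have e : (⟨x, hx⟩ : ↥N) = ⟨k, hk⟩ * ⟨c, hcN⟩ := Subtype.ext hxkc
    rw [e, map_mul]
    have : Abelianization.of (⟨c, hcN⟩ : ↥N) = 1 := by
      rw [← MonoidHom.mem_ker, Abelianization.ker_of]; exact hc'
    rw [this, mul_one]
  have h2 : (Abelianization.of (⟨x, hx⟩ : ↥N)) ^ a = 1 := by
    rw [← map_pow]
    have : (⟨x, hx⟩ : ↥N) ^ a = 1 := Subtype.ext (by simpa using hxa)
    rw [this, map_one]
  have h3 : (Abelianization.of (⟨x, hx⟩ : ↥N)) ^ b = 1 := by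
    rw [h1, ← map_pow]
    have : (⟨k, hk⟩ : ↥N) ^ b = 1 := Subtype.ext (by simpa using hkb)
    rw [this, map_one]
  have h4 : Abelianization.of (⟨x, hx⟩ : ↥N) = 1 := by
    have d1 := orderOf_dvd_of_pow_eq_one h2
    have d2 := orderOf_dvd_of_pow_eq_one h3
    have := Nat.dvd_gcd d1 d2
    rw [hab] at this
    exact orderOf_eq_one_iff.1 (Nat.dvd_one.1 this)
  have h5 : (⟨x, hx⟩ : ↥N) ∈ commutator ↥N := by
    rw [← Abelianization.ker_of, MonoidHom.mem_ker]; exact h4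
  rw [← Subgroup.map_subtype_commutator]
  exact ⟨⟨x, hx⟩, h5, rfl⟩

theorem inf_commutator_le {q : ℕ} (htr : Trans P q) {Q : Subgroup G} (hQ : IsMaxInv P q Q) :
    P ⊓ ⁅Subgroup.normalizer (P : Set G), Subgroup.normalizer (P : Set G)⁆ ≤
      ⁅Subgroup.normalizer (Q : Set G), Subgroup.normalizer (Q : Set G)⁆ := by
  obtain ⟨N, hNdef⟩ : ∃ N : Subgroup G,
      N = Subgroup.normalizer (P : Set G) ⊓ Subgroup.normalizer (Q : Set G) := ⟨_, rfl⟩
  have hNK : N ≤ Subgroup.normalizer ((KK P : Subgroup G) : Set G) := by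
    rw [hNdef]; exact inf_le_left.trans (normalizer_le_normalizer_KK P)
  have hsup : Subgroup.normalizer (P : Set G) = KK P ⊔ N := by
    rw [hNdef]; exact normalizer_eq_sup htr hQ
  intro x hx
  have hxM : x ∈ ⁅KK P ⊔ N, KK P ⊔ N⁆ := by rw [← hsup]; exact hx.2
  have hxL := commutator_le_sup hNK hxM
  have hN'K : ⁅N, N⁆ ≤ Subgroup.normalizer ((KK P : Subgroup G) : Set G) :=
    (commutator_self_le N).trans hNK
  obtain ⟨k, hk, c, hc, hxkc⟩ := Cfsg.Agent.Lib.H1.mem_sup_of_le_normalizer hN'K hxL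
  have hxN : x ∈ N := by
    rw [hNdef]; exact ⟨Subgroup.le_normalizer hx.1, hQ.2.1 hx.1⟩
  have hcN : c ∈ N := commutator_self_le N hc
  have hkN : k ∈ N := by
    have : k = x * c⁻¹ := by rw [hxkc]; group
    rw [this]; exact N.mul_mem hxN (N.inv_mem hcN)
  have hcop : (Nat.card P).Coprime (Nat.card (KK P)) :=
    coprime_of_isPiCard _ (piCoreOf_isPiCard _ _)
  have hxa : x ^ Nat.card P = 1 := by
    have := pow_card_eq_one' (G := ↥P) (x := ⟨x, hx.1⟩)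
    exact congrArg Subtype.val this
  have hkb : k ^ Nat.card (KK P) = 1 := by
    have := pow_card_eq_one' (G := ↥(KK P)) (x := ⟨k, hk⟩)
    exact congrArg Subtype.val this
  have := mem_commutator_of_coprime hxN hkN hc hxkc hcop hxa hkb
  refine Subgroup.commutator_mono ?_ ?_ this <;> rw [hNdef] <;> exact inf_le_right

end Cfsg.Agent.Lib.H7.BG7
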