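import Mathlib
import Cfsg.Agent.Lib.H7.CoprimeGen

/-! # Rank-2 generation with weakened hypotheses (helper7) -/

set_option autoImplicit false
set_option linter.unusedSectionVars false
open scoped IsMulCommutative

namespace Cfsg.Agent.Lib.H7.GorT

open Cfsg.Agent.Lib.H7 (conjEnd conjEnd_apply_coe coe_mem_centralizer_of_conjEnd_eq rank2_formula
  cycTrace cycTrace_fixed)

universe u
variable {H : Type u} [Group H]

theorem conjEnd_eq_one_of_mem_centralizer (V : Subgroup H)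
    (n : ↥(Subgroup.normalizer (V : Set H))) (hn : (n : H) ∈ Subgroup.centralizer (V : Set H)) :
    conjEnd V n = 1 := by
  ext v
  rw [conjEnd_apply_coe]
  have := Subgroup.mem_centralizer_iff.1 hn v v.2
  show (n : H) * v * (n : H)⁻¹ = v
  rw [← this]; group

/-- Variant of `le_sup_centralizer_of_rank2` where `a ^ p` and `b ^ p` merely centralize `V`. -/
theorem le_sup_centralizer_of_rank2' [Finite H] (p : ℕ) [Fact p.Prime] {V : Subgroup H}
    [IsMulCommutative V] (hVp : (Nat.card V).Coprime p) {a b : H}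
    (ha : a ∈ Subgroup.normalizer (V : Set H)) (hb : b ∈ Subgroup.normalizer (V : Set H))
    (hab : a * b = b * a) (hap : a ^ p ∈ Subgroup.centralizer (V : Set H))
    (hbp : b ^ p ∈ Subgroup.centralizer (V : Set H)) :
    V ≤ (⨆ j : ZMod p, V ⊓ Subgroup.centralizer {a * b ^ j.val}) ⊔
      (V ⊓ Subgroup.centralizer {b}) := by
  intro v hv
  obtain ⟨aN, haN⟩ : ∃ aN : ↥(Subgroup.normalizer (V : Set H)), (aN : H) = a := ⟨⟨a, ha⟩, rfl⟩
  obtain ⟨bN, hbN⟩ : ∃ bN : ↥(Subgroup.normalizer (V : Set H)), (bN : H) = b := ⟨⟨b, hb⟩, rfl⟩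
  have habN : aN * bN = bN * aN := by
    apply Subtype.ext; rw [Subgroup.coe_mul, Subgroup.coe_mul, haN, hbN, hab]
  have hαβ : conjEnd V aN * conjEnd V bN = conjEnd V bN * conjEnd V aN := by
    rw [← map_mul, ← map_mul, habN]
  have hα : conjEnd V aN ^ p = 1 := by
    rw [← map_pow]
    apply conjEnd_eq_one_of_mem_centralizer
    rw [Subgroup.coe_pow, haN]; exact hap
  have hβ : conjEnd V bN ^ p = 1 := by
    rw [← map_pow]
    apply conjEnd_eq_one_of_mem_centralizer
    rw [Subgroup.coe_pow, hbN]; exact hbp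
  have hγ : ∀ j : ZMod p, (conjEnd V aN * conjEnd V bN ^ j.val) ^ p = 1 := by
    intro j
    have hc : Commute (conjEnd V aN) (conjEnd V bN) := hαβ
    rw [(hc.pow_right j.val).mul_pow, hα, one_mul, ← pow_mul, mul_comm, pow_mul, hβ, one_pow]
  obtain ⟨h, hβh, hform⟩ := rank2_formula p (conjEnd V aN) (conjEnd V bN) hαβ hβ ⟨v, hv⟩
  set S : Subgroup H := (⨆ j : ZMod p, V ⊓ Subgroup.centralizer {a * b ^ j.val}) ⊔
      (V ⊓ Subgroup.centralizer {b}) with hS
  have h1 : h ∈ S.subgroupOf V := by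
    rw [Subgroup.mem_subgroupOf]
    apply Subgroup.mem_sup_right
    have := coe_mem_centralizer_of_conjEnd_eq V bN h hβh
    rwa [hbN] at this
  have h2 : cycTrace p (conjEnd V bN) ⟨v, hv⟩ ∈ S.subgroupOf V := by
    rw [Subgroup.mem_subgroupOf]
    apply Subgroup.mem_sup_right
    have := coe_mem_centralizer_of_conjEnd_eq V bN _ (cycTrace_fixed p hβ ⟨v, hv⟩)
    rwa [hbN] at this
  have h3 : (∏ j : ZMod p, cycTrace p (conjEnd V aN * conjEnd V bN ^ j.val) ⟨v, hv⟩) ∈
      S.subgroupOf V := by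
    apply Subgroup.prod_mem
    intro j _
    rw [Subgroup.mem_subgroupOf]
    apply Subgroup.mem_sup_left
    apply Subgroup.mem_iSup_of_mem j
    have h4 := cycTrace_fixed p (hγ j) ⟨v, hv⟩
    have h4' : conjEnd V (aN * bN ^ j.val) = conjEnd V aN * conjEnd V bN ^ j.val := by
      rw [map_mul, map_pow]
    rw [← h4'] at h4 ⊢
    have := coe_mem_centralizer_of_conjEnd_eq V _ _ h4
    rwa [Subgroup.coe_mul, Subgroup.coe_pow, haN, hbN] at this
  have h5 : (⟨v, hv⟩ : ↥V) ^ p ∈ S.subgroupOf V := by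
    have : (⟨v, hv⟩ : ↥V) ^ p = (∏ j : ZMod p, cycTrace p (conjEnd V aN * conjEnd V bN ^ j.val)
        ⟨v, hv⟩) * cycTrace p (conjEnd V bN) ⟨v, hv⟩ * h⁻¹ := by
      rw [← hform]; group
    rw [this]
    exact Subgroup.mul_mem _ (Subgroup.mul_mem _ h3 h2) (Subgroup.inv_mem _ h1)
  have h6 : (⟨v, hv⟩ : ↥V) ^ Nat.card V ∈ S.subgroupOf V := by
    rw [pow_card_eq_one']; exact Subgroup.one_mem _
  have h7 := Cfsg.Agent.Lib.H6.mem_of_pow_mem_of_coprime hVp.symm h5 h6
  exact Subgroup.mem_subgroupOf.1 h7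

end Cfsg.Agent.Lib.H7.GorT
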