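import Mathlib
import Cfsg.Agent.Lib.H7.GorT4
import Cfsg.Agent.Lib.H1.NoncyclicAbelian

/-! # An abelian `p`-group acting semiregularly is cyclic modulo the kernel (helper7) -/

set_option autoImplicit false
set_option linter.unusedSectionVars false
set_option linter.style.haveILetI false
open scoped IsMulCommutative

namespace Cfsg.Agent.Lib.H7.GorT

universe u
variable {H : Type u} [Group H] [Finite H]

theorem exists_generator_mod_centralizer (p : ℕ) [hp : Fact p.Prime] {B K₁ : Subgroup H}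
    (hB : IsPGroup p B) (hBc : ∀ x ∈ B, ∀ y ∈ B, x * y = y * x)
    (hK₁c : ∀ x ∈ K₁, ∀ y ∈ K₁, x * y = y * x) (hK₁ : (Nat.card K₁).Coprime p)
    (hK₁1 : K₁ ≠ ⊥) (hBK : B ≤ Subgroup.normalizer (K₁ : Set H))
    (hfpf : ∀ b' ∈ B, b' ∉ Subgroup.centralizer (K₁ : Set H) →
      K₁ ⊓ Subgroup.centralizer {b'} = ⊥) :
    ∃ b ∈ B, ∃ t : ℕ, 0 < t ∧ b ^ t ∈ Subgroup.centralizer (K₁ : Set H) ∧
      (∀ i, 0 < i → i < t → b ^ i ∉ Subgroup.centralizer (K₁ : Set H)) ∧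
      (∀ x ∈ B, ∃ k : ℤ, ∃ b₀ ∈ B ⊓ Subgroup.centralizer (K₁ : Set H), x = b ^ k * b₀) ∧
      (p ≠ 2 → Odd t) := by
  classical
  set C : Subgroup H := Subgroup.centralizer (K₁ : Set H) with hC
  haveI hBcomm : IsMulCommutative ↥B := ⟨⟨fun x y => Subtype.ext (hBc x x.2 y y.2)⟩⟩
  haveI hK₁comm : IsMulCommutative ↥K₁ := ⟨⟨fun x y => Subtype.ext (hK₁c x x.2 y y.2)⟩⟩
  set N : Subgroup ↥B := C.subgroupOf B with hN
  haveI hNn : N.Normal := by
    refine ⟨fun n hn g => ?_⟩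
    have : g * n * g⁻¹ = n := by
      rw [mul_comm' g n, mul_assoc, mul_inv_cancel, mul_one]
    rw [this]; exact hn
  letI : CommGroup (↥B ⧸ N) :=
    { (inferInstance : Group (↥B ⧸ N)) with
      mul_comm := by
        intro x y
        induction x using QuotientGroup.induction_on with
        | H x =>
        induction y using QuotientGroup.induction_on with
        | H y =>
        rw [← QuotientGroup.mk_mul, ← QuotientGroup.mk_mul, mul_comm' x y] }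
  have hmk1 : ∀ x : ↥B, (QuotientGroup.mk x : ↥B ⧸ N) = 1 ↔ (x : H) ∈ C := by
    intro x
    rw [QuotientGroup.eq_one_iff, hN, Subgroup.mem_subgroupOf]
  have hQp : IsPGroup p (↥B ⧸ N) := hB.to_quotient N
  -- the quotient is cyclic
  have hcyc : IsCyclic (↥B ⧸ N) := by
    by_contra hnc
    obtain ⟨p', hp', x, y, hxp, hyp, hx1, hxy⟩ :=
      Cfsg.Agent.Lib.H1.exists_independent_of_not_isCyclic hnc
    have hpp : p' = p := by
      haveI : Fact p'.Prime := ⟨hp'⟩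
      have h1 : orderOf x = p' := orderOf_eq_prime hxp hx1
      obtain ⟨k, hk⟩ := hQp x
      have h2 : p' ∣ p ^ k := by
        rw [← h1]; exact orderOf_dvd_of_pow_eq_one hk
      exact (Nat.prime_dvd_prime_iff_eq hp' hp.out).1 (hp'.dvd_of_dvd_pow h2)
    rw [hpp] at hxp hyp
    obtain ⟨b₁, rfl⟩ := QuotientGroup.mk_surjective x
    obtain ⟨a₁, rfl⟩ := QuotientGroup.mk_surjective y
    have hb₁p : (b₁ : H) ^ p ∈ C := by
      rw [← QuotientGroup.mk_pow, hmk1] at hxp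
      exact hxp
    have ha₁p : (a₁ : H) ^ p ∈ C := by
      rw [← QuotientGroup.mk_pow, hmk1] at hyp
      exact hyp
    have hb₁ : (b₁ : H) ∉ C := fun h => hx1 ((hmk1 b₁).2 h)
    have hab : ∀ i : ℕ, (a₁ : H) * (b₁ : H) ^ i ∉ C := by
      intro i h
      apply hxy i
      rw [← QuotientGroup.mk_pow, ← QuotientGroup.mk_mul, hmk1, Subgroup.coe_mul,
        Subgroup.coe_pow]
      have : (b₁ : H) ^ i * (a₁ : H) = (a₁ : H) * (b₁ : H) ^ i :=
        hBc _ (Subgroup.pow_mem _ b₁.2 i) _ a₁.2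
      rw [this]; exact h
    have hle := le_sup_centralizer_of_rank2' p hK₁ (hBK a₁.2) (hBK b₁.2)
      (hBc _ a₁.2 _ b₁.2) ha₁p hb₁p
    have h1 : (⨆ j : ZMod p, K₁ ⊓ Subgroup.centralizer {(a₁ : H) * (b₁ : H) ^ j.val}) ⊔
        (K₁ ⊓ Subgroup.centralizer {(b₁ : H)}) = ⊥ := by
      rw [hfpf _ b₁.2 hb₁, sup_bot_eq, iSup_eq_bot]
      intro j
      exact hfpf _ (Subgroup.mul_mem _ a₁.2 (Subgroup.pow_mem _ b₁.2 _)) (hab _)
    rw [h1] at hle
    exact hK₁1 (le_bot_iff.1 hle)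
  obtain ⟨g, hg⟩ := hcyc.exists_generator
  obtain ⟨b, rfl⟩ := QuotientGroup.mk_surjective g
  refine ⟨b, b.2, orderOf (QuotientGroup.mk b : ↥B ⧸ N), orderOf_pos _, ?_, ?_, ?_, ?_⟩
  · have := pow_orderOf_eq_one (QuotientGroup.mk b : ↥B ⧸ N)
    rw [← QuotientGroup.mk_pow, hmk1, Subgroup.coe_pow] at this
    exact this
  · intro i hi0 hit hmem
    have h1 : (QuotientGroup.mk b : ↥B ⧸ N) ^ i = 1 := by
      rw [← QuotientGroup.mk_pow, hmk1, Subgroup.coe_pow]; exact hmem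
    have := Nat.le_of_dvd hi0 (orderOf_dvd_of_pow_eq_one h1)
    omega
  · intro x hx
    obtain ⟨k, hk⟩ := Subgroup.mem_zpowers_iff.1 (hg (QuotientGroup.mk ⟨x, hx⟩))
    refine ⟨k, (b : H) ^ (-k) * x, ⟨?_, ?_⟩, by group⟩
    · exact Subgroup.mul_mem _ (Subgroup.zpow_mem _ b.2 _) hx
    · have h1 : (QuotientGroup.mk (b ^ (-k) * ⟨x, hx⟩) : ↥B ⧸ N) = 1 := by
        rw [QuotientGroup.mk_mul, QuotientGroup.mk_zpow, ← hk, zpow_neg, inv_mul_cancel]
      rw [hmk1] at h1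
      simpa using h1
  · intro hp2
    obtain ⟨k, hk⟩ := (IsPGroup.iff_card).1 hQp
    have h1 : orderOf (QuotientGroup.mk b : ↥B ⧸ N) ∣ p ^ k := by
      rw [← hk]; exact orderOf_dvd_natCard _
    obtain ⟨j, -, hj⟩ := (Nat.dvd_prime_pow hp.out).1 h1
    rw [hj]
    exact (hp.out.odd_of_ne_two hp2).pow

end Cfsg.Agent.Lib.H7.GorT
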