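import Mathlib

/-! # Norm lemma in class-2 groups (helper7): towards Gorenstein 8.5 -/

set_option autoImplicit false

namespace Cfsg.Agent.Lib.H7.GorT

section Alg

variable {M : Type*} [CommGroup M]

theorem iterate_mem (φ : M →* M) (S : Subgroup M) (hS : ∀ z ∈ S, φ z ∈ S) {z : M} (hz : z ∈ S)
    (k : ℕ) : (φ^[k]) z ∈ S := by
  induction k with
  | zero => simpa using hz
  | succ k ih => rw [Function.iterate_succ_apply']; exact hS _ ih

theorem exists_telescope (φ : M →* M) (S : Subgroup M) (hS : ∀ z ∈ S, φ z ∈ S) (z : M)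
    (hz : z ∈ S) (k : ℕ) :
    ∃ y ∈ S, z * ((φ^[k]) z)⁻¹ = y * (φ y)⁻¹ := by
  refine ⟨∏ l ∈ Finset.range k, (φ^[l]) z,
    Subgroup.prod_mem _ fun l _ => iterate_mem φ S hS hz l, ?_⟩
  induction k with
  | zero => simp
  | succ k ih =>
    rw [Finset.prod_range_succ, map_mul, mul_inv, ← mul_assoc,
      mul_comm (∏ l ∈ Finset.range k, (φ^[l]) z) ((φ^[k]) z),
      mul_assoc ((φ^[k]) z), ← ih, Function.iterate_succ_apply']
    rw [mul_comm ((φ^[k]) z), mul_assoc, mul_assoc, inv_mul_cancel_left]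

theorem prod_pairing (φ : M →* M) (S : Subgroup M) (hS : ∀ z ∈ S, φ z ∈ S) (t : ℕ) (ht : Odd t)
    (E : ℕ → M) (hES : ∀ d, E d ∈ S)
    (hE : ∀ d, 0 < d → d < t → E (t - d) * (φ^[t - d]) (E d) = 1) :
    ∃ y ∈ S, ∏ d ∈ Finset.Ico 1 t, E d = y * (φ y)⁻¹ := by
  obtain ⟨s, rfl⟩ := ht
  have h1 : ∏ d ∈ Finset.Ico 1 (2 * s + 1), E d =
      (∏ d ∈ Finset.Ico 1 (s + 1), E d) * ∏ d ∈ Finset.Ico (s + 1) (2 * s + 1), E d :=
    (Finset.prod_Ico_consecutive E (by omega) (by omega)).symm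
  have h2 : ∏ d ∈ Finset.Ico 1 (s + 1), E (2 * s + 1 - d) =
      ∏ d ∈ Finset.Ico (s + 1) (2 * s + 1), E d := by
    have := Finset.prod_Ico_reflect E 1 (m := s + 1) (n := 2 * s + 1) (by omega)
    rw [this]
    congr 1
    congr 1 <;> omega
  rw [h1, ← h2, ← Finset.prod_mul_distrib]
  have h3 : ∀ d ∈ Finset.Ico 1 (s + 1), ∃ y ∈ S, E d * E (2 * s + 1 - d) = y * (φ y)⁻¹ := by
    intro d hd
    rw [Finset.mem_Ico] at hd
    have h4 := hE d (by omega) (by omega)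
    have h5 : E (2 * s + 1 - d) = ((φ^[2 * s + 1 - d]) (E d))⁻¹ := eq_inv_of_mul_eq_one_left h4
    rw [h5]
    exact exists_telescope φ S hS (E d) (hES d) _
  choose! Y hYS hY using h3
  refine ⟨∏ d ∈ Finset.Ico 1 (s + 1), Y d, Subgroup.prod_mem _ hYS, ?_⟩
  rw [map_prod, ← Finset.prod_inv_distrib, ← Finset.prod_mul_distrib]
  exact Finset.prod_congr rfl hY

end Alg

end Cfsg.Agent.Lib.H7.GorT
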