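import Mathlib
import Cfsg.Agent.Lib.H7.GorT1

set_option autoImplicit false
set_option linter.unusedSectionVars false
open scoped commutatorElement IsMulCommutative

namespace Cfsg.Agent.Lib.H7.GorT

section Norm

/-- partial norms `v · φ(v) ⋯ φ^{m-1}(v)` -/
def nrm {M : Type*} [Monoid M] (φ : M → M) (v : M) : ℕ → M
  | 0 => 1
  | m + 1 => nrm φ v m * (φ^[m]) v

variable {X : Type*} [Group X] (T : Subgroup X) [hTn : T.Normal]

theorem iterate_conjNormal_coe (b : X) (k : ℕ) (v : ↥T) :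
    (((⇑(MulAut.conjNormal b : MulAut ↥T))^[k] v : ↥T) : X) = b ^ k * v * (b ^ k)⁻¹ := by
  induction k with
  | zero => simp
  | succ k ih =>
    rw [Function.iterate_succ_apply', MulAut.conjNormal_apply, ih, pow_succ']
    group

theorem nrm_conjNormal_coe (b : X) (v : ↥T) (m : ℕ) :
    ((nrm (⇑(MulAut.conjNormal b : MulAut ↥T)) v m : ↥T) : X) = ((v : X) * b) ^ m * (b ^ m)⁻¹ := by
  induction m with
  | zero => simp [nrm]
  | succ m ih =>
    rw [nrm, Subgroup.coe_mul, ih, iterate_conjNormal_coe, pow_succ, pow_succ]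
    group

/-- The norm lemma for odd `t` in a class-2 group. -/
theorem norm_fixed_of_odd (b : X) (t : ℕ) (ht : Odd t)
    (hbt : ∀ v ∈ T, b ^ t * v = v * b ^ t)
    (hcl : ∀ x ∈ T, ∀ y ∈ T, ∀ z ∈ T, ⁅x, y⁆ * z = z * ⁅x, y⁆)
    (v : X) (hv : v ∈ T) :
    ∃ y ∈ ⁅T, T⁆, b * ((v * b) ^ t * (b ^ t)⁻¹ * y) = ((v * b) ^ t * (b ^ t)⁻¹ * y) * b := by
  classical
  set e : MulAut ↥T := MulAut.conjNormal b with he
  set vT : ↥T := ⟨v, hv⟩ with hvT
  -- class 2 in ↥T
  have hcl' : ∀ x y z : ↥T, ⁅x, y⁆ * z = z * ⁅x, y⁆ := by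
    intro x y z
    apply Subtype.ext
    have := hcl x x.2 y y.2 z z.2
    simpa [commutatorElement_def] using this
  have hcomm_le : commutator ↥T ≤ Subgroup.center ↥T := by
    rw [commutator_def, Subgroup.commutator_le]
    intro g₁ _ g₂ _
    rw [Subgroup.mem_center_iff]
    intro z
    exact (hcl' g₁ g₂ z).symm
  -- the map c
  let c : ↥T → ↥T := fun x => x⁻¹ * vT⁻¹ * x * vT
  have hc_comm : ∀ x : ↥T, c x ∈ commutator ↥T := by
    intro x
    have : c x = ⁅x⁻¹, vT⁻¹⁆ := by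
      simp only [c, commutatorElement_def, inv_inv]
    rw [this, commutator_def]
    exact Subgroup.commutator_mem_commutator (Subgroup.mem_top _) (Subgroup.mem_top _)
  have hc_cen : ∀ x : ↥T, c x ∈ Subgroup.center ↥T := fun x => hcomm_le (hc_comm x)
  have hc_mul : ∀ x y : ↥T, c (x * y) = c x * c y := by
    intro x y
    have h1 : y⁻¹ * c x = c x * y⁻¹ := (Subgroup.mem_center_iff.1 (hc_cen x) y⁻¹)
    calc c (x * y) = y⁻¹ * c x * (vT⁻¹ * y * vT) := by simp only [c]; group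
      _ = c x * y⁻¹ * (vT⁻¹ * y * vT) := by rw [h1]
      _ = c x * c y := by simp only [c]; group
  -- centre and commutator data
  have hZe : ∀ z ∈ (Subgroup.center ↥T), e z ∈ (Subgroup.center ↥T) := by
    intro z hz
    rw [Subgroup.mem_center_iff] at hz ⊢
    intro w
    have := hz (e.symm w)
    calc w * e z = e (e.symm w) * e z := by rw [MulEquiv.apply_symm_apply]
      _ = e (e.symm w * z) := by rw [map_mul]
      _ = e (z * e.symm w) := by rw [this]
      _ = e z * w := by rw [map_mul, MulEquiv.apply_symm_apply]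
  let φZ : ↥(Subgroup.center ↥T) →* ↥(Subgroup.center ↥T) := (e.toMonoidHom.comp (Subgroup.center ↥T).subtype).codRestrict (Subgroup.center ↥T) (fun z => hZe z z.2)
  have hφZ : ∀ z : ↥(Subgroup.center ↥T), ((φZ z : ↥(Subgroup.center ↥T)) : ↥T) = e z := fun z => rfl
  have hφZit : ∀ (k : ℕ) (z : ↥(Subgroup.center ↥T)), (((φZ^[k]) z : ↥(Subgroup.center ↥T)) : ↥T) = (⇑e)^[k] z := by
    intro k z
    induction k with
    | zero => rfl
    | succ k ih => rw [Function.iterate_succ_apply', Function.iterate_succ_apply', hφZ, ih]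
  let S : Subgroup ↥(Subgroup.center ↥T) := (commutator ↥T).subgroupOf (Subgroup.center ↥T)
  have hS : ∀ z ∈ S, φZ z ∈ S := by
    intro z hz
    rw [Subgroup.mem_subgroupOf] at hz ⊢
    rw [hφZ]
    have hchar : (commutator ↥T).Characteristic := by
      rw [commutator_def]; infer_instance
    exact (Subgroup.characteristic_iff_le_comap.1 hchar e) hz
  let E : ℕ → ↥(Subgroup.center ↥T) := fun d => ⟨c ((⇑e)^[d] vT), hc_cen _⟩
  have hES : ∀ d, E d ∈ S := by
    intro d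
    rw [Subgroup.mem_subgroupOf]
    exact hc_comm _
  -- iterate facts
  have hit_t : (⇑e)^[t] vT = vT := by
    apply Subtype.ext
    rw [iterate_conjNormal_coe]
    have := hbt v hv
    show b ^ t * v * (b ^ t)⁻¹ = v
    rw [this]; group
  have hit_mul : ∀ (k : ℕ) (x y : ↥T), (⇑e)^[k] (x * y) = (⇑e)^[k] x * (⇑e)^[k] y := by
    intro k x y
    induction k with
    | zero => rfl
    | succ k ih => rw [Function.iterate_succ_apply', Function.iterate_succ_apply',
        Function.iterate_succ_apply', ih, map_mul]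
  have hit_inv : ∀ (k : ℕ) (x : ↥T), (⇑e)^[k] x⁻¹ = ((⇑e)^[k] x)⁻¹ := by
    intro k x
    induction k with
    | zero => rfl
    | succ k ih => rw [Function.iterate_succ_apply', Function.iterate_succ_apply', ih, map_inv]
  have hE : ∀ d, 0 < d → d < t → E (t - d) * (φZ^[t - d]) (E d) = 1 := by
    intro d hd0 hdt
    apply Subtype.ext
    rw [Subgroup.coe_mul, hφZit]
    show c ((⇑e)^[t - d] vT) * (⇑e)^[t - d] (c ((⇑e)^[d] vT)) = 1
    have h1 : (⇑e)^[t - d] ((⇑e)^[d] vT) = vT := by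
      rw [← Function.iterate_add_apply, Nat.sub_add_cancel hdt.le, hit_t]
    simp only [c, hit_mul, hit_inv, h1]
    group
  obtain ⟨yZ, hyS, hy⟩ := prod_pairing φZ S hS t ht E hES hE
  -- c of the norm
  have hcN : ∀ m : ℕ, c (nrm (⇑e) vT m) = ((∏ d ∈ Finset.range m, E d : ↥(Subgroup.center ↥T)) : ↥T) := by
    intro m
    induction m with
    | zero => simp [nrm, c]
    | succ m ih =>
      rw [nrm, hc_mul, ih, Finset.prod_range_succ, Subgroup.coe_mul]
  have ht0 : 0 < t := ht.pos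
  have hE0 : E 0 = 1 := by
    apply Subtype.ext
    show c vT = 1
    simp only [c]; group
  have hcNt : c (nrm (⇑e) vT t) = ((yZ : ↥T)) * (e (yZ : ↥T))⁻¹ := by
    rw [hcN, Finset.range_eq_Ico, Finset.prod_eq_prod_Ico_succ_bot ht0, hE0, one_mul, hy,
      Subgroup.coe_mul, Subgroup.coe_inv, hφZ]
  -- rotation
  have hrot : e (nrm (⇑e) vT t) = vT⁻¹ * nrm (⇑e) vT t * vT := by
    apply Subtype.ext
    rw [MulAut.conjNormal_apply, Subgroup.coe_mul, Subgroup.coe_mul, Subgroup.coe_inv,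
      nrm_conjNormal_coe]
    show b * ((v * b) ^ t * (b ^ t)⁻¹) * b⁻¹ = v⁻¹ * ((v * b) ^ t * (b ^ t)⁻¹) * v
    have h1 : b * (v * b) ^ t * b⁻¹ = v⁻¹ * (v * b) ^ t * v := by
      have e1 : b * (v * b) ^ t * b⁻¹ = (b * (v * b) * b⁻¹) ^ t := conj_pow.symm
      have e2 : v⁻¹ * (v * b) ^ t * v = (v⁻¹ * (v * b) * v⁻¹⁻¹) ^ t := by
        rw [conj_pow, inv_inv]
      rw [e1, e2]
      congr 1
      group
    have h2 : (b ^ t)⁻¹ * v = v * (b ^ t)⁻¹ := by
      have := hbt v hv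
      calc (b ^ t)⁻¹ * v = (b ^ t)⁻¹ * (v * b ^ t) * (b ^ t)⁻¹ := by group
        _ = (b ^ t)⁻¹ * (b ^ t * v) * (b ^ t)⁻¹ := by rw [this]
        _ = v * (b ^ t)⁻¹ := by group
    have h3 : b * (b ^ t)⁻¹ * b⁻¹ = (b ^ t)⁻¹ := by group
    calc b * ((v * b) ^ t * (b ^ t)⁻¹) * b⁻¹ = (b * (v * b) ^ t * b⁻¹) * (b * (b ^ t)⁻¹ * b⁻¹) := by
          group
      _ = v⁻¹ * (v * b) ^ t * v * (b ^ t)⁻¹ := by rw [h1, h3]
      _ = v⁻¹ * (v * b) ^ t * ((b ^ t)⁻¹ * v) := by rw [h2]; group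
      _ = v⁻¹ * ((v * b) ^ t * (b ^ t)⁻¹) * v := by group
  have hfix : e (nrm (⇑e) vT t * (yZ : ↥T)) = nrm (⇑e) vT t * (yZ : ↥T) := by
    rw [map_mul, hrot]
    have : vT⁻¹ * nrm (⇑e) vT t * vT = nrm (⇑e) vT t * c (nrm (⇑e) vT t) := by
      simp only [c]; group
    rw [this, hcNt]
    group
  refine ⟨((yZ : ↥T) : X), ?_, ?_⟩
  · rw [← Subgroup.map_subtype_commutator]
    refine ⟨(yZ : ↥T), ?_, rfl⟩
    exact Subgroup.mem_subgroupOf.1 hyS
  · have h1 := congrArg (Subtype.val) hfix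
    rw [MulAut.conjNormal_apply, Subgroup.coe_mul, nrm_conjNormal_coe] at h1
    have h2 : b * ((v * b) ^ t * (b ^ t)⁻¹ * ((yZ : ↥T) : X)) * b⁻¹ =
        (v * b) ^ t * (b ^ t)⁻¹ * ((yZ : ↥T) : X) := h1
    calc b * ((v * b) ^ t * (b ^ t)⁻¹ * ((yZ : ↥T) : X))
        = (b * ((v * b) ^ t * (b ^ t)⁻¹ * ((yZ : ↥T) : X)) * b⁻¹) * b := by group
      _ = _ := by rw [h2]

end Norm

/-- The norm lemma when `[v, b]` is central and `b`-fixed (ambient class `≤ 2`). -/
theorem norm_fixed_of_central {X : Type*} [Group X] (b v : X) (t : ℕ)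
    (hzb : (v⁻¹ * (b * v * b⁻¹)) * b = b * (v⁻¹ * (b * v * b⁻¹)))
    (hzv : (v⁻¹ * (b * v * b⁻¹)) * v = v * (v⁻¹ * (b * v * b⁻¹)))
    (hbt : b ^ t * v = v * b ^ t) :
    b * ((v * b) ^ t * (b ^ t)⁻¹) = ((v * b) ^ t * (b ^ t)⁻¹) * b := by
  set z := v⁻¹ * (b * v * b⁻¹) with hz
  have hcz : Commute z b := hzb
  have hcv : Commute z v := hzv
  have hbv : b * v * b⁻¹ = v * z := by rw [hz]; group
  have hpow : ∀ k : ℕ, b ^ k * v * (b ^ k)⁻¹ = v * z ^ k := by
    intro k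
    induction k with
    | zero => simp
    | succ k ih =>
      have : b ^ (k + 1) * v * (b ^ (k + 1))⁻¹ = b * (b ^ k * v * (b ^ k)⁻¹) * b⁻¹ := by
        rw [pow_succ']; group
      rw [this, ih]
      have h2 : b * (v * z ^ k) * b⁻¹ = (b * v * b⁻¹) * (b * z ^ k * b⁻¹) := by group
      have h3 : b * z ^ k * b⁻¹ = z ^ k := by
        have := (hcz.pow_left k).eq
        calc b * z ^ k * b⁻¹ = (z ^ k * b) * b⁻¹ := by rw [this]
          _ = z ^ k := by group
      rw [h2, h3, hbv, pow_succ']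
      group
  have hzt : z ^ t = 1 := by
    have h1 := hpow t
    have h2 : b ^ t * v * (b ^ t)⁻¹ = v := by rw [hbt]; group
    rw [h2] at h1
    have : v * 1 = v * z ^ t := by rw [mul_one]; exact h1
    exact (mul_left_cancel this).symm
  have hczvb : Commute z (v * b) := hcv.mul_right hcz
  have h1 : b * (v * b) * b⁻¹ = (v * b) * z := by
    calc b * (v * b) * b⁻¹ = (b * v * b⁻¹) * b := by group
      _ = v * z * b := by rw [hbv]
      _ = v * (z * b) := by group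
      _ = v * (b * z) := by rw [hcz.eq]
      _ = (v * b) * z := by group
  have h2 : b * (v * b) ^ t * b⁻¹ = (v * b) ^ t := by
    have e1 : b * (v * b) ^ t * b⁻¹ = (b * (v * b) * b⁻¹) ^ t := conj_pow.symm
    rw [e1, h1, hczvb.symm.mul_pow, hzt, mul_one]
  calc b * ((v * b) ^ t * (b ^ t)⁻¹) = (b * (v * b) ^ t * b⁻¹) * (b * (b ^ t)⁻¹) := by group
    _ = (v * b) ^ t * (b * (b ^ t)⁻¹) := by rw [h2]
    _ = ((v * b) ^ t * (b ^ t)⁻¹) * b := by group

end Cfsg.Agent.Lib.H7.GorT
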