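import Mathlib

set_option autoImplicit false

namespace Cfsg.Agent.Lib.H7.HHAb

section FN

variable {𝔾 : Type*} [Group 𝔾] {W : Type*} [CommGroup W]

theorem conj_pow_mem (R : Subgroup 𝔾) (x : 𝔾) (hxR : ∀ u ∈ R, x * u * x⁻¹ ∈ R) (i : ℕ) :
    ∀ u ∈ R, x ^ i * u * (x ^ i)⁻¹ ∈ R := by
  induction i with
  | zero => intro u hu; simpa using hu
  | succ i ih =>
    intro u hu
    have h1 := hxR _ (ih u hu)
    have e : x ^ (i + 1) * u * (x ^ (i + 1))⁻¹ = x * (x ^ i * u * (x ^ i)⁻¹) * x⁻¹ := by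
      rw [pow_succ']; group
    rw [e]; exact h1

/-- Frobenius norm lemma: if the norm of every `R`-conjugate of `x` is trivial on `W`, and the
powers `x ^ i` (`0 < i < t`) act fixed-point-freely on `R`, then `w ^ |R|` is `R`-fixed. -/
theorem pow_card_fixed (ψ : 𝔾 →* MulAut W) (R : Subgroup 𝔾) [Finite R] (x : 𝔾) (t : ℕ) (ht : 0 < t)
    (hxR : ∀ u ∈ R, x * u * x⁻¹ ∈ R)
    (hfpf : ∀ i, 0 < i → i < t → ∀ u ∈ R, x ^ i * u = u * x ^ i → u = 1)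
    (hnorm : ∀ u ∈ R, ∀ w : W, ∏ i ∈ Finset.range t, ψ ((u * x * u⁻¹) ^ i) w = 1)
    (w : W) (r : 𝔾) (hr : r ∈ R) : ψ r (w ^ Nat.card R) = w ^ Nat.card R := by
  classical
  have : Fintype R := Fintype.ofFinite R
  -- the R-average
  have hS : ∀ w' : W, ψ r (∏ u : R, ψ (u : 𝔾) w') = ∏ u : R, ψ (u : 𝔾) w' := by
    intro w'
    rw [map_prod]
    refine Fintype.prod_equiv (Equiv.mulLeft (⟨r, hr⟩ : R)) _ _ ?_
    intro u
    simp [map_mul]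
  -- reindexing for 0 < i < t
  have hre : ∀ i, 0 < i → i < t → ∀ w' : W,
      ∏ u : R, ψ ((u : 𝔾) * x ^ i * (u : 𝔾)⁻¹) w' = ∏ u : R, ψ (u : 𝔾) (ψ (x ^ i) w') := by
    intro i hi0 hit w'
    let κ : R → R := fun u => ⟨(u : 𝔾) * (x ^ i * (u : 𝔾)⁻¹ * (x ^ i)⁻¹),
      R.mul_mem u.2 (conj_pow_mem R x hxR i _ (R.inv_mem u.2))⟩
    have hκinj : Function.Injective κ := by
      intro u u' h
      have h1 : (u : 𝔾) * (x ^ i * (u : 𝔾)⁻¹ * (x ^ i)⁻¹) =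
          (u' : 𝔾) * (x ^ i * (u' : 𝔾)⁻¹ * (x ^ i)⁻¹) := congrArg Subtype.val h
      have h2 : x ^ i * ((u' : 𝔾)⁻¹ * u) = ((u' : 𝔾)⁻¹ * u) * x ^ i := by
        have h3 : (u' : 𝔾)⁻¹ * ((u : 𝔾) * (x ^ i * (u : 𝔾)⁻¹ * (x ^ i)⁻¹)) * (x ^ i * u) =
            (u' : 𝔾)⁻¹ * ((u' : 𝔾) * (x ^ i * (u' : 𝔾)⁻¹ * (x ^ i)⁻¹)) * (x ^ i * u) := by
          rw [h1]
        have e1 : (u' : 𝔾)⁻¹ * ((u : 𝔾) * (x ^ i * (u : 𝔾)⁻¹ * (x ^ i)⁻¹)) * (x ^ i * u) =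
            ((u' : 𝔾)⁻¹ * u) * x ^ i := by group
        have e2 : (u' : 𝔾)⁻¹ * ((u' : 𝔾) * (x ^ i * (u' : 𝔾)⁻¹ * (x ^ i)⁻¹)) * (x ^ i * u) =
            x ^ i * ((u' : 𝔾)⁻¹ * u) := by group
        rw [e1, e2] at h3
        exact h3.symm
      have h4 := hfpf i hi0 hit _ (R.mul_mem (R.inv_mem u'.2) u.2) h2
      apply Subtype.ext
      have := inv_mul_eq_one.1 h4
      exact this.symm
    have hκbij : Function.Bijective κ := Finite.injective_iff_bijective.1 hκinj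
    have hterm : ∀ u : R, ψ ((u : 𝔾) * x ^ i * (u : 𝔾)⁻¹) w' = ψ ((κ u : R) : 𝔾) (ψ (x ^ i) w') := by
      intro u
      rw [← MulAut.mul_apply, ← map_mul]
      congr 2
      show (u : 𝔾) * x ^ i * (u : 𝔾)⁻¹ = (u : 𝔾) * (x ^ i * (u : 𝔾)⁻¹ * (x ^ i)⁻¹) * x ^ i
      group
    rw [Finset.prod_congr rfl fun u _ => hterm u]
    exact Fintype.prod_bijective κ hκbij _ _ (fun _ => rfl)
  -- total product
  have htot : ∏ u : R, ∏ i ∈ Finset.range t, ψ (((u : 𝔾) * x * (u : 𝔾)⁻¹) ^ i) w = 1 := by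
    apply Finset.prod_eq_one
    intro u _
    exact hnorm u u.2 w
  rw [Finset.prod_comm] at htot
  obtain ⟨t', rfl⟩ := Nat.exists_eq_succ_of_ne_zero ht.ne'
  rw [Finset.prod_range_succ'] at htot
  have h0 : ∏ u : R, ψ (((u : 𝔾) * x * (u : 𝔾)⁻¹) ^ 0) w = w ^ Nat.card R := by
    simp [Nat.card_eq_fintype_card]
  rw [h0] at htot
  have hrest : ψ r (∏ i ∈ Finset.range t', ∏ u : R, ψ (((u : 𝔾) * x * (u : 𝔾)⁻¹) ^ (i + 1)) w) =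
      ∏ i ∈ Finset.range t', ∏ u : R, ψ (((u : 𝔾) * x * (u : 𝔾)⁻¹) ^ (i + 1)) w := by
    rw [map_prod]
    apply Finset.prod_congr rfl
    intro i hi
    have hi' : i + 1 < t' + 1 := by
      have := Finset.mem_range.1 hi; omega
    have e : ∀ u : R, ((u : 𝔾) * x * (u : 𝔾)⁻¹) ^ (i + 1) = (u : 𝔾) * x ^ (i + 1) * (u : 𝔾)⁻¹ :=
      fun u => conj_pow
    rw [Finset.prod_congr rfl fun u _ => by rw [e u]]
    rw [hre (i + 1) (Nat.succ_pos i) hi' w]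
    exact hS _
  have hw : w ^ Nat.card R =
      (∏ i ∈ Finset.range t', ∏ u : R, ψ (((u : 𝔾) * x * (u : 𝔾)⁻¹) ^ (i + 1)) w)⁻¹ :=
    eq_inv_of_mul_eq_one_right htot
  rw [hw, map_inv, hrest]

end FN

end Cfsg.Agent.Lib.H7.HHAb
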