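import Mathlib
import Cfsg.Agent.Lib.H7.HHAb1
import Cfsg.Agent.Lib.H1.PGroupBasic

set_option autoImplicit false
open scoped commutatorElement

namespace Cfsg.Agent.Lib.H7.HHAb

universe u

section autQuotChar

variable (Q : Type u) [Group Q] (C : Subgroup Q) [hC : C.Characteristic]

/-- The action of `Aut(Q)` on `Q / C` for a characteristic subgroup `C`. -/
noncomputable def autQuotChar : MulAut Q →* MulAut (Q ⧸ C) where
  toFun e := QuotientGroup.congr C C e (Subgroup.characteristic_iff_map_eq.1 hC e)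
  map_one' := by
    ext q
    induction q using QuotientGroup.induction_on with
    | H k => rfl
  map_mul' e₁ e₂ := by
    ext q
    induction q using QuotientGroup.induction_on with
    | H k => rfl

@[simp]
theorem autQuotChar_apply_mk (e : MulAut Q) (k : Q) :
    autQuotChar Q C e (QuotientGroup.mk k) = QuotientGroup.mk (e k) := rfl

end autQuotChar

section FrattiniAction

variable {H : Type u} [Group H] (Q : Subgroup H) [hQn : Q.Normal]

/-- `H` acting on `Q / Φ(Q)` for a normal subgroup `Q`. -/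
noncomputable def frAct : H →* MulAut (↥Q ⧸ frattini ↥Q) :=
  (autQuotChar ↥Q (frattini ↥Q)).comp MulAut.conjNormal

theorem frAct_apply_mk (h : H) (k : ↥Q) :
    frAct Q h (QuotientGroup.mk k) = QuotientGroup.mk (MulAut.conjNormal h k) := rfl

variable [Finite H] {p : ℕ} [hp : Fact p.Prime]

theorem frQuot_comm (hQ : IsPGroup p ↥Q) (a b : ↥Q ⧸ frattini ↥Q) : a * b = b * a := by
  induction a using QuotientGroup.induction_on with
  | H a =>
  induction b using QuotientGroup.induction_on with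
  | H b =>
  have h1 : ⁅a, b⁆ ∈ commutator ↥Q :=
    Subgroup.commutator_mem_commutator (Subgroup.mem_top _) (Subgroup.mem_top _)
  have h2 := Cfsg.Agent.Lib.H1.isPGroup_commutator_le_frattini hQ h1
  have h3 : (QuotientGroup.mk ⁅a, b⁆ : ↥Q ⧸ frattini ↥Q) = 1 := (QuotientGroup.eq_one_iff _).2 h2
  rw [commutatorElement_def, QuotientGroup.mk_mul, QuotientGroup.mk_mul, QuotientGroup.mk_mul,
    QuotientGroup.mk_inv, QuotientGroup.mk_inv] at h3
  have h4 := mul_inv_eq_one.1 h3
  exact mul_inv_eq_iff_eq_mul.1 h4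

theorem frQuot_pow (hQ : IsPGroup p ↥Q) (a : ↥Q ⧸ frattini ↥Q) : a ^ p = 1 := by
  induction a using QuotientGroup.induction_on with
  | H a =>
  rw [← QuotientGroup.mk_pow]
  exact (QuotientGroup.eq_one_iff _).2 (Cfsg.Agent.Lib.H1.isPGroup_pow_mem_frattini hQ a)

/-- the commutative group structure on `Q / Φ(Q)` -/
@[reducible] noncomputable def frCommGroup (hQ : IsPGroup p ↥Q) : CommGroup (↥Q ⧸ frattini ↥Q) :=
  { (inferInstance : Group (↥Q ⧸ frattini ↥Q)) with mul_comm := frQuot_comm Q hQ }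

theorem le_ker_frAct (hQ : IsPGroup p ↥Q) : Q ≤ (frAct Q).ker := by
  intro k hk
  rw [MonoidHom.mem_ker]
  ext w
  induction w using QuotientGroup.induction_on with
  | H a =>
  rw [frAct_apply_mk, MulAut.one_apply]
  have e : (MulAut.conjNormal k a : ↥Q) = ⟨k, hk⟩ * a * (⟨k, hk⟩ : ↥Q)⁻¹ := by
    apply Subtype.ext
    rw [MulAut.conjNormal_apply]
    rfl
  rw [e, QuotientGroup.mk_mul, QuotientGroup.mk_mul, QuotientGroup.mk_inv,
    frQuot_comm Q hQ (QuotientGroup.mk ⟨k, hk⟩) (QuotientGroup.mk a), mul_inv_cancel_right]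

/-- `H / Q` acting on `Q / Φ(Q)` -/
noncomputable def frActQ (hQ : IsPGroup p ↥Q) : H ⧸ Q →* MulAut (↥Q ⧸ frattini ↥Q) :=
  QuotientGroup.lift Q (frAct Q) (le_ker_frAct Q hQ)

theorem frActQ_mk (hQ : IsPGroup p ↥Q) (h : H) :
    frActQ Q hQ (QuotientGroup.mk h) = frAct Q h := rfl

/-- the norm of `g` on `Q / Φ(Q)` is trivial if `g ^ t = 1` and `(v g) ^ t = 1` for `v ∈ Q`. -/
theorem frAct_norm (hQ : IsPGroup p ↥Q) (g : H) (t : ℕ) (hg : g ^ t = 1)
    (hvg : ∀ v ∈ Q, (v * g) ^ t = 1) (w : ↥Q ⧸ frattini ↥Q) :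
    letI := frCommGroup Q hQ
    ∏ i ∈ Finset.range t, frAct Q (g ^ i) w = 1 := by
  letI := frCommGroup Q hQ
  induction w using QuotientGroup.induction_on with
  | H v =>
  have key : ∀ k : ℕ, ∃ P : ↥Q, (P : H) = ((v : H) * g) ^ k * (g ^ k)⁻¹ ∧
      ∏ i ∈ Finset.range k, frAct Q (g ^ i) (QuotientGroup.mk v) = QuotientGroup.mk P := by
    intro k
    induction k with
    | zero => exact ⟨1, by simp, by simp⟩
    | succ k ih =>
      obtain ⟨P, hP1, hP2⟩ := ih
      refine ⟨P * MulAut.conjNormal (g ^ k) v, ?_, ?_⟩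
      · rw [Subgroup.coe_mul, hP1, MulAut.conjNormal_apply, pow_succ, pow_succ]
        group
      · rw [Finset.prod_range_succ, hP2, frAct_apply_mk]
        rfl
  obtain ⟨P, hP1, hP2⟩ := key t
  rw [hP2]
  have : P = 1 := by
    apply Subtype.ext
    rw [hP1, hvg v v.2, hg]; simp
  rw [this]; rfl

end FrattiniAction

end Cfsg.Agent.Lib.H7.HHAb
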