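import Mathlib
import Cfsg.Agent.Lib.H7.GorT2
import Cfsg.Agent.Lib.H7.HHAb4
import Cfsg.Agent.Lib.H7.Coprime
import Cfsg.Agent.Lib.H1.PGroupBasic

/-! # The minimal configuration is impossible (helper7): towards Gorenstein 8.5 -/

set_option autoImplicit false
set_option linter.unusedSectionVars false
set_option linter.style.haveILetI false
open scoped commutatorElement

namespace Cfsg.Agent.Lib.H7.GorT

open Cfsg.Agent.Lib.H7.HHAb

universe u

section Avg

variable {X : Type u} [Group X] [Finite X] {p : ℕ} [hp : Fact p.Prime]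
  (T : Subgroup X) [hTn : T.Normal]

/-- If `T = [T, K]` with `K` a `p'`-group, then `C_T(K) ≤ Φ(T)` (in the form: a `K`-fixed point of
`T / Φ(T)` is trivial). -/
theorem mem_frattini_of_fixed (hT : IsPGroup p ↥T) (K : Subgroup X)
    (hK : (Nat.card K).Coprime p) (hTK : T ≤ ⁅T, K⁆) (v : ↥T)
    (hv : ∀ k ∈ K, frAct T k (QuotientGroup.mk v) = QuotientGroup.mk v) :
    v ∈ frattini ↥T := by
  classical
  letI := frCommGroup T hT
  haveI : Fintype ↥K := Fintype.ofFinite _
  -- averaging hom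
  let π : (↥T ⧸ frattini ↥T) →* (↥T ⧸ frattini ↥T) :=
    { toFun := fun w => ∏ k : ↥K, frAct T (k : X) w
      map_one' := by simp
      map_mul' := fun a b => by simp [Finset.prod_mul_distrib] }
  have hπ : ∀ w, π w = ∏ k : ↥K, frAct T (k : X) w := fun w => rfl
  have hπψ : ∀ (g : X) (hg : g ∈ K) (w : ↥T ⧸ frattini ↥T), π (frAct T g w) = π w := by
    intro g hg w
    rw [hπ, hπ]
    refine Fintype.prod_equiv (Equiv.mulRight (⟨g, hg⟩ : ↥K)) _ _ ?_
    intro k
    simp [map_mul]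
  let f : ↥T →* (↥T ⧸ frattini ↥T) := π.comp (QuotientGroup.mk' (frattini ↥T))
  have hker : ⁅T, K⁆ ≤ (f.ker).map T.subtype := by
    rw [Subgroup.commutator_le]
    intro g₁ hg₁ g₂ hg₂
    have hmem : g₂ * g₁⁻¹ * g₂⁻¹ ∈ T := hTn.conj_mem _ (T.inv_mem hg₁) g₂
    refine ⟨⟨g₁, hg₁⟩ * ⟨g₂ * g₁⁻¹ * g₂⁻¹, hmem⟩, ?_, ?_⟩
    · rw [SetLike.mem_coe, MonoidHom.mem_ker, map_mul]
      have h1 : f ⟨g₂ * g₁⁻¹ * g₂⁻¹, hmem⟩ = π (frAct T g₂ (QuotientGroup.mk ⟨g₁, hg₁⟩⁻¹)) := by
        show π (QuotientGroup.mk _) = _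
        congr 1
      rw [h1, hπψ g₂ hg₂]
      show π (QuotientGroup.mk _) * π _ = 1
      rw [← map_mul, ← QuotientGroup.mk_mul, mul_inv_cancel]
      simp
    · simp [commutatorElement_def, mul_assoc]
  have hall : ∀ x : ↥T, f x = 1 := by
    intro x
    obtain ⟨y, hy, hyx⟩ := hker (hTK x.2)
    have : y = x := Subtype.ext hyx
    rw [← this]
    exact hy
  have h1 : (QuotientGroup.mk v : ↥T ⧸ frattini ↥T) ^ Nat.card K = 1 := by
    have h2 := hall v
    have h3 : f v = ∏ k : ↥K, frAct T (k : X) (QuotientGroup.mk v) := rfl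
    rw [h3] at h2
    rw [← h2, Finset.prod_congr rfl (fun (k : ↥K) _ => hv (k : X) k.2)]
    simp [Nat.card_eq_fintype_card]
  have h2 : (QuotientGroup.mk v : ↥T ⧸ frattini ↥T) ^ p = 1 := frQuot_pow T hT _
  have h3 : (QuotientGroup.mk v : ↥T ⧸ frattini ↥T) ^ 1 = 1 := by
    have := Nat.Coprime.gcd_eq_one hK
    rw [← this]
    exact pow_gcd_eq_one.2 ⟨h1, h2⟩
  rw [pow_one] at h3
  exact (QuotientGroup.eq_one_iff v).1 h3

end Avg

section Final

variable {X : Type u} [Group X] [Finite X] {p : ℕ} [hp : Fact p.Prime]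
  (T : Subgroup X) [hTn : T.Normal]

theorem prod_frAct_pow (hT : IsPGroup p ↥T) (b : X) (v : ↥T) (k : ℕ) :
    letI := frCommGroup T hT
    ∏ i ∈ Finset.range k, frAct T (b ^ i) (QuotientGroup.mk v) =
      QuotientGroup.mk (nrm (⇑(MulAut.conjNormal b : MulAut ↥T)) v k) := by
  letI := frCommGroup T hT
  induction k with
  | zero => simp [nrm]
  | succ k ih =>
    rw [Finset.prod_range_succ, ih, nrm, QuotientGroup.mk_mul, frAct_apply_mk]
    congr 2
    apply Subtype.ext
    rw [iterate_conjNormal_coe, MulAut.conjNormal_apply]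

/-- The minimal configuration of Gorenstein 8.5 cannot occur. -/
theorem false_of_minimal (hT : IsPGroup p ↥T) (K : Subgroup X) (hK : (Nat.card K).Coprime p)
    (b : X) (hbK : b ∈ Subgroup.normalizer (K : Set X)) (t : ℕ) (ht : 0 < t)
    (hfpf : ∀ i, 0 < i → i < t → ∀ u ∈ K, b ^ i * u = u * b ^ i → u = 1)
    (hbt : ∀ v ∈ T, b ^ t * v = v * b ^ t)
    (hnt : ¬ (K ≤ Subgroup.centralizer (T : Set X)))
    (hmin : ∀ T₂ : Subgroup X, T₂ ≤ T → K ≤ Subgroup.normalizer (T₂ : Set X) →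
      b ∈ Subgroup.normalizer (T₂ : Set X) → ¬ (K ≤ Subgroup.centralizer (T₂ : Set X)) → T₂ = T)
    (hfix : ∀ v ∈ T, b * v = v * b → ∀ k ∈ K, k * v = v * k)
    (hcase : Odd t ∨ ∀ v ∈ T, (v⁻¹ * (b * v * b⁻¹)) * b = b * (v⁻¹ * (b * v * b⁻¹)) ∧
        (v⁻¹ * (b * v * b⁻¹)) * v = v * (v⁻¹ * (b * v * b⁻¹))) : False := by
  classical
  have hKT : K ≤ Subgroup.normalizer (T : Set X) := by
    rw [Subgroup.normalizer_eq_top]; exact le_top
  have hbT : b ∈ Subgroup.normalizer (T : Set X) := by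
    rw [Subgroup.normalizer_eq_top]; exact Subgroup.mem_top _
  have hcop : (Nat.card K).Coprime (Nat.card T) := by
    obtain ⟨k, hk⟩ := (IsPGroup.iff_card).1 hT
    rw [hk]
    exact Nat.Coprime.pow_right k hK
  have hT1 : T ≠ ⊥ := by
    rintro rfl
    apply hnt
    intro k _
    rw [Subgroup.mem_centralizer_iff]
    intro h hh
    rw [SetLike.mem_coe, Subgroup.mem_bot] at hh
    rw [hh]; simp
  -- (a) `[T, K] = T`
  have hTK : ⁅T, K⁆ = T := by
    apply hmin _ (Subgroup.commutator_le_left T K) (Subgroup.normalizer_commutator_ge_right T K)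
    · rw [Subgroup.mem_normalizer_iff_map_conj_eq, Subgroup.map_commutator,
        Subgroup.mem_normalizer_iff_map_conj_eq.1 hbT, Subgroup.mem_normalizer_iff_map_conj_eq.1 hbK]
    · intro hcon
      have h1 : ⁅⁅T, K⁆, K⁆ = ⊥ := by
        rw [Subgroup.commutator_comm, Subgroup.commutator_eq_bot_iff_le_centralizer]
        exact hcon
      have h2 := commutator_eq_bot_of_commutator_commutator_eq_bot hcop hKT h1
      apply hnt
      rw [Subgroup.commutator_comm, Subgroup.commutator_eq_bot_iff_le_centralizer] at h2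
      exact h2
  -- (b) `K` centralizes `T'`
  have hTT : ⁅T, T⁆ ≠ T := commutator_ne_self_of_isPGroup p hT hT Subgroup.le_normalizer hT1
  have hTTn : (⁅T, T⁆ : Subgroup X).Normal := Subgroup.commutator_normal T T
  have hKTT : K ≤ Subgroup.centralizer ((⁅T, T⁆ : Subgroup X) : Set X) := by
    by_contra hcon
    apply hTT
    apply hmin _ (Subgroup.commutator_le_left T T) _ _ hcon
    · rw [Subgroup.normalizer_eq_top]; exact le_top
    · rw [Subgroup.normalizer_eq_top]; exact Subgroup.mem_top _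
  -- (c) class at most two
  have hcl : ∀ x ∈ T, ∀ y ∈ T, ∀ z ∈ T, ⁅x, y⁆ * z = z * ⁅x, y⁆ := by
    have h1 : ⁅⁅T, ⁅T, T⁆⁆, K⁆ = ⊥ := by
      rw [eq_bot_iff]
      calc ⁅⁅T, ⁅T, T⁆⁆, K⁆ ≤ ⁅⁅T, T⁆, K⁆ :=
            Subgroup.commutator_mono (Subgroup.commutator_le_right T ⁅T, T⁆) le_rfl
        _ = ⊥ := by
            rw [Subgroup.commutator_comm, Subgroup.commutator_eq_bot_iff_le_centralizer]
            exact hKTT
    have h2 : ⁅⁅⁅T, T⁆, K⁆, T⁆ = ⊥ := by
      have : ⁅⁅T, T⁆, K⁆ = ⊥ := by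
        rw [Subgroup.commutator_comm, Subgroup.commutator_eq_bot_iff_le_centralizer]
        exact hKTT
      rw [this]; exact Subgroup.commutator_bot_left T
    have h3 : ⁅⁅K, T⁆, ⁅T, T⁆⁆ = ⊥ := Subgroup.commutator_commutator_eq_bot_of_rotate h1 h2
    rw [Subgroup.commutator_comm K T, hTK, Subgroup.commutator_eq_bot_iff_le_centralizer] at h3
    intro x hx y hy z hz
    have := Subgroup.mem_centralizer_iff.1 (h3 hz) ⁅x, y⁆
      (Subgroup.commutator_mem_commutator hx hy)
    exact this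
  letI := frCommGroup T hT
  -- (d) fixed points of `K` lie in the Frattini subgroup
  have hCK : ∀ v : ↥T, (∀ k ∈ K, k * (v : X) = (v : X) * k) → v ∈ frattini ↥T := by
    intro v hv
    apply mem_frattini_of_fixed T hT K hK hTK.ge v
    intro k hk
    rw [frAct_apply_mk]
    congr 1
    apply Subtype.ext
    rw [MulAut.conjNormal_apply, hv k hk]
    group
  -- (e) the norm vanishes
  have hnorm0 : ∀ v : ↥T, nrm (⇑(MulAut.conjNormal b : MulAut ↥T)) v t ∈ frattini ↥T := by
    intro v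
    rcases hcase with hodd | hcen
    · obtain ⟨y, hy, hby⟩ := norm_fixed_of_odd T b t hodd hbt hcl (v : X) v.2
      rw [← Subgroup.map_subtype_commutator] at hy
      obtain ⟨yT, hyT, rfl⟩ := hy
      have hyF : yT ∈ frattini ↥T :=
        Cfsg.Agent.Lib.H1.isPGroup_commutator_le_frattini hT hyT
      have h1 : nrm (⇑(MulAut.conjNormal b : MulAut ↥T)) v t * yT ∈ frattini ↥T := by
        apply hCK
        intro k hk
        apply hfix _ (Subgroup.mul_mem _ (SetLike.coe_mem _) (SetLike.coe_mem _)) _ k hk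
        rw [nrm_conjNormal_coe]
        exact hby
      have h2 := Subgroup.mul_mem _ h1 (Subgroup.inv_mem _ hyF)
      rwa [mul_inv_cancel_right] at h2
    · apply hCK
      intro k hk
      apply hfix _ (SetLike.coe_mem _) _ k hk
      rw [nrm_conjNormal_coe]
      exact norm_fixed_of_central b (v : X) t (hcen v v.2).1 (hcen v v.2).2 (hbt v v.2)
  have hnorm1 : ∀ w : ↥T ⧸ frattini ↥T, ∏ i ∈ Finset.range t, frAct T (b ^ i) w = 1 := by
    intro w
    induction w using QuotientGroup.induction_on with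
    | H v =>
    rw [prod_frAct_pow T hT b v t]
    exact (QuotientGroup.eq_one_iff _).2 (hnorm0 v)
  have hnorm : ∀ u ∈ K, ∀ w : ↥T ⧸ frattini ↥T,
      ∏ i ∈ Finset.range t, frAct T ((u * b * u⁻¹) ^ i) w = 1 := by
    intro u _ w
    have h1 : ∀ i, frAct T ((u * b * u⁻¹) ^ i) w =
        frAct T u (frAct T (b ^ i) (frAct T u⁻¹ w)) := by
      intro i
      rw [conj_pow, map_mul, map_mul]
      rfl
    rw [Finset.prod_congr rfl (fun i _ => h1 i), ← map_prod, hnorm1, map_one]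
  have hbK' : ∀ u ∈ K, b * u * b⁻¹ ∈ K := fun u hu =>
    (Subgroup.mem_normalizer_iff.1 hbK u).1 hu
  have hfixW := pow_card_fixed (frAct T) K b t ht hbK' hfpf hnorm
  have htriv : ∀ r ∈ K, ∀ w : ↥T ⧸ frattini ↥T, frAct T r w = w := by
    intro r hr w
    have hwp : w ^ p = 1 := frQuot_pow T hT w
    obtain ⟨c, -, hc⟩ := Nat.exists_mul_mod_eq_one_of_coprime hK hp.out.one_lt
    have hw : w = (w ^ Nat.card K) ^ c := by
      rw [← pow_mul, pow_eq_pow_mod _ hwp, hc, pow_one]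
    rw [hw, map_pow, hfixW w r hr]
  -- conclusion
  have hall : ∀ v : ↥T, v ∈ frattini ↥T := fun v =>
    mem_frattini_of_fixed T hT K hK hTK.ge v (fun k hk => htriv k hk _)
  have htop : frattini ↥T = ⊤ := by
    rw [eq_top_iff]; intro v _; exact hall v
  have h1 : (⊥ : Subgroup ↥T) = ⊤ := by
    apply frattini_nongenerating
    rw [htop]; simp
  apply hT1
  rw [eq_bot_iff]
  intro x hx
  have : (⟨x, hx⟩ : ↥T) ∈ (⊥ : Subgroup ↥T) := by rw [h1]; exact Subgroup.mem_top _
  rw [Subgroup.mem_bot] at this ⊢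
  exact congrArg Subtype.val this

end Final

end Cfsg.Agent.Lib.H7.GorT
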