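import Mathlib
import Cfsg.Agent.Lib.H7.GorT3

/-! # The minimal configuration, for a non-normal `T` (helper7) -/

set_option autoImplicit false
set_option linter.unusedSectionVars false
set_option linter.style.haveILetI false
open scoped commutatorElement

namespace Cfsg.Agent.Lib.H7.GorT

universe u
variable {H : Type u} [Group H] [Finite H] {p : ℕ} [hp : Fact p.Prime]

theorem false_of_minimal' (T : Subgroup H) (hT : IsPGroup p ↥T) (K : Subgroup H)
    (hK : (Nat.card K).Coprime p) (hKT : K ≤ Subgroup.normalizer (T : Set H))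
    (b : H) (hbT : b ∈ Subgroup.normalizer (T : Set H))
    (hbK : b ∈ Subgroup.normalizer (K : Set H)) (t : ℕ) (ht : 0 < t)
    (hfpf : ∀ i, 0 < i → i < t → ∀ u ∈ K, b ^ i * u = u * b ^ i → u = 1)
    (hbt : ∀ v ∈ T, b ^ t * v = v * b ^ t)
    (hnt : ¬ (K ≤ Subgroup.centralizer (T : Set H)))
    (hmin : ∀ T₂ : Subgroup H, T₂ ≤ T → K ≤ Subgroup.normalizer (T₂ : Set H) →
      b ∈ Subgroup.normalizer (T₂ : Set H) → ¬ (K ≤ Subgroup.centralizer (T₂ : Set H)) → T₂ = T)
    (hfix : ∀ v ∈ T, b * v = v * b → ∀ k ∈ K, k * v = v * k)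
    (hcase : Odd t ∨ ∀ v ∈ T, (v⁻¹ * (b * v * b⁻¹)) * b = b * (v⁻¹ * (b * v * b⁻¹)) ∧
        (v⁻¹ * (b * v * b⁻¹)) * v = v * (v⁻¹ * (b * v * b⁻¹))) : False := by
  set N : Subgroup H := Subgroup.normalizer (T : Set H) with hN
  have hTN : T ≤ N := Subgroup.le_normalizer
  haveI : (T.subgroupOf N).Normal := Subgroup.normal_in_normalizer
  have hT' : IsPGroup p ↥(T.subgroupOf N) :=
    hT.of_equiv (Subgroup.subgroupOfEquivOfLe hTN).symm
  have hK' : (Nat.card ↥(K.subgroupOf N)).Coprime p := by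
    rw [Nat.card_congr (Subgroup.subgroupOfEquivOfLe hKT).toEquiv]; exact hK
  have hcoe_pow : ∀ (x : ↥N) (i : ℕ), ((x ^ i : ↥N) : H) = (x : H) ^ i := fun x i => rfl
  refine false_of_minimal (T.subgroupOf N) hT' (K.subgroupOf N) hK' ⟨b, hbT⟩ ?_ t ht ?_ ?_ ?_ ?_ ?_ ?_
  · -- b' normalizes K'
    rw [Subgroup.mem_normalizer_iff]
    intro u
    rw [Subgroup.mem_subgroupOf, Subgroup.mem_subgroupOf]
    exact Subgroup.mem_normalizer_iff.1 hbK (u : H)
  · intro i hi0 hit u hu hcomm
    apply Subtype.ext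
    apply hfpf i hi0 hit (u : H) (Subgroup.mem_subgroupOf.1 hu)
    have := congrArg Subtype.val hcomm
    simpa using this
  · intro v hv
    apply Subtype.ext
    have := hbt (v : H) (Subgroup.mem_subgroupOf.1 hv)
    simpa using this
  · intro hcon
    apply hnt
    intro k hk
    rw [Subgroup.mem_centralizer_iff]
    intro v hv
    have h1 : (⟨k, hKT hk⟩ : ↥N) ∈ K.subgroupOf N := Subgroup.mem_subgroupOf.2 hk
    have h2 := Subgroup.mem_centralizer_iff.1 (hcon h1) ⟨v, hTN hv⟩ (Subgroup.mem_subgroupOf.2 hv)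
    exact congrArg Subtype.val h2
  · intro T₂ hT₂le hKT₂ hbT₂ hnc
    have h1 : T₂.map N.subtype = T := by
      apply hmin
      · rintro x ⟨y, hy, rfl⟩
        exact Subgroup.mem_subgroupOf.1 (hT₂le hy)
      · intro k hk
        rw [Subgroup.mem_normalizer_iff]
        intro x
        have hkN := Subgroup.mem_normalizer_iff.1
          (hKT₂ (Subgroup.mem_subgroupOf.2 hk : (⟨k, hKT hk⟩ : ↥N) ∈ K.subgroupOf N))
        constructor
        · rintro ⟨y, hy, rfl⟩
          exact ⟨⟨k, hKT hk⟩ * y * ⟨k, hKT hk⟩⁻¹, (hkN y).1 hy, rfl⟩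
        · rintro ⟨y, hy, hyx⟩
          have hxN : x ∈ N := by
            have h2 : x = k⁻¹ * (y : H) * k := by
              have : (y : H) = k * x * k⁻¹ := hyx
              rw [this]; group
            rw [h2]
            exact N.mul_mem (N.mul_mem (N.inv_mem (hKT hk)) y.2) (hKT hk)
          refine ⟨⟨x, hxN⟩, ?_, rfl⟩
          apply (hkN ⟨x, hxN⟩).2
          have : (⟨k, hKT hk⟩ : ↥N) * ⟨x, hxN⟩ * (⟨k, hKT hk⟩ : ↥N)⁻¹ = y := Subtype.ext hyx.symm
          rw [this]; exact hy
      · rw [Subgroup.mem_normalizer_iff]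
        intro x
        have hbN := Subgroup.mem_normalizer_iff.1 hbT₂
        constructor
        · rintro ⟨y, hy, rfl⟩
          exact ⟨⟨b, hbT⟩ * y * ⟨b, hbT⟩⁻¹, (hbN y).1 hy, rfl⟩
        · rintro ⟨y, hy, hyx⟩
          have hxN : x ∈ N := by
            have h2 : x = b⁻¹ * (y : H) * b := by
              have : (y : H) = b * x * b⁻¹ := hyx
              rw [this]; group
            rw [h2]
            exact N.mul_mem (N.mul_mem (N.inv_mem hbT) y.2) hbT
          refine ⟨⟨x, hxN⟩, ?_, rfl⟩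
          apply (hbN ⟨x, hxN⟩).2
          have : (⟨b, hbT⟩ : ↥N) * ⟨x, hxN⟩ * (⟨b, hbT⟩ : ↥N)⁻¹ = y := Subtype.ext hyx.symm
          rw [this]; exact hy
      · intro hcon
        apply hnc
        intro k hk
        rw [Subgroup.mem_centralizer_iff]
        intro v hv
        apply Subtype.ext
        have := Subgroup.mem_centralizer_iff.1 (hcon (Subgroup.mem_subgroupOf.1 hk)) (v : H)
          ⟨v, hv, rfl⟩
        simpa using this
    ext x
    rw [Subgroup.mem_subgroupOf, ← h1]
    constructor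
    · intro hx; exact ⟨x, hx, rfl⟩
    · rintro ⟨y, hy, hyx⟩
      have : y = x := Subtype.ext hyx
      rw [← this]; exact hy
  · intro v hv hcomm k hk
    apply Subtype.ext
    have h1 := congrArg Subtype.val hcomm
    have := hfix (v : H) (Subgroup.mem_subgroupOf.1 hv) (by simpa using h1) (k : H)
      (Subgroup.mem_subgroupOf.1 hk)
    simpa using this
  · rcases hcase with h | h
    · exact Or.inl h
    · right
      intro v hv
      obtain ⟨h1, h2⟩ := h (v : H) (Subgroup.mem_subgroupOf.1 hv)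
      constructor
      · apply Subtype.ext
        simpa using h1
      · apply Subtype.ext
        simpa using h2

end Cfsg.Agent.Lib.H7.GorT
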