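import Mathlib
import Cfsg.Agent.Lib.H7.GorT5
import Cfsg.Agent.Lib.H7.GorT6
import Cfsg.Agent.Lib.H7.CoprimeFactor
import Cfsg.Agent.Lib.H1.CoprimeSylow

/-! # Gorenstein 8.5-type lemma, reduced form (helper7):
`R ⊴ H` a `p`-subgroup with `C_H(R) ≤ R`, `B` an abelian `p`-subgroup with `C_R(B) ≤ B`; then a
`B`-invariant `p'`-subgroup of `H` is trivial (for `p` odd, or when `RB` has class at most `2`). -/

set_option autoImplicit false
set_option linter.unusedSectionVars false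
set_option linter.style.haveILetI false
set_option linter.deprecated false
open scoped commutatorElement

namespace Cfsg.Agent.Lib.H7.GorT

universe u
variable {H : Type u} [Group H] [Finite H]

theorem mem_normalizer_inf {X Y : Subgroup H} {g : H} (hX : g ∈ Subgroup.normalizer (X : Set H))
    (hY : g ∈ Subgroup.normalizer (Y : Set H)) : g ∈ Subgroup.normalizer ((X ⊓ Y : Subgroup H) : Set H) := by
  rw [Subgroup.mem_normalizer_iff] at hX hY ⊢
  intro h
  rw [Subgroup.mem_inf, Subgroup.mem_inf, hX h, hY h]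

theorem eq_bot_of_invariant (p : ℕ) [hp : Fact p.Prime]
    (R : Subgroup H) [hRn : R.Normal] (hR : IsPGroup p R)
    (hCR : Subgroup.centralizer (R : Set H) ≤ R)
    (B : Subgroup H) (hB : IsPGroup p B) (hBc : ∀ x ∈ B, ∀ y ∈ B, x * y = y * x)
    (hBR : R ⊓ Subgroup.centralizer (B : Set H) ≤ B)
    (K : Subgroup H) (hK : (Nat.card K).Coprime p) (hBK : B ≤ Subgroup.normalizer (K : Set H))
    (hcase : p ≠ 2 ∨ ∀ x ∈ R ⊔ B, ∀ y ∈ R ⊔ B, ∀ z ∈ R ⊔ B, ⁅⁅x, y⁆, z⁆ = 1) : K = ⊥ := by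
  classical
  by_contra hK1
  have hcopR : ∀ {L : Subgroup H}, L ≤ K → (Nat.card L).Coprime (Nat.card R) := by
    intro L hL
    obtain ⟨k, hk⟩ := (IsPGroup.iff_card).1 hR
    rw [hk]
    exact Nat.Coprime.pow_right k (Nat.Coprime.coprime_dvd_left (Subgroup.card_dvd_of_le hL) hK)
  have hKR : K ⊓ R = ⊥ := Subgroup.inf_eq_bot_of_coprime (hcopR le_rfl)
  -- Step 0: `K` centralizes `C_R(B)`
  have hD : ∀ d ∈ R ⊓ Subgroup.centralizer (B : Set H), ∀ k ∈ K, k * d = d * k := by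
    intro d hd k hk
    have hdB : d ∈ B := hBR hd
    have h1 : d * k * d⁻¹ * k⁻¹ ∈ K :=
      K.mul_mem ((Subgroup.mem_normalizer_iff.1 (hBK hdB) k).1 hk) (K.inv_mem hk)
    have h2 : d * k * d⁻¹ * k⁻¹ ∈ R := by
      have : d * k * d⁻¹ * k⁻¹ = d * (k * d⁻¹ * k⁻¹) := by group
      rw [this]
      exact R.mul_mem hd.1 (hRn.conj_mem _ (R.inv_mem hd.1) k)
    have h3 : d * k * d⁻¹ * k⁻¹ ∈ K ⊓ R := ⟨h1, h2⟩
    rw [hKR, Subgroup.mem_bot] at h3
    calc k * d = (d * k * d⁻¹ * k⁻¹)⁻¹ * (d * k) := by group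
      _ = d * k := by rw [h3]; group
  -- Step 1: a minimal `B`-invariant subgroup
  obtain ⟨K₁, hK₁K, hK₁min⟩ := Finite.exists_le_minimal
    (p := fun K' : Subgroup H => K' ≤ K ∧ K' ≠ ⊥ ∧ B ≤ Subgroup.normalizer (K' : Set H))
    (a := K) ⟨le_rfl, hK1, hBK⟩
  obtain ⟨⟨-, hK₁1, hBK₁⟩, hK₁m⟩ := hK₁min
  have hK₁cop : (Nat.card K₁).Coprime p :=
    Nat.Coprime.coprime_dvd_left (Subgroup.card_dvd_of_le hK₁K) hK
  have hK₁card : Nat.card K₁ ≠ 1 := fun h => hK₁1 (Subgroup.card_eq_one.1 h)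
  obtain ⟨q, hq, hqd⟩ := Nat.exists_prime_and_dvd hK₁card
  haveI : Fact q.Prime := ⟨hq⟩
  have hBsolv : Group.IsSolvable ↥B := by
    haveI := hB.isNilpotent
    infer_instance
  have hact : Cfsg.Agent.Lib.H1.CoprimeAction B K₁ := by
    refine ⟨hBK₁, ?_, Or.inl hBsolv⟩
    obtain ⟨k, hk⟩ := (IsPGroup.iff_card).1 hB
    rw [hk]
    exact (Nat.Coprime.pow_right k hK₁cop).symm
  have hK₁q : IsPGroup q ↥K₁ := by
    obtain ⟨P, hP, -, hBP⟩ := Cfsg.Agent.Lib.H1.coprime_invariant_psubgroup_le_sylow (p := q) hact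
      (U := ⊥) bot_le IsPGroup.of_bot
      (by intro x _; rw [Subgroup.mem_normalizer_iff]; intro h; simp [Subgroup.mem_bot])
    have hPcard : Nat.card P = q ^ (Nat.card K₁).factorization q := hP.2
    have hP1 : P ≠ ⊥ := by
      intro h
      rw [h, Subgroup.card_bot] at hPcard
      have h1 : 0 < (Nat.card K₁).factorization q :=
        hq.factorization_pos_of_dvd Nat.card_pos.ne' hqd
      have : 1 < q ^ (Nat.card K₁).factorization q :=
        Nat.one_lt_pow h1.ne' hq.one_lt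
      omega
    have hle : K₁ ≤ P := hK₁m ⟨hP.1.trans hK₁K, hP1, hBP⟩ hP.1
    have : P = K₁ := le_antisymm hP.1 hle
    rw [← this]
    exact IsPGroup.of_card hPcard
  have hK₁c : ∀ x ∈ K₁, ∀ y ∈ K₁, x * y = y * x := by
    have hne : ⁅K₁, K₁⁆ ≠ K₁ :=
      commutator_ne_self_of_isPGroup q hK₁q hK₁q Subgroup.le_normalizer hK₁1
    have hle : ⁅K₁, K₁⁆ ≤ K₁ := Subgroup.commutator_le_self K₁
    have hbot : ⁅K₁, K₁⁆ = ⊥ := by
      by_contra h
      apply hne
      refine le_antisymm hle (hK₁m ⟨hle.trans hK₁K, h, ?_⟩ hle)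
      intro b hb
      rw [Subgroup.mem_normalizer_iff_map_conj_eq, Subgroup.map_commutator,
        Subgroup.mem_normalizer_iff_map_conj_eq.1 (hBK₁ hb)]
    rw [Subgroup.commutator_eq_bot_iff_le_centralizer] at hbot
    intro x hx y hy
    exact (Subgroup.mem_centralizer_iff.1 (hbot hx) y hy).symm
  -- Step 2: elements of `B` outside `C_B(K₁)` act fixed-point-freely
  have hfpf : ∀ b' ∈ B, b' ∉ Subgroup.centralizer (K₁ : Set H) →
      K₁ ⊓ Subgroup.centralizer {b'} = ⊥ := by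
    intro b' hb' hnot
    by_contra hF
    apply hnot
    have hBN : B ≤ Subgroup.normalizer ((Subgroup.centralizer ({b'} : Set H) : Subgroup H) : Set H) := by
      refine le_trans ?_ Subgroup.le_normalizer
      intro x hx
      rw [Subgroup.mem_centralizer_iff]
      intro y hy
      rw [Set.mem_singleton_iff] at hy
      rw [hy]
      exact hBc _ hb' _ hx
    have hle : K₁ ≤ K₁ ⊓ Subgroup.centralizer {b'} :=
      hK₁m ⟨inf_le_left.trans hK₁K, hF, Cfsg.Agent.Lib.H7.le_normalizer_inf hBK₁ hBN⟩ inf_le_left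
    rw [Subgroup.mem_centralizer_iff]
    intro h hh
    have := Subgroup.mem_centralizer_iff.1 (hle hh).2 b' (Set.mem_singleton _)
    exact this.symm
  obtain ⟨b, hbB, t, ht0, hbt, hbi, hgen, hodd⟩ :=
    exists_generator_mod_centralizer p hB hBc hK₁c hK₁cop hK₁1 hBK₁ hfpf
  -- Step 3: `K₁` acts nontrivially on `R₀ = C_R(B₀)`
  set B₀ : Subgroup H := B ⊓ Subgroup.centralizer (K₁ : Set H) with hB₀
  set R₀ : Subgroup H := R ⊓ Subgroup.centralizer (B₀ : Set H) with hR₀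
  have hK₁B₀ : K₁ ≤ Subgroup.centralizer (B₀ : Set H) := by
    rw [← Subgroup.le_centralizer_iff]; exact inf_le_right
  have hRtop : Subgroup.normalizer (R : Set H) = ⊤ := Subgroup.normalizer_eq_top R
  have hnt₀ : ¬ K₁ ≤ Subgroup.centralizer (R₀ : Set H) := by
    intro hcon
    have hAB : ⁅K₁, B₀⁆ = ⊥ := Subgroup.commutator_eq_bot_iff_le_centralizer.2 hK₁B₀
    have hC : ⁅K₁, R ⊓ Subgroup.centralizer (B₀ : Set H)⁆ = ⊥ :=
      Subgroup.commutator_eq_bot_iff_le_centralizer.2 hcon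
    have h1 := Cfsg.Agent.Lib.H7.thompson_AxB' p hR (hB.to_le inf_le_left) hK₁cop hAB
      (by rw [hRtop]; exact le_top) (by rw [hRtop]; exact le_top) hC
    rw [Subgroup.commutator_eq_bot_iff_le_centralizer] at h1
    have h2 : K₁ ≤ K ⊓ R := le_inf hK₁K (h1.trans hCR)
    rw [hKR] at h2
    exact hK₁1 (le_bot_iff.1 h2)
  -- Step 4: a minimal subgroup `T`
  have hbK₁ : b ∈ Subgroup.normalizer (K₁ : Set H) := hBK₁ hbB
  have hbB₀ : b ∈ Subgroup.centralizer (B₀ : Set H) := by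
    rw [Subgroup.mem_centralizer_iff]
    intro y hy
    exact hBc _ hy.1 _ hbB
  have hCn : ∀ {g : H}, g ∈ Subgroup.centralizer (B₀ : Set H) →
      g ∈ Subgroup.normalizer (R₀ : Set H) := by
    intro g hg
    apply mem_normalizer_inf
    · rw [hRtop]; exact Subgroup.mem_top _
    · exact Subgroup.le_normalizer hg
  obtain ⟨T, hTR₀, hTmin⟩ := Finite.exists_le_minimal
    (p := fun T : Subgroup H => T ≤ R₀ ∧ K₁ ≤ Subgroup.normalizer (T : Set H) ∧
      b ∈ Subgroup.normalizer (T : Set H) ∧ ¬ K₁ ≤ Subgroup.centralizer (T : Set H))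
    (a := R₀) ⟨le_rfl, fun k hk => hCn (hK₁B₀ hk), hCn hbB₀, hnt₀⟩
  obtain ⟨⟨-, hK₁T, hbT, hntT⟩, hTm⟩ := hTmin
  -- Step 5
  have hTR : T ≤ R := hTR₀.trans inf_le_left
  have hTB₀ : T ≤ Subgroup.centralizer (B₀ : Set H) := hTR₀.trans inf_le_right
  refine false_of_minimal' T (hR.to_le hTR) K₁ hK₁cop hK₁T b hbT hbK₁ t ht0 ?_ ?_ hntT ?_ ?_ ?_
  · intro i hi0 hit u hu hcomm
    have hbiB : b ^ i ∈ B := Subgroup.pow_mem _ hbB i
    have h1 := hfpf (b ^ i) hbiB (hbi i hi0 hit)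
    have h2 : u ∈ K₁ ⊓ Subgroup.centralizer {b ^ i} := by
      refine Subgroup.mem_inf.2 ⟨hu, ?_⟩
      rw [Subgroup.mem_centralizer_iff]
      intro y hy
      rw [Set.mem_singleton_iff] at hy
      rw [hy]; exact hcomm
    rw [h1, Subgroup.mem_bot] at h2
    exact h2
  · intro v hv
    have hbtB₀ : b ^ t ∈ B₀ := ⟨Subgroup.pow_mem _ hbB t, hbt⟩
    exact Subgroup.mem_centralizer_iff.1 (hTB₀ hv) _ hbtB₀
  · intro T₂ hT₂T hK₁T₂ hbT₂ hncT₂
    exact le_antisymm hT₂T (hTm ⟨hT₂T.trans hTR₀, hK₁T₂, hbT₂, hncT₂⟩ hT₂T)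
  · intro v hv hcomm k hk
    apply hD v _ k (hK₁K hk)
    refine Subgroup.mem_inf.2 ⟨hTR hv, ?_⟩
    rw [Subgroup.mem_centralizer_iff]
    intro x hx
    obtain ⟨j, b₀, hb₀, rfl⟩ := hgen x hx
    have h1 : Commute b v := hcomm
    have h2 : Commute b₀ v := Subgroup.mem_centralizer_iff.1 (hTB₀ hv) b₀ hb₀
    exact ((h1.zpow_left j).mul_left h2).eq
  · rcases hcase with h | h
    · exact Or.inl (hodd h)
    · right
      intro v hv
      have hvRB : v⁻¹ ∈ R ⊔ B := Subgroup.mem_sup_left (R.inv_mem (hTR hv))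
      have hbRB : b ∈ R ⊔ B := Subgroup.mem_sup_right hbB
      have e : v⁻¹ * (b * v * b⁻¹) = ⁅v⁻¹, b⁆ := by
        rw [commutatorElement_def, inv_inv]; group
      rw [e]
      constructor
      · exact (commutatorElement_eq_one_iff_commute.1 (h _ hvRB _ hbRB _ hbRB)).eq
      · have := h _ hvRB _ hbRB _ (Subgroup.mem_sup_left (hTR hv))
        exact (commutatorElement_eq_one_iff_commute.1 this).eq

end Cfsg.Agent.Lib.H7.GorT
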