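import Mathlib
import Cfsg.Agent.Lib.H7.GorT7
import Cfsg.Agent.Lib.H7.PConstrained2
import Cfsg.Agent.Lib.H9.PPrimeCore

/-! # Gorenstein 8.5-type lemma for `p`-constrained groups (helper7):
a `B`-invariant `p'`-subgroup of a `p`-constrained group `H` lies in `O_{p'}(H)`, when `B` is an
abelian `p`-subgroup containing every `p`-element of its centralizer (`p` odd, or all `p`-subgroups
of class at most two). -/

set_option autoImplicit false
set_option linter.unusedSectionVars false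
set_option linter.style.haveILetI false
set_option linter.deprecated false
open scoped commutatorElement
open Cfsg

namespace Cfsg.Agent.Lib.H7.GorT

universe u
variable {H : Type u} [Group H] [Finite H] {p : ℕ} [hp : Fact p.Prime]

/-- a power of `z₀` which is a `p`-element with the same image, when the image is a `p`-element -/
theorem exists_pow_pelement (N : Subgroup H) [N.Normal] (z₀ : H)
    (h : ∃ k, (QuotientGroup.mk z₀ : H ⧸ N) ^ p ^ k = 1) :
    ∃ c : ℕ, (QuotientGroup.mk (z₀ ^ c) : H ⧸ N) = QuotientGroup.mk z₀ ∧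
      ∃ k, (z₀ ^ c) ^ p ^ k = 1 := by
  obtain ⟨k, hk⟩ := h
  have ho : orderOf z₀ ≠ 0 := (orderOf_pos z₀).ne'
  obtain ⟨a, b, hb, hab⟩ := Nat.exists_eq_pow_mul_and_not_dvd ho p hp.out.ne_one
  have hcop : Nat.Coprime (p ^ a) b :=
    Nat.Coprime.pow_left a ((Nat.Prime.coprime_iff_not_dvd hp.out).2 hb)
  obtain ⟨c, hc1, hc0⟩ := Nat.chineseRemainder hcop 1 0
  have hbc : b ∣ c := (Nat.modEq_zero_iff_dvd).1 hc0
  refine ⟨c, ?_, a, ?_⟩
  · rw [QuotientGroup.mk_pow]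
    have h1 : orderOf (QuotientGroup.mk z₀ : H ⧸ N) ∣ p ^ k := orderOf_dvd_of_pow_eq_one hk
    have h2 : orderOf (QuotientGroup.mk z₀ : H ⧸ N) ∣ orderOf z₀ := by
      apply orderOf_dvd_of_pow_eq_one
      rw [← QuotientGroup.mk_pow, pow_orderOf_eq_one]; rfl
    rw [hab] at h2
    have h3 : Nat.Coprime (orderOf (QuotientGroup.mk z₀ : H ⧸ N)) b := by
      apply Nat.Coprime.coprime_dvd_left h1
      exact Nat.Coprime.pow_left k ((Nat.Prime.coprime_iff_not_dvd hp.out).2 hb)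
    have h4 : orderOf (QuotientGroup.mk z₀ : H ⧸ N) ∣ p ^ a := h3.dvd_of_dvd_mul_right h2
    have h5 : c ≡ 1 [MOD orderOf (QuotientGroup.mk z₀ : H ⧸ N)] := hc1.of_dvd h4
    have := (pow_eq_pow_iff_modEq (x := (QuotientGroup.mk z₀ : H ⧸ N))).2 h5
    rw [this, pow_one]
  · rw [← pow_mul]
    apply orderOf_dvd_iff_pow_eq_one.1
    rw [hab, mul_comm c]
    exact Nat.mul_dvd_mul_left _ hbc

theorem isPGroup_zpowers_of_pow_prime_pow {z : H} {k : ℕ} (hz : z ^ p ^ k = 1) :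
    IsPGroup p (Subgroup.zpowers z) := by
  rintro ⟨y, hy⟩
  obtain ⟨j, rfl⟩ := Subgroup.mem_zpowers_iff.1 hy
  refine ⟨k, Subtype.ext ?_⟩
  show (z ^ j) ^ p ^ k = 1
  rw [← zpow_natCast, ← zpow_mul, mul_comm, zpow_mul, zpow_natCast, hz, one_zpow]

/-- a `p`-subgroup of a quotient is the image of a `p`-subgroup -/
theorem exists_pgroup_lift (N : Subgroup H) [N.Normal] (Pb : Subgroup (H ⧸ N))
    (hPb : IsPGroup p Pb) :
    ∃ S : Subgroup H, IsPGroup p S ∧ S.map (QuotientGroup.mk' N) = Pb := by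
  set L : Subgroup H := Pb.comap (QuotientGroup.mk' N) with hL
  obtain ⟨P⟩ : Nonempty (Sylow p ↥L) := inferInstance
  have hquot : IsPGroup p (↥L ⧸ N.subgroupOf L) := by
    intro q
    obtain ⟨w, rfl⟩ := QuotientGroup.mk_surjective q
    have hw : QuotientGroup.mk' N (w : H) ∈ Pb := w.2
    obtain ⟨k, hk⟩ := hPb ⟨_, hw⟩
    refine ⟨k, ?_⟩
    rw [← QuotientGroup.mk_pow, QuotientGroup.eq_one_iff, Subgroup.mem_subgroupOf]
    have h1 : QuotientGroup.mk' N ((w : H) ^ (p ^ k)) = 1 := by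
      rw [map_pow]
      exact congrArg Subtype.val hk
    rw [QuotientGroup.mk'_apply, QuotientGroup.eq_one_iff] at h1
    simpa using h1
  have htop := Cfsg.Agent.Lib.H7.sylow_sup_eq_top_of_isPGroup_quotient p P _ hquot
  refine ⟨(P : Subgroup ↥L).map L.subtype, P.isPGroup'.map _, ?_⟩
  apply le_antisymm
  · rintro _ ⟨_, ⟨w, _, rfl⟩, rfl⟩
    exact w.2
  · intro q hq
    obtain ⟨x, rfl⟩ := QuotientGroup.mk'_surjective N q
    have hxL : x ∈ L := hq
    have hx : (⟨x, hxL⟩ : ↥L) ∈ (P : Subgroup ↥L) ⊔ N.subgroupOf L := by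
      rw [htop]; exact Subgroup.mem_top _
    obtain ⟨u, hu, o, ho, huo⟩ := Subgroup.mem_sup_of_normal_right.1 hx
    refine ⟨(u : H), ⟨u, hu, rfl⟩, ?_⟩
    have h1 : x = (u : H) * (o : H) := by
      have := congrArg Subtype.val huo
      simpa using this.symm
    have h2 : QuotientGroup.mk' N (o : H) = 1 := by
      rw [QuotientGroup.mk'_apply, QuotientGroup.eq_one_iff]
      exact Subgroup.mem_subgroupOf.1 ho
    rw [h1, map_mul, h2, mul_one]

/-- **Gorenstein 8.5-type lemma.** -/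
theorem le_pPrimeCore_of_invariant (hH : IsPConstrained p H) (B : Subgroup H)
    (hB : IsPGroup p B) (hBc : ∀ x ∈ B, ∀ y ∈ B, x * y = y * x)
    (hBfull : ∀ x ∈ Subgroup.centralizer (B : Set H), IsPGroup p (Subgroup.zpowers x) → x ∈ B)
    (K : Subgroup H) (hK : (Nat.card K).Coprime p) (hBK : B ≤ Subgroup.normalizer (K : Set H))
    (hcase : p ≠ 2 ∨ ∀ S : Subgroup H, IsPGroup p S →
      ∀ x ∈ S, ∀ y ∈ S, ∀ z ∈ S, ⁅⁅x, y⁆, z⁆ = 1) :
    K ≤ pPrimeCore p H := by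
  set N : Subgroup H := pPrimeCore p H with hN
  set π := QuotientGroup.mk' N with hπ
  have hOc : (Nat.card N).Coprime p := Cfsg.Agent.Lib.H22.card_pPrimeCore_coprime p
  haveI hRn : (pCore p (H ⧸ N)).Normal := Cfsg.Agent.Lib.H1.pCore_normal p _
  have hRp : IsPGroup p (pCore p (H ⧸ N)) := Cfsg.Agent.Lib.H1.pCore_isPGroup p _
  have hCR : Subgroup.centralizer (pCore p (H ⧸ N) : Set (H ⧸ N)) ≤ pCore p (H ⧸ N) := by
    have h1 : pLayer p H = ⊥ := (Cfsg.Agent.Lib.H7.isPConstrained_iff_pLayer_eq_bot p).1 hH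
    have h2 : layer (H ⧸ N) = ⊥ := by
      rw [← Cfsg.Agent.Lib.H7.map_pLayer p, h1, Subgroup.map_bot]
    exact Cfsg.Agent.Lib.H7.centralizer_pCore_le_of_layer_eq_bot p
      (Cfsg.Agent.Lib.H9.pPrimeCore_quotient_eq_bot p) h2
  have hBR : pCore p (H ⧸ N) ⊓ Subgroup.centralizer ((B.map π : Subgroup (H ⧸ N)) : Set (H ⧸ N)) ≤
      B.map π := by
    intro xb hxb
    have h1 := hxb.2
    rw [← Cfsg.Agent.Lib.H7.map_centralizer_of_coprime p hOc hB] at h1
    obtain ⟨x, hx, rfl⟩ := h1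
    obtain ⟨k, hk⟩ := hRp ⟨_, hxb.1⟩
    have hk' : (QuotientGroup.mk x : H ⧸ N) ^ p ^ k = 1 := congrArg Subtype.val hk
    obtain ⟨c, hc1, k', hc2⟩ := exists_pow_pelement N x ⟨k, hk'⟩
    have hz : x ^ c ∈ B :=
      hBfull _ (Subgroup.pow_mem _ hx c) (isPGroup_zpowers_of_pow_prime_pow hc2)
    exact ⟨x ^ c, hz, hc1⟩
  have hKb : (Nat.card (K.map π)).Coprime p :=
    Nat.Coprime.coprime_dvd_left (Subgroup.card_map_dvd K π) hK
  have hBKb : B.map π ≤ Subgroup.normalizer ((K.map π : Subgroup (H ⧸ N)) : Set (H ⧸ N)) :=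
    (Subgroup.map_mono hBK).trans (Subgroup.le_normalizer_map π)
  have hBcb : ∀ x ∈ B.map π, ∀ y ∈ B.map π, x * y = y * x := by
    rintro _ ⟨x, hx, rfl⟩ _ ⟨y, hy, rfl⟩
    rw [← map_mul, ← map_mul, hBc x hx y hy]
  have hcaseb : p ≠ 2 ∨ ∀ x ∈ pCore p (H ⧸ N) ⊔ B.map π, ∀ y ∈ pCore p (H ⧸ N) ⊔ B.map π,
      ∀ z ∈ pCore p (H ⧸ N) ⊔ B.map π, ⁅⁅x, y⁆, z⁆ = 1 := by
    rcases hcase with h | h
    · exact Or.inl h
    · right
      have hPb : IsPGroup p (pCore p (H ⧸ N) ⊔ B.map π : Subgroup (H ⧸ N)) :=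
        IsPGroup.to_sup_of_normal_left hRp (hB.map π)
      obtain ⟨S, hS, hSmap⟩ := exists_pgroup_lift N _ hPb
      intro x hx y hy z hz
      rw [← hSmap] at hx hy hz
      obtain ⟨x, hx, rfl⟩ := hx
      obtain ⟨y, hy, rfl⟩ := hy
      obtain ⟨z, hz, rfl⟩ := hz
      rw [← map_commutatorElement, ← map_commutatorElement, h S hS x hx y hy z hz, map_one]
  have hbot := eq_bot_of_invariant p (pCore p (H ⧸ N)) hRp hCR (B.map π) (hB.map π) hBcb hBR
    (K.map π) hKb hBKb hcaseb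
  rw [← le_bot_iff, Subgroup.map_le_iff_le_comap, MonoidHom.comap_bot, hπ,
    QuotientGroup.ker_mk'] at hbot
  exact hbot

end Cfsg.Agent.Lib.H7.GorT
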