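import Mathlib
import Cfsg.Agent.Lib.H7.GorT8
import Cfsg.Agent.Lib.H7.BG7a

/-! # Gorenstein 8.5-type lemma, subgroup forms (helper7) -/

set_option autoImplicit false
set_option linter.unusedSectionVars false
set_option linter.style.haveILetI false
set_option linter.deprecated false
open scoped commutatorElement
open Cfsg

namespace Cfsg.Agent.Lib.H7.GorT

open Cfsg.Agent.Lib.H19 (IsPiCard)

universe u
variable {G : Type u} [Group G] [Finite G] {p : ℕ} [hp : Fact p.Prime]

/-- Subgroup form of `le_pPrimeCore_of_invariant`. -/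
theorem le_map_pPrimeCore_of_invariant (X : Subgroup G) (hX : IsPConstrained p ↥X)
    (B : Subgroup G) (hBX : B ≤ X) (hB : IsPGroup p B) (hBc : ∀ x ∈ B, ∀ y ∈ B, x * y = y * x)
    (hBfull : ∀ x ∈ X ⊓ Subgroup.centralizer (B : Set G), IsPGroup p (Subgroup.zpowers x) → x ∈ B)
    (K : Subgroup G) (hKX : K ≤ X) (hK : (Nat.card K).Coprime p)
    (hBK : B ≤ Subgroup.normalizer (K : Set G))
    (hcase : p ≠ 2 ∨ ∀ S : Subgroup G, IsPGroup p S →
      ∀ x ∈ S, ∀ y ∈ S, ∀ z ∈ S, ⁅⁅x, y⁆, z⁆ = 1) :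
    K ≤ (pPrimeCore p ↥X).map X.subtype := by
  have h1 : K.subgroupOf X ≤ pPrimeCore p ↥X := by
    apply le_pPrimeCore_of_invariant hX (B.subgroupOf X)
      (hB.of_equiv (Subgroup.subgroupOfEquivOfLe hBX).symm)
    · intro x hx y hy
      apply Subtype.ext
      exact hBc _ (Subgroup.mem_subgroupOf.1 hx) _ (Subgroup.mem_subgroupOf.1 hy)
    · intro x hx hxp
      rw [Subgroup.mem_subgroupOf]
      apply hBfull _ (Subgroup.mem_inf.2 ⟨x.2, ?_⟩)
      · have : Subgroup.zpowers (x : G) = (Subgroup.zpowers x).map X.subtype := by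
          rw [MonoidHom.map_zpowers]; rfl
        rw [this]
        exact hxp.map _
      · rw [Subgroup.mem_centralizer_iff]
        intro b hb
        have := Subgroup.mem_centralizer_iff.1 hx ⟨b, hBX hb⟩ (Subgroup.mem_subgroupOf.2 hb)
        exact congrArg Subtype.val this
    · rw [Nat.card_congr (Subgroup.subgroupOfEquivOfLe hKX).toEquiv]; exact hK
    · intro b hb
      rw [Subgroup.mem_normalizer_iff]
      intro k
      rw [Subgroup.mem_subgroupOf, Subgroup.mem_subgroupOf]
      exact Subgroup.mem_normalizer_iff.1 (hBK (Subgroup.mem_subgroupOf.1 hb)) (k : G)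
    · rcases hcase with h | h
      · exact Or.inl h
      · right
        intro S hS x hx y hy z hz
        apply Subtype.ext
        have := h (S.map X.subtype) (hS.map _) x ⟨x, hx, rfl⟩ y ⟨y, hy, rfl⟩ z ⟨z, hz, rfl⟩
        simpa [commutatorElement_def] using this
  have h2 := Subgroup.map_mono (f := X.subtype) h1
  rwa [Subgroup.map_subgroupOf_eq_of_le hKX] at h2

theorem isPiCard_primesNotDvd_of_coprime {n : ℕ} (hn : n.Coprime p) :
    IsPiCard (primesNotDvd p) n := by
  intro r hr hrn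
  refine ⟨hr, ?_⟩
  intro hrp
  have : r = p := (Nat.prime_dvd_prime_iff_eq hr hp.out).1 hrp
  subst this
  have := Nat.Coprime.eq_one_of_dvd hn.symm hrn
  exact hr.ne_one this

/-- Form with `O_{p'}` of a normal subgroup `C` of the `p`-constrained group `X`. -/
theorem le_piCoreOf_of_invariant (X : Subgroup G) (hX : IsPConstrained p ↥X)
    (C : Subgroup G) (hCX : C ≤ X) (hXC : X ≤ Subgroup.normalizer (C : Set G))
    (B : Subgroup G) (hBX : B ≤ X) (hB : IsPGroup p B) (hBc : ∀ x ∈ B, ∀ y ∈ B, x * y = y * x)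
    (hBfull : ∀ x ∈ X ⊓ Subgroup.centralizer (B : Set G), IsPGroup p (Subgroup.zpowers x) → x ∈ B)
    (K : Subgroup G) (hKC : K ≤ C) (hK : (Nat.card K).Coprime p)
    (hBK : B ≤ Subgroup.normalizer (K : Set G))
    (hcase : p ≠ 2 ∨ ∀ S : Subgroup G, IsPGroup p S →
      ∀ x ∈ S, ∀ y ∈ S, ∀ z ∈ S, ⁅⁅x, y⁆, z⁆ = 1) :
    K ≤ piCoreOf (primesNotDvd p) C := by
  set M : Subgroup G := (pPrimeCore p ↥X).map X.subtype with hM
  have h1 : K ≤ M := le_map_pPrimeCore_of_invariant X hX B hBX hB hBc hBfull K (hKC.trans hCX) hK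
    hBK hcase
  haveI : (pPrimeCore p ↥X).Normal := Cfsg.Agent.Lib.H22.pPrimeCore_normal p
  have hXM : X ≤ Subgroup.normalizer (M : Set G) :=
    Cfsg.Agent.Lib.H7.PrimPair.le_normalizer_map_subtype _
  have hMc : (Nat.card M).Coprime p := by
    have : Nat.card M = Nat.card (pPrimeCore p ↥X) :=
      (Nat.card_congr ((pPrimeCore p ↥X).equivMapOfInjective X.subtype
        (Subgroup.subtype_injective X)).toEquiv).symm
    rw [this]
    exact Cfsg.Agent.Lib.H22.card_pPrimeCore_coprime p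
  have h2 : M ⊓ C ≤ piCoreOf (primesNotDvd p) C := by
    apply Cfsg.Agent.Lib.H7.BG7.le_piCoreOf inf_le_right
    · exact Cfsg.Agent.Lib.H7.le_normalizer_inf (hCX.trans hXM) Subgroup.le_normalizer
    · apply isPiCard_primesNotDvd_of_coprime
      exact Nat.Coprime.coprime_dvd_left (Subgroup.card_dvd_of_le inf_le_left) hMc
  exact (le_inf h1 hKC).trans h2

end Cfsg.Agent.Lib.H7.GorT
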