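import Mathlib
import Cfsg.Agent.Lib.H7.GorT9
import Cfsg.Agent.Lib.H10.StrongFixed
import Cfsg.Agent.Lib.H10.SylowIn
import Cfsg.Agent.Lib.H19.PLength
import Cfsg.Agent.Lib.H7.BG7d

/-! # Criteria for the transitivity hypothesis (helper7): BG Proposition 7.? / statement S1396 -/

set_option autoImplicit false
set_option linter.unusedSectionVars false
set_option linter.style.haveILetI false
set_option linter.deprecated false
set_option linter.unusedVariables false
open scoped commutatorElement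
open Cfsg

namespace Cfsg.Agent.Lib.H7.GorT

open Cfsg.Agent.Lib.H19 (IsPiCard Reach)

universe u

section Omega

variable {H : Type u} [Group H] [Finite H] {p : ℕ} [hp : Fact p.Prime]

/-- **Ω₁-lemma** for odd `p`: a `p'`-element normalizing the `p`-group `W` and centralizing its
elements of order dividing `p` centralizes `W`. -/
theorem commute_of_omega (hp2 : p ≠ 2) {h : H} (hcop : (orderOf h).Coprime p) :
    ∀ (n : ℕ) (W : Subgroup H), Nat.card W = n → IsPGroup p W →
      h ∈ Subgroup.normalizer (W : Set H) → (∀ x ∈ W, x ^ p = 1 → h * x = x * h) →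
      ∀ x ∈ W, h * x = x * h := by
  intro n
  induction n using Nat.strong_induction_on with
  | _ n ih =>
  intro W hn hWp hhW hsmall
  by_cases hW1 : W = ⊥
  · intro x hx
    rw [hW1, Subgroup.mem_bot] at hx
    rw [hx]; simp
  apply Cfsg.Agent.Lib.H10.SFix.commute_of_small_exponent hWp hW1 hhW hcop
  · intro x hx hxp
    rw [if_neg hp2] at hxp
    exact hsmall x hx hxp
  · intro W' hW'W hne hhW'
    apply ih (Nat.card W') _ W' rfl (hWp.to_le hW'W) hhW' (fun x hx => hsmall x (hW'W hx))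
    rw [← hn]
    by_contra hcon
    exact hne (Subgroup.eq_of_le_of_card_ge hW'W (not_lt.1 hcon))

end Omega

section PLen

variable {Y : Type u} [Group Y] [Finite Y] {p : ℕ} [hp : Fact p.Prime]

/-- `p`-length one and `O_{p'}(Y) = 1` force a normal Sylow `p`-subgroup. -/
theorem index_pCore_coprime_of_plengthLE_one (hO : pPrimeCore p Y = ⊥) (hl : PLengthLE p 1 Y) :
    ((pCore p Y).index).Coprime p := by
  rw [Cfsg.Agent.Lib.H19.plengthLE_iff] at hl
  have h3 : Reach p (2 + 1) (⊤ : Subgroup Y) := hl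
  cases h3 with
  | odd _ hj _ _ _ => exact absurd (by decide : Even 2) hj
  | @even _ N₂ _ h2 _ _ _ hc₂ =>
  have h2' : Reach p (1 + 1) N₂ := h2
  cases h2' with
  | even _ hj _ _ _ => exact absurd hj (by decide)
  | @odd _ N₁ _ h1 _ hle₁₂ hn₂ hc₁ =>
  have h1' : Reach p (0 + 1) N₁ := h1
  cases h1' with
  | odd _ hj _ _ _ => exact absurd (by decide : Even 0) hj
  | @even _ N₀ _ h0 _ hle₀₁ hn₁ hc₀ =>
  cases h0 with
  | zero =>
  have hN₁ : N₁ = ⊥ := by
    have : N₁ ≤ pPrimeCore p Y := by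
      apply Cfsg.Agent.Lib.H22.le_pPrimeCore p _ hn₁
      rwa [Subgroup.relIndex_bot_left] at hc₀
    rw [hO] at this
    exact le_bot_iff.1 this
  obtain ⟨m, hm⟩ := hc₁
  rw [hN₁, Subgroup.relIndex_bot_left] at hm
  have hN₂ : N₂ ≤ pCore p Y := Cfsg.Agent.Lib.H1.le_pCore hn₂ (IsPGroup.of_card hm)
  rw [Subgroup.relIndex_top_right] at hc₂
  exact Nat.Coprime.coprime_dvd_left (Subgroup.index_dvd_of_le hN₂) hc₂

end PLen

section Case1

variable {X : Type u} [Group X] [Finite X] {p : ℕ} [hp : Fact p.Prime]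

/-- BG 7.?(1): `p`-length one and `A = Ω₁(C_X(A))`-type hypothesis. -/
theorem le_pPrimeCore_of_plength_one (hp2 : p ≠ 2) (hsolv : Group.IsSolvable X)
    (hl : PLengthLE p 1 X) (A : Subgroup X) (hA : IsPGroup p A)
    (hAfull : ∀ x ∈ Subgroup.centralizer (A : Set X), x ^ p = 1 → x ∈ A)
    (K : Subgroup X) (hK : (Nat.card K).Coprime p)
    (hAK : A ≤ Subgroup.normalizer (K : Set X)) : K ≤ pPrimeCore p X := by
  set N : Subgroup X := pPrimeCore p X with hN
  set π := QuotientGroup.mk' N with hπ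
  have hOc : (Nat.card N).Coprime p := Cfsg.Agent.Lib.H22.card_pPrimeCore_coprime p
  haveI hRn : (pCore p (X ⧸ N)).Normal := Cfsg.Agent.Lib.H1.pCore_normal p _
  have hRp : IsPGroup p (pCore p (X ⧸ N)) := Cfsg.Agent.Lib.H1.pCore_isPGroup p _
  have hCR : Subgroup.centralizer (pCore p (X ⧸ N) : Set (X ⧸ N)) ≤ pCore p (X ⧸ N) :=
    Cfsg.Agent.Lib.H7.centralizer_pCore_quotient_le_of_isSolvable p hsolv
  have hidx : ((pCore p (X ⧸ N)).index).Coprime p :=
    index_pCore_coprime_of_plengthLE_one (Cfsg.Agent.Lib.H9.pPrimeCore_quotient_eq_bot p)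
      (Cfsg.Agent.Lib.H19.plengthLE_quotient hl N)
  have hRtop : Subgroup.normalizer (pCore p (X ⧸ N) : Set (X ⧸ N)) = ⊤ :=
    Subgroup.normalizer_eq_top _
  -- the image of `A` lies in the normal Sylow subgroup
  have hAR : A.map π ≤ pCore p (X ⧸ N) := by
    intro ab hab
    obtain ⟨k, hk⟩ := (hA.map π) ⟨ab, hab⟩
    have hk' : ab ^ p ^ k = 1 := congrArg Subtype.val hk
    have h1 : (QuotientGroup.mk ab : (X ⧸ N) ⧸ pCore p (X ⧸ N)) ^ p ^ k = 1 := by
      rw [← QuotientGroup.mk_pow, hk']; rfl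
    have h2 : (QuotientGroup.mk ab : (X ⧸ N) ⧸ pCore p (X ⧸ N)) ^ (pCore p (X ⧸ N)).index = 1 := by
      rw [Subgroup.index_eq_card]; exact pow_card_eq_one'
    have h3 : ((pCore p (X ⧸ N)).index).Coprime (p ^ k) := Nat.Coprime.pow_right k hidx
    have h4 : (QuotientGroup.mk ab : (X ⧸ N) ⧸ pCore p (X ⧸ N)) ^ 1 = 1 := by
      rw [← Nat.Coprime.gcd_eq_one h3]
      exact pow_gcd_eq_one.2 ⟨h2, h1⟩
    rw [pow_one] at h4
    exact (QuotientGroup.eq_one_iff ab).1 h4
  have hKb : (Nat.card (K.map π)).Coprime p :=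
    Nat.Coprime.coprime_dvd_left (Subgroup.card_map_dvd K π) hK
  have hAKb : A.map π ≤ Subgroup.normalizer ((K.map π : Subgroup (X ⧸ N)) : Set (X ⧸ N)) :=
    (Subgroup.map_mono hAK).trans (Subgroup.le_normalizer_map π)
  have hKR : K.map π ⊓ pCore p (X ⧸ N) = ⊥ := by
    apply Subgroup.inf_eq_bot_of_coprime
    obtain ⟨k, hk⟩ := (IsPGroup.iff_card).1 hRp
    rw [hk]
    exact Nat.Coprime.pow_right k hKb
  have hcomm : ⁅K.map π, A.map π⁆ = ⊥ := by
    rw [eq_bot_iff, ← hKR, Subgroup.commutator_le]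
    intro k hk a ha
    refine ⟨?_, ?_⟩
    · have : ⁅k, a⁆ = k * (a * k⁻¹ * a⁻¹) := by rw [commutatorElement_def]; group
      rw [this]
      exact Subgroup.mul_mem _ hk
        ((Subgroup.mem_normalizer_iff.1 (hAKb ha) k⁻¹).1 (Subgroup.inv_mem _ hk))
    · have : ⁅k, a⁆ = (k * a * k⁻¹) * a⁻¹ := by rw [commutatorElement_def]
      rw [this]
      exact Subgroup.mul_mem _ (hRn.conj_mem a (hAR ha) k) (Subgroup.inv_mem _ (hAR ha))
  have hKCA : K.map π ≤ Subgroup.centralizer ((A.map π : Subgroup (X ⧸ N)) : Set (X ⧸ N)) :=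
    Subgroup.commutator_eq_bot_iff_le_centralizer.1 hcomm
  -- elements of order `p` of `C_R(A)` lie in the image of `A`
  have hsmall : ∀ xb ∈ pCore p (X ⧸ N) ⊓
      Subgroup.centralizer ((A.map π : Subgroup (X ⧸ N)) : Set (X ⧸ N)), xb ^ p = 1 →
      xb ∈ A.map π := by
    intro xb hxb hxbp
    have h1 := hxb.2
    rw [← Cfsg.Agent.Lib.H7.map_centralizer_of_coprime p hOc hA] at h1
    obtain ⟨x, hx, rfl⟩ := h1
    have hk' : (QuotientGroup.mk x : X ⧸ N) ^ p ^ 1 = 1 := by rw [pow_one]; exact hxbp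
    obtain ⟨c, hc1, k', hc2⟩ := exists_pow_pelement N x ⟨1, hk'⟩
    have hzC : x ^ c ∈ Subgroup.centralizer (A : Set X) := Subgroup.pow_mem _ hx c
    have hzpN : (x ^ c) ^ p ∈ N := by
      rw [← QuotientGroup.eq_one_iff, QuotientGroup.mk_pow, hc1]
      exact hxbp
    have hzp1 : (x ^ c) ^ p = 1 := by
      have e1 : ((x ^ c) ^ p) ^ p ^ k' = 1 := by
        rw [← pow_mul, mul_comm, pow_mul, hc2, one_pow]
      have e2 : ((x ^ c) ^ p) ^ Nat.card N = 1 := by
        have := pow_card_eq_one' (G := ↥N) (x := ⟨(x ^ c) ^ p, hzpN⟩)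
        exact congrArg Subtype.val this
      have e3 : (Nat.card N).Coprime (p ^ k') := Nat.Coprime.pow_right k' hOc
      have e4 : ((x ^ c) ^ p) ^ 1 = 1 := by
        rw [← Nat.Coprime.gcd_eq_one e3]
        exact pow_gcd_eq_one.2 ⟨e2, e1⟩
      rwa [pow_one] at e4
    exact ⟨x ^ c, hAfull _ hzC hzp1, hc1⟩
  -- `K̄` centralizes `C_R(Ā)`
  have hC : ⁅K.map π, pCore p (X ⧸ N) ⊓
      Subgroup.centralizer ((A.map π : Subgroup (X ⧸ N)) : Set (X ⧸ N))⁆ = ⊥ := by
    rw [Subgroup.commutator_eq_bot_iff_le_centralizer]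
    intro h hh
    rw [Subgroup.mem_centralizer_iff]
    intro x hx
    have hcop : (orderOf h).Coprime p :=
      Nat.Coprime.coprime_dvd_left (Subgroup.orderOf_dvd_natCard _ hh) hKb
    have hhN : h ∈ Subgroup.normalizer ((pCore p (X ⧸ N) ⊓
        Subgroup.centralizer ((A.map π : Subgroup (X ⧸ N)) : Set (X ⧸ N)) : Subgroup (X ⧸ N)) :
        Set (X ⧸ N)) := by
      apply mem_normalizer_inf
      · rw [hRtop]; exact Subgroup.mem_top _
      · exact Subgroup.le_normalizer (hKCA hh)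
    have := commute_of_omega hp2 hcop _ _ rfl (hRp.to_le inf_le_left) hhN
      (fun y hy hyp => by
        have hyA := hsmall y hy hyp
        exact (Subgroup.mem_centralizer_iff.1 (hKCA hh) y hyA).symm) x hx
    exact this.symm
  have h1 := Cfsg.Agent.Lib.H7.thompson_AxB' p hRp (hA.map π) hKb hcomm
    (by rw [hRtop]; exact le_top) (by rw [hRtop]; exact le_top) hC
  rw [Subgroup.commutator_eq_bot_iff_le_centralizer] at h1
  have h2 : K.map π ≤ K.map π ⊓ pCore p (X ⧸ N) := le_inf le_rfl (h1.trans hCR)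
  rw [hKR, le_bot_iff] at h2
  rw [← le_bot_iff, Subgroup.map_le_iff_le_comap, MonoidHom.comap_bot, hπ,
    QuotientGroup.ker_mk'] at h2
  exact h2

end Case1

end Cfsg.Agent.Lib.H7.GorT
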