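import Mathlib
import Cfsg.Prelude.Def_Local
import Cfsg.Agent.Lib.H7.CoprimeQuot
import Cfsg.Agent.Lib.H7.Signalizer

set_option autoImplicit false

namespace Cfsg.Agent.Lib.H7

open Cfsg

universe u
variable {X : Type u} [Group X]

theorem isPGroup_zpowers_of_pow_eq_one' {p : ℕ} [Fact p.Prime] {a : X} (hap : a ^ p = 1) :
    IsPGroup p (Subgroup.zpowers a) := by
  by_cases h1 : a = 1
  · apply IsPGroup.of_card (n := 0)
    rw [Nat.card_zpowers, h1, orderOf_one, pow_zero]
  · apply IsPGroup.of_card (n := 1)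
    rw [Nat.card_zpowers, pow_one]
    exact orderOf_eq_prime hap h1

/-- Lifting centralizers of `p`-elements modulo a normal `p'`-subgroup. -/
theorem exists_mem_centralizer_singleton_of_mk [Finite X] (p : ℕ) [Fact p.Prime]
    {N : Subgroup X} [hNn : N.Normal] (hN : (Nat.card N).Coprime p) {a : X} (hap : a ^ p = 1)
    {g : X ⧸ N} (hg : g ∈ Subgroup.centralizer ({QuotientGroup.mk' N a} : Set (X ⧸ N))) :
    ∃ c ∈ Subgroup.centralizer ({a} : Set X), QuotientGroup.mk' N c = g := by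
  set π := QuotientGroup.mk' N with hπ
  obtain ⟨x₀, hx₀'⟩ := QuotientGroup.mk'_surjective N g
  have hx₀ : π x₀ = g := hx₀'
  have hP : IsPGroup p (Subgroup.zpowers a) := isPGroup_zpowers_of_pow_eq_one' hap
  have hga : g * π a = π a * g := Subgroup.mem_centralizer_singleton_iff.1 hg
  have hnorm : π x₀ ∈ Subgroup.normalizer
      (((Subgroup.zpowers a).map π : Subgroup (X ⧸ N)) : Set (X ⧸ N)) := by
    rw [hx₀, MonoidHom.map_zpowers, Subgroup.mem_normalizer_iff]
    have hcomm : ∀ z ∈ Subgroup.zpowers (π a), g * z * g⁻¹ = z := by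
      intro z hz
      obtain ⟨i, rfl⟩ := Subgroup.mem_zpowers_iff.1 hz
      have : Commute g (π a ^ i) := (show Commute g (π a) from hga).zpow_right i
      rw [this.eq]; group
    intro z
    constructor
    · intro hz; rw [hcomm z hz]; exact hz
    · intro hz
      have h1 := hcomm _ hz
      have h2 : z = g⁻¹ * (g * z * g⁻¹) * g := by group
      have h3 : g * (g * z * g⁻¹) * g⁻¹ = g * z * g⁻¹ := h1
      have h4 : g * z * g⁻¹ = z := by
        have := mul_left_cancel (mul_right_cancel h3)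
        exact this
      rw [← h4]; exact hz
  obtain ⟨y, hyN, hy'⟩ := exists_mem_normalizer_of_mk_mem_normalizer p hN hP hnorm
  have hy : π y = g := hy'.trans hx₀
  refine ⟨y, ?_, hy⟩
  -- `y a y⁻¹ ∈ ⟨a⟩` and is congruent to `a` modulo `N`
  have h1 : y * a * y⁻¹ ∈ Subgroup.zpowers a :=
    (Subgroup.mem_normalizer_iff.1 hyN a).1 (Subgroup.mem_zpowers a)
  have h2 : π (y * a * y⁻¹) = π a := by
    rw [map_mul, map_mul, map_inv, hy, hga]; group
  have h3 : (y * a * y⁻¹) * a⁻¹ ∈ N := by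
    have : π ((y * a * y⁻¹) * a⁻¹) = 1 := by
      rw [map_mul, h2, map_inv, mul_inv_cancel]
    rwa [hπ, QuotientGroup.mk'_apply, QuotientGroup.eq_one_iff] at this
  have h4 : (y * a * y⁻¹) * a⁻¹ ∈ Subgroup.zpowers a :=
    Subgroup.mul_mem _ h1 (Subgroup.inv_mem _ (Subgroup.mem_zpowers a))
  have hdisj : Subgroup.zpowers a ⊓ N = ⊥ := by
    have hco : (Nat.card (Subgroup.zpowers a)).Coprime (Nat.card N) := by
      obtain ⟨k, hk⟩ := IsPGroup.iff_card.1 hP
      rw [hk]
      exact (Nat.Coprime.pow_right k hN).symm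
    exact (Subgroup.disjoint_of_coprime_natCard hco).eq_bot
  have h5 : (y * a * y⁻¹) * a⁻¹ ∈ Subgroup.zpowers a ⊓ N := ⟨h4, h3⟩
  rw [hdisj, Subgroup.mem_bot] at h5
  rw [Subgroup.mem_centralizer_singleton_iff]
  have h6 : y * a * y⁻¹ = a := by
    have := mul_inv_eq_one.1 h5
    exact this
  calc y * a = (y * a * y⁻¹) * y := by group
    _ = a * y := by rw [h6]

/-- The image of a `C(a)`-invariant `p'`-subgroup of `C(a)` lies in `O_{p'}(C(ā))`. -/
theorem map_mk_le_cppc [Finite X] (p : ℕ) [Fact p.Prime]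
    {N : Subgroup X} [hNn : N.Normal] (hN : (Nat.card N).Coprime p) {a : X} (hap : a ^ p = 1)
    {R : Subgroup X} (hRa : R ≤ Subgroup.centralizer ({a} : Set X))
    (hRc : (Nat.card R).Coprime p)
    (hRn : Subgroup.centralizer ({a} : Set X) ≤ Subgroup.normalizer (R : Set X)) :
    R.map (QuotientGroup.mk' N) ≤ centralizerPPrimeCore p (QuotientGroup.mk' N a) := by
  set π := QuotientGroup.mk' N with hπ
  set Ĉ := Subgroup.centralizer ({π a} : Set (X ⧸ N)) with hĈ
  have hle : R.map π ≤ Ĉ := by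
    rintro _ ⟨r, hr, rfl⟩
    have := hRa hr
    rw [Subgroup.mem_centralizer_singleton_iff] at this
    rw [hĈ, Subgroup.mem_centralizer_singleton_iff, ← map_mul, ← map_mul, this]
  set S := (R.map π).subgroupOf Ĉ with hS
  have hSn : S.Normal := by
    constructor
    intro n hn g
    rw [hS, Subgroup.mem_subgroupOf] at hn ⊢
    obtain ⟨r, hr, hrn⟩ := hn
    obtain ⟨c, hc, hcg⟩ := exists_mem_centralizer_singleton_of_mk p hN hap g.2
    have h1 : c * r * c⁻¹ ∈ R := (Subgroup.mem_normalizer_iff.1 (hRn hc) r).1 hr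
    refine ⟨c * r * c⁻¹, h1, ?_⟩
    rw [map_mul, map_mul, map_inv, hrn, hcg]
    simp only [Subgroup.coe_mul, Subgroup.coe_inv]
  have hSc : (Nat.card ↥S).Coprime p := by
    have e1 : ↥S ≃* ↥(R.map π) := Subgroup.subgroupOfEquivOfLe hle
    rw [Nat.card_congr e1.toEquiv]
    exact Nat.Coprime.coprime_dvd_left (Subgroup.card_map_dvd _ _) hRc
  have hSle := Cfsg.Agent.Lib.H22.le_pPrimeCore p S hSn hSc
  intro y hy
  unfold centralizerPPrimeCore
  exact ⟨⟨y, hle hy⟩, hSle (Subgroup.mem_subgroupOf.2 hy), rfl⟩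

end Cfsg.Agent.Lib.H7
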