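import Mathlib
import Cfsg.Prelude.Def_Local
import Cfsg.Agent.Lib.H7.PConstrained3
import Cfsg.Agent.Lib.H7.FStar
import Cfsg.Agent.Lib.H7.PLocal3
import Cfsg.Agent.Lib.H7.CoprimeQuot2
import Cfsg.Agent.Lib.H9.PPrimeCore

set_option autoImplicit false
open Cfsg

namespace Cfsg.Agent.Lib.H7

universe u v

/-- `X` is `p`-constrained iff `E(X / O_{p'}(X)) = 1`. -/
theorem isPConstrained_iff_layer_quotient_eq_bot {X : Type*} [Group X] [Finite X] (p : ℕ)
    [Fact p.Prime] : IsPConstrained p X ↔ layer (X ⧸ pPrimeCore p X) = ⊥ :=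
  (isPConstrained_iff_pLayer_eq_bot p).trans (pLayer_eq_bot_iff_layer_quotient_eq_bot p)

/-- `p`-constraint is invariant under isomorphism. -/
theorem isPConstrained_of_mulEquiv {X : Type u} {Y : Type v} [Group X] [Group Y] [Finite X] (p : ℕ)
    [Fact p.Prime] (e : X ≃* Y) (h : IsPConstrained p X) : IsPConstrained p Y := by
  have : Finite Y := Finite.of_equiv X e.toEquiv
  rw [isPConstrained_iff_layer_quotient_eq_bot] at h ⊢
  let f : X ⧸ pPrimeCore p X ≃* Y ⧸ pPrimeCore p Y :=
    QuotientGroup.congr _ _ e (Cfsg.Agent.Lib.H9.pPrimeCore_map_equiv p e)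
  rw [← layer_map_equiv f, h, Subgroup.map_bot]

/-- A nontrivial image of a component under a surjective homomorphism is a component. -/
theorem isComponent_map_of_surjective {H : Type u} {H' : Type v} [Group H] [Group H']
    (f : H →* H') (hf : Function.Surjective f) {K : Subgroup H} (hK : IsComponent K)
    (hnt : K.map f ≠ ⊥) : IsComponent (K.map f) := by
  refine ⟨hK.1.map hf, ?_⟩
  have : Nontrivial ↥(K.map f) := (Subgroup.nontrivial_iff_ne_bot _).2 hnt
  exact quasisimple_of_surjective hK.2 (f.subgroupMap K) (f.subgroupMap_surjective K) this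

/-- If `x ∈ O_p(N)` has `x ^ p = 1` and `C_N(x)` is `p`-constrained, then so is `N`. -/
theorem isPConstrained_of_centralizer_mem_pCore {N : Type u} [Group N] [Finite N] (p : ℕ)
    [Fact p.Prime] {x : N} (hxp : x ^ p = 1) (hxO : x ∈ pCore p N)
    (hC : IsPConstrained p ↥(Subgroup.centralizer ({x} : Set N))) : IsPConstrained p N := by
  rw [isPConstrained_iff_layer_quotient_eq_bot] at hC ⊢
  by_contra hne
  rw [layer_eq_bot_iff] at hne
  push Not at hne
  obtain ⟨Kbar, hK⟩ := hne
  have hOc : (Nat.card (pPrimeCore p N)).Coprime p := Cfsg.Agent.Lib.H22.card_pPrimeCore_coprime p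
  have h1 : QuotientGroup.mk' (pPrimeCore p N) x ∈ pCore p (N ⧸ pPrimeCore p N) := by
    have hn : (pCore p N).Normal := Cfsg.Agent.Lib.H1.pCore_normal p N
    have : (pCore p N).map (QuotientGroup.mk' (pPrimeCore p N)) ≤ pCore p (N ⧸ pPrimeCore p N) :=
      Cfsg.Agent.Lib.H1.le_pCore (hn.map _ (QuotientGroup.mk'_surjective _))
        ((Cfsg.Agent.Lib.H1.pCore_isPGroup p N).map _)
    exact this (Subgroup.mem_map_of_mem _ hxO)
  have h2 : Kbar ≤ Subgroup.centralizer
      ({QuotientGroup.mk' (pPrimeCore p N) x} : Set (N ⧸ pPrimeCore p N)) := by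
    intro k hk
    have := layer_le_centralizer_pCore p (component_le_layer hK hk)
    rw [Subgroup.mem_centralizer_iff] at this
    rw [Subgroup.mem_centralizer_singleton_iff]
    exact (this _ h1).symm
  have h3 : Kbar ≤ (Subgroup.centralizer ({x} : Set N)).map (QuotientGroup.mk' (pPrimeCore p N)) := by
    intro k hk
    obtain ⟨c, hc, hck⟩ := exists_mem_centralizer_singleton_of_mk p hOc hxp (h2 hk)
    exact ⟨c, hc, hck⟩
  let f : ↥(Subgroup.centralizer ({x} : Set N)) →* N ⧸ pPrimeCore p N :=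
    (QuotientGroup.mk' (pPrimeCore p N)).comp (Subgroup.centralizer ({x} : Set N)).subtype
  have hfr : f.range =
      (Subgroup.centralizer ({x} : Set N)).map (QuotientGroup.mk' (pPrimeCore p N)) := by
    rw [MonoidHom.range_comp, Subgroup.range_subtype]
  let g : ↥(Subgroup.centralizer ({x} : Set N)) →*
      ↥(Subgroup.centralizer ({x} : Set N)) ⧸ pPrimeCore p ↥(Subgroup.centralizer ({x} : Set N)) :=
    QuotientGroup.mk' _
  have hfker : (Nat.card f.ker).Coprime p := by
    have h4 : f.ker = (pPrimeCore p N).subgroupOf (Subgroup.centralizer ({x} : Set N)) := by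
      ext c
      rw [MonoidHom.mem_ker, Subgroup.mem_subgroupOf, MonoidHom.comp_apply,
        QuotientGroup.mk'_apply, QuotientGroup.eq_one_iff]
      rfl
    rw [h4]
    have h5 : Nat.card ((pPrimeCore p N).subgroupOf (Subgroup.centralizer ({x} : Set N))) =
        Nat.card (((pPrimeCore p N).subgroupOf (Subgroup.centralizer ({x} : Set N))).map
          (Subgroup.centralizer ({x} : Set N)).subtype) :=
      Nat.card_congr (((pPrimeCore p N).subgroupOf
        (Subgroup.centralizer ({x} : Set N))).equivMapOfInjective _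
          (Subgroup.subtype_injective _)).toEquiv
    rw [h5, Subgroup.subgroupOf_map_subtype]
    exact Nat.Coprime.coprime_dvd_left (Subgroup.card_dvd_of_le inf_le_left) hOc
  have hker : f.rangeRestrict.ker ≤ g.ker := by
    rw [MonoidHom.ker_rangeRestrict, QuotientGroup.ker_mk']
    exact Cfsg.Agent.Lib.H22.le_pPrimeCore p _ inferInstance hfker
  let gbar : ↥f.range →*
      ↥(Subgroup.centralizer ({x} : Set N)) ⧸ pPrimeCore p ↥(Subgroup.centralizer ({x} : Set N)) :=
    f.rangeRestrict.liftOfSurjective f.rangeRestrict_surjective ⟨g, hker⟩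
  have hgbar : ∀ c, gbar (f.rangeRestrict c) = g c := fun c =>
    MonoidHom.liftOfRightInverse_comp_apply _ _ _ ⟨g, hker⟩ c
  have hgs : Function.Surjective gbar := by
    intro q
    obtain ⟨c, rfl⟩ := QuotientGroup.mk'_surjective _ q
    exact ⟨f.rangeRestrict c, hgbar c⟩
  have hKr : Kbar ≤ f.range := by rw [hfr]; exact h3
  have hK' : IsComponent (Kbar.subgroupOf f.range) :=
    ⟨hK.1.subgroupOf, quasisimple_of_mulEquiv (Subgroup.subgroupOfEquivOfLe hKr).symm hK.2⟩
  have hnt : (Kbar.subgroupOf f.range).map gbar ≠ ⊥ := by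
    intro hbot
    apply not_coprime_card_component_quotient p hK
    apply card_coprime_of_forall_orderOf_coprime p
    intro k
    obtain ⟨c, hc⟩ := hKr k.2
    have hk1 : gbar ⟨(k : N ⧸ pPrimeCore p N), hKr k.2⟩ = 1 := by
      have : gbar ⟨(k : N ⧸ pPrimeCore p N), hKr k.2⟩ ∈ (Kbar.subgroupOf f.range).map gbar :=
        Subgroup.mem_map_of_mem _ (Subgroup.mem_subgroupOf.2 k.2)
      rwa [hbot, Subgroup.mem_bot] at this
    have hk2 : f.rangeRestrict c = ⟨(k : N ⧸ pPrimeCore p N), hKr k.2⟩ := Subtype.ext hc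
    rw [← hk2, hgbar] at hk1
    have hc1 : c ∈ pPrimeCore p ↥(Subgroup.centralizer ({x} : Set N)) := by
      rwa [QuotientGroup.mk'_apply, QuotientGroup.eq_one_iff] at hk1
    have hc2 : (orderOf c).Coprime p := by
      have h6 : orderOf (⟨c, hc1⟩ : ↥(pPrimeCore p ↥(Subgroup.centralizer ({x} : Set N)))) ∣
          Nat.card ↥(pPrimeCore p ↥(Subgroup.centralizer ({x} : Set N))) := orderOf_dvd_natCard _
      rw [Subgroup.orderOf_mk] at h6
      exact Nat.Coprime.coprime_dvd_left h6 (Cfsg.Agent.Lib.H22.card_pPrimeCore_coprime p)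
    have h7 : orderOf k ∣ orderOf c := by
      rw [← Subgroup.orderOf_coe, ← hc]
      exact orderOf_map_dvd f c
    exact Nat.Coprime.coprime_dvd_left h7 hc2
  exact (layer_eq_bot_iff.1 hC) _ (isComponent_map_of_surjective gbar hgs hK' hnt)

end Cfsg.Agent.Lib.H7
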