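import Mathlib
import Cfsg.Agent.Lib.H16.BGo
import Cfsg.Agent.Lib.H16.BGk

/-! # Bender–Glauberman §10, Lemma 10.1 (helper7)

Everything is stated under an explicit form `Uniq3` of the Uniqueness Theorem (every proper subgroup of
rank at least three lies in a unique maximal subgroup). -/

set_option autoImplicit false
set_option linter.style.haveILetI false
set_option linter.unusedSectionVars false
set_option linter.unusedVariables false

open Cfsg

namespace Cfsg.Agent.Lib.H7.BG10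

open Cfsg.Agent.Lib.H16.BG
open Cfsg.Agent.Lib.H7.BG7
open Cfsg.Agent.Lib.H9 (oppAmb)

universe u
variable {G : Type u} [Group G] [Finite G]

/-- The rank three part of the Uniqueness Theorem, as a hypothesis. -/
def Uniq3 (G : Type u) [Group G] : Prop :=
  ∀ K : Subgroup G, K ≠ ⊤ → ¬ RankLE 2 K → InUniqueMaximal K

local notation:max "cj(" g ", " X ")" => Subgroup.map (MulEquiv.toMonoidHom (MulAut.conj g)) X

theorem card_lt_of_lt {X Y : Subgroup G} (h : X < Y) : Nat.card X < Nat.card Y := by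
  by_contra hc
  push Not at hc
  exact h.ne (Subgroup.eq_of_le_of_card_ge h.le hc)

theorem map_conj_le_iff {X Y : Subgroup G} (g : G) : cj(g, X) ≤ Y ↔ X ≤ cj(g⁻¹, Y) := by
  constructor
  · intro h
    have := Subgroup.map_mono (f := (MulAut.conj g⁻¹).toMonoidHom) h
    rwa [Cfsg.Agent.Lib.H10.map_conj_inv_map_conj] at this
  · intro h
    have := Subgroup.map_mono (f := (MulAut.conj g).toMonoidHom) h
    have h2 := Cfsg.Agent.Lib.H10.map_conj_inv_map_conj g⁻¹ Y
    rw [inv_inv] at h2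
    rwa [h2] at this

theorem map_conj_eq_self_of_mem_centralizer {X : Subgroup G} {c : G}
    (hc : c ∈ Subgroup.centralizer (X : Set G)) : cj(c, X) = X :=
  Subgroup.mem_normalizer_iff_map_conj_eq.1 (Subgroup.centralizer_le_normalizer _ hc)


theorem map_conj_eq_self_of_mem {H : Subgroup G} {m : G} (hm : m ∈ H) : cj(m, H) = H :=
  Subgroup.mem_normalizer_iff_map_conj_eq.1 (Subgroup.le_normalizer hm)

/-- a Sylow `p`-subgroup `X` of `G` with `N_G(X) ≤ M`: if `X ≤ gMg⁻¹` then `g ∈ M`. -/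
theorem mem_of_sylow_le_map_conj {p : ℕ} [Fact p.Prime] {M X : Subgroup G} (hX : SylIn p X ⊤)
    (hXM : X ≤ M) (hN : Subgroup.normalizer (X : Set G) ≤ M) {g : G} (hg : X ≤ cj(g, M)) : g ∈ M := by
  have hXs : SylIn p X M := hX.mono hXM le_top
  have h1 : cj(g⁻¹, X) ≤ M := by
    rw [map_conj_le_iff, inv_inv]; exact hg
  obtain ⟨m, hm, hle⟩ := hXs.exists_conj_le (hX.isPGroup.map _) h1
  have h2 : cj(m, cj(g⁻¹, X)) = X := by
    apply Subgroup.eq_of_le_of_card_ge hle
    rw [Cfsg.Agent.Lib.H10.card_map_conj, Cfsg.Agent.Lib.H10.card_map_conj]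
  rw [Cfsg.Agent.Lib.H10.map_conj_map_conj] at h2
  have h3 : m * g⁻¹ ∈ M := hN (Subgroup.mem_normalizer_iff_map_conj_eq.2 h2)
  have h4 : g⁻¹ ∈ M := by
    have := M.mul_mem (M.inv_mem hm) h3
    rwa [inv_mul_cancel_left] at this
  have := M.inv_mem h4
  rwa [inv_inv] at this

/-- a Sylow subgroup of `M` whose normalizer lies in `M` is a Sylow subgroup of `G`. -/
theorem sylIn_top_of_normalizer_le {p : ℕ} [Fact p.Prime] {M P : Subgroup G} (hP : SylIn p P M)
    (hN : Subgroup.normalizer (P : Set G) ≤ M) : SylIn p P ⊤ :=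
  hP.of_normalizer_le le_top (inf_le_right.trans hN)

/-- `O_{p'}(N_G(X))` centralizes the `p`-group `X`. -/
theorem core_normalizer_le_centralizer {p : ℕ} [Fact p.Prime] {X : Subgroup G} (hX : IsPGroup p X) :
    piCoreOf (primesNotDvd p) (Subgroup.normalizer (X : Set G)) ≤ Subgroup.centralizer (X : Set G) := by
  apply le_centralizer_of_inf_eq_bot
  · exact piCoreOf_le _ _
  · exact Subgroup.le_normalizer.trans (le_normalizer_piCoreOf _ _)
  · apply Disjoint.eq_bot; apply Subgroup.disjoint_of_coprime_natCard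
    obtain ⟨k, hk⟩ := IsPGroup.iff_card.1 hX
    rw [hk]
    exact Nat.Coprime.pow_right k (card_piCoreOf_primesNotDvd_coprime p _)

/-- **BG Lemma 10.1**, main induction: `C_G(X)` is transitive on the conjugates of `M` containing the
nontrivial `p`-subgroup `X`, for `p ∈ σ(M)`. -/
theorem conj_trans (hG : IsMinSimpleOddOrder G) (hU : Uniq3 G) (p : ℕ) [hp : Fact p.Prime] :
    ∀ n : ℕ, ∀ M P X : Subgroup G, IsCoatom M → SylIn p P M →
      Subgroup.normalizer (P : Set G) ≤ M → IsPGroup p X → X ≠ ⊥ → Nat.card P - Nat.card X = n →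
      X ≤ M → ∀ g : G, X ≤ cj(g, M) →
        ∃ c ∈ Subgroup.centralizer (X : Set G), cj(g, M) = cj(c, M) := by
  intro n
  induction n using Nat.strong_induction_on with
  | _ n ih =>
  intro M P X hM hP hNP hXp hX1 hn hXM g hXg
  have hPtop : SylIn p P ⊤ := sylIn_top_of_normalizer_le hP hNP
  have hcardle : Nat.card X ≤ Nat.card P := hPtop.card_le hXp le_top
  by_cases hfull : Nat.card X = Nat.card P
  · -- `X` is a Sylow subgroup of `G`
    have hXs : SylIn p X M := hP.of_card_ge hXp hXM hfull.ge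
    have hXtop : SylIn p X ⊤ := hPtop.of_card_ge hXp le_top hfull.ge
    obtain ⟨m, hm, hle⟩ := hP.exists_conj_le hXp hXM
    have h2 : cj(m, X) = P := by
      apply Subgroup.eq_of_le_of_card_ge hle
      rw [Cfsg.Agent.Lib.H10.card_map_conj, hfull]
    have hNX : Subgroup.normalizer (X : Set G) ≤ M := by
      have h3 : Subgroup.normalizer ((cj(m, X) : Subgroup G) : Set G) ≤ M := by rw [h2]; exact hNP
      rw [Cfsg.Agent.Lib.H10.normalizer_map_conj, map_conj_le_iff] at h3
      refine h3.trans (le_of_eq ?_)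
      exact map_conj_eq_self_of_mem (M.inv_mem hm)
    have hg : g ∈ M := mem_of_sylow_le_map_conj hXtop hXM hNX hXg
    refine ⟨1, Subgroup.one_mem _, ?_⟩
    rw [map_conj_eq_self_of_mem hg, Cfsg.Agent.Lib.H10.map_conj_one]
  · have hlt : Nat.card X < Nat.card P := lt_of_le_of_ne hcardle hfull
    set H := Subgroup.normalizer (X : Set G) with hH
    have hXtop : X ≠ ⊤ := by rintro rfl; exact hM.1 (top_le_iff.1 hXM)
    have hHtop : H ≠ ⊤ := normalizer_ne_top hG hX1 hXtop
    have hXH : X ≤ H := Subgroup.le_normalizer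
    have hCH : Subgroup.centralizer (X : Set G) ≤ H := Subgroup.centralizer_le_normalizer _
    -- Claim A
    have claimA : ∀ M' P' : Subgroup G, IsCoatom M' → SylIn p P' M' →
        Subgroup.normalizer (P' : Set G) ≤ M' → Nat.card P' = Nat.card P → X ≤ M' →
        ∀ R : Subgroup G, SylIn p R (H ⊓ M') → X ≤ R →
          Nat.card X < Nat.card R ∧ SylIn p R H := by
      intro M' P' hM' hP' hNP' hcard hXM' R hR hXR
      have hP'top : SylIn p P' ⊤ := sylIn_top_of_normalizer_le hP' hNP'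
      have hlt' : Nat.card X < Nat.card R := by
        obtain ⟨T, hT, hXT⟩ := SylIn.exists_ge hXp hXM'
        have hcT : Nat.card T = Nat.card P' := by rw [hT.card_eq, hP'.card_eq]
        have hXTlt : X < T := by
          refine lt_of_le_of_ne hXT ?_
          intro h; rw [h, hcT, hcard] at hlt; exact lt_irrefl _ hlt
        have h1 := Cfsg.Agent.Lib.H10.lt_inf_normalizer_of_lt hT.isPGroup hXTlt
        have h2 : T ⊓ Subgroup.normalizer (X : Set G) ≤ H ⊓ M' :=
          le_inf inf_le_right (inf_le_left.trans hT.le)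
        have h3 := hR.card_le (hT.isPGroup.to_le inf_le_left) h2
        exact (card_lt_of_lt h1).trans_le h3
      refine ⟨hlt', ?_⟩
      obtain ⟨T', hT', hRT'⟩ := SylIn.exists_ge hR.isPGroup (hR.le.trans inf_le_left)
      by_cases hne : R = T'
      · rw [hne]; exact hT'
      · exfalso
        have hRlt : R < T' := lt_of_le_of_ne hRT' hne
        obtain ⟨m, -, hm⟩ := hP'top.exists_conj_le hT'.isPGroup le_top
        have h1 : T' ≤ cj(m⁻¹, M') := by rw [← map_conj_le_iff]; exact hm.trans hP'.le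
        have hRM' : R ≤ M' := hR.le.trans inf_le_right
        have hRle : Nat.card R ≤ Nat.card P' := hP'top.card_le hR.isPGroup le_top
        have hR1 : R ≠ ⊥ := Cfsg.Agent.Lib.H16.BG.ne_bot_of_le_ne_bot hX1 hXR
        have hn' : Nat.card P' - Nat.card R < n := by rw [← hn]; omega
        obtain ⟨c, hc, hceq⟩ := ih _ hn' M' P' R hM' hP' hNP' hR.isPGroup hR1 rfl hRM' m⁻¹
          (hRT'.trans h1)
        have hcX : c ∈ Subgroup.centralizer (X : Set G) := centralizer_anti hXR hc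
        have hcH : c ∈ H := hCH hcX
        have h2 : cj(c⁻¹, T') ≤ M' := by
          rw [map_conj_le_iff, inv_inv, ← hceq]; exact h1
        have h3 : cj(c⁻¹, T') ≤ H := by
          have := Subgroup.map_mono (f := (MulAut.conj c⁻¹).toMonoidHom) hT'.le
          rwa [map_conj_eq_self_of_mem (H.inv_mem hcH)] at this
        have h4 := hR.card_le (hT'.isPGroup.map _) (le_inf h3 h2)
        rw [Cfsg.Agent.Lib.H10.card_map_conj] at h4
        exact absurd (card_lt_of_lt hRlt) (not_lt.2 h4)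
    set M₂ := cj(g, M) with hM₂
    have hM₂c : IsCoatom M₂ := isCoatom_map_conj hM g
    have hP₂ : SylIn p cj(g, P) M₂ := hP.map_conj g
    have hNP₂ : Subgroup.normalizer ((cj(g, P) : Subgroup G) : Set G) ≤ M₂ := by
      rw [Cfsg.Agent.Lib.H10.normalizer_map_conj]; exact Subgroup.map_mono hNP
    have hcP₂ : Nat.card cj(g, P) = Nat.card P := Cfsg.Agent.Lib.H10.card_map_conj g P
    obtain ⟨R₁, hR₁, hXR₁⟩ := SylIn.exists_ge hXp (le_inf hXH hXM)
    obtain ⟨R₂, hR₂, hXR₂⟩ := SylIn.exists_ge hXp (le_inf hXH hXg)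
    obtain ⟨hlt₁, hR₁H⟩ := claimA M P hM hP hNP rfl hXM R₁ hR₁ hXR₁
    obtain ⟨hlt₂, hR₂H⟩ := claimA M₂ _ hM₂c hP₂ hNP₂ hcP₂ hXg R₂ hR₂ hXR₂
    obtain ⟨h, hh, hle⟩ := hR₁H.exists_conj_le hR₂H.isPGroup hR₂H.le
    have hR₂₁ : cj(h, R₂) = R₁ := by
      apply Subgroup.eq_of_le_of_card_ge hle
      rw [Cfsg.Agent.Lib.H10.card_map_conj, hR₁H.card_eq, hR₂H.card_eq]
    have hR₁M : R₁ ≤ M := hR₁.le.trans inf_le_right
    have hR₂M₂ : R₂ ≤ M₂ := hR₂.le.trans inf_le_right
    have hR₁ne : R₁ ≠ ⊥ := Cfsg.Agent.Lib.H16.BG.ne_bot_of_le_ne_bot hX1 hXR₁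
    by_cases hr : PRankLE p 2 ↥R₁
    · -- `p`-length one
      have hrH : PRankLE p 2 ↥H := pRankLE_of_sylIn hR₁H hr
      have hsol : Group.IsSolvable H := solvable_of_ne_top hG hHtop
      have hle₁ : R₁ ≤ oppAmb p H := sylow_le_oppAmb_of_rank hG.1 hsol hR₁H hR₁ne hrH
      obtain ⟨k, hk, n', hn', hkn⟩ := frattini_opp hR₁H h⁻¹ (H.inv_mem hh)
      have hinf : R₁ ⊓ oppAmb p H = R₁ := inf_eq_left.2 hle₁
      rw [hinf] at hn'
      have hR₂eq : R₂ = cj(k, R₁) := by
        have h1 : R₂ = cj(h⁻¹, R₁) := by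
          rw [← hR₂₁, Cfsg.Agent.Lib.H10.map_conj_inv_map_conj]
        have h5 : cj(n', R₁) = R₁ := Subgroup.mem_normalizer_iff_map_conj_eq.1 hn'.2
        rw [h1, hkn, ← Cfsg.Agent.Lib.H10.map_conj_map_conj, h5]
      have hkX : k ∈ Subgroup.centralizer (X : Set G) := core_normalizer_le_centralizer hXp hk
      have h1 : R₁ ≤ cj(k⁻¹ * g, M) := by
        rw [← Cfsg.Agent.Lib.H10.map_conj_map_conj, ← map_conj_le_iff, ← hR₂eq]; exact hR₂M₂
      have hn'' : Nat.card P - Nat.card R₁ < n := by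
        have := hPtop.card_le hR₁H.isPGroup le_top
        rw [← hn]; omega
      obtain ⟨c', hc', hceq⟩ := ih _ hn'' M P R₁ hM hP hNP hR₁H.isPGroup hR₁ne rfl hR₁M
        (k⁻¹ * g) h1
      refine ⟨k * c', Subgroup.mul_mem _ hkX (centralizer_anti hXR₁ hc'), ?_⟩
      rw [← Cfsg.Agent.Lib.H10.map_conj_map_conj, ← hceq,
        Cfsg.Agent.Lib.H10.map_conj_map_conj, mul_inv_cancel_left]
    · -- rank at least three: uniqueness
      have hR₁top : R₁ ≠ ⊤ := by rintro rfl; exact hM.1 (top_le_iff.1 hR₁M)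
      have hnr : ¬ RankLE 2 ↥R₁ := fun h => hr (h p hp.out)
      have hU₁ := hU R₁ hR₁top hnr
      rw [inUniqueMaximal_iff] at hU₁
      obtain ⟨L, hL, hR₁L, huniq⟩ := hU₁
      have hLM : M = L := huniq M hM hR₁M
      obtain ⟨L', hL', hHL'⟩ := exists_coatom_ge hHtop
      have hL'M : L' = L := huniq L' hL' (hR₁H.le.trans hHL')
      have hHM : H ≤ M := by rw [hLM, ← hL'M]; exact hHL'
      have hU₂ : InUniqueMaximal R₂ := by
        have := inUniqueMaximal_map_conj (hU R₁ hR₁top hnr) h⁻¹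
        rwa [← hR₂₁, Cfsg.Agent.Lib.H10.map_conj_inv_map_conj] at this
      rw [inUniqueMaximal_iff] at hU₂
      obtain ⟨L₂, hL₂, hR₂L₂, huniq₂⟩ := hU₂
      have e1 : M = L₂ := huniq₂ M hM (hR₂H.le.trans hHM)
      have e2 : M₂ = L₂ := huniq₂ M₂ hM₂c hR₂M₂
      refine ⟨1, Subgroup.one_mem _, ?_⟩
      rw [Cfsg.Agent.Lib.H10.map_conj_one]
      exact e2.trans e1.symm


/-- **BG Lemma 10.1** (S1404) under the rank-three uniqueness hypothesis. -/
theorem sigma_fusion (hG : IsMinSimpleOddOrder G) (hU : Uniq3 G) {M : Subgroup G} (hM : IsCoatom M)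
    {p : ℕ} [Fact p.Prime] (hp : p ∈ sigma M) {X : Subgroup G} (hXp : IsPGroup p X) (hX1 : X ≠ ⊥)
    (hXM : X ≤ M) :
    (∀ g : G, cj(g, X) ≤ M → ∃ m ∈ M, ∃ c ∈ Subgroup.centralizer (X : Set G), g = m * c) ∧
      Subgroup.normalizer (X : Set G) =
        (M ⊓ Subgroup.normalizer (X : Set G)) ⊔ Subgroup.centralizer (X : Set G) := by
  obtain ⟨-, -, P₀, hNP⟩ := hp
  have hP : SylIn p ((P₀ : Subgroup M).map M.subtype) M := SylIn.of_sylow P₀
  have hMne : M ≠ ⊥ := Cfsg.Agent.Lib.H16.BG.ne_bot_of_le_ne_bot hX1 hXM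
  have hNM : Subgroup.normalizer (M : Set G) = M :=
    normalizer_eq_of_coatom hG hM le_rfl hMne Subgroup.le_normalizer
  have key : ∀ g : G, cj(g, X) ≤ M →
      ∃ m ∈ M, ∃ c ∈ Subgroup.centralizer (X : Set G), g = m * c := by
    intro g hg
    have h1 : X ≤ cj(g⁻¹, M) := (map_conj_le_iff g).1 hg
    obtain ⟨c, hc, hceq⟩ := conj_trans hG hU p _ M _ X hM hP hNP hXp hX1 rfl hXM g⁻¹ h1
    have h2 : cj(g * c, M) = M := by
      rw [← Cfsg.Agent.Lib.H10.map_conj_map_conj, ← hceq, Cfsg.Agent.Lib.H10.map_conj_map_conj,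
        mul_inv_cancel, Cfsg.Agent.Lib.H10.map_conj_one]
    have h3 : g * c ∈ M := by
      rw [← hNM]; exact Subgroup.mem_normalizer_iff_map_conj_eq.2 h2
    exact ⟨g * c, h3, c⁻¹, Subgroup.inv_mem _ hc, by group⟩
  refine ⟨key, le_antisymm ?_ (sup_le inf_le_right (Subgroup.centralizer_le_normalizer _))⟩
  intro h hh
  have h1 : cj(h, X) = X := Subgroup.mem_normalizer_iff_map_conj_eq.1 hh
  obtain ⟨m, hm, c, hc, rfl⟩ := key h (by rw [h1]; exact hXM)
  have hcN : c ∈ Subgroup.normalizer (X : Set G) := Subgroup.centralizer_le_normalizer _ hc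
  have hmN : m ∈ Subgroup.normalizer (X : Set G) := by
    have := Subgroup.mul_mem _ hh (Subgroup.inv_mem _ hcN)
    rwa [mul_inv_cancel_right] at this
  exact Subgroup.mul_mem_sup ⟨hm, hmN⟩ hc


/-- `Uniq3` from the Uniqueness Theorem in the form of S1403. -/
theorem uniq3_of_uniqueness
    (h : ∀ K : Subgroup G, K ≠ ⊤ → ¬ RankLE 1 K →
      (¬ RankLE 2 K ∨ ¬ RankLE 2 (Subgroup.centralizer (K : Set G))) → InUniqueMaximal K) :
    Uniq3 G := by
  intro K hK h3
  refine h K hK (fun h1 => h3 ?_) (Or.inl h3)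
  intro q hq A hAc hAe
  refine (h1 q hq A hAc hAe).trans ?_
  exact Nat.pow_le_pow_right hq.pos (by norm_num)

end Cfsg.Agent.Lib.H7.BG10
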