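import Mathlib
import Cfsg.Prelude
import Cfsg.Agent.Lib.H19.PiCore
import Cfsg.Agent.Lib.H19.Cores
import Cfsg.Agent.Lib.H16.RankQuot
import Cfsg.Agent.Lib.H16.RankTwoFitC
import Cfsg.Agent.Lib.H16.RankTwoC
import Cfsg.Agent.Lib.H1.NilpotentBasic
import Cfsg.Agent.Lib.H1.Fitting
import Cfsg.Agent.Lib.H1.QuotientBasic

/-! # Bender–Glauberman §10 (helper7): the abstract part of Theorem 10.2

`M` is a finite solvable group of odd order, `π` a set of primes such that `M` has `q`-rank at most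
`2` for all primes `q ∉ π` and, for `p ∈ π`, some Sylow `p`-subgroup of `M` lies in `M'`.  Then
`O_π(M)` is a Hall `π`-subgroup of `M`, `M / O_π(M)` has rank at most `2` and the image of `M'` in it
is nilpotent. -/

set_option autoImplicit false
set_option linter.style.haveILetI false
set_option linter.unusedSectionVars false
open Cfsg

namespace Cfsg.Agent.Lib.H7.BG10

open Cfsg.Agent.Lib.H19 (IsPiCard)

universe v

section Abstract

variable {M : Type v} [Group M] [Finite M]

theorem piCore_quotient_eq_bot (π : Set ℕ) : piCore π (M ⧸ piCore π M) = ⊥ := by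
  have hKn : ((piCore π (M ⧸ piCore π M)).comap (QuotientGroup.mk' (piCore π M))).Normal :=
    inferInstance
  have hK : (piCore π (M ⧸ piCore π M)).comap (QuotientGroup.mk' (piCore π M)) ≤ piCore π M := by
    apply Cfsg.Agent.Lib.H19.le_piCore hKn
    rw [Cfsg.Agent.Lib.H1.card_comap_mk']
    exact Cfsg.Agent.Lib.H19.isPiCard_mul (Cfsg.Agent.Lib.H19.piCore_isPiCard π)
      (Cfsg.Agent.Lib.H19.piCore_isPiCard π)
  rw [← Cfsg.Agent.Lib.H1.map_comap_mk' (piCore π M) (piCore π (M ⧸ piCore π M)), eq_bot_iff]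
  calc _ ≤ (piCore π M).map (QuotientGroup.mk' (piCore π M)) := Subgroup.map_mono hK
    _ = ⊥ := by rw [QuotientGroup.map_mk'_self]

theorem isPiCard_of_isPGroup' {H : Type v} [Group H] [Finite H] {q : ℕ} (hq : q.Prime) {π : Set ℕ}
    (hqπ : q ∈ π) {Q : Subgroup H} (hQ : IsPGroup q Q) : IsPiCard π (Nat.card Q) := by
  intro r hr hrQ
  haveI : Fact q.Prime := ⟨hq⟩
  obtain ⟨k, hk⟩ := IsPGroup.iff_card.1 hQ
  rw [hk] at hrQ
  have := (Nat.prime_dvd_prime_iff_eq hr hq).1 (hr.dvd_of_dvd_pow hrQ)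
  rw [this]; exact hqπ

theorem pCore_quotient_eq_bot {π : Set ℕ} {q : ℕ} (hq : q.Prime) (hqπ : q ∈ π) :
    pCore q (M ⧸ piCore π M) = ⊥ := by
  rw [eq_bot_iff, ← piCore_quotient_eq_bot π]
  exact Cfsg.Agent.Lib.H19.le_piCore (pCore_normal q _)
    (isPiCard_of_isPGroup' hq hqπ (Cfsg.Agent.Lib.H19.pCore_isPGroup q _))

theorem alpha_core_abstract (hs : Group.IsSolvable M) (hodd : Odd (Nat.card M)) (π : Set ℕ)
    (hrk : ∀ q : ℕ, q.Prime → q ∉ π → PRankLE q 2 M)
    (hsyl : ∀ p : ℕ, p.Prime → p ∈ π →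
      ∃ P : Subgroup M, IsPGroup p P ∧ ¬ p ∣ P.index ∧ P ≤ commutator M) :
    (∀ p : ℕ, p.Prime → p ∈ π → ¬ p ∣ (piCore π M).index) ∧ RankLE 2 (M ⧸ piCore π M) ∧
      Group.IsNilpotent ↥((commutator M).map (QuotientGroup.mk' (piCore π M))) := by
  classical
  have hsQ : Group.IsSolvable (M ⧸ piCore π M) := inferInstance
  have hcardQ : Nat.card (M ⧸ piCore π M) = (piCore π M).index := (Subgroup.index_eq_card _).symm
  have hoddQ : Odd (Nat.card (M ⧸ piCore π M)) := by
    rw [hcardQ]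
    exact Odd.of_dvd_nat hodd (Subgroup.index_dvd_card _)
  have hcop : ∀ q : ℕ, q.Prime → q ∉ π → (Nat.card (piCore π M)).Coprime q := by
    intro q hq hqπ
    apply Nat.Coprime.symm
    rw [Nat.Prime.coprime_iff_not_dvd hq]
    intro hdvd
    exact hqπ (Cfsg.Agent.Lib.H19.piCore_isPiCard π q hq hdvd)
  have hrkQ' : ∀ q : ℕ, q.Prime → q ∉ π → PRankLE q 2 (M ⧸ piCore π M) := by
    intro q hq hqπ
    haveI : Fact q.Prime := ⟨hq⟩
    exact Cfsg.Agent.Lib.H16.RankTwo.pRankLE_quotient_of_coprime _ (hcop q hq hqπ) (hrk q hq hqπ)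
  have hrkQ : ∀ q : ℕ, q.Prime → PRankLE q 2 ↥(pCore q (M ⧸ piCore π M)) := by
    intro q hq
    by_cases hqπ : q ∈ π
    · intro A _ _
      have h1 : Nat.card A ≤ Nat.card ↥(pCore q (M ⧸ piCore π M)) := Subgroup.card_le_card_group A
      have h2 : Nat.card ↥(pCore q (M ⧸ piCore π M)) = 1 := by
        rw [pCore_quotient_eq_bot hq hqπ, Subgroup.card_bot]
      rw [h2] at h1
      exact h1.trans (Nat.one_le_pow _ _ hq.pos)
    · exact Cfsg.Agent.Lib.H16.RankTwo.pRankLE_subgroup (hrkQ' q hq hqπ) _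
  have hcomm : commutator (M ⧸ piCore π M) ≤ fittingSubgroup (M ⧸ piCore π M) :=
    Cfsg.Agent.Lib.H16.RankTwo.commutator_le_fittingSubgroup hsQ hoddQ hrkQ
  have hmap : (commutator M).map (QuotientGroup.mk' (piCore π M)) ≤
      commutator (M ⧸ piCore π M) := by
    rw [commutator_def, commutator_def, Subgroup.map_commutator]
    exact Subgroup.commutator_mono le_top le_top
  have hFnil : Group.IsNilpotent ↥(fittingSubgroup (M ⧸ piCore π M)) :=
    Cfsg.Agent.Lib.H1.fittingSubgroup_isNilpotent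
  have hFn : (fittingSubgroup (M ⧸ piCore π M)).Normal :=
    Cfsg.Agent.Lib.H1.fittingSubgroup_normal _
  have hHall : ∀ p : ℕ, p.Prime → p ∈ π → ¬ p ∣ (piCore π M).index := by
    intro p hp hpπ hdvd
    obtain ⟨P, hPp, hPi, hPc⟩ := hsyl p hp hpπ
    have hle : P.map (QuotientGroup.mk' (piCore π M)) ≤ fittingSubgroup (M ⧸ piCore π M) :=
      ((Subgroup.map_mono hPc).trans hmap).trans hcomm
    have hsub1 : ((P.map (QuotientGroup.mk' (piCore π M))).subgroupOf
        (fittingSubgroup (M ⧸ piCore π M))).IsSubnormal :=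
      (Cfsg.Agent.Lib.H1.isNilpotent_iff_forall_isSubnormal.mp hFnil) _
    have hsub : (P.map (QuotientGroup.mk' (piCore π M))).IsSubnormal :=
      Subgroup.IsSubnormal.trans hle hsub1 hFn.isSubnormal
    have hPpi : P.map (QuotientGroup.mk' (piCore π M)) ≤ piCore π (M ⧸ piCore π M) :=
      Cfsg.Agent.Lib.H19.subnormal_le_piCore hsub
        (isPiCard_of_isPGroup' hp hpπ (hPp.map _))
    rw [piCore_quotient_eq_bot, le_bot_iff, Subgroup.map_eq_bot_iff, QuotientGroup.ker_mk'] at hPpi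
    exact hPi (dvd_trans hdvd (Subgroup.index_dvd_of_le hPpi))
  refine ⟨hHall, ?_, ?_⟩
  · intro q hq
    by_cases hqπ : q ∈ π
    · intro A _ hexp
      haveI : Fact q.Prime := ⟨hq⟩
      have hAp : IsPGroup q A := fun a => ⟨1, by
        rw [pow_one]
        apply Subtype.ext
        rw [Subgroup.coe_pow, Subgroup.coe_one]
        exact hexp a a.2⟩
      obtain ⟨k, hk⟩ := IsPGroup.iff_card.1 hAp
      rcases Nat.eq_zero_or_pos k with h0 | hpos
      · rw [hk, h0, pow_zero]
        exact Nat.one_le_pow _ _ hq.pos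
      · exfalso
        apply hHall q hq hqπ
        rw [← hcardQ]
        refine dvd_trans ?_ (Subgroup.card_subgroup_dvd_card A)
        rw [hk]
        exact dvd_pow_self q hpos.ne'
    · exact hrkQ' q hq hqπ
  · have hle : (commutator M).map (QuotientGroup.mk' (piCore π M)) ≤
        fittingSubgroup (M ⧸ piCore π M) := hmap.trans hcomm
    have hinj := Subgroup.inclusion_injective hle
    exact Group.nilpotent_of_mulEquiv (MonoidHom.ofInjective hinj).symm

end Abstract

end Cfsg.Agent.Lib.H7.BG10
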