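import Mathlib
import Cfsg.Agent.Lib.H7.BG10a
import Cfsg.Agent.Lib.H7.BG10b

/-! # Bender–Glauberman §10, Theorem 10.2 (helper7)

Under the explicit hypothesis `Uniq3` (rank three part of the Uniqueness Theorem). -/

set_option autoImplicit false
set_option linter.style.haveILetI false
set_option linter.unusedSectionVars false
set_option linter.unusedVariables false

open Cfsg

namespace Cfsg.Agent.Lib.H7.BG10

open Cfsg.Agent.Lib.H16.BG
open Cfsg.Agent.Lib.H7.BG7
open scoped commutatorElement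

universe u
variable {G : Type u} [Group G] [Finite G]

local notation:max "cj(" g ", " X ")" => Subgroup.map (MulEquiv.toMonoidHom (MulAut.conj g)) X

theorem pRankLE_bot' (p k : ℕ) (hp : p.Prime) {P : Subgroup G} (h : P = ⊥) : PRankLE p k ↥P := by
  intro A _ _
  have h1 : Nat.card A ≤ Nat.card ↥P := Subgroup.card_le_card_group A
  have h2 : Nat.card ↥P = 1 := by rw [h, Subgroup.card_bot]
  rw [h2] at h1
  exact h1.trans (Nat.one_le_pow _ _ hp.pos)

theorem dvd_card_of_ne_bot {p : ℕ} [Fact p.Prime] {P M : Subgroup G} (hP : IsPGroup p P) (hPM : P ≤ M)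
    (h1 : P ≠ ⊥) : p ∣ Nat.card M := by
  obtain ⟨k, hk⟩ := IsPGroup.iff_card.1 hP
  have hk0 : k ≠ 0 := by
    rintro rfl
    rw [pow_zero] at hk
    exact h1 (Subgroup.eq_bot_of_card_eq P hk)
  refine dvd_trans ?_ (Subgroup.card_dvd_of_le hPM)
  rw [hk]
  exact dvd_pow_self p hk0

/-- `α(M) ⊆ σ(M)`. -/
theorem alpha_subset_sigma (hG : IsMinSimpleOddOrder G) (hU : Uniq3 G) {M : Subgroup G}
    (hM : IsCoatom M) : alpha M ⊆ sigma M := by
  rintro p ⟨hp, hr⟩
  haveI : Fact p.Prime := ⟨hp⟩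
  obtain ⟨P, hP⟩ := SylIn.exists_sylIn p M
  have hrP : ¬ PRankLE p 2 ↥P := fun h => hr (pRankLE_of_sylIn hP h)
  have hP1 : P ≠ ⊥ := fun h => hrP (pRankLE_bot' p 2 hp h)
  have hPt : P ≠ ⊤ := by
    rintro rfl
    exact hM.1 (top_le_iff.1 hP.le)
  obtain ⟨M', ⟨hM'c, hPM'⟩, huniq⟩ := hU P hPt (fun h => hrP (h p hp))
  have hMM' : M = M' := huniq M ⟨hM, hP.le⟩
  have hN : Subgroup.normalizer (P : Set G) ≤ M :=
    normalizer_le_of_unique hG hP1 hM hP.le (fun H hH hPH => by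
      rw [hMM']; exact huniq H ⟨hH, hPH⟩)
  obtain ⟨S, hS⟩ := hP.exists_sylow
  refine ⟨hp, dvd_card_of_ne_bot hP.isPGroup hP.le hP1, S, ?_⟩
  rw [hS]; exact hN

theorem commutator_eq_top_of_minSimple (hG : IsMinSimpleOddOrder G) : commutator G = ⊤ := by
  haveI := hG.2.1
  rcases (inferInstance : (commutator G).Normal).eq_bot_or_eq_top with h | h
  · exfalso
    apply hG.2.2.1
    constructor
    constructor
    intro a b
    have h1 : ⁅a, b⁆ ∈ commutator G := by
      rw [commutator_def]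
      exact Subgroup.commutator_mem_commutator (Subgroup.mem_top a) (Subgroup.mem_top b)
    rw [h, Subgroup.mem_bot] at h1
    exact (commutatorElement_eq_one_iff_mul_comm.1 h1)
  · exact h

/-- For `p ∈ σ(M)`, a Sylow `p`-subgroup of `M` is a Sylow `p`-subgroup of `G` and lies in `M'`. -/
theorem sylow_le_commutator_of_sigma (hG : IsMinSimpleOddOrder G) (hU : Uniq3 G) {M : Subgroup G}
    (hM : IsCoatom M) {p : ℕ} [Fact p.Prime] (hp : p ∈ sigma M) :
    ∃ P : Subgroup G, SylIn p P M ∧ SylIn p P ⊤ ∧ P ≤ ⁅M, M⁆ := by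
  obtain ⟨_, hdvd, S, hS⟩ := hp
  have hPM : SylIn p ((S : Subgroup M).map M.subtype) M := SylIn.of_sylow S
  have hPtop := sylIn_top_of_normalizer_le hPM hS
  refine ⟨_, hPM, hPtop, ?_⟩
  obtain ⟨S', hS'⟩ := hPtop.exists_sylow_top
  have hfoc := Subgroup.commutator_inf_eq_focalSubgroup (P := S')
  rw [commutator_eq_top_of_minSimple hG, top_inf_eq, hS'] at hfoc
  have hp' : p ∈ sigma M := ⟨Fact.out, hdvd, S, hS⟩
  rw [hfoc]
  conv_lhs => rw [Subgroup.focalSubgroup_def]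
  rw [Subgroup.closure_le]
  rintro z ⟨hzP, x, hxP, g, rfl⟩
  rw [SetLike.mem_coe]
  have hxM : x ∈ M := hPM.le hxP
  by_cases hx1 : x = 1
  · rw [hx1, commutatorElement_one_left]; exact Subgroup.one_mem _
  have hXp : IsPGroup p (Subgroup.zpowers x) :=
    hPM.isPGroup.to_le (Subgroup.zpowers_le.2 hxP)
  have hX1 : Subgroup.zpowers x ≠ ⊥ := by
    rw [Ne, Subgroup.zpowers_eq_bot]; exact hx1
  have hXM : Subgroup.zpowers x ≤ M := Subgroup.zpowers_le.2 hxM
  have hgx : g * x * g⁻¹ ∈ (S : Subgroup M).map M.subtype := by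
    have h1 : x⁻¹ * ⁅x, g⁆ ∈ (S : Subgroup M).map M.subtype :=
      Subgroup.mul_mem _ (Subgroup.inv_mem _ hxP) hzP
    have h2 : x⁻¹ * ⁅x, g⁆ = (g * x * g⁻¹)⁻¹ := by
      rw [commutatorElement_def]; group
    rw [h2] at h1
    have := Subgroup.inv_mem _ h1
    rwa [inv_inv] at this
  have hcj : cj(g, Subgroup.zpowers x) ≤ M := by
    rw [Subgroup.map_le_iff_le_comap, Subgroup.zpowers_le, Subgroup.mem_comap]
    exact hPM.le hgx
  obtain ⟨m, hm, c, hc, rfl⟩ := (sigma_fusion hG hU hM hp' hXp hX1 hXM).1 g hcj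
  have hcx : x * c = c * x :=
    (Subgroup.mem_centralizer_iff.1 hc) x (Subgroup.mem_zpowers x)
  have h3 : ⁅x, m * c⁆ = ⁅x, m⁆ := by
    rw [commutatorElement_def, commutatorElement_def]
    have : c * x⁻¹ * c⁻¹ = x⁻¹ := by
      have h4 : c * x⁻¹ = x⁻¹ * c := by
        calc c * x⁻¹ = x⁻¹ * (x * c) * x⁻¹ := by group
          _ = x⁻¹ * (c * x) * x⁻¹ := by rw [hcx]
          _ = x⁻¹ * c := by group
      rw [h4]; group
    calc x * (m * c) * x⁻¹ * (m * c)⁻¹ = x * m * (c * x⁻¹ * c⁻¹) * m⁻¹ := by group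
      _ = x * m * x⁻¹ * m⁻¹ := by rw [this]
  rw [h3]
  exact Subgroup.commutator_mem_commutator hxM hm

/-- **BG Theorem 10.2** under `Uniq3`. -/
theorem alpha_core_hall (hG : IsMinSimpleOddOrder G) (hU : Uniq3 G) {M : Subgroup G}
    (hM : IsCoatom M) :
    IsPiHallOf (alpha M) (alphaCore M) M ∧ IsPiHall (alpha M) (alphaCore M) ∧
      alphaCore M ≤ sigmaCore M ∧ RankLE 2 (↥M ⧸ piCore (alpha M) ↥M) ∧
      Group.IsNilpotent ↥((commutator ↥M).map (QuotientGroup.mk' (piCore (alpha M) ↥M))) := by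
  have hs : Group.IsSolvable ↥M := solvable_of_coatom hG hM
  have hodd : Odd (Nat.card ↥M) := odd_card_subgroup hG M
  have hsub := alpha_subset_sigma hG hU hM
  have hrk : ∀ q : ℕ, q.Prime → q ∉ alpha M → PRankLE q 2 ↥M := by
    intro q hq hqα
    by_contra h
    exact hqα ⟨hq, h⟩
  have hkey : ∀ p : ℕ, p.Prime → p ∈ alpha M →
      ∃ P : Subgroup G, SylIn p P M ∧ SylIn p P ⊤ ∧ P ≤ ⁅M, M⁆ := by
    intro p hp hpα
    haveI : Fact p.Prime := ⟨hp⟩
    exact sylow_le_commutator_of_sigma hG hU hM (hsub hpα)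
  have hsyl : ∀ p : ℕ, p.Prime → p ∈ alpha M →
      ∃ P : Subgroup ↥M, IsPGroup p P ∧ ¬ p ∣ P.index ∧ P ≤ commutator ↥M := by
    intro p hp hpα
    obtain ⟨P, hPM, _, hPc⟩ := hkey p hp hpα
    haveI : Fact p.Prime := ⟨hp⟩
    refine ⟨P.subgroupOf M, hPM.isPGroup.comap_subtype, hPM.2.2, ?_⟩
    rw [← Subgroup.map_subtype_le_map_subtype, Subgroup.map_subgroupOf_eq_of_le hPM.le,
      Subgroup.map_subtype_commutator]
    exact hPc
  obtain ⟨hHall, hR, hNil⟩ := alpha_core_abstract hs hodd (alpha M) hrk hsyl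
  have hcard : Nat.card ↥(alphaCore M) = Nat.card ↥(piCore (alpha M) ↥M) :=
    Subgroup.card_map_of_injective M.subtype_injective
  have hpi : ∀ p : ℕ, p.Prime → p ∣ Nat.card ↥(alphaCore M) → p ∈ alpha M := by
    intro p hp hdvd
    rw [hcard] at hdvd
    exact Cfsg.Agent.Lib.H19.piCore_isPiCard (alpha M) p hp hdvd
  have hle : alphaCore M ≤ M := Subgroup.map_subtype_le _
  have hrel : (alphaCore M).relIndex M = (piCore (alpha M) ↥M).index := by
    unfold alphaCore Subgroup.relIndex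
    rw [Subgroup.subgroupOf, Subgroup.comap_map_eq_self_of_injective M.subtype_injective]
  refine ⟨⟨hle, hpi, ?_⟩, ⟨hpi, ?_⟩, ?_, hR, hNil⟩
  · intro p hp hpα
    rw [hrel]
    exact hHall p hp hpα
  · intro p hp hpα hdvd
    obtain ⟨P, hPM, hPtop, _⟩ := hkey p hp hpα
    rw [← Subgroup.relIndex_mul_index hle, hrel, Nat.Prime.dvd_mul hp] at hdvd
    rcases hdvd with h | h
    · exact hHall p hp hpα h
    · haveI : Fact p.Prime := ⟨hp⟩
      exact hPtop.top_not_dvd_index (dvd_trans h (Subgroup.index_dvd_of_le hPM.le))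
  · unfold alphaCore sigmaCore
    apply Subgroup.map_mono
    unfold piCore
    apply sSup_le_sSup
    rintro N ⟨hNn, hN⟩
    exact ⟨hNn, fun p hp hdvd => hsub (hN p hp hdvd)⟩

end Cfsg.Agent.Lib.H7.BG10
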