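import Mathlib
import Cfsg.Agent.Lib.H8.FrobFormula2
import Cfsg.Agent.Lib.H1.FpfNilpotent
import Cfsg.Agent.Lib.H1.QuadMul

/-!
# Frobenius groups acting on nilpotent groups (helper7)

Counting consequences of helper8's fixed point formula, and nilpotency of a group with a
fixed-point-free normalizing element of prime order.
-/

set_option autoImplicit false
set_option linter.unusedSectionVars false
set_option linter.style.haveILetI false

namespace Cfsg.Agent.Lib.H7.FrobNil

open Cfsg Subgroup

variable {X : Type*} [Group X] [Finite X]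

/-- If `K E` is a Frobenius-type group acting coprimely on the solvable group `M` and
`C_M(K) = 1` then `|M| = |C_M(E)| ^ |E|`. -/
theorem card_eq_pow {K E M : Subgroup X} (h : Cfsg.Agent.Lib.H8.FrobAct K E M)
    (hCK : M ⊓ centralizer (K : Set X) = ⊥) :
    Nat.card M = Nat.card ↥(M ⊓ centralizer (E : Set X)) ^ Nat.card E := by
  have hf := Cfsg.Agent.Lib.H8.frobFormula K E M h
  unfold Cfsg.Agent.Lib.H8.FrobFormula at hf
  have h1 : M ⊓ centralizer ((K ⊔ E : Subgroup X) : Set X) = ⊥ := by
    rw [eq_bot_iff, ← hCK]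
    exact inf_le_inf_left _ (centralizer_le (by exact_mod_cast (le_sup_left : K ≤ K ⊔ E)))
  rw [h1, hCK, card_bot, one_pow, one_mul, mul_one] at hf
  exact hf

/-- A subgroup normalized by an element `x` with `x ^ r = 1`, `r` prime, commuting with no
nontrivial element of it, is nilpotent (Thompson). -/
theorem isNilpotent_of_fpf {K : Subgroup X} {x : X} {r : ℕ} (hr : r.Prime)
    (hxK : x ∈ normalizer (K : Set X)) (hxr : x ^ r = 1)
    (hfpf : ∀ k ∈ K, x * k = k * x → k = 1) : Group.IsNilpotent K := by
  have hle : zpowers x ≤ normalizer (K : Set X) := zpowers_le.mpr hxK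
  let φ : ↥K ≃* ↥K := Cfsg.Agent.Lib.H1.QuadMul.act K (zpowers x) hle ⟨x, mem_zpowers x⟩
  have hφ : Cfsg.Agent.Lib.H1.Fpf φ := by
    intro k hk
    have h1 : (x : X) * k * x⁻¹ = k := by
      have := congrArg Subtype.val hk
      simpa [φ, Cfsg.Agent.Lib.H1.QuadMul.act_apply] using this
    have h2 : x * (k : X) = k * x := by
      calc x * (k : X) = (x * k * x⁻¹) * x := by group
        _ = k * x := by rw [h1]
    exact Subtype.ext (hfpf k k.2 h2)
  have hφr : φ ^ r = 1 := by
    have : (⟨x, mem_zpowers x⟩ : zpowers x) ^ r = 1 := Subtype.ext (by simpa using hxr)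
    simp only [φ]
    rw [← map_pow, this, map_one]
  exact Cfsg.Agent.Lib.H1.fpf_prime_nilpotent hr (Nat.card K) ↥K rfl φ hφ hφr

end Cfsg.Agent.Lib.H7.FrobNil
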