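import Mathlib
import Cfsg.Agent.Lib.H7.FrobNil
import Cfsg.Agent.Lib.H1.PGroupBasic
import Cfsg.Agent.Lib.H1.CoprimeAction
import Cfsg.Agent.Lib.H19.ModRepBC

/-!
# The Frattini quotient of a `q`-subgroup as a module (helper7)

For a `q`-subgroup `Q` of `X` and `Γ ≤ N_X(Q)`, the representation of `Γ` on the
`𝔽_q`-space `Q / Φ(Q)`.
-/

set_option autoImplicit false
set_option linter.unusedSectionVars false
set_option linter.style.haveILetI false

namespace Cfsg.Agent.Lib.H7.FrobNil

open Cfsg Subgroup Cfsg.Agent.Lib.H1.QuadMul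
open scoped commutatorElement

section quot

variable {Q : Type*} [Group Q] [Finite Q] {q : ℕ} [Fact q.Prime]

/-- the Frattini quotient of a `q`-group is elementary abelian -/
theorem isEA_frattiniQuot (hQ : IsPGroup q Q) : IsEA q (Q ⧸ frattini Q) where
  comm x y := by
    induction x using QuotientGroup.induction_on with
    | H a =>
    induction y using QuotientGroup.induction_on with
    | H b =>
    have h1 : ⁅a, b⁆ ∈ frattini Q :=
      Cfsg.Agent.Lib.H1.isPGroup_commutator_le_frattini hQ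
        (Subgroup.commutator_mem_commutator (Subgroup.mem_top a) (Subgroup.mem_top b))
    have h2 : ((⁅a, b⁆ : Q) : Q ⧸ frattini Q) = 1 := (QuotientGroup.eq_one_iff _).mpr h1
    rw [commutatorElement_def] at h2
    simp only [QuotientGroup.mk_mul, QuotientGroup.mk_inv] at h2
    calc (a : Q ⧸ frattini Q) * b = ((a : Q ⧸ frattini Q) * b * (a : Q ⧸ frattini Q)⁻¹ * (b : Q ⧸ frattini Q)⁻¹) * (b * a) := by group
      _ = b * a := by rw [h2, one_mul]
  exp v := by
    induction v using QuotientGroup.induction_on with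
    | H a =>
    rw [← QuotientGroup.mk_pow]
    exact (QuotientGroup.eq_one_iff _).mpr (Cfsg.Agent.Lib.H1.isPGroup_pow_mem_frattini hQ a)

theorem frattini_map_mulAut (e : MulAut Q) : (frattini Q).map e.toMonoidHom = frattini Q :=
  Subgroup.characteristic_iff_map_eq.1 inferInstance e

/-- The action of `Aut(Q)` on `Q / Φ(Q)`. -/
noncomputable def autFrat : MulAut Q →* MulAut (Q ⧸ frattini Q) where
  toFun e := QuotientGroup.congr (frattini Q) (frattini Q) e (frattini_map_mulAut e)
  map_one' := by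
    ext v
    induction v using QuotientGroup.induction_on with
    | H k => rfl
  map_mul' e₁ e₂ := by
    ext v
    induction v using QuotientGroup.induction_on with
    | H k => rfl

@[simp]
theorem autFrat_apply_mk (e : MulAut Q) (k : Q) :
    autFrat e (QuotientGroup.mk k) = QuotientGroup.mk (e k) := rfl

end quot

section rep

variable {X : Type*} [Group X] [Finite X] {q : ℕ} [Fact q.Prime]

/-- the representation of `Γ ≤ N(Q)` on `Q / Φ(Q)` -/
noncomputable def fratRep (Q Γ : Subgroup X) [IsEA q (↥Q ⧸ frattini ↥Q)]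
    (hΓ : Γ ≤ normalizer (Q : Set X)) :
    Representation (ZMod q) ↥Γ (EA q (↥Q ⧸ frattini ↥Q)) where
  toFun g := (mulAutToLin q (↥Q ⧸ frattini ↥Q) (autFrat (act Q Γ hΓ g))).toLinearMap
  map_one' := by rw [map_one, map_one, map_one]; rfl
  map_mul' g h := by rw [map_mul, map_mul, map_mul]; rfl

theorem fratRep_apply_mk (Q Γ : Subgroup X) [IsEA q (↥Q ⧸ frattini ↥Q)]
    (hΓ : Γ ≤ normalizer (Q : Set X)) (g : Γ) (v : Q) :
    fratRep (q := q) Q Γ hΓ g (EA.of q (QuotientGroup.mk v)) =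
      EA.of q (QuotientGroup.mk (act Q Γ hΓ g v)) := rfl

theorem exists_eq_of (Q : Subgroup X) [IsEA q (↥Q ⧸ frattini ↥Q)]
    (u : EA q (↥Q ⧸ frattini ↥Q)) : ∃ v : Q, u = EA.of q (QuotientGroup.mk v) := by
  obtain ⟨v, hv⟩ := QuotientGroup.mk_surjective u.val
  exact ⟨v, EA.ext (by rw [EA.val_of, hv])⟩

theorem of_mk_eq_iff (Q : Subgroup X) [IsEA q (↥Q ⧸ frattini ↥Q)] (v w : Q) :
    EA.of q (QuotientGroup.mk v : ↥Q ⧸ frattini ↥Q) = EA.of q (QuotientGroup.mk w) ↔
      v * w⁻¹ ∈ frattini ↥Q := by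
  rw [← QuotientGroup.eq_one_iff, QuotientGroup.mk_mul, QuotientGroup.mk_inv, mul_inv_eq_one]
  constructor
  · intro h
    have := congrArg EA.val h
    simpa using this
  · intro h
    exact congrArg (EA.of q) h

/-- `ρ(g) = 1` means that `g` acts trivially on `Q / Φ(Q)` -/
theorem commutator_mem_of_fratRep_eq_one (Q Γ : Subgroup X) [IsEA q (↥Q ⧸ frattini ↥Q)]
    (hΓ : Γ ≤ normalizer (Q : Set X)) (g : Γ) (hg : fratRep (q := q) Q Γ hΓ g = 1)
    (v : X) (hv : v ∈ Q) : (g : X) * v * (g : X)⁻¹ * v⁻¹ ∈ (frattini ↥Q).map Q.subtype := by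
  have h1 := congrArg (fun f : Module.End (ZMod q) (EA q (↥Q ⧸ frattini ↥Q)) =>
    f (EA.of q (QuotientGroup.mk ⟨v, hv⟩))) hg
  simp only [Module.End.one_apply] at h1
  rw [fratRep_apply_mk, of_mk_eq_iff] at h1
  exact ⟨_, h1, rfl⟩

end rep

end Cfsg.Agent.Lib.H7.FrobNil
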