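import Mathlib
import Cfsg.Agent.Lib.H7.BG10c
import Cfsg.Agent.Lib.H7.Coprime
import Cfsg.Agent.Lib.H1.CoprimeSylow
import Cfsg.Agent.Lib.H3.Hol4
import Cfsg.Agent.Lib.H16.Narrow
import Cfsg.Agent.Lib.H16.NarrowB
import Cfsg.Agent.Lib.H16.NarrowC
import Cfsg.Agent.Lib.H16.NarrowD

/-! # Bender–Glauberman §10, Lemma 10.3 (helper7)

Under the explicit hypothesis `Uniq3` (rank three part of the Uniqueness Theorem). -/

set_option autoImplicit false
set_option linter.style.haveILetI false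
set_option linter.unusedSectionVars false
set_option linter.unusedVariables false

open Cfsg

namespace Cfsg.Agent.Lib.H7.BG10

open Cfsg.Agent.Lib.H16.BG
open Cfsg.Agent.Lib.H7.BG7
open Cfsg.Agent.Lib.H1 (CoprimeAction IsSylowOf)
open scoped commutatorElement

universe u
variable {G : Type u} [Group G] [Finite G]

theorem ne_bot_of_not_rankLE_one {K : Subgroup G} (h : ¬ RankLE 1 ↥K) : K ≠ ⊥ := by
  intro hK
  apply h
  intro p hp
  exact pRankLE_bot' p 1 hp hK

theorem centralizer_ne_top_of_ne_bot (hG : IsMinSimpleOddOrder G) {K : Subgroup G} (hK : K ≠ ⊥) :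
    Subgroup.centralizer (K : Set G) ≠ ⊤ := by
  intro htop
  obtain ⟨b, hbK, hb1⟩ := (Subgroup.ne_bot_iff_exists_ne_one (H := K)).1 hK |>.imp
    (fun b hb => hb) |> fun ⟨b, hb⟩ => (⟨(b : G), b.2, fun h => hb (Subtype.ext h)⟩ :
      ∃ b : G, b ∈ K ∧ b ≠ 1)
  apply centralizer_singleton_ne_top hG hb1
  rw [eq_top_iff, ← htop]
  exact Subgroup.centralizer_le (by simpa using hbK)

/-- The Uniqueness Theorem in the form of BG Theorem 9.6, from its rank three part. -/
theorem uniq_of_uniq3 (hG : IsMinSimpleOddOrder G) (hU : Uniq3 G) {K : Subgroup G} (hK : K ≠ ⊤)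
    (h1 : ¬ RankLE 1 ↥K)
    (h2 : ¬ RankLE 2 ↥K ∨ ¬ RankLE 2 ↥(Subgroup.centralizer (K : Set G))) :
    InUniqueMaximal K := by
  rcases h2 with h2 | h2
  · exact hU K hK h2
  · have hL : InUniqueMaximal (Subgroup.centralizer (K : Set G)) :=
      hU _ (centralizer_ne_top_of_ne_bot hG (ne_bot_of_not_rankLE_one h1)) h2
    exact inUniqueMaximal_of_le_centralizer hG hL (le_centralizer_comm le_rfl) h1

/-- **BG Lemma 10.3** under `Uniq3`. -/
theorem centralizer_alpha_unique (hG : IsMinSimpleOddOrder G) (hU : Uniq3 G) {M : Subgroup G}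
    (hM : IsCoatom M) {X : Subgroup G} (hXM : X ≤ M)
    (hXα : ∀ p : ℕ, p.Prime → p ∣ Nat.card X → p ∉ alpha M)
    (hr : ¬ RankLE 1 ↥(alphaCore M ⊓ Subgroup.centralizer (X : Set G))) :
    InUniqueMaximal (M ⊓ Subgroup.centralizer (X : Set G)) := by
  classical
  have hgoal_ne : M ⊓ Subgroup.centralizer (X : Set G) ≠ ⊤ := by
    intro h
    exact hM.1 (top_le_iff.1 (h ▸ inf_le_left))
  unfold RankLE at hr
  push Not at hr
  obtain ⟨p, hp, hrp⟩ := hr
  haveI : Fact p.Prime := ⟨hp⟩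
  obtain ⟨A, hAD, hAe, hAc⟩ := exists_elemAb_of_not_pRankLE hp hrp
  rw [show (1 + 1 : ℕ) = 2 from rfl] at hAc
  have hAα : A ≤ alphaCore M := hAD.trans inf_le_left
  have hAX : A ≤ Subgroup.centralizer (X : Set G) := hAD.trans inf_le_right
  have hAp : IsPGroup p A := isPGroup_of_elemAb hAe
  have hαle : alphaCore M ≤ M := Subgroup.map_subtype_le _
  have hAM : A ≤ M := hAα.trans hαle
  have hple : p ≤ p ^ 2 := by
    calc p = p ^ 1 := (pow_one p).symm
      _ ≤ p ^ 2 := Nat.pow_le_pow_right hp.pos (by norm_num)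
  have hαcard : Cfsg.Agent.Lib.H19.IsPiCard (alpha M) (Nat.card ↥(alphaCore M)) :=
    piCoreOf_isPiCard (alpha M) M
  have hpα : p ∈ alpha M :=
    hαcard p hp (dvd_card_of_elemAb hp hAe hAα (hple.trans hAc))
  have hp2 : p ≠ 2 :=
    prime_ne_two_of_dvd_card hG (dvd_card_of_elemAb hp hAe hAM (hple.trans hAc))
  obtain ⟨hHallOf, -, -, -, -⟩ := alpha_core_hall hG hU hM
  -- the case where `A` itself is a uniqueness subgroup
  by_cases hCA : ¬ PRankLE p 2 ↥(Subgroup.centralizer (A : Set G))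
  · have hAt : A ≠ ⊤ := by
      rintro rfl
      exact hM.1 (top_le_iff.1 hAM)
    have hA1 : ¬ RankLE 1 ↥A := not_rankLE_one_of_elemAb le_rfl hAe hAc
    have hAU : InUniqueMaximal A :=
      uniq_of_uniq3 hG hU hAt hA1 (Or.inr (fun h => hCA (h p hp)))
    exact InUniqueMaximal.mono hAU (le_inf hAM hAX) hgoal_ne
  push Not at hCA
  -- `A` is a maximal elementary abelian subgroup
  have hAmax : ∀ B : Subgroup G, IsElementaryAbelian p B → A ≤ B → B = A := by
    intro B hB hAB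
    have hBC : B ≤ Subgroup.centralizer (A : Set G) := by
      intro b hb
      rw [Subgroup.mem_centralizer_iff]
      intro a ha
      exact congrArg Subtype.val (hB.1.is_comm.comm (⟨a, hAB ha⟩ : B) ⟨b, hb⟩)
    have hBle : Nat.card B ≤ p ^ 2 := by
      by_contra hlt
      push Not at hlt
      exact not_pRankLE_of_elemAb hBC hB hlt hCA
    exact (Subgroup.eq_of_le_of_card_ge hAB (hBle.trans hAc)).symm
  -- an `X`-invariant Sylow subgroup containing `A`
  have hXn : X ≤ Subgroup.normalizer ((alphaCore M : Subgroup G) : Set G) :=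
    hXM.trans (le_normalizer_piCoreOf (alpha M) M)
  have hcop : (Nat.card X).Coprime (Nat.card ↥(alphaCore M)) := by
    apply Nat.coprime_of_dvd
    intro k hk hkX hkα
    exact hXα k hk hkX (hαcard k hk hkα)
  have hMt : M ≠ ⊤ := hM.1
  have hact : CoprimeAction X (alphaCore M) :=
    ⟨hXn, hcop, Or.inl (solvable_of_le_ne_top hG hMt hXM)⟩
  have hXA : X ≤ Subgroup.normalizer (A : Set G) :=
    (le_centralizer_comm hAX).trans (Subgroup.centralizer_le_normalizer _)
  obtain ⟨P, hPs, hAP, hXP⟩ :=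
    Cfsg.Agent.Lib.H1.coprime_invariant_psubgroup_le_sylow hact hAα hAp hXA
  have hPp : IsPGroup p P := hPs.isPGroup
  have hPα : SylIn p P (alphaCore M) := by
    rw [← hPs.map_toSylow]; exact SylIn.of_sylow _
  have hPM : SylIn p P M := by
    refine ⟨hPα.le.trans hαle, hPp, ?_⟩
    rw [← Subgroup.relIndex_mul_relIndex P (alphaCore M) M hPα.le hαle, Nat.Prime.dvd_mul hp]
    rintro (h | h)
    · exact hPα.2.2 h
    · exact hHallOf.2.2 p hp hpα h
  have hP3 : ¬ PRankLE p 2 ↥P := fun h => hpα.2 (pRankLE_of_sylIn hPM h)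
  have hPnc : ¬ IsCyclic ↥P := fun h =>
    not_isCyclic_of_elemAb hp hAe hAc (isCyclic_of_le' hAP h)
  have hPt : P ≠ ⊤ := by
    rintro rfl
    exact hM.1 (top_le_iff.1 hPM.le)
  -- a rank three elementary abelian subgroup of `P`, and the normal subgroup `V`
  obtain ⟨A₀, hA₀P, hA₀e, hA₀c⟩ := exists_elemAb_of_not_pRankLE hp hP3
  rw [show (2 + 1 : ℕ) = 3 from rfl] at hA₀c
  have hA₀t : A₀ ≠ ⊤ := by
    rintro rfl
    exact hPt (top_le_iff.1 hA₀P)
  have hA₀3 : ¬ RankLE 2 ↥A₀ := by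
    intro h
    have hlt : p ^ 2 < Nat.card A₀ :=
      lt_of_lt_of_le (Nat.pow_lt_pow_right hp.one_lt (by norm_num)) hA₀c
    exact not_pRankLE_of_elemAb le_rfl hA₀e hlt (h p hp)
  have hA₀U : InUniqueMaximal A₀ := hU A₀ hA₀t hA₀3
  have hA₀cent : A₀ ≤ Subgroup.centralizer (A₀ : Set G) := by
    intro a ha
    rw [Subgroup.mem_centralizer_iff]
    intro b hb
    exact congrArg Subtype.val (hA₀e.1.is_comm.comm (⟨b, hb⟩ : A₀) ⟨a, ha⟩)
  obtain ⟨V, hVP, hPV, hVe, hVc, hVidx⟩ := exists_normal_sq_rel hp2 hPp hPnc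
  have hK1 : InUniqueMaximal (A₀ ⊓ Subgroup.centralizer (V : Set G) : Subgroup G) := by
    apply inUniqueMaximal_of_le_centralizer hG hA₀U
    · exact inf_le_left.trans hA₀cent
    · refine not_rankLE_one_of_elemAb (p := p)
        (B := A₀ ⊓ Subgroup.centralizer (V : Set G)) le_rfl ?_ ?_
      · exact isElementaryAbelian_of_le hA₀e inf_le_left
      · exact sq_le_card_inf (p := p) hA₀c (hVidx A₀ hA₀P)
  have hVU : InUniqueMaximal V := by
    apply inUniqueMaximal_of_le_centralizer hG hK1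
    · exact le_centralizer_comm inf_le_right
    · exact not_rankLE_one_of_elemAb le_rfl hVe (by rw [hVc])
  -- the characteristic subgroup `W = Ω₁(Z₂(P))`
  set W : Subgroup G := (Cfsg.Agent.Lib.H16.Narrow.omegaZ2 ↥P p).map P.subtype with hW
  have hWP : W ≤ P := Subgroup.map_subtype_le _
  have hNW : Subgroup.normalizer (P : Set G) ≤ Subgroup.normalizer (W : Set G) :=
    Cfsg.Agent.Lib.H3.Hol.normalizer_le_normalizer_map P _
  have hWexp : ∀ w ∈ W, w ^ p = 1 := by
    rintro _ ⟨w, hw, rfl⟩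
    have := Cfsg.Agent.Lib.H16.Narrow.pow_eq_one_of_mem_omegaZ2 (hp.odd_of_ne_two hp2) hw
    rw [← map_pow, this, map_one]
  have hVW : V ≤ W := by
    haveI hVn : (V.subgroupOf P).Normal :=
      (Subgroup.normal_subgroupOf_iff_le_normalizer hVP).2 hPV
    have hVc' : Nat.card ↥(V.subgroupOf P) = p ^ 2 := by
      rw [Cfsg.Agent.Lib.H1.card_subgroupOf_of_le hVP, hVc]
    have hPp' : IsPGroup p ↥P := hPp
    have h1 := Cfsg.Agent.Lib.H16.Narrow.normal_card_sq_le_upperCentralSeries_two hPp'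
      (V.subgroupOf P) hVc'
    intro v hv
    refine ⟨⟨v, hVP hv⟩, ?_, rfl⟩
    apply Subgroup.subset_closure
    refine ⟨h1 (Subgroup.mem_subgroupOf.2 hv), ?_⟩
    apply Subtype.ext
    rw [Subgroup.coe_pow, Subgroup.coe_one]
    exact hVe.2 v hv
  have hWt : W ≠ ⊤ := by
    intro h
    exact hPt (top_le_iff.1 (h ▸ hWP))
  have hWU : InUniqueMaximal W := InUniqueMaximal.mono hVU hVW hWt
  -- `X` centralizes `W`
  have hWC : W ⊓ Subgroup.centralizer (A : Set G) ≤ A := by
    intro w hw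
    apply Cfsg.Agent.Lib.H16.Narrow.mem_of_max A hAe hAmax (hWexp w hw.1)
    intro a ha
    exact (Subgroup.mem_centralizer_iff.1 hw.2 a ha).symm
  have hXW : ⁅X, W⁆ = ⊥ := by
    apply Cfsg.Agent.Lib.H7.thompson_AxB' p (hPp.to_le hWP) hAp
    · exact Nat.Coprime.coprime_dvd_right (dvd_card_of_elemAb hp hAe hAα (hple.trans hAc)) hcop
    · exact commutator_eq_bot_of_le_centralizer (le_centralizer_comm hAX)
    · exact hXP.trans hNW
    · exact (hAP.trans Subgroup.le_normalizer).trans hNW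
    · exact commutator_eq_bot_of_le_centralizer (le_centralizer_comm (hWC.trans hAX))
  have hWX : W ≤ Subgroup.centralizer (X : Set G) :=
    le_centralizer_comm (le_centralizer_of_commutator_eq_bot hXW)
  exact InUniqueMaximal.mono hWU (le_inf (hWP.trans hPM.le) hWX) hgoal_ne

end Cfsg.Agent.Lib.H7.BG10
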