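import Mathlib
import Cfsg.Agent.Lib.H7.BG10d
import Cfsg.Agent.Lib.H15.RankOne
import Cfsg.Agent.Lib.H20.SOC1
import Cfsg.Agent.Lib.H16.NarrowMaxSq

/-! # Bender–Glauberman §10, Lemmas 10.4, 10.5, 10.6 (helper7)

Under the explicit hypothesis `Uniq3` (rank three part of the Uniqueness Theorem). -/

set_option autoImplicit false
set_option linter.style.haveILetI false
set_option linter.unusedSectionVars false
set_option linter.unusedVariables false

open Cfsg

namespace Cfsg.Agent.Lib.H7.BG10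

open Cfsg.Agent.Lib.H16.BG
open Cfsg.Agent.Lib.H7.BG7
open scoped commutatorElement

universe u
variable {G : Type u} [Group G] [Finite G]

local notation:max "cj(" g ", " X ")" => Subgroup.map (MulEquiv.toMonoidHom (MulAut.conj g)) X

omit [Finite G] in
theorem mem_center_map_iff {M : Subgroup G} (P : Subgroup ↥M) {x : G} :
    x ∈ ((Subgroup.center ↥P).map P.subtype).map M.subtype ↔
      x ∈ P.map M.subtype ∧ ∀ y ∈ P.map M.subtype, y * x = x * y := by
  constructor
  · rintro ⟨_, ⟨z, hz, rfl⟩, rfl⟩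
    refine ⟨⟨(z : ↥M), z.2, rfl⟩, ?_⟩
    rintro _ ⟨y, hy, rfl⟩
    have h1 := Subgroup.mem_center_iff.1 hz ⟨y, hy⟩
    have h2 := congrArg (fun t : ↥P => (((t : ↥M)) : G)) h1
    exact h2
  · rintro ⟨⟨m, hm, rfl⟩, hc⟩
    refine ⟨m, ⟨⟨m, hm⟩, ?_, rfl⟩, rfl⟩
    rw [SetLike.mem_coe, Subgroup.mem_center_iff]
    rintro ⟨y, hy⟩
    apply Subtype.ext
    apply Subtype.ext
    exact hc (y : G) ⟨y, hy, rfl⟩

omit [Finite G] in
theorem centralizer_zpowers_eq_singleton (x : G) :
    Subgroup.centralizer ((Subgroup.zpowers x : Subgroup G) : Set G) =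
      Subgroup.centralizer ({x} : Set G) := by
  apply le_antisymm
  · exact Subgroup.centralizer_le (by simp)
  · intro g hg
    rw [Subgroup.mem_centralizer_singleton_iff] at hg
    rw [Subgroup.mem_centralizer_iff]
    intro h hh
    obtain ⟨k, rfl⟩ := Subgroup.mem_zpowers_iff.1 hh
    have hc : Commute x g := hg.symm
    exact (hc.zpow_left k).eq

/-- If `C_{M_α}(x)` is not a `Z`-group, for `x ∈ M` of prime order `p ∉ σ(M)`, then `M` is the unique
maximal subgroup containing `C_G(x)`. -/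
theorem centralizer_le_of_not_isZGroup (hG : IsMinSimpleOddOrder G) (hU : Uniq3 G) {M : Subgroup G}
    (hM : IsCoatom M) {p : ℕ} [Fact p.Prime] (hp : p ∉ sigma M) {x : G} (hxM : x ∈ M)
    (hxo : orderOf x = p)
    (hnz : ¬ IsZGroup ↥(alphaCore M ⊓ Subgroup.centralizer ({x} : Set G))) :
    Subgroup.centralizer ({x} : Set G) ≤ M ∧
      ∀ L : Subgroup G, IsCoatom L → Subgroup.centralizer ({x} : Set G) ≤ L → L = M := by
  have hpp : p.Prime := Fact.out
  have hx1 : x ≠ 1 := by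
    rintro rfl
    rw [orderOf_one] at hxo
    exact hpp.one_lt.ne hxo
  set D := alphaCore M ⊓ Subgroup.centralizer ({x} : Set G) with hD
  rw [isZGroup_iff] at hnz
  push Not at hnz
  obtain ⟨q, hq, Q, hQnc⟩ := hnz
  haveI : Fact q.Prime := ⟨hq⟩
  set B : Subgroup G := (Q : Subgroup ↥D).map D.subtype with hB
  have hBD : B ≤ D := Subgroup.map_subtype_le _
  have hBq : IsPGroup q B := Q.2.map _
  have hBnc : ¬ IsCyclic ↥B := by
    intro hc
    apply hQnc
    have e := (Q : Subgroup ↥D).equivMapOfInjective D.subtype D.subtype_injective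
    haveI := hc
    exact isCyclic_of_surjective e.symm e.symm.surjective
  have hq2 : q ≠ 2 := by
    rintro rfl
    apply hBnc
    obtain ⟨k, hk⟩ := IsPGroup.iff_card.1 hBq
    have hodd : Odd (Nat.card ↥B) := odd_card_subgroup hG B
    have hk0 : k = 0 := by
      by_contra hk0
      rw [hk] at hodd
      have : Even (2 ^ k) := (Nat.even_pow' hk0).2 even_two
      exact (Nat.not_even_iff_odd.2 hodd) this
    rw [hk0, pow_zero] at hk
    have hBbot : B = ⊥ := Subgroup.eq_bot_of_card_eq B hk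
    rw [hBbot]
    exact isCyclic_of_subsingleton
  have hrB : ¬ RankLE 1 ↥B := not_rankLE_one_of_not_isCyclic hq2 hBq hBnc
  have hrD : ¬ RankLE 1 ↥D := fun h => hrB (fun r hr => pRankLE_of_le hBD (h r hr))
  have hXM : Subgroup.zpowers x ≤ M := Subgroup.zpowers_le.2 hxM
  have hsub := alpha_subset_sigma hG hU hM
  have hXα : ∀ r : ℕ, r.Prime → r ∣ Nat.card ↥(Subgroup.zpowers x) → r ∉ alpha M := by
    intro r hr hdvd hrα
    rw [Nat.card_zpowers, hxo] at hdvd
    have : r = p := (Nat.prime_dvd_prime_iff_eq hr hpp).1 hdvd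
    exact hp (this ▸ hsub hrα)
  have hCU := centralizer_alpha_unique hG hU hM hXM hXα
    (by rw [centralizer_zpowers_eq_singleton]; exact hrD)
  rw [centralizer_zpowers_eq_singleton] at hCU
  obtain ⟨M', ⟨hM'c, hM'le⟩, huniq⟩ := hCU
  have hMM' : M = M' := huniq M ⟨hM, inf_le_left⟩
  have hkey : ∀ L : Subgroup G, IsCoatom L → Subgroup.centralizer ({x} : Set G) ≤ L → L = M := by
    intro L hL hCL
    have hle : M ⊓ Subgroup.centralizer ({x} : Set G) ≤ L := inf_le_right.trans hCL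
    rw [hMM']
    exact huniq L ⟨hL, hle⟩
  obtain ⟨L, hL, hCL⟩ := exists_coatom_ge (centralizer_singleton_ne_top hG hx1)
  have hLM : L = M := hkey L hL hCL
  exact ⟨hLM ▸ hCL, hkey⟩

/-- **BG Lemma 10.4** under `Uniq3`. -/
theorem exists_central_zgroup (hG : IsMinSimpleOddOrder G) (hU : Uniq3 G) {M : Subgroup G}
    (hM : IsCoatom M) {p : ℕ} [Fact p.Prime] (hpM : p ∣ Nat.card M) (hp : p ∉ sigma M)
    (P : Sylow p M) :
    ∃ x : G, x ∈ ((Subgroup.center ↥(P : Subgroup M)).map (P : Subgroup M).subtype).map M.subtype ∧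
      orderOf x = p ∧
      IsZGroup ↥(alphaCore M ⊓ Subgroup.centralizer ({x} : Set G)) ∧
      ¬ (Subgroup.centralizer ({x} : Set G) ≤ M ∧
        ∀ L : Subgroup G, IsCoatom L → Subgroup.centralizer ({x} : Set G) ≤ L → L = M) := by
  have hpp : p.Prime := Fact.out
  set P' : Subgroup G := (P : Subgroup M).map M.subtype with hP'def
  have hP' : SylIn p P' M := SylIn.of_sylow P
  have hP'1 : P' ≠ ⊥ := hP'.ne_bot hpM
  have hN : ¬ Subgroup.normalizer (P' : Set G) ≤ M := fun h => hp ⟨hpp, hpM, P, h⟩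
  obtain ⟨g, hgN, hgM⟩ := SetLike.not_le_iff_exists.1 hN
  obtain ⟨z, hzP, hzo, hzc⟩ := Cfsg.Agent.Lib.H15.exists_central_orderOf_eq_prime hP'.isPGroup hP'1
  by_contra hne
  push Not at hne
  have hall : ∀ x : G,
      x ∈ ((Subgroup.center ↥(P : Subgroup M)).map (P : Subgroup M).subtype).map M.subtype →
      orderOf x = p → (Subgroup.centralizer ({x} : Set G) ≤ M ∧
        ∀ L : Subgroup G, IsCoatom L → Subgroup.centralizer ({x} : Set G) ≤ L → L = M) := by
    intro x hx hxo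
    by_cases hz : IsZGroup ↥(alphaCore M ⊓ Subgroup.centralizer ({x} : Set G))
    · exact hne x hx hxo hz
    · have hxM : x ∈ M := hP'.le ((mem_center_map_iff (P : Subgroup M)).1 hx).1
      exact centralizer_le_of_not_isZGroup hG hU hM hp hxM hxo hz
  have hzZ : z ∈ ((Subgroup.center ↥(P : Subgroup M)).map (P : Subgroup M).subtype).map M.subtype :=
    (mem_center_map_iff (P : Subgroup M)).2 ⟨hzP, hzc⟩
  have hgN' := Subgroup.mem_normalizer_iff.1 hgN
  have hgN'' : ∀ y : G, y ∈ P' → g⁻¹ * y * g ∈ P' := by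
    intro y hy
    rw [hgN' (g⁻¹ * y * g)]
    have : g * (g⁻¹ * y * g) * g⁻¹ = y := by group
    rw [this]; exact hy
  have hz'Z : g * z * g⁻¹ ∈
      ((Subgroup.center ↥(P : Subgroup M)).map (P : Subgroup M).subtype).map M.subtype := by
    refine (mem_center_map_iff (P : Subgroup M)).2 ⟨(hgN' z).1 hzP, ?_⟩
    intro y hy
    have h1 := hzc (g⁻¹ * y * g) (hgN'' y hy)
    calc y * (g * z * g⁻¹) = g * ((g⁻¹ * y * g) * z) * g⁻¹ := by group
      _ = g * (z * (g⁻¹ * y * g)) * g⁻¹ := by rw [h1]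
      _ = g * z * g⁻¹ * y := by group
  have hz'o : orderOf (g * z * g⁻¹) = p := by
    have : g * z * g⁻¹ = MulAut.conj g z := (MulAut.conj_apply g z).symm
    rw [this, MulEquiv.orderOf_eq, hzo]
  have h1 := hall z hzZ hzo
  have h2 := hall (g * z * g⁻¹) hz'Z hz'o
  have hcoatom : IsCoatom cj(g, M) := isCoatom_map_conj hM g
  have hle : Subgroup.centralizer ({g * z * g⁻¹} : Set G) ≤ cj(g, M) := by
    intro y hy
    rw [Subgroup.mem_centralizer_singleton_iff] at hy
    have hy' : g⁻¹ * y * g ∈ Subgroup.centralizer ({z} : Set G) := by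
      rw [Subgroup.mem_centralizer_singleton_iff]
      calc g⁻¹ * y * g * z = g⁻¹ * (y * (g * z * g⁻¹)) * g := by group
        _ = g⁻¹ * ((g * z * g⁻¹) * y) * g := by rw [hy]
        _ = z * (g⁻¹ * y * g) := by group
    refine ⟨g⁻¹ * y * g, h1.1 hy', ?_⟩
    show g * (g⁻¹ * y * g) * g⁻¹ = y
    group
  have heq : cj(g, M) = M := h2.2 _ hcoatom hle
  have hgNM : g ∈ Subgroup.normalizer (M : Set G) :=
    Subgroup.mem_normalizer_iff_map_conj_eq.2 heq
  have hM1 : M ≠ ⊥ := by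
    rintro rfl
    rw [Subgroup.card_bot] at hpM
    exact hpp.one_lt.ne' (Nat.dvd_one.1 hpM)
  rw [normalizer_eq_of_coatom hG hM le_rfl hM1 Subgroup.le_normalizer] at hgNM
  exact hgM hgNM

/-- **BG Lemma 10.5** under `Uniq3`. -/
theorem rank_two_not_ideal (hG : IsMinSimpleOddOrder G) (hU : Uniq3 G) {M : Subgroup G}
    (hM : IsCoatom M) {p : ℕ} [Fact p.Prime] (hr2 : PRankLE p 2 ↥M) (hr1 : ¬ PRankLE p 1 ↥M) :
    ¬ IsIdealPrime p G ∧ ∀ A : Subgroup G, A ≤ M → IsElementaryAbelian p A → Nat.card A = p ^ 2 →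
      ∀ B : Subgroup G, IsElementaryAbelian p B → A ≤ B → B = A := by
  have hpp : p.Prime := Fact.out
  have hmax : ∀ A : Subgroup G, A ≤ M → IsElementaryAbelian p A → Nat.card A = p ^ 2 →
      ∀ B : Subgroup G, IsElementaryAbelian p B → A ≤ B → B = A := by
    intro A hAM hAe hAc B hBe hAB
    by_contra hne
    have hlt : A < B := lt_of_le_of_ne hAB (Ne.symm hne)
    have hBc : p ^ 2 < Nat.card B := hAc ▸ card_lt_of_lt hlt
    have hBC : B ≤ Subgroup.centralizer (A : Set G) := by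
      intro b hb
      rw [Subgroup.mem_centralizer_iff]
      intro a ha
      exact congrArg Subtype.val (hBe.1.is_comm.comm (⟨a, hAB ha⟩ : B) ⟨b, hb⟩)
    have hCA : ¬ PRankLE p 2 ↥(Subgroup.centralizer (A : Set G)) :=
      not_pRankLE_of_elemAb hBC hBe hBc
    have hAt : A ≠ ⊤ := by
      rintro rfl
      exact hM.1 (top_le_iff.1 hAM)
    have hA1 : ¬ RankLE 1 ↥A := not_rankLE_one_of_elemAb le_rfl hAe (by rw [hAc])
    have hAU : InUniqueMaximal A :=
      uniq_of_uniq3 hG hU hAt hA1 (Or.inr (fun h => hCA (h p hpp)))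
    obtain ⟨M', ⟨hM'c, hM'le⟩, huniq⟩ := hAU
    have hMM' : M = M' := huniq M ⟨hM, hAM⟩
    obtain ⟨L, hL, hCL⟩ := exists_coatom_ge
      (centralizer_ne_top_of_ne_bot hG (ne_bot_of_not_rankLE_one hA1))
    have hAL : A ≤ L := by
      refine le_trans ?_ hCL
      intro a ha
      rw [Subgroup.mem_centralizer_iff]
      intro a' ha'
      exact congrArg Subtype.val (hAe.1.is_comm.comm (⟨a', ha'⟩ : A) ⟨a, ha⟩)
    have hLM : L = M := by rw [hMM']; exact huniq L ⟨hL, hAL⟩
    have hBM : B ≤ M := hLM ▸ (hBC.trans hCL)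
    exact not_pRankLE_of_elemAb hBM hBe hBc hr2
  refine ⟨?_, hmax⟩
  rintro ⟨-, -, hideal⟩
  obtain ⟨A, hAM, hAe, hAc⟩ := exists_elemAb_of_not_pRankLE hpp hr1
  rw [show (1 + 1 : ℕ) = 2 from rfl] at hAc
  have hAc' : Nat.card A = p ^ 2 := by
    apply le_antisymm _ hAc
    by_contra hlt
    push Not at hlt
    exact not_pRankLE_of_elemAb hAM hAe hlt hr2
  obtain ⟨S, hS⟩ := (isPGroup_of_elemAb hAe).exists_le_sylow
  obtain ⟨B, hBS, hBe, hAB⟩ := hideal S A hS hAe hAc'
  exact hAB.ne (hmax A hAM hAe hAc' B hBe hAB.le).symm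

theorem pRankLE_of_isPGroup_ne {p r k : ℕ} [Fact p.Prime] (hr : r.Prime) (hrp : r ≠ p)
    {P : Subgroup G} (hP : IsPGroup p P) : PRankLE r k ↥P := by
  have hpp : p.Prime := Fact.out
  intro A _ hexp
  have hA : A = ⊥ := by
    rw [eq_bot_iff]
    intro a ha
    rw [Subgroup.mem_bot]
    obtain ⟨j, hj⟩ := hP a
    have h1 : orderOf a ∣ r := orderOf_dvd_of_pow_eq_one (hexp a ha)
    have h2 : orderOf a ∣ p ^ j := orderOf_dvd_of_pow_eq_one hj
    have hcop : (r).Coprime (p ^ j) :=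
      Nat.Coprime.pow_right j ((Nat.coprime_primes hr hpp).2 hrp)
    have : orderOf a = 1 := Nat.eq_one_of_dvd_coprimes hcop h1 h2
    exact orderOf_eq_one_iff.1 this
  rw [hA, Subgroup.card_bot]
  exact Nat.one_le_pow _ _ hr.pos

/-- **BG Lemma 10.6** under `Uniq3`. -/
theorem rank_two_of_normalizer_le (hG : IsMinSimpleOddOrder G) (hU : Uniq3 G) {M : Subgroup G}
    (hM : IsCoatom M) {p : ℕ} [Fact p.Prime] (hp : p ∉ sigma M) {X : Subgroup G}
    (hX : Nat.card X = p) (hNX : Subgroup.normalizer (X : Set G) ≤ M) :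
    (PRankLE p 2 ↥M ∧ ¬ PRankLE p 1 ↥M) ∧ ¬ IsIdealPrime p G ∧
      ∃ A : Subgroup G, IsElementaryAbelian p A ∧ Nat.card A = p ^ 2 ∧ X ≤ A := by
  have hpp : p.Prime := Fact.out
  have hXM : X ≤ M := Subgroup.le_normalizer.trans hNX
  have hXp : IsPGroup p X := IsPGroup.of_card (n := 1) (by rw [hX, pow_one])
  have hX1 : X ≠ ⊥ := by
    rintro rfl
    rw [Subgroup.card_bot] at hX
    exact hpp.one_lt.ne hX
  have hpM : p ∣ Nat.card M := dvd_card_of_ne_bot hXp hXM hX1
  have hp2 : p ≠ 2 := prime_ne_two_of_dvd_card hG hpM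
  have hsub := alpha_subset_sigma hG hU hM
  have hr2 : PRankLE p 2 ↥M := by
    by_contra h
    exact hp (hsub ⟨hpp, h⟩)
  obtain ⟨P, hP, hXP⟩ := SylIn.exists_ge hXp hXM
  -- a subgroup of order `p` of `C_P(X)` different from `X`
  have hr1 : ¬ PRankLE p 1 ↥M := by
    intro hr1
    have hPc : IsCyclic ↥P := by
      by_contra hnc
      apply not_rankLE_one_of_not_isCyclic hp2 hP.isPGroup hnc
      intro r hr
      by_cases hrp : r = p
      · subst hrp
        exact pRankLE_of_le hP.le hr1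
      · exact pRankLE_of_isPGroup_ne hr hrp hP.isPGroup
    have hNP : Subgroup.normalizer (P : Set G) ≤ Subgroup.normalizer (X : Set G) := by
      intro g hg
      rw [Subgroup.mem_normalizer_iff_map_conj_eq]
      have hgP : cj(g, P) = P := Subgroup.mem_normalizer_iff_map_conj_eq.1 hg
      have hle : cj(g, X) ≤ P := hgP ▸ Subgroup.map_mono hXP
      have hcard : Nat.card ↥(cj(g, X)) = Nat.card ↥X := Cfsg.Agent.Lib.H10.card_map_conj g X
      have h1 := Cfsg.Agent.Lib.H20.SOC.eq_of_card_eq_of_isCyclic (C := ↥P)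
        ((cj(g, X)).subgroupOf P) (X.subgroupOf P)
        (by rw [Cfsg.Agent.Lib.H1.card_subgroupOf_of_le hle,
          Cfsg.Agent.Lib.H1.card_subgroupOf_of_le hXP, hcard])
      have h2 := congrArg (Subgroup.map P.subtype) h1
      rwa [Subgroup.map_subgroupOf_eq_of_le hle, Subgroup.map_subgroupOf_eq_of_le hXP] at h2
    obtain ⟨S, hS⟩ := hP.exists_sylow
    apply hp
    refine ⟨hpp, hpM, S, ?_⟩
    rw [hS]
    exact hNP.trans hNX
  refine ⟨⟨hr2, hr1⟩, (rank_two_not_ideal hG hU hM hr2 hr1).1, ?_⟩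
  -- `X` lies in an elementary abelian subgroup of order `p ^ 2`
  obtain ⟨x, hx⟩ : ∃ x : G, Subgroup.zpowers x = X := by
    haveI : Fact (Nat.card ↥X).Prime := ⟨hX ▸ hpp⟩
    obtain ⟨g, hg⟩ := (isCyclic_of_prime_card (α := ↥X) rfl).exists_generator
    refine ⟨(g : G), ?_⟩
    apply le_antisymm
    · exact Subgroup.zpowers_le.2 g.2
    · intro y hy
      obtain ⟨k, hk⟩ := Subgroup.mem_zpowers_iff.1 (hg ⟨y, hy⟩)
      refine Subgroup.mem_zpowers_iff.2 ⟨k, ?_⟩
      have := congrArg Subtype.val hk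
      simpa using this
  have hxX : x ∈ X := hx ▸ Subgroup.mem_zpowers x
  have hxo : orderOf x = p := by rw [← Nat.card_zpowers, hx, hX]
  have hxp : x ^ p = 1 := hxo ▸ pow_orderOf_eq_one x
  -- an element `y` of order `p` commuting with `x`, outside `X`
  have hy : ∃ y : G, y ^ p = 1 ∧ y * x = x * y ∧ y ∉ X ∧ y ∈ M := by
    obtain ⟨E, hEM, hEe, hEc⟩ := exists_elemAb_of_not_pRankLE hpp hr1
    rw [show (1 + 1 : ℕ) = 2 from rfl] at hEc
    obtain ⟨m, hm, hEP⟩ := hP.exists_conj_le (isPGroup_of_elemAb hEe) hEM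
    set E' := cj(m, E) with hE'
    have hE'e : IsElementaryAbelian p E' := isElementaryAbelian_map _ hEe
    have hE'c : p ^ 2 ≤ Nat.card ↥E' := by
      rw [hE', Cfsg.Agent.Lib.H10.card_map_conj]; exact hEc
    have hP1 : P ≠ ⊥ := hP.ne_bot hpM
    obtain ⟨z, hzP, hzo, hzc⟩ :=
      Cfsg.Agent.Lib.H15.exists_central_orderOf_eq_prime hP.isPGroup hP1
    by_cases hzX : z ∈ X
    · -- then `X = ⟨z⟩` is central in `P`; take `y ∈ E' \ X`
      have hXz : X = Subgroup.zpowers z := by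
        apply Subgroup.eq_of_le_of_card_ge
        · intro w hw
          have h1 : Subgroup.zpowers z ≤ X := Subgroup.zpowers_le.2 hzX
          have h2 : Subgroup.zpowers z = X := by
            apply Subgroup.eq_of_le_of_card_ge h1
            rw [Nat.card_zpowers, hzo, hX]
          rw [h2]; exact hw
        · rw [Nat.card_zpowers, hzo, hX]
      have hlt : Nat.card ↥X < Nat.card ↥E' := by
        rw [hX]
        calc p < p ^ 2 := by
              calc p = p ^ 1 := (pow_one p).symm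
                _ < p ^ 2 := Nat.pow_lt_pow_right hpp.one_lt (by norm_num)
          _ ≤ _ := hE'c
      have hnle : ¬ E' ≤ X := fun h => absurd (Subgroup.card_le_of_le h) (not_le.2 hlt)
      obtain ⟨y, hyE, hyX⟩ := SetLike.not_le_iff_exists.1 hnle
      refine ⟨y, hE'e.2 y hyE, ?_, hyX, hP.le (hEP hyE)⟩
      have hxz : x ∈ Subgroup.zpowers z := hXz ▸ hxX
      obtain ⟨k, rfl⟩ := Subgroup.mem_zpowers_iff.1 hxz
      have hc : Commute y z := hzc y (hEP hyE)
      exact (hc.zpow_right k).eq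
    · exact ⟨z, hzo ▸ pow_orderOf_eq_one z, (hzc x (hXP hxX)).symm, hzX, hP.le hzP⟩
  obtain ⟨y, hyp, hyx, hyX, hyM⟩ := hy
  -- `A = ⟨x⟩ ⟨y⟩`
  have hcomm : ∀ a ∈ Subgroup.zpowers x, ∀ b ∈ Subgroup.zpowers y, a * b = b * a := by
    intro a ha b hb
    obtain ⟨i, rfl⟩ := Subgroup.mem_zpowers_iff.1 ha
    obtain ⟨j, rfl⟩ := Subgroup.mem_zpowers_iff.1 hb
    have hc : Commute x y := hyx.symm
    exact ((hc.zpow_left i).zpow_right j).eq
  have hc : Commute x y := hyx.symm
  have hAe : IsElementaryAbelian p (Subgroup.zpowers x ⊔ Subgroup.zpowers y : Subgroup G) := by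
    refine ⟨⟨⟨?_⟩⟩, ?_⟩
    · have key : ∀ a ∈ Subgroup.zpowers x ⊔ Subgroup.zpowers y,
          ∀ b ∈ Subgroup.zpowers x ⊔ Subgroup.zpowers y, a * b = b * a := by
        intro a ha b hb
        obtain ⟨a₁, ha₁, a₂, ha₂, rfl⟩ := Cfsg.Agent.Lib.H16.Narrow.exists_mul_of_mem_sup hcomm ha
        obtain ⟨b₁, hb₁, b₂, hb₂, rfl⟩ := Cfsg.Agent.Lib.H16.Narrow.exists_mul_of_mem_sup hcomm hb
        obtain ⟨i, rfl⟩ := Subgroup.mem_zpowers_iff.1 ha₁
        obtain ⟨j, rfl⟩ := Subgroup.mem_zpowers_iff.1 ha₂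
        obtain ⟨k, rfl⟩ := Subgroup.mem_zpowers_iff.1 hb₁
        obtain ⟨l, rfl⟩ := Subgroup.mem_zpowers_iff.1 hb₂
        have c1 : Commute (x ^ i * y ^ j) (x ^ k * y ^ l) := by
          apply Commute.mul_left <;> apply Commute.mul_right
          · exact (Commute.refl x).zpow_zpow i k
          · exact (hc.zpow_left i).zpow_right l
          · exact ((hc.zpow_left k).zpow_right j).symm
          · exact (Commute.refl y).zpow_zpow j l
        exact c1.eq
      rintro ⟨a, ha⟩ ⟨b, hb⟩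
      exact Subtype.ext (key a ha b hb)
    · intro a ha
      obtain ⟨a₁, ha₁, a₂, ha₂, rfl⟩ := Cfsg.Agent.Lib.H16.Narrow.exists_mul_of_mem_sup hcomm ha
      obtain ⟨i, rfl⟩ := Subgroup.mem_zpowers_iff.1 ha₁
      obtain ⟨j, rfl⟩ := Subgroup.mem_zpowers_iff.1 ha₂
      have hxi : (x ^ i) ^ p = 1 := by
        rw [← zpow_natCast, ← zpow_mul, mul_comm, zpow_mul, zpow_natCast, hxp, one_zpow]
      have hyj : (y ^ j) ^ p = 1 := by
        rw [← zpow_natCast, ← zpow_mul, mul_comm, zpow_mul, zpow_natCast, hyp, one_zpow]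
      rw [((hc.zpow_left i).zpow_right j).mul_pow, hxi, hyj, one_mul]
  have hAM : Subgroup.zpowers x ⊔ Subgroup.zpowers y ≤ M :=
    sup_le (hx ▸ hXM) (Subgroup.zpowers_le.2 hyM)
  have hXA : X ≤ Subgroup.zpowers x ⊔ Subgroup.zpowers y := hx ▸ le_sup_left
  refine ⟨Subgroup.zpowers x ⊔ Subgroup.zpowers y, hAe, ?_, hXA⟩
  apply le_antisymm
  · by_contra hlt
    push Not at hlt
    exact not_pRankLE_of_elemAb hAM hAe hlt hr2
  · have hlt : X < Subgroup.zpowers x ⊔ Subgroup.zpowers y :=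
      lt_of_le_of_ne hXA (fun h => hyX (h ▸ (le_sup_right : Subgroup.zpowers y ≤ _)
        (Subgroup.mem_zpowers y)))
    have h1 := card_lt_of_lt hlt
    rw [hX] at h1
    obtain ⟨k, hk⟩ := IsPGroup.iff_card.1 (isPGroup_of_elemAb hAe)
    rw [hk] at h1 ⊢
    have hk2 : 1 < k := by
      by_contra hk1
      push Not at hk1
      have : p ^ k ≤ p ^ 1 := Nat.pow_le_pow_right hpp.pos hk1
      rw [pow_one] at this
      omega
    exact Nat.pow_le_pow_right hpp.pos hk2

end Cfsg.Agent.Lib.H7.BG10
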