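import Mathlib
import Cfsg.Agent.Lib.H7.BG10e
import Cfsg.Agent.Lib.H10.BG36o
import Cfsg.Agent.Lib.H19.PLength
import Cfsg.Agent.Lib.H16.RankTwoSolv
import Cfsg.Agent.Lib.H16.PGroupCenter
import Cfsg.Agent.Lib.H22.PPrimeCore

/-! # Bender–Glauberman §10, Theorem 10.7(a): proper subgroups have `p`-length one (helper7)

Under the explicit hypothesis `Uniq3` (rank three part of the Uniqueness Theorem). -/

set_option autoImplicit false
set_option linter.style.haveILetI false
set_option linter.unusedSectionVars false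
set_option linter.unusedVariables false

open Cfsg

namespace Cfsg.Agent.Lib.H7.BG10

open Cfsg.Agent.Lib.H16.BG
open Cfsg.Agent.Lib.H7.BG7
open Cfsg.Agent.Lib.H19 (plengthLE_of_extension plengthLE_zero_of_coprime plengthLE_one_of_isPGroup
  plengthLE_mono plengthLE_subgroup plengthLE_of_mulEquiv)
open scoped commutatorElement

universe u v

section Abstract

variable {T : Type v} [Group T] [Finite T]

/-- A solvable group of odd order of `p`-rank at most two has `p`-length at most one. -/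
theorem plengthLE_one_of_pRankLE_two (hs : Group.IsSolvable T) (hodd : Odd (Nat.card T)) {p : ℕ}
    [hp : Fact p.Prime] (hr : PRankLE p 2 T) : PLengthLE p 1 T := by
  by_cases hp2 : p = 2
  · subst hp2
    apply plengthLE_mono (k := 0) _ (by norm_num)
    apply plengthLE_zero_of_coprime
    exact Nat.coprime_two_right.2 hodd
  obtain ⟨-, hidx, -⟩ := Cfsg.Agent.Lib.H16.RankTwo.structure_quotient hp2 hs hodd hr
  have hK0 : PLengthLE p 0 ↥(pPrimeCore p T) :=
    plengthLE_zero_of_coprime (Cfsg.Agent.Lib.H22.card_pPrimeCore_coprime p)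
  have hQ1 : PLengthLE p 1 ↥(pCore p (T ⧸ pPrimeCore p T)) := by
    obtain ⟨m, hm⟩ := IsPGroup.iff_card.1 (Cfsg.Agent.Lib.H19.pCore_isPGroup p (T ⧸ pPrimeCore p T))
    exact plengthLE_one_of_isPGroup hm
  have hQ0 : PLengthLE p 0 ((T ⧸ pPrimeCore p T) ⧸ pCore p (T ⧸ pPrimeCore p T)) := by
    apply plengthLE_zero_of_coprime
    rw [← Subgroup.index_eq_card]
    exact ((Nat.Prime.coprime_iff_not_dvd hp.out).2 hidx).symm
  have h1 : PLengthLE p (1 + 0) (T ⧸ pPrimeCore p T) := plengthLE_of_extension _ hQ1 hQ0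
  exact plengthLE_of_extension _ hK0 h1

/-- If every Sylow subgroup of the normal subgroup `N` (for the primes dividing `|N|`) lies in `T'`,
and `R` is a complement to `N`, then `N = [N, R]`. -/
theorem commutator_complement_eq (hs : Group.IsSolvable T) (N R : Subgroup T) [hN : N.Normal]
    (hcompl : Subgroup.IsComplement' N R)
    (hS : ∀ r : ℕ, r.Prime → r ∣ Nat.card N →
      ∃ S : Subgroup T, ¬ r ∣ S.index ∧ S ≤ commutator T) :
    ⁅N, R⁆ = N := by
  have hsup : N ⊔ R = ⊤ := hcompl.sup_eq_top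
  have hCN : ⁅N, R⁆ ≤ N := Subgroup.commutator_le_left N R
  haveI hCn : (⁅N, R⁆).Normal := by
    rw [← Subgroup.normalizer_eq_top_iff, eq_top_iff, ← hsup]
    exact sup_le (Subgroup.normalizer_commutator_ge_left N R)
      (Subgroup.normalizer_commutator_ge_right N R)
  have hNT : N ≤ commutator T := by
    rw [← Subgroup.relIndex_eq_one]
    by_contra hne
    obtain ⟨r, hr, hdvd⟩ := Nat.exists_prime_and_dvd hne
    have h1 : r ∣ Nat.card N := hdvd.trans (Subgroup.relIndex_dvd_card _ _)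
    obtain ⟨S, hSi, hSc⟩ := hS r hr h1
    have h2 : r ∣ (commutator T).index :=
      hdvd.trans (Subgroup.relIndex_dvd_index_of_normal _ _)
    exact hSi (h2.trans (Subgroup.index_dvd_of_le hSc))
  have hWn : (R ⊔ ⁅N, R⁆).Normal := by
    rw [← Subgroup.normalizer_eq_top_iff, eq_top_iff, ← hsup]
    apply sup_le
    · apply Cfsg.Agent.Lib.H16.le_normalizer_of_conj_mem
      intro a ha b hb
      obtain ⟨r, hr, c, hc, rfl⟩ := Subgroup.mem_sup_of_normal_right.1 hb
      have h1 : a * (r * c) * a⁻¹ = ⁅a, r⁆ * r * (a * c * a⁻¹) := by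
        rw [commutatorElement_def]; group
      rw [h1]
      apply Subgroup.mul_mem
      · apply Subgroup.mul_mem
        · exact (le_sup_right : ⁅N, R⁆ ≤ R ⊔ ⁅N, R⁆) (Subgroup.commutator_mem_commutator ha hr)
        · exact (le_sup_left : R ≤ R ⊔ ⁅N, R⁆) hr
      · exact (le_sup_right : ⁅N, R⁆ ≤ R ⊔ ⁅N, R⁆) (hCn.conj_mem c hc a)
    · exact le_sup_left.trans Subgroup.le_normalizer
  have hWtop : R ⊔ ⁅N, R⁆ = ⊤ := by
    haveI := hWn
    have hperf : commutator (T ⧸ (R ⊔ ⁅N, R⁆)) = ⊤ := by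
      rw [eq_top_iff]
      intro y _
      induction y using QuotientGroup.induction_on with | _ t =>
      have ht : t ∈ N ⊔ R := hsup ▸ Subgroup.mem_top t
      obtain ⟨n, hn, r, hr, rfl⟩ := Subgroup.mem_sup_of_normal_left.1 ht
      have h1 : ((n * r : T) : T ⧸ (R ⊔ ⁅N, R⁆)) = ((n : T) : T ⧸ (R ⊔ ⁅N, R⁆)) := by
        rw [QuotientGroup.eq]
        have : n⁻¹ * n = 1 := inv_mul_cancel n
        have h2 : (n * r)⁻¹ * n = r⁻¹ := by group
        rw [h2]
        exact Subgroup.inv_mem _ ((le_sup_left : R ≤ R ⊔ ⁅N, R⁆) hr)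
      rw [h1]
      have h3 : (commutator T).map (QuotientGroup.mk' (R ⊔ ⁅N, R⁆)) ≤
          commutator (T ⧸ (R ⊔ ⁅N, R⁆)) := by
        rw [commutator_def, commutator_def, Subgroup.map_commutator]
        exact Subgroup.commutator_mono le_top le_top
      exact h3 ⟨n, hNT hn, rfl⟩
    by_contra hne
    have hidx : (R ⊔ ⁅N, R⁆).index ≠ 1 := fun h => hne (Subgroup.index_eq_one.1 h)
    haveI : Nontrivial (T ⧸ (R ⊔ ⁅N, R⁆)) := by
      rw [← Finite.one_lt_card_iff_nontrivial, ← Subgroup.index_eq_card]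
      have : (R ⊔ ⁅N, R⁆).index ≠ 0 := Subgroup.index_ne_zero_of_finite
      omega
    exact (Group.IsSolvable.commutator_lt_top_of_nontrivial (T ⧸ (R ⊔ ⁅N, R⁆))).ne hperf
  have hcard : Nat.card N * Nat.card R = Nat.card T := hcompl.card_mul_card
  have hdvd : Nat.card (R ⊔ ⁅N, R⁆ : Subgroup T) ∣ Nat.card R * Nat.card ↥⁅N, R⁆ :=
    Cfsg.Agent.Lib.H19.card_sup_dvd_mul' R ⁅N, R⁆
  rw [hWtop, Subgroup.card_top, ← hcard, mul_comm] at hdvd
  have hdvd' : Nat.card N ∣ Nat.card ↥⁅N, R⁆ :=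
    Nat.dvd_of_mul_dvd_mul_left Nat.card_pos hdvd
  exact Subgroup.eq_of_le_of_card_ge hCN (Nat.le_of_dvd Nat.card_pos hdvd')

end Abstract

variable {G : Type u} [Group G] [Finite G]

/-- for `p ∈ σ(M)` a Sylow `p`-subgroup of `M` (as a group) lies in the derived subgroup. -/
theorem exists_sylow_le_commutator_type (hG : IsMinSimpleOddOrder G) (hU : Uniq3 G)
    {M : Subgroup G} (hM : IsCoatom M) {p : ℕ} (hp : p.Prime) (hpσ : p ∈ sigma M) :
    ∃ P : Subgroup ↥M, IsPGroup p P ∧ ¬ p ∣ P.index ∧ P ≤ commutator ↥M := by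
  haveI : Fact p.Prime := ⟨hp⟩
  obtain ⟨P, hPM, _, hPc⟩ := sylow_le_commutator_of_sigma hG hU hM hpσ
  refine ⟨P.subgroupOf M, hPM.isPGroup.comap_subtype, hPM.2.2, ?_⟩
  rw [← Subgroup.map_subtype_le_map_subtype, Subgroup.map_subgroupOf_eq_of_le hPM.le,
    Subgroup.map_subtype_commutator]
  exact hPc

/-- a maximal subgroup has a prime divisor outside `σ(M)`. -/
theorem exists_prime_not_sigma (hG : IsMinSimpleOddOrder G) (hU : Uniq3 G)
    {M : Subgroup G} (hM : IsCoatom M) (hM1 : M ≠ ⊥) :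
    ∃ q : ℕ, q.Prime ∧ q ∣ Nat.card M ∧ q ∉ sigma M := by
  haveI : Group.IsSolvable ↥M := solvable_of_coatom hG hM
  haveI : Nontrivial ↥M := (Subgroup.nontrivial_iff_ne_bot M).2 hM1
  have hne : commutator ↥M ≠ ⊤ := (Group.IsSolvable.commutator_lt_top_of_nontrivial ↥M).ne
  have hidx : (commutator ↥M).index ≠ 1 := fun h => hne (Subgroup.index_eq_one.1 h)
  obtain ⟨r, hr, hdvd⟩ := Nat.exists_prime_and_dvd hidx
  refine ⟨r, hr, hdvd.trans (Subgroup.index_dvd_card _), ?_⟩
  intro hrσ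
  obtain ⟨S, _, hSi, hSc⟩ := exists_sylow_le_commutator_type hG hU hM hr hrσ
  exact hSi (hdvd.trans (Subgroup.index_dvd_of_le hSc))

/-- **BG Theorem 10.7(a)** for maximal subgroups, under `Uniq3`. -/
theorem plengthLE_one_coatom (hG : IsMinSimpleOddOrder G) (hU : Uniq3 G)
    {M : Subgroup G} (hM : IsCoatom M) (p : ℕ) [hp : Fact p.Prime] : PLengthLE p 1 ↥M := by
  have hpp : p.Prime := hp.out
  have hs : Group.IsSolvable ↥M := solvable_of_coatom hG hM
  haveI := hs
  have hodd : Odd (Nat.card ↥M) := odd_card_subgroup hG M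
  by_cases hr : PRankLE p 2 ↥M
  · exact plengthLE_one_of_pRankLE_two hs hodd hr
  have hpα : p ∈ alpha M := ⟨hpp, hr⟩
  have hsub := alpha_subset_sigma hG hU hM
  have hpM : p ∣ Nat.card M := (hsub hpα).2.1
  have hM1 : M ≠ ⊥ := by
    rintro rfl
    rw [Subgroup.card_bot] at hpM
    exact hpp.one_lt.ne' (Nat.dvd_one.1 hpM)
  obtain ⟨hHallOf, -, -, -, -⟩ := alpha_core_hall hG hU hM
  have hrel : (alphaCore M).relIndex M = (piCore (alpha M) ↥M).index := by
    unfold alphaCore Subgroup.relIndex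
    rw [Subgroup.subgroupOf, Subgroup.comap_map_eq_self_of_injective M.subtype_injective]
  have hHall : ∀ r : ℕ, r.Prime → r ∈ alpha M → ¬ r ∣ (piCore (alpha M) ↥M).index := by
    intro r hr hrα
    rw [← hrel]
    exact hHallOf.2.2 r hr hrα
  have hNcard : Cfsg.Agent.Lib.H19.IsPiCard (alpha M) (Nat.card ↥(piCore (alpha M) ↥M)) :=
    Cfsg.Agent.Lib.H19.piCore_isPiCard (alpha M)
  have hcopN : (Nat.card ↥(piCore (alpha M) ↥M)).Coprime (piCore (alpha M) ↥M).index := by
    apply Nat.coprime_of_dvd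
    intro k hk hkN hkI
    exact hHall k hk (hNcard k hk hkN) hkI
  obtain ⟨R, hR⟩ := Subgroup.exists_right_complement'_of_coprime hcopN
  obtain ⟨q, hq, hqM, hqσ⟩ := exists_prime_not_sigma hG hU hM hM1
  haveI : Fact q.Prime := ⟨hq⟩
  have hqα : q ∉ alpha M := fun h => hqσ (hsub h)
  have hqN : ¬ q ∣ Nat.card ↥(piCore (alpha M) ↥M) := fun h => hqα (hNcard q hq h)
  -- a Sylow `q`-subgroup of `M` inside `R`
  obtain ⟨QR⟩ : Nonempty (Sylow q ↥R) := inferInstance
  have hQ'p : IsPGroup q ((QR : Subgroup ↥R).map R.subtype) := QR.2.map _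
  have hQ'i : ¬ q ∣ ((QR : Subgroup ↥R).map R.subtype).index := by
    rw [Subgroup.index_map_subtype, hR.index_eq_card, Nat.Prime.dvd_mul hq]
    rintro (h | h)
    · exact QR.not_dvd_index h
    · exact hqN h
  have hQ'R : (QR : Subgroup ↥R).map R.subtype ≤ R := Subgroup.map_subtype_le _
  obtain ⟨x, hxZ, hxo, hxZG, -⟩ :=
    exists_central_zgroup hG hU hM hqM hqσ (hQ'p.toSylow hQ'i)
  have hxP := ((mem_center_map_iff _).1 hxZ).1
  rw [hQ'p.toSylow_coe hQ'i] at hxP
  obtain ⟨x', hx'Q, rfl⟩ := hxP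
  have hx'R : x' ∈ R := hQ'R hx'Q
  have hx'o : orderOf x' = q := by
    rw [← hxo]; exact (Subgroup.orderOf_coe x').symm
  have hR₀p : (Nat.card ↥(Subgroup.zpowers x')).Prime := by
    rw [Nat.card_zpowers, hx'o]; exact hq
  have hZ : IsZGroup ↥(piCore (alpha M) ↥M ⊓
      Subgroup.centralizer ((Subgroup.zpowers x' : Subgroup ↥M) : Set ↥M)) := by
    haveI := hxZG
    let f : ↥(piCore (alpha M) ↥M ⊓
        Subgroup.centralizer ((Subgroup.zpowers x' : Subgroup ↥M) : Set ↥M)) →*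
        ↥(alphaCore M ⊓ Subgroup.centralizer ({(M.subtype x' : G)} : Set G)) :=
      (M.subtype.comp (Subgroup.subtype _)).codRestrict _ (fun a => by
        rw [Subgroup.mem_inf]
        refine ⟨⟨(a : ↥M), a.2.1, rfl⟩, ?_⟩
        rw [Subgroup.mem_centralizer_singleton_iff]
        have h1 := Subgroup.mem_centralizer_iff.1 a.2.2 x' (Subgroup.mem_zpowers x')
        have h2 := congrArg (fun t : ↥M => (t : G)) h1
        exact h2.symm)
    apply IsZGroup.of_injective (f := f)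
    intro a b hab
    have h1 := congrArg Subtype.val hab
    exact Subtype.ext (Subtype.ext h1)
  have h36 := Cfsg.Agent.Lib.H10.BG36.bg36 hodd (piCore (alpha M) ↥M) R (Subgroup.zpowers x')
    hcopN hR (Subgroup.zpowers_le.2 hx'R) hR₀p hZ p
  have hNR : ⁅piCore (alpha M) ↥M, R⁆ = piCore (alpha M) ↥M := by
    apply commutator_complement_eq hs _ R hR
    intro r hr hrN
    obtain ⟨S, _, hSi, hSc⟩ :=
      exists_sylow_le_commutator_type hG hU hM hr (hsub (hNcard r hr hrN))
    exact ⟨S, hSi, hSc⟩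
  have hN1 : PLengthLE p 1 ↥(piCore (alpha M) ↥M) := hNR ▸ h36
  have hQ0 : PLengthLE p 0 (↥M ⧸ piCore (alpha M) ↥M) := by
    apply plengthLE_zero_of_coprime
    rw [← Subgroup.index_eq_card]
    exact ((Nat.Prime.coprime_iff_not_dvd hpp).2 (hHall p hpp hpα)).symm
  exact plengthLE_of_extension _ hN1 hQ0

/-- **BG Theorem 10.7(a)** under `Uniq3`: every proper subgroup has `p`-length at most one. -/
theorem plengthLE_one_of_ne_top (hG : IsMinSimpleOddOrder G) (hU : Uniq3 G)
    {H : Subgroup G} (hH : H ≠ ⊤) (p : ℕ) [hp : Fact p.Prime] : PLengthLE p 1 ↥H := by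
  obtain ⟨M, hM, hHM⟩ := exists_coatom_ge hH
  have h1 := plengthLE_one_coatom hG hU hM p
  have h2 := plengthLE_subgroup h1 (H.subgroupOf M)
  exact plengthLE_of_mulEquiv h2 (Subgroup.subgroupOfEquivOfLe hHM)

end Cfsg.Agent.Lib.H7.BG10
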