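import Mathlib
import Cfsg.Prelude.Def_OddOrderLocal
import Cfsg.Agent.Lib.H7.CoprimeFactor
import Cfsg.Agent.Lib.H1.Complement

set_option autoImplicit false
open Cfsg

namespace Cfsg.Agent.Lib.H7

section Hall

variable {M : Type*} [Group M] [Finite M]

/-- The join of two normal Hall subgroups is a Hall subgroup. -/
theorem coprime_card_index_sup {N₁ N₂ : Subgroup M} (hN₁ : N₁.Normal)
    (h1 : (Nat.card N₁).Coprime N₁.index) (h2 : (Nat.card N₂).Coprime N₂.index) :
    (Nat.card (N₁ ⊔ N₂ : Subgroup M)).Coprime (N₁ ⊔ N₂).index := by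
  have hn : N₂ ≤ Subgroup.normalizer (N₁ : Set M) := by
    rw [Subgroup.normalizer_eq_top]; exact le_top
  have hd := card_sup_dvd_mul_of_le_normalizer hn
  have hi1 : (N₁ ⊔ N₂).index ∣ N₁.index := Subgroup.index_dvd_of_le le_sup_left
  have hi2 : (N₁ ⊔ N₂).index ∣ N₂.index := Subgroup.index_dvd_of_le le_sup_right
  have hc1 : (Nat.card N₁).Coprime (N₁ ⊔ N₂).index := Nat.Coprime.coprime_dvd_right hi1 h1
  have hc2 : (Nat.card N₂).Coprime (N₁ ⊔ N₂).index := Nat.Coprime.coprime_dvd_right hi2 h2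
  exact Nat.Coprime.coprime_dvd_left hd (Nat.Coprime.mul_left hc1 hc2)

/-- The join of a set of normal Hall subgroups is a normal Hall subgroup. -/
theorem coprime_card_index_sSup (T : Set (Subgroup M))
    (hT : ∀ N ∈ T, N.Normal ∧ (Nat.card N).Coprime N.index) :
    (sSup T).Normal ∧ (Nat.card (sSup T : Subgroup M)).Coprime (sSup T).index := by
  have hfin : T.Finite := Set.toFinite T
  induction T, hfin using Set.Finite.induction_on with
  | empty =>
    rw [sSup_empty]
    refine ⟨inferInstance, ?_⟩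
    simp
  | @insert a s _ _ ih =>
    have h1 := hT a (Set.mem_insert _ _)
    have h2 := ih (fun N hN => hT N (Set.mem_insert_of_mem _ hN))
    rw [sSup_insert]
    have := h1.1
    have := h2.1
    exact ⟨inferInstance, coprime_card_index_sup h1.1 h1.2 h2.2⟩

theorem fittingHall_coprime :
    (Nat.card (fittingHall M)).Coprime (fittingHall M).index :=
  (coprime_card_index_sSup _ (fun _ hN => ⟨hN.1, hN.2.2⟩)).2

/-- A subgroup meeting a normal subgroup trivially has order dividing its index. -/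
theorem card_dvd_index_of_inf_eq_bot {F U : Subgroup M} [F.Normal] (h : U ⊓ F = ⊥) :
    Nat.card U ∣ F.index := by
  let f : U →* M ⧸ F := (QuotientGroup.mk' F).comp U.subtype
  have hf : Function.Injective f := by
    rw [injective_iff_map_eq_one]
    intro u hu
    have h1 : (u : M) ∈ F := by
      have : (QuotientGroup.mk' F) (u : M) = 1 := hu
      rwa [QuotientGroup.mk'_apply, QuotientGroup.eq_one_iff] at this
    have h2 : (u : M) ∈ U ⊓ F := ⟨u.2, h1⟩
    rw [h, Subgroup.mem_bot] at h2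
    exact Subtype.ext h2
  have := Subgroup.card_dvd_of_injective f hf
  rwa [← Subgroup.index_eq_card] at this

end Hall

section Compl

variable {G : Type*} [Group G]

theorem isComplIn_unique {A B M : Subgroup G} (h : IsComplIn A B M) {a a' b b' : G}
    (ha : a ∈ A) (ha' : a' ∈ A) (hb : b ∈ B) (hb' : b' ∈ B) (he : a * b = a' * b') :
    a = a' ∧ b = b' := by
  have h1 : a'⁻¹ * a = b' * b⁻¹ := by
    calc a'⁻¹ * a = a'⁻¹ * (a * b) * b⁻¹ := by group
      _ = b' * b⁻¹ := by rw [he]; group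
  have h2 : a'⁻¹ * a ∈ A ⊓ B :=
    Subgroup.mem_inf.2 ⟨mul_mem (inv_mem ha') ha, h1 ▸ mul_mem hb' (inv_mem hb)⟩
  rw [h.2.2.1, Subgroup.mem_bot] at h2
  have h3 : a = a' := by
    calc a = a' * (a'⁻¹ * a) := by group
      _ = a' := by rw [h2, mul_one]
  refine ⟨h3, ?_⟩
  rw [h3] at he
  exact mul_left_cancel he

theorem isComplIn_card_mul [Finite G] {A B M : Subgroup G} (h : IsComplIn A B M) :
    Nat.card A * Nat.card B = Nat.card M := by
  let f : A × B → M := fun x => ⟨(x.1 : G) * (x.2 : G), mul_mem (h.1 x.1.2) (h.2.1 x.2.2)⟩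
  have hf : Function.Bijective f := by
    constructor
    · rintro ⟨⟨a, ha⟩, ⟨b, hb⟩⟩ ⟨⟨a', ha'⟩, ⟨b', hb'⟩⟩ he
      have he' : a * b = a' * b' := congrArg Subtype.val he
      obtain ⟨h1, h2⟩ := isComplIn_unique h ha ha' hb hb' he'
      subst h1; subst h2; rfl
    · rintro ⟨m, hm⟩
      obtain ⟨a, ha, b, hb, hmab⟩ := h.2.2.2 m hm
      exact ⟨(⟨a, ha⟩, ⟨b, hb⟩), Subtype.ext hmab.symm⟩
  rw [← Nat.card_prod]
  exact Nat.card_congr (Equiv.ofBijective f hf)

end Compl

section FittingHallOf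

variable {G : Type*} [Group G]

theorem fittingHallOf_le (M : Subgroup G) : fittingHallOf M ≤ M :=
  Subgroup.map_subtype_le _

theorem le_normalizer_fittingHallOf (M : Subgroup G) :
    M ≤ Subgroup.normalizer (fittingHallOf M : Set G) := by
  intro m hm
  rw [Subgroup.mem_normalizer_iff]
  intro x
  have hN : (fittingHall M).Normal := inferInstance
  constructor
  · rintro ⟨y, hy, rfl⟩
    exact ⟨⟨m, hm⟩ * y * ⟨m, hm⟩⁻¹, hN.conj_mem y hy ⟨m, hm⟩, rfl⟩
  · rintro ⟨y, hy, hyx⟩
    have h1 := hN.conj_mem y hy ⟨m, hm⟩⁻¹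
    refine ⟨⟨m, hm⟩⁻¹ * y * ⟨m, hm⟩⁻¹⁻¹, h1, ?_⟩
    have : (M.subtype (⟨m, hm⟩⁻¹ * y * ⟨m, hm⟩⁻¹⁻¹) : G) = m⁻¹ * (M.subtype y) * m⁻¹⁻¹ := rfl
    rw [this, hyx]; group

/-- `M_F` has order coprime to any subgroup of `M` meeting it trivially. -/
theorem coprime_card_fittingHallOf [Finite G] {M U : Subgroup G} (hU : U ≤ M)
    (h : fittingHallOf M ⊓ U = ⊥) : (Nat.card (fittingHallOf M)).Coprime (Nat.card U) := by
  have h1 : (U.subgroupOf M) ⊓ fittingHall M = ⊥ := by
    rw [eq_bot_iff]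
    rintro x ⟨hxU, hxF⟩
    have h2 : (x : G) ∈ fittingHallOf M ⊓ U :=
      Subgroup.mem_inf.2 ⟨Subgroup.mem_map_of_mem _ hxF, Subgroup.mem_subgroupOf.1 hxU⟩
    rw [h, Subgroup.mem_bot] at h2
    rw [Subgroup.mem_bot]
    exact Subtype.ext h2
  have h2 := card_dvd_index_of_inf_eq_bot h1
  have h3 : Nat.card (U.subgroupOf M) = Nat.card U :=
    Nat.card_congr (Subgroup.subgroupOfEquivOfLe hU).toEquiv
  have h4 : Nat.card (fittingHallOf M) = Nat.card (fittingHall M) :=
    Subgroup.card_map_of_injective M.subtype_injective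
  rw [h4, ← h3]
  exact Nat.Coprime.coprime_dvd_right h2 fittingHall_coprime

/-- If `h u` centralizes `H` with `h ∈ H`, `u ∈ U`, `U` normalizing `H` and of coprime order, then
both `u` and `h` centralize `H`. -/
theorem mem_centralizer_of_mul_mem_centralizer [Finite G] {H U : Subgroup G}
    (hcop : (Nat.card H).Coprime (Nat.card U)) {h u : G} (hh : h ∈ H) (hu : u ∈ U)
    (hc : h * u ∈ Subgroup.centralizer (H : Set G)) :
    u ∈ Subgroup.centralizer (H : Set G) ∧ h ∈ Subgroup.centralizer (H : Set G) := by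
  have hc' : ∀ x ∈ H, x * (h * u) = h * u * x := fun x hx => Subgroup.mem_centralizer_iff.1 hc x hx
  have h1 : ∀ x ∈ H, u * x * u⁻¹ = h⁻¹ * x * h := by
    intro x hx
    have := hc' x hx
    calc u * x * u⁻¹ = h⁻¹ * (h * u * x) * u⁻¹ := by group
      _ = h⁻¹ * (x * (h * u)) * u⁻¹ := by rw [this]
      _ = h⁻¹ * x * h := by group
  have h2 : ∀ k : ℕ, ∀ x ∈ H, u ^ k * x * (u ^ k)⁻¹ = (h ^ k)⁻¹ * x * h ^ k := by
    intro k
    induction k with
    | zero => intro x _; simp
    | succ k ih =>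
      intro x hx
      have hx' : h⁻¹ * x * h ∈ H := mul_mem (mul_mem (inv_mem hh) hx) hh
      calc u ^ (k + 1) * x * (u ^ (k + 1))⁻¹ = u ^ k * (u * x * u⁻¹) * (u ^ k)⁻¹ := by
            rw [pow_succ]; group
        _ = u ^ k * (h⁻¹ * x * h) * (u ^ k)⁻¹ := by rw [h1 x hx]
        _ = (h ^ k)⁻¹ * (h⁻¹ * x * h) * h ^ k := ih _ hx'
        _ = (h ^ (k + 1))⁻¹ * x * h ^ (k + 1) := by rw [pow_succ']; group
  have hou : orderOf u ∣ Nat.card U := Subgroup.orderOf_dvd_natCard U hu
  have hoh : orderOf h ∣ Nat.card H := Subgroup.orderOf_dvd_natCard H hh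
  have hco : (orderOf h).Coprime (orderOf u) :=
    Nat.Coprime.coprime_dvd_left hoh (Nat.Coprime.coprime_dvd_right hou hcop)
  have hucent : u ∈ Subgroup.centralizer (H : Set G) := by
    rcases Nat.lt_or_ge 1 (orderOf u) with hlt | hle
    · obtain ⟨t, -, ht⟩ := Nat.exists_mul_mod_eq_one_of_coprime hco hlt
      have hu' : u ^ (orderOf h * t) = u := by
        rw [← pow_mod_orderOf, ht, pow_one]
      have hh' : h ^ (orderOf h * t) = 1 := by
        rw [pow_mul, pow_orderOf_eq_one, one_pow]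
      rw [Subgroup.mem_centralizer_iff]
      intro x hx
      have := h2 (orderOf h * t) x hx
      rw [hu', hh'] at this
      have h3 : u * x * u⁻¹ = x := by simpa using this
      calc x * u = (u * x * u⁻¹) * u := by rw [h3]
        _ = u * x := by group
    · have hpos : 0 < orderOf u := orderOf_pos u
      have : orderOf u = 1 := by omega
      rw [orderOf_eq_one_iff] at this
      rw [this]; exact one_mem _
  refine ⟨hucent, ?_⟩
  have : h = (h * u) * u⁻¹ := by group
  rw [this]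
  exact mul_mem hc (inv_mem hucent)

end FittingHallOf

end Cfsg.Agent.Lib.H7
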