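import Mathlib
import Cfsg.Agent.Lib.H7.BG10f
import Cfsg.Agent.S1461

/-! # Bender–Glauberman §10, Theorem 10.7(b)-(e) / Corollary: fusion in Sylow subgroups (helper7)

Under the explicit hypothesis `Uniq3` (rank three part of the Uniqueness Theorem). -/

set_option autoImplicit false
set_option linter.style.haveILetI false
set_option linter.unusedSectionVars false
set_option linter.unusedVariables false

open Cfsg

namespace Cfsg.Agent.Lib.H7.BG10

open Cfsg.Agent.Lib.H16.BG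
open Cfsg.Agent.Lib.H7.BG7
open scoped commutatorElement

universe u
variable {G : Type u} [Group G] [Finite G]

local notation:max "cj(" g ", " X ")" => Subgroup.map (MulEquiv.toMonoidHom (MulAut.conj g)) X

theorem not_isPGroup_top (hG : IsMinSimpleOddOrder G) {p : ℕ} [Fact p.Prime] {P : Subgroup G}
    (hP : IsPGroup p P) : P ≠ ⊤ := by
  rintro rfl
  have hGp : IsPGroup p G := by
    intro g
    obtain ⟨k, hk⟩ := hP ⟨g, Subgroup.mem_top g⟩
    exact ⟨k, congrArg Subtype.val hk⟩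
  have hnil : Group.IsNilpotent G := hGp.isNilpotent
  have hsol : Group.IsSolvable G := inferInstance
  have hperf := commutator_eq_top_of_minSimple hG
  haveI := hG.2.1
  haveI : Nontrivial G := inferInstance
  exact (Group.IsSolvable.commutator_lt_top_of_nontrivial G).ne hperf

/-- the set-up: a maximal subgroup containing `N_G(P)` for a nontrivial Sylow subgroup `P`. -/
theorem exists_coatom_of_sylow (hG : IsMinSimpleOddOrder G) {p : ℕ} [Fact p.Prime] (P : Sylow p G)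
    (hP1 : (P : Subgroup G) ≠ ⊥) :
    ∃ M : Subgroup G, IsCoatom M ∧ Subgroup.normalizer ((P : Subgroup G) : Set G) ≤ M ∧
      SylIn p (P : Subgroup G) M ∧ p ∈ sigma M := by
  have hPt : (P : Subgroup G) ≠ ⊤ := not_isPGroup_top hG P.2
  obtain ⟨M, hM, hNM⟩ := exists_coatom_ge (normalizer_ne_top hG hP1 hPt)
  have hPM : SylIn p (P : Subgroup G) M :=
    (SylIn.of_sylow_top P).mono (Subgroup.le_normalizer.trans hNM) le_top
  obtain ⟨S, hS⟩ := hPM.exists_sylow
  refine ⟨M, hM, hNM, hPM, Fact.out, dvd_card_of_ne_bot P.2 hPM.le hP1, S, ?_⟩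
  rw [hS]; exact hNM

/-- the normalizer in `M` of a Sylow subgroup of `M`, mapped to `G`, lies in the normalizer. -/
theorem map_normalizer_le {M : Subgroup G} (S : Subgroup ↥M) :
    (Subgroup.normalizer (S : Set ↥M)).map M.subtype ≤
      Subgroup.normalizer ((S.map M.subtype : Subgroup G) : Set G) := by
  rintro _ ⟨g, hg, rfl⟩
  rw [Subgroup.mem_normalizer_iff_map_conj_eq]
  apply Subgroup.eq_of_le_of_card_ge
  · rintro _ ⟨_, ⟨s, hs, rfl⟩, rfl⟩
    refine ⟨g * s * g⁻¹, (Subgroup.mem_normalizer_iff.1 hg s).1 hs, ?_⟩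
    simp
  · exact (Cfsg.Agent.Lib.H10.card_map_conj _ _).ge

theorem sylow_le_commutator_of_normalizer_le (hG : IsMinSimpleOddOrder G) (hU : Uniq3 G)
    {M : Subgroup G} (hM : IsCoatom M) {p : ℕ} [Fact p.Prime] {P : Subgroup G}
    (hPM : SylIn p P M) (hpσ : p ∈ sigma M) : P ≤ ⁅M, M⁆ := by
  obtain ⟨P₀, hP₀M, -, hP₀c⟩ := sylow_le_commutator_of_sigma hG hU hM hpσ
  obtain ⟨m, hm, hle⟩ := hP₀M.exists_conj_le hPM.isPGroup hPM.le
  rw [map_conj_le_iff] at hle
  refine hle.trans ?_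
  have h1 : cj(m⁻¹, P₀) ≤ cj(m⁻¹, ⁅M, M⁆) := Subgroup.map_mono hP₀c
  refine h1.trans ?_
  rw [Subgroup.map_commutator, map_conj_eq_self_of_mem (M.inv_mem hm)]

/-- **Fusion in a Sylow subgroup is controlled by its normalizer, up to centralizers.** -/
theorem sylow_fusion_factor (hG : IsMinSimpleOddOrder G) (hU : Uniq3 G) {p : ℕ} [Fact p.Prime]
    (P : Sylow p G) {Q : Subgroup G} (hQP : Q ≤ (P : Subgroup G)) {x : G}
    (hx : cj(x, Q) ≤ (P : Subgroup G)) :
    ∃ y ∈ Subgroup.normalizer ((P : Subgroup G) : Set G),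
      ∃ c ∈ Subgroup.centralizer (Q : Set G), x = y * c := by
  by_cases hQ1 : Q = ⊥
  · refine ⟨1, Subgroup.one_mem _, x, ?_, (one_mul x).symm⟩
    rw [hQ1, Subgroup.mem_centralizer_iff]
    intro h hh
    rw [SetLike.mem_coe, Subgroup.mem_bot] at hh
    rw [hh, one_mul, mul_one]
  have hP1 : (P : Subgroup G) ≠ ⊥ := fun h => hQ1 (le_bot_iff.1 (h ▸ hQP))
  obtain ⟨M, hM, hNM, hPM, hpσ⟩ := exists_coatom_of_sylow hG P hP1
  have hQp : IsPGroup p Q := P.2.to_le hQP
  have hQM : Q ≤ M := hQP.trans hPM.le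
  obtain ⟨m, hm, c₁, hc₁, rfl⟩ :=
    (sigma_fusion hG hU hM hpσ hQp hQ1 hQM).1 x (hx.trans hPM.le)
  have hmQ : cj(m, Q) ≤ (P : Subgroup G) := by
    rw [← Cfsg.Agent.Lib.H10.map_conj_map_conj, map_conj_eq_self_of_mem_centralizer hc₁] at hx
    exact hx
  haveI : Group.IsSolvable ↥M := solvable_of_coatom hG hM
  have hpl : PLengthLE p 1 ↥M := plengthLE_one_coatom hG hU hM p
  obtain ⟨S, hS⟩ := hPM.exists_sylow
  have hmemS : ∀ y : ↥M, (y : G) ∈ (P : Subgroup G) → y ∈ (S : Subgroup ↥M) := by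
    intro y hy
    rw [← hS] at hy
    exact (Subgroup.mem_map_iff_mem M.subtype_injective).1 hy
  have hYS : {y : ↥M | (y : G) ∈ Q} ⊆ ((S : Subgroup ↥M) : Set ↥M) := by
    intro y hy
    exact hmemS y (hQP hy)
  have hconj : (fun y : ↥M => (⟨m, hm⟩ : ↥M) * y * (⟨m, hm⟩ : ↥M)⁻¹) '' {y : ↥M | (y : G) ∈ Q} ⊆
      ((S : Subgroup ↥M) : Set ↥M) := by
    rintro _ ⟨y, hy, rfl⟩
    apply hmemS
    apply hmQ
    exact ⟨(y : G), hy, by simp⟩
  obtain ⟨g, hg, c, hc, hgc⟩ :=
    (Cfsg.Agent.S1461.result p hpl S).2.1 _ ⟨m, hm⟩ hYS hconj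
  have hgN : (g : G) ∈ Subgroup.normalizer ((P : Subgroup G) : Set G) := by
    have := map_normalizer_le (S : Subgroup ↥M) ⟨g, hg, rfl⟩
    rwa [hS] at this
  have hcC : (c : G) ∈ Subgroup.centralizer (Q : Set G) := by
    rw [Subgroup.mem_centralizer_iff]
    intro q hq
    have h1 := Subgroup.mem_centralizer_iff.1 hc ⟨q, hQM hq⟩ hq
    exact congrArg Subtype.val h1
  refine ⟨(g : G), hgN, (c : G) * c₁, Subgroup.mul_mem _ hcC hc₁, ?_⟩
  have h2 : (g : G) * (c : G) = m := congrArg Subtype.val hgc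
  rw [← mul_assoc, h2]

/-- **BG Theorem 10.7(b),(c)**: `P = [P, V]` and `P ≤ N_G(P)'`. -/
theorem sylow_eq_commutator_complement (hG : IsMinSimpleOddOrder G) (hU : Uniq3 G) {p : ℕ}
    [Fact p.Prime] (P : Sylow p G) (V : Subgroup G)
    (hV : IsComplIn (P : Subgroup G) V (Subgroup.normalizer ((P : Subgroup G) : Set G))) :
    (P : Subgroup G) = ⁅(P : Subgroup G), V⁆ ∧
      (P : Subgroup G) ≤ ⁅Subgroup.normalizer ((P : Subgroup G) : Set G),
        Subgroup.normalizer ((P : Subgroup G) : Set G)⁆ := by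
  by_cases hP1 : (P : Subgroup G) = ⊥
  · rw [hP1]
    exact ⟨(Subgroup.commutator_bot_left V).symm, bot_le⟩
  obtain ⟨M, hM, hNM, hPM, hpσ⟩ := exists_coatom_of_sylow hG P hP1
  haveI : Group.IsSolvable ↥M := solvable_of_coatom hG hM
  have hpl : PLengthLE p 1 ↥M := plengthLE_one_coatom hG hU hM p
  obtain ⟨S, hS⟩ := hPM.exists_sylow
  have hPc : (P : Subgroup G) ≤ ⁅M, M⁆ := sylow_le_commutator_of_normalizer_le hG hU hM hPM hpσ
  have hSc : (S : Subgroup ↥M) ≤ commutator ↥M := by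
    rw [← Subgroup.map_subtype_le_map_subtype, hS, Subgroup.map_subtype_commutator]
    exact hPc
  have h1 := (Cfsg.Agent.S1461.result p hpl S).1 hSc
  have hsecond : (P : Subgroup G) ≤ ⁅Subgroup.normalizer ((P : Subgroup G) : Set G),
      Subgroup.normalizer ((P : Subgroup G) : Set G)⁆ := by
    have h2 := Subgroup.map_mono (f := M.subtype) h1
    rw [hS, Subgroup.map_commutator] at h2
    refine h2.trans (Subgroup.commutator_mono ?_ ?_) <;>
    · have := map_normalizer_le (S : Subgroup ↥M)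
      rwa [hS] at this
  refine ⟨?_, hsecond⟩
  -- `P = [P, V]` inside `N = N_G(P)`
  obtain ⟨hPN, hVN, hdisj, hprod⟩ := hV
  have hNt : Subgroup.normalizer ((P : Subgroup G) : Set G) ≠ ⊤ :=
    normalizer_ne_top hG hP1 (not_isPGroup_top hG P.2)
  have hsN : Group.IsSolvable ↥(Subgroup.normalizer ((P : Subgroup G) : Set G)) :=
    solvable_of_ne_top hG hNt
  have hcompl : Subgroup.IsComplement'
      ((P : Subgroup G).subgroupOf (Subgroup.normalizer ((P : Subgroup G) : Set G)))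
      (V.subgroupOf (Subgroup.normalizer ((P : Subgroup G) : Set G))) := by
    apply Subgroup.isComplement'_of_disjoint_and_mul_eq_univ
    · rw [Subgroup.disjoint_def]
      intro y hyP hyV
      have h3 : (y : G) ∈ (P : Subgroup G) ⊓ V := ⟨hyP, hyV⟩
      rw [hdisj, Subgroup.mem_bot] at h3
      exact Subtype.ext h3
    · rw [Set.eq_univ_iff_forall]
      intro n
      obtain ⟨a, ha, b, hb, hab⟩ := hprod n n.2
      exact Set.mem_mul.2 ⟨⟨a, hPN ha⟩, ha, ⟨b, hVN hb⟩, hb, Subtype.ext hab.symm⟩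
  have hpp : p.Prime := Fact.out
  have hcomm := commutator_complement_eq hsN
    ((P : Subgroup G).subgroupOf (Subgroup.normalizer ((P : Subgroup G) : Set G)))
    (V.subgroupOf (Subgroup.normalizer ((P : Subgroup G) : Set G))) hcompl (by
      intro r hr hdvd
      rw [Cfsg.Agent.Lib.H1.card_subgroupOf_of_le hPN] at hdvd
      obtain ⟨k, hk⟩ := IsPGroup.iff_card.1 P.2
      rw [hk] at hdvd
      have hrp : r = p := (Nat.prime_dvd_prime_iff_eq hr hpp).1 (hr.dvd_of_dvd_pow hdvd)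
      subst hrp
      refine ⟨_, ((SylIn.of_sylow_top P).mono hPN le_top).2.2, ?_⟩
      rw [← Subgroup.map_subtype_le_map_subtype, Subgroup.map_subgroupOf_eq_of_le hPN,
        Subgroup.map_subtype_commutator]
      exact hsecond)
  have h4 := congrArg (Subgroup.map (Subgroup.normalizer ((P : Subgroup G) : Set G)).subtype) hcomm
  rw [Subgroup.map_commutator, Subgroup.map_subgroupOf_eq_of_le hPN,
    Subgroup.map_subgroupOf_eq_of_le hVN] at h4
  exact h4.symm

/-- **BG Theorem 10.7(c),(d),(e)** (`S1413`). -/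
theorem sylow_fusion_cde (hG : IsMinSimpleOddOrder G) (hU : Uniq3 G) {p : ℕ} [Fact p.Prime]
    (P : Sylow p G) :
    (∀ (Q : Subgroup G) (x : G), Q ≤ (P : Subgroup G) → cj(x, Q) ≤ (P : Subgroup G) →
        ∃ y ∈ Subgroup.normalizer ((P : Subgroup G) : Set G), cj(x, Q) = cj(y, Q)) ∧
      (∀ Q : Subgroup G, Q ≤ (P : Subgroup G) →
        ¬ p ∣ ((P : Subgroup G) ⊓ Subgroup.normalizer (Q : Set G)).relIndex
          (Subgroup.normalizer (Q : Set G))) ∧
      (∀ (R Q : Subgroup G), IsPGroup p R → Q ≤ (P : Subgroup G) ⊓ R →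
        Subgroup.normalizer ((P : Subgroup G) : Set G) ≤ Subgroup.normalizer (Q : Set G) →
        Subgroup.normalizer (R : Set G) ≤ Subgroup.normalizer (Q : Set G)) := by
  have hc : ∀ (Q : Subgroup G) (x : G), Q ≤ (P : Subgroup G) → cj(x, Q) ≤ (P : Subgroup G) →
      ∃ y ∈ Subgroup.normalizer ((P : Subgroup G) : Set G), cj(x, Q) = cj(y, Q) := by
    intro Q x hQP hx
    obtain ⟨y, hy, c, hc, rfl⟩ := sylow_fusion_factor hG hU P hQP hx
    refine ⟨y, hy, ?_⟩
    rw [← Cfsg.Agent.Lib.H10.map_conj_map_conj, map_conj_eq_self_of_mem_centralizer hc]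
  refine ⟨hc, ?_, ?_⟩
  · intro Q hQP
    have hR₀p : IsPGroup p ((P : Subgroup G) ⊓ Subgroup.normalizer (Q : Set G) : Subgroup G) :=
      P.2.to_le inf_le_left
    obtain ⟨R, hR, hR₀R⟩ := SylIn.exists_ge hR₀p inf_le_right
    have hQR : Q ≤ R := (le_inf hQP Subgroup.le_normalizer).trans hR₀R
    obtain ⟨g, -, hg⟩ := (SylIn.of_sylow_top P).exists_conj_le hR.isPGroup le_top
    have hgQ : cj(g, Q) ≤ (P : Subgroup G) := (Subgroup.map_mono hQR).trans hg
    obtain ⟨y, hy, c, hc', rfl⟩ := sylow_fusion_factor hG hU P hQP hgQ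
    have h5 : cj(y⁻¹, (P : Subgroup G)) = (P : Subgroup G) :=
      Subgroup.mem_normalizer_iff_map_conj_eq.1 (Subgroup.inv_mem _ hy)
    rw [← Cfsg.Agent.Lib.H10.map_conj_map_conj, map_conj_le_iff, h5] at hg
    have hcN : c ∈ Subgroup.normalizer (Q : Set G) := Subgroup.centralizer_le_normalizer _ hc'
    have h1 : cj(c, R) ≤ Subgroup.normalizer (Q : Set G) := by
      have := Subgroup.map_mono (f := (MulAut.conj c).toMonoidHom) hR.le
      rwa [map_conj_eq_self_of_mem hcN] at this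
    have h2 : Nat.card ↥R ≤
        Nat.card ↥((P : Subgroup G) ⊓ Subgroup.normalizer (Q : Set G) : Subgroup G) := by
      rw [← Cfsg.Agent.Lib.H10.card_map_conj c R]
      exact Subgroup.card_le_of_le (le_inf hg h1)
    have h3 : (P : Subgroup G) ⊓ Subgroup.normalizer (Q : Set G) = R :=
      Subgroup.eq_of_le_of_card_ge hR₀R h2
    rw [h3]
    exact hR.2.2
  · intro R Q hRp hQ hNPQ g hg
    -- `Q` is weakly closed in `P`
    have hwc : ∀ x : G, cj(x, Q) ≤ (P : Subgroup G) → cj(x, Q) = Q := by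
      intro x hx
      obtain ⟨y, hy, hxy⟩ := hc Q x (hQ.trans inf_le_left) hx
      rw [hxy]
      exact Subgroup.mem_normalizer_iff_map_conj_eq.1 (hNPQ hy)
    obtain ⟨h, -, hh⟩ := (SylIn.of_sylow_top P).exists_conj_le hRp le_top
    have hQR : Q ≤ R := hQ.trans inf_le_right
    have h1 : cj(h, Q) = Q := hwc h ((Subgroup.map_mono hQR).trans hh)
    have hgR : cj(g, R) = R := Subgroup.mem_normalizer_iff_map_conj_eq.1 hg
    have h2 : cj(h * g, Q) = Q := by
      apply hwc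
      rw [← Cfsg.Agent.Lib.H10.map_conj_map_conj]
      refine le_trans (Subgroup.map_mono ?_) hh
      rw [← hgR]
      exact Subgroup.map_mono hQR
    rw [Subgroup.mem_normalizer_iff_map_conj_eq]
    rw [← Cfsg.Agent.Lib.H10.map_conj_map_conj] at h2
    have h3 : cj(h⁻¹, cj(h, cj(g, Q))) = cj(h⁻¹, Q) := congrArg (fun X => cj(h⁻¹, X)) h2
    rw [Cfsg.Agent.Lib.H10.map_conj_inv_map_conj] at h3
    have h4 : cj(h⁻¹, cj(h, Q)) = cj(h⁻¹, Q) := congrArg (fun X => cj(h⁻¹, X)) h1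
    rw [Cfsg.Agent.Lib.H10.map_conj_inv_map_conj] at h4
    exact h3.trans h4.symm

end Cfsg.Agent.Lib.H7.BG10
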