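import Mathlib
import Cfsg.Prelude
import Cfsg.Agent.Lib.H7.BG10g
import Cfsg.Agent.Lib.H16.NarrowSolv
import Cfsg.Agent.Lib.H16.NarrowFit
import Cfsg.Agent.Lib.L0.NPCBasic
import Cfsg.Agent.Lib.L0.TransferPC
import Cfsg.Agent.S1450

/-!
# BG Section 10, part 8 (helper7): type-level lemmas for the `M_β` theorem

* groups all of whose primes have normal complements are nilpotent;
* if every prime outside `β` has a normal complement, then `O_β` is a Hall `β`-subgroup and has a
  nilpotent complement;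
* the conclusions of Bender--Glauberman 5.6 from a `MaxSq` structure on a Sylow subgroup.
-/

set_option autoImplicit false
set_option linter.style.haveILetI false
set_option linter.unusedSectionVars false
set_option linter.unusedVariables false

namespace Cfsg.Agent.Lib.H7.BG10

open Cfsg Cfsg.Agent.Lib.H16 Cfsg.Agent.Lib.L0

universe u v

section TypeLevelH

variable {X : Type u} [Group X] [Finite X]

/-- an element of prime power order `r ^ j` lies in every normal subgroup of `q`-power index,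
`q ≠ r`. -/
theorem isPGroup_le_of_index_pow {r q : ℕ} (hr : r.Prime) (hq : q.Prime) (hrq : q ≠ r)
    {P N : Subgroup X} (hP : IsPGroup r P) [N.Normal] {k : ℕ} (hk : N.index = q ^ k) : P ≤ N := by
  intro x hx
  apply mem_of_coprime_orderOf_of_index_pow N k hk x
  obtain ⟨j, hj⟩ := hP ⟨x, hx⟩
  have h1 : x ^ r ^ j = 1 := by
    have := congrArg Subtype.val hj
    simpa using this
  have h2 : orderOf x ∣ r ^ j := orderOf_dvd_of_pow_eq_one h1
  apply Nat.Coprime.coprime_dvd_left h2
  apply Nat.Coprime.pow_left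
  exact (Nat.coprime_primes hr hq).2 (Ne.symm hrq)

/-- a finite group in which every prime has a normal complement is nilpotent. -/
theorem isNilpotent_of_forall_hasNormalPComplement
    (h : ∀ q : ℕ, q.Prime → HasNormalPComplement q X) : Group.IsNilpotent X := by
  apply ((Group.isNilpotent_of_finite_tfae (G := X)).out 0 3).2
  intro r hr P
  have hex : ∀ q : ℕ, q.Prime → ∃ N : Subgroup X, N.Normal ∧ ¬ q ∣ Nat.card N ∧
      ∃ k, N.index = q ^ k := fun q hq => by
    haveI : Fact q.Prime := ⟨hq⟩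
    exact HasNormalPComplement.exists_normal (h q hq)
  choose N hNn hNc hNi using hex
  set K : Subgroup X := ⨅ q : {q : ℕ // q.Prime ∧ q ≠ r}, N q.1 q.2.1 with hK
  have hKn : K.Normal := Subgroup.normal_iInf_normal (fun q => hNn q.1 q.2.1)
  have hPK : (P : Subgroup X) ≤ K := by
    rw [hK]
    refine le_iInf (fun q => ?_)
    obtain ⟨k, hk⟩ := hNi q.1 q.2.1
    haveI := hNn q.1 q.2.1
    exact isPGroup_le_of_index_pow hr.out q.2.1 q.2.2 P.2 hk
  have hKr : IsPGroup r K := by
    apply IsPGroup.of_card (n := (Nat.card K).primeFactorsList.length)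
    apply Nat.eq_prime_pow_of_unique_prime_dvd Nat.card_pos.ne'
    intro d hd hdvd
    by_contra hne
    apply hNc d hd
    exact hdvd.trans (Subgroup.card_dvd_of_le (iInf_le _ (⟨d, hd, hne⟩ : {q : ℕ // q.Prime ∧ q ≠ r})))
  have hPKeq : K = P := P.is_maximal' hKr hPK
  rw [← hPKeq]
  exact hKn

/-- If every prime outside `β` has a normal complement in `X`, then every `p`-subgroup of `X`,
`p ∈ β`, lies in `O_β(X)`. -/
theorem isPGroup_le_piCore_of_hasNormalPComplement (β : Set ℕ)
    (h : ∀ q : ℕ, q.Prime → q ∉ β → HasNormalPComplement q X) {p : ℕ} (hp : p.Prime) (hpβ : p ∈ β)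
    {P : Subgroup X} (hP : IsPGroup p P) : P ≤ piCore β X := by
  have hex : ∀ q : ℕ, q.Prime → q ∉ β → ∃ N : Subgroup X, N.Normal ∧ ¬ q ∣ Nat.card N ∧
      ∃ k, N.index = q ^ k := fun q hq hqβ => by
    haveI : Fact q.Prime := ⟨hq⟩
    exact HasNormalPComplement.exists_normal (h q hq hqβ)
  choose N hNn hNc hNi using hex
  set D : Subgroup X := ⨅ q : {q : ℕ // q.Prime ∧ q ∉ β}, N q.1 q.2.1 q.2.2 with hD
  have hDn : D.Normal := Subgroup.normal_iInf_normal (fun q => hNn q.1 q.2.1 q.2.2)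
  have hPD : P ≤ D := by
    rw [hD]
    refine le_iInf (fun q => ?_)
    obtain ⟨k, hk⟩ := hNi q.1 q.2.1 q.2.2
    haveI := hNn q.1 q.2.1 q.2.2
    have hqp : q.1 ≠ p := fun hqp => q.2.2 (hqp ▸ hpβ)
    exact isPGroup_le_of_index_pow hp q.2.1 hqp hP hk
  have hDβ : ∀ d : ℕ, d.Prime → d ∣ Nat.card D → d ∈ β := by
    intro d hd hdvd
    by_contra hne
    apply hNc d hd hne
    exact hdvd.trans
      (Subgroup.card_dvd_of_le (iInf_le _ (⟨d, hd, hne⟩ : {q : ℕ // q.Prime ∧ q ∉ β})))
  exact hPD.trans (Cfsg.Agent.Lib.H19.le_piCore hDn hDβ)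

/-- If every prime outside `β` has a normal complement in `X`, then `O_β(X)` is a Hall
`β`-subgroup of `X`. -/
theorem piCore_index_of_hasNormalPComplement (β : Set ℕ)
    (h : ∀ q : ℕ, q.Prime → q ∉ β → HasNormalPComplement q X) {p : ℕ} (hp : p.Prime) (hpβ : p ∈ β) :
    ¬ p ∣ (piCore β X).index := by
  haveI : Fact p.Prime := ⟨hp⟩
  obtain ⟨P⟩ : Nonempty (Sylow p X) := inferInstance
  have hle := isPGroup_le_piCore_of_hasNormalPComplement β h hp hpβ P.2
  intro hdvd
  exact P.not_dvd_index (hdvd.trans (Subgroup.index_dvd_of_le hle))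

/-- If every prime outside `β` has a normal complement in `X`, then `X` has a nilpotent Hall
`β'`-subgroup. -/
theorem exists_nilpotent_hall_of_hasNormalPComplement (β : Set ℕ)
    (h : ∀ q : ℕ, q.Prime → q ∉ β → HasNormalPComplement q X) :
    ∃ H : Subgroup X, (∀ q : ℕ, q.Prime → q ∣ Nat.card H → q ∉ β) ∧
      (∀ q : ℕ, q.Prime → q ∉ β → ¬ q ∣ H.index) ∧ Group.IsNilpotent H := by
  have hcop : Nat.Coprime (Nat.card (piCore β X)) (piCore β X).index := by
    apply Nat.coprime_of_dvd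
    intro k hk hk1 hk2
    exact piCore_index_of_hasNormalPComplement β h hk
      (Cfsg.Agent.Lib.H19.piCore_isPiCard β k hk hk1) hk2
  obtain ⟨H, hH⟩ := Subgroup.exists_right_complement'_of_coprime hcop
  have hHcard : Nat.card H = (piCore β X).index := hH.symm.index_eq_card.symm
  have hHidx : H.index = Nat.card (piCore β X) := hH.index_eq_card
  have h1 : ∀ q : ℕ, q.Prime → q ∣ Nat.card H → q ∉ β := by
    intro q hq hdvd hqβ
    rw [hHcard] at hdvd
    exact piCore_index_of_hasNormalPComplement β h hq hqβ hdvd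
  refine ⟨H, h1, ?_, ?_⟩
  · intro q hq hqβ hdvd
    rw [hHidx] at hdvd
    exact hqβ (Cfsg.Agent.Lib.H19.piCore_isPiCard β q hq hdvd)
  · apply isNilpotent_of_forall_hasNormalPComplement
    intro q hq
    haveI : Fact q.Prime := ⟨hq⟩
    by_cases hqβ : q ∈ β
    · exact hasNormalPComplement_of_not_dvd (fun hdvd => h1 q hq hdvd hqβ)
    · exact HasNormalPComplement.subgroup (h q hq hqβ) H

/-- The conclusions of Bender--Glauberman 5.6 when a Sylow `p`-subgroup has the `MaxSq`
structure. -/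
theorem conclusion_of_maxSq (hs : Group.IsSolvable X) (hodd : Odd (Nat.card X)) (p : ℕ)
    [hp : Fact p.Prime] (S : Sylow p X) {P : Type v} [Group P] [Finite P] {E : Subgroup P}
    (hE : Narrow.MaxSq P p E) (e : ↥(S : Subgroup X) ≃* P) (hpl : PLengthLE p 1 X) :
    (∀ q : ℕ, q.Prime → q ∣ (pPrimeCore p X).index → q ≤ p) ∧
      HasNormalPComplement p ↥(commutator X) := by
  have hpp : p.Prime := hp.out
  obtain ⟨e0⟩ := Narrow.nonempty_mulEquiv_pCore_quotient S hpl
  obtain ⟨h1, h2, h3⟩ := Narrow.structure_of_maxSq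
    (Group.isSolvable_of_surjective (QuotientGroup.mk'_surjective (pPrimeCore p X)))
    (Cfsg.Agent.Lib.H9.pPrimeCore_quotient_eq_bot p) hE (e0.trans e)
  have h4 := Narrow.conclusion_of_structure hodd p h1 h2 (by
    intro q hq hqp hqd
    have h4 := h3 q hq hqp hqd
    have h5 : q ≤ p - 1 := Nat.le_of_dvd (by have := hpp.two_le; omega) h4
    have := hpp.two_le
    omega)
  exact ⟨h4.1, h4.2.2.1⟩

end TypeLevelH

section GroupLevelH

open Cfsg.Agent.Lib.H16.BG Cfsg.Agent.Lib.H7.BG7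

variable {G : Type u} [Group G] [Finite G]

/-- A prime of rank at least three that is not ideal gives the `MaxSq` structure on some Sylow
subgroup. -/
theorem exists_maxSq_of_not_ideal {q : ℕ} [hq : Fact q.Prime] (hq2 : q ≠ 2)
    (hr : ¬ PRankLE q 2 G) (hni : ¬ IsIdealPrime q G) :
    ∃ (P : Sylow q G) (E : Subgroup ↥(P : Subgroup G)), Narrow.MaxSq ↥(P : Subgroup G) q E := by
  unfold IsIdealPrime at hni
  push Not at hni
  obtain ⟨P, A, hAP, hA, hAc, hAmax⟩ := hni hq.out hr
  refine ⟨P, A.subgroupOf P, ?_⟩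
  have hcard : Nat.card (A.subgroupOf (P : Subgroup G)) = Nat.card A :=
    Nat.card_congr (Subgroup.subgroupOfEquivOfLe hAP).toEquiv
  apply Narrow.maxSq_of_maximal hq2 P.2 (fun h => hr (Narrow.pRankLE_of_sylow P h))
  · refine ⟨⟨⟨fun a b => ?_⟩⟩, fun a ha => ?_⟩
    · apply Subtype.ext
      apply Subtype.ext
      have := hA.1.is_comm.comm (⟨a.1.1, a.2⟩ : A) ⟨b.1.1, b.2⟩
      have h2 := congrArg (fun z : A => (z : G)) this
      simpa using h2
    · apply Subtype.ext
      have := hA.2 a.1 ha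
      simpa using this
  · intro B' hB' hle
    have hB'' : IsElementaryAbelian q (B'.map (P : Subgroup G).subtype) := by
      refine ⟨⟨⟨fun a b => ?_⟩⟩, ?_⟩
      · obtain ⟨a, a', ha', rfl⟩ := a
        obtain ⟨b, b', hb', rfl⟩ := b
        apply Subtype.ext
        have := hB'.1.is_comm.comm (⟨a', ha'⟩ : B') ⟨b', hb'⟩
        have h2 := congrArg (fun z : B' => ((z : ↥(P : Subgroup G)) : G)) this
        simpa using h2
      · rintro _ ⟨a', ha', rfl⟩
        have := hB'.2 a' ha'
        have h2 := congrArg (fun z : ↥(P : Subgroup G) => (z : G)) this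
        simpa using h2
    have hle' : A ≤ B'.map (P : Subgroup G).subtype := by
      intro a ha
      exact ⟨⟨a, hAP ha⟩, hle (show (⟨a, hAP ha⟩ : ↥(P : Subgroup G)) ∈ A.subgroupOf P from ha), rfl⟩
    have heq : B'.map (P : Subgroup G).subtype = A := by
      by_contra hne
      exact hAmax _ (Subgroup.map_subtype_le _) hB'' (lt_of_le_of_ne hle' (Ne.symm hne))
    apply le_antisymm _ hle
    intro b hb
    show (b : G) ∈ A
    rw [← heq]
    exact ⟨b, hb, rfl⟩
  · rw [hcard, hAc]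

/-- **BG Theorem 10.8(c)**, main part, under `Uniq3`: for a prime `q ∉ β(M)` the commutator subgroup
of `M` has a normal `q`-complement, and if `q` divides `|M|` every prime divisor of
`|M : O_{q'}(M)|` is at most `q`. -/
theorem not_beta_complement (hG : IsMinSimpleOddOrder G) (hU : Uniq3 G) {M : Subgroup G}
    (hM : IsCoatom M) {q : ℕ} (hq : q.Prime) (hqβ : q ∉ beta M) :
    HasNormalPComplement q ↥(commutator ↥M) ∧
      (q ∣ Nat.card ↥M → ∀ r : ℕ, r.Prime → r ∣ (pPrimeCore q ↥M).index → r ≤ q) := by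
  haveI : Fact q.Prime := ⟨hq⟩
  have hs : Group.IsSolvable ↥M := solvable_of_coatom hG hM
  haveI := hs
  have hodd : Odd (Nat.card ↥M) := odd_card_subgroup hG M
  by_cases hdvd : q ∣ Nat.card ↥M
  swap
  · refine ⟨hasNormalPComplement_of_not_dvd (fun h => hdvd ?_), fun h => absurd h hdvd⟩
    exact h.trans (Subgroup.card_subgroup_dvd_card _)
  by_cases hα : q ∈ alpha M
  swap
  · have hr : PRankLE q 2 ↥M := by
      by_contra h
      exact hα ⟨hq, h⟩
    have h1 := Cfsg.Agent.S1450.result hodd q hdvd hr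
    exact ⟨h1.2.2.1, fun _ => h1.1⟩
  have hrM : ¬ PRankLE q 2 ↥M := hα.2
  have hrG : ¬ PRankLE q 2 G := fun h => hrM (RankTwo.pRankLE_subgroup h M)
  have hni : ¬ IsIdealPrime q G := fun h => hqβ ⟨hα, h⟩
  have hq2 : q ≠ 2 := prime_ne_two_of_dvd_card hG hdvd
  obtain ⟨P, E, hE⟩ := exists_maxSq_of_not_ideal hq2 hrG hni
  obtain ⟨_, _, S, hS⟩ := alpha_subset_sigma hG hU hM hα
  have hStop : SylIn q ((S : Subgroup ↥M).map M.subtype) ⊤ :=
    sylIn_top_of_normalizer_le (SylIn.of_sylow S) hS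
  obtain ⟨S', hS'⟩ := hStop.exists_sylow_top
  let e1 : ↥(S : Subgroup ↥M) ≃* ↥((S : Subgroup ↥M).map M.subtype) :=
    Subgroup.equivMapOfInjective _ _ M.subtype_injective
  let e2 : ↥((S : Subgroup ↥M).map M.subtype) ≃* ↥(S' : Subgroup G) :=
    MulEquiv.subgroupCongr hS'.symm
  let e3 : ↥(S' : Subgroup G) ≃* ↥(P : Subgroup G) := Sylow.equiv S' P
  have h1 := conclusion_of_maxSq hs hodd q S hE ((e1.trans e2).trans e3)
    (plengthLE_one_coatom hG hU hM q)
  exact ⟨h1.2, fun _ => h1.1⟩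

/-- a nilpotent Hall `β'`-subgroup of a subgroup `K` all of whose non-`β` primes have normal
complements. -/
theorem exists_nilpotent_hallOf (β : Set ℕ) (K : Subgroup G)
    (h : ∀ q : ℕ, q.Prime → q ∉ β → HasNormalPComplement q ↥K) :
    ∃ H : Subgroup G, IsPiHallOf {q | q.Prime ∧ q ∉ β} H K ∧ Group.IsNilpotent H := by
  obtain ⟨H, h1, h2, h3⟩ := exists_nilpotent_hall_of_hasNormalPComplement β h
  refine ⟨H.map K.subtype, ⟨Subgroup.map_subtype_le _, ?_, ?_⟩, ?_⟩
  · intro p hp hdvd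
    rw [Subgroup.card_map_of_injective K.subtype_injective] at hdvd
    exact ⟨hp, h1 p hp hdvd⟩
  · intro p hp hpβ
    have hrel : (H.map K.subtype).relIndex K = H.index := by
      unfold Subgroup.relIndex
      rw [Subgroup.subgroupOf, Subgroup.comap_map_eq_self_of_injective K.subtype_injective]
    rw [hrel]
    exact h2 p hp hpβ.2
  · haveI := h3
    exact Group.nilpotent_of_mulEquiv
      (Subgroup.equivMapOfInjective H K.subtype K.subtype_injective)

/-- `M_σ ≤ M'` under `Uniq3`. -/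
theorem sigmaCore_le_commutator (hG : IsMinSimpleOddOrder G) (hU : Uniq3 G) {M : Subgroup G}
    (hM : IsCoatom M) : sigmaCore M ≤ ⁅M, M⁆ := by
  have key : piCore (sigma M) ↥M ≤ commutator ↥M := by
    rw [← Subgroup.relIndex_eq_one]
    by_contra hne
    obtain ⟨p, hp, hdvd⟩ := Nat.exists_prime_and_dvd hne
    haveI : Fact p.Prime := ⟨hp⟩
    have hpσ : p ∈ sigma M :=
      Cfsg.Agent.Lib.H19.piCore_isPiCard (sigma M) p hp
        (hdvd.trans (Subgroup.relIndex_dvd_card _ _))
    obtain ⟨P, hPM, _, hPc⟩ := sylow_le_commutator_of_sigma hG hU hM hpσ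
    have hle : P.subgroupOf M ≤ commutator ↥M := by
      rw [← Subgroup.map_subtype_le_map_subtype, Subgroup.map_subgroupOf_eq_of_le hPM.le,
        Subgroup.map_subtype_commutator]
      exact hPc
    have h1 : ¬ p ∣ (P.subgroupOf M).index := hPM.2.2
    apply h1
    exact (hdvd.trans (Subgroup.relIndex_dvd_index_of_normal _ _)).trans
      (Subgroup.index_dvd_of_le hle)
  unfold sigmaCore
  rw [← Subgroup.map_subtype_commutator]
  exact Subgroup.map_mono key

/-- **BG Theorem 10.8** under `Uniq3`. -/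
theorem beta_core_theorem (hG : IsMinSimpleOddOrder G) (hU : Uniq3 G) {M : Subgroup G}
    (hM : IsCoatom M) :
    IsPiHallOf (beta M) (piCoreOf (beta M) M) M ∧ IsPiHall (beta M) (piCoreOf (beta M) M) ∧
      (∃ H : Subgroup G, IsPiHallOf {q | q.Prime ∧ q ∉ beta M} H ⁅M, M⁆ ∧ Group.IsNilpotent H) ∧
      (∃ H : Subgroup G, IsPiHallOf {q | q.Prime ∧ q ∉ beta M} H (sigmaCore M) ∧
        Group.IsNilpotent H) ∧
      ∀ p : ℕ, p.Prime → p ∣ Nat.card M → p ∉ beta M →
        HasNormalPComplement p ↥⁅M, M⁆ ∧ HasNormalPComplement p ↥(sigmaCore M) ∧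
        ∀ q : ℕ, q.Prime → q ∣ (pPrimeCore p ↥M).index → q ≤ p := by
  let e : ↥(commutator ↥M) ≃* ↥⁅M, M⁆ :=
    (Subgroup.equivMapOfInjective (commutator ↥M) M.subtype M.subtype_injective).trans
      (MulEquiv.subgroupCongr (Subgroup.map_subtype_commutator M))
  have hC : ∀ q : ℕ, q.Prime → q ∉ beta M → HasNormalPComplement q ↥⁅M, M⁆ := by
    intro q hq hqβ
    haveI : Fact q.Prime := ⟨hq⟩
    exact HasNormalPComplement.of_mulEquiv e (not_beta_complement hG hU hM hq hqβ).1
  have hσle := sigmaCore_le_commutator hG hU hM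
  have hS : ∀ q : ℕ, q.Prime → q ∉ beta M → HasNormalPComplement q ↥(sigmaCore M) := by
    intro q hq hqβ
    haveI : Fact q.Prime := ⟨hq⟩
    exact HasNormalPComplement.of_le hσle (hC q hq hqβ)
  have hsub := alpha_subset_sigma hG hU hM
  have hcM : ⁅M, M⁆ ≤ M := Subgroup.commutator_le_self M
  have hnM : M ≤ Subgroup.normalizer ((⁅M, M⁆ : Subgroup G) : Set G) := by
    have h1 := map_normalizer_le (commutator ↥M)
    rw [Subgroup.normalizer_eq_top, Subgroup.map_subtype_commutator, ← MonoidHom.range_eq_map,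
      Subgroup.range_subtype] at h1
    exact h1
  have hkey : ∀ p : ℕ, p.Prime → p ∈ beta M →
      ∃ P : Subgroup G, SylIn p P M ∧ SylIn p P ⊤ ∧ P ≤ piCoreOf (beta M) M := by
    intro p hp hpβ
    haveI : Fact p.Prime := ⟨hp⟩
    obtain ⟨P, hPM, hPtop, hPc⟩ := sylow_le_commutator_of_sigma hG hU hM (hsub hpβ.1)
    refine ⟨P, hPM, hPtop, ?_⟩
    have h1 : P.subgroupOf ⁅M, M⁆ ≤ piCore (beta M) ↥⁅M, M⁆ :=
      isPGroup_le_piCore_of_hasNormalPComplement (beta M) hC hp hpβ hPM.isPGroup.comap_subtype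
    have h2 : P ≤ piCoreOf (beta M) ⁅M, M⁆ := by
      unfold piCoreOf
      rw [← Subgroup.map_subgroupOf_eq_of_le hPc]
      exact Subgroup.map_mono h1
    exact h2.trans (piCoreOf_le_piCoreOf_of_normal (beta M) hcM hnM)
  have hpi : ∀ p : ℕ, p.Prime → p ∣ Nat.card ↥(piCoreOf (beta M) M) → p ∈ beta M :=
    piCoreOf_isPiCard (beta M) M
  refine ⟨⟨piCoreOf_le _ _, hpi, ?_⟩, ⟨hpi, ?_⟩, exists_nilpotent_hallOf (beta M) _ hC,
    exists_nilpotent_hallOf (beta M) _ hS, ?_⟩
  · intro p hp hpβ hdvd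
    obtain ⟨P, hPM, _, hle⟩ := hkey p hp hpβ
    exact hPM.2.2 (hdvd.trans (Subgroup.relIndex_dvd_of_le_left M hle))
  · intro p hp hpβ hdvd
    obtain ⟨P, _, hPtop, hle⟩ := hkey p hp hpβ
    haveI : Fact p.Prime := ⟨hp⟩
    exact hPtop.top_not_dvd_index (hdvd.trans (Subgroup.index_dvd_of_le hle))
  · intro p hp hdvd hpβ
    exact ⟨hC p hp hpβ, hS p hp hpβ, (not_beta_complement hG hU hM hp hpβ).2 hdvd⟩

end GroupLevelH

end Cfsg.Agent.Lib.H7.BG10
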