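import Mathlib
import Cfsg.Prelude
import Cfsg.Agent.Lib.H7.BG10h
import Cfsg.Agent.Lib.H8.BG12a
import Cfsg.Agent.Lib.H20.BGS1
import Cfsg.Agent.Lib.H19.HallPi

/-!
# BG Sections 12--14, consequences (helper7): basic facts on `M_σ`, the `σ`-decomposition,
and the Sylow subgroups of `U` (Peterfalvi (Ib)).

Everything is under the hypothesis `Uniq3 G`; later statements of the chain enter as explicit
hypotheses.
-/

set_option autoImplicit false
set_option linter.style.haveILetI false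
set_option linter.unusedSectionVars false
set_option linter.unusedVariables false

open Cfsg

namespace Cfsg.Agent.Lib.H7.BG14

open Cfsg.Agent.Lib.H16.BG Cfsg.Agent.Lib.H7.BG7 Cfsg.Agent.Lib.H7.BG10 Cfsg.Agent.Lib.H8.BG12
open Cfsg.Agent.Lib.H20.BGS

universe u
variable {G : Type u} [Group G] [Finite G]

/-- for `p ∈ σ(M)`, every `p`-subgroup of `M` lies in `M_σ`. -/
theorem le_sigmaCore_of_isPGroup (hG : IsMinSimpleOddOrder G) (hU : Uniq3 G) {M : Subgroup G}
    (hM : IsCoatom M) {p : ℕ} (hp : p ∈ sigma M) {Q : Subgroup G} (hQM : Q ≤ M)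
    (hQ : IsPGroup p Q) : Q ≤ sigmaCore M := by
  have hpp : p.Prime := hp.1
  haveI : Fact p.Prime := ⟨hpp⟩
  obtain ⟨⟨-, -, hidx⟩, -, -⟩ := sigma_core_hall hG hU hM
  have hrel : (sigmaCore M).relIndex M = (piCore (sigma M) ↥M).index := by
    unfold sigmaCore Subgroup.relIndex
    rw [Subgroup.subgroupOf, Subgroup.comap_map_eq_self_of_injective M.subtype_injective]
  have hQ' : IsPGroup p ↥(Q.subgroupOf M) := hQ.comap_subtype
  obtain ⟨k, hk⟩ := IsPGroup.iff_card.1 hQ'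
  have hcop : (Nat.card ↥(Q.subgroupOf M)).Coprime (piCore (sigma M) ↥M).index := by
    rw [hk]
    apply Nat.Coprime.pow_left
    rw [Nat.Prime.coprime_iff_not_dvd hpp, ← hrel]
    exact hidx p hpp hp
  have hle := le_of_coprime_card_index hcop
  intro x hx
  exact ⟨⟨x, hQM hx⟩, hle (show (⟨x, hQM hx⟩ : ↥M) ∈ Q.subgroupOf M from hx), rfl⟩

/-- an odd-order `p`-subgroup of `M` is cyclic when `M` has `p`-rank at most one. -/
theorem isCyclic_of_pRankLE_one (hG : IsMinSimpleOddOrder G) {M Q : Subgroup G} {p : ℕ}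
    [hp : Fact p.Prime] (hQM : Q ≤ M) (hQ : IsPGroup p Q) (hr : PRankLE p 1 ↥M) : IsCyclic ↥Q := by
  by_cases hQ1 : Q = ⊥
  · subst hQ1
    exact isCyclic_of_subsingleton
  have hp2 : p ≠ 2 := prime_ne_two_of_dvd_card hG (dvd_card_of_ne_bot hQ le_rfl hQ1)
  by_contra hnc
  apply not_rankLE_one_of_not_isCyclic hp2 hQ hnc
  intro r hr'
  by_cases hrp : r = p
  · subst hrp
    exact pRankLE_of_le hQM hr
  · exact pRankLE_of_isPGroup_ne hr' hrp hQ

/-- The part of the frozen statement `S1417` (BG 12.5(b)) used for the Sylow subgroups of `U`. -/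
def HypTau2Abelian (G : Type u) [Group G] : Prop :=
  ∀ (M : Subgroup G), IsCoatom M → ∀ (p : ℕ) [Fact p.Prime], p ∈ tau2 M → ∀ A : Subgroup G,
    (A ≤ M ∧ IsElementaryAbelian p A ∧ Nat.card A = p ^ 2) →
      ∀ P : Sylow p M, IsMulCommutative (P : Subgroup M)

/-- a `p`-subgroup of `M`, `p ∉ σ(M)`, is abelian of rank at most two. -/
theorem sigma_prime_pgroup_abelian (hG : IsMinSimpleOddOrder G) (hU : Uniq3 G)
    (h17 : HypTau2Abelian G) {M : Subgroup G}
    (hM : IsCoatom M) {p : ℕ} [hp : Fact p.Prime] (hpσ : p ∉ sigma M) {Q : Subgroup G}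
    (hQM : Q ≤ M) (hQ : IsPGroup p Q) : IsMulCommutative ↥Q ∧ PRankLE p 2 ↥Q := by
  have hpp : p.Prime := hp.out
  have hr2 : PRankLE p 2 ↥M := by
    by_contra h
    exact hpσ (alpha_subset_sigma hG hU hM ⟨hpp, h⟩)
  refine ⟨?_, pRankLE_of_le hQM hr2⟩
  by_cases hr1 : PRankLE p 1 ↥M
  · haveI := isCyclic_of_pRankLE_one hG hQM hQ hr1
    exact ⟨⟨fun a b => IsCyclic.commGroup.mul_comm a b⟩⟩
  · obtain ⟨B, hBM, hBe, hBc⟩ := exists_elemAb_of_not_pRankLE hpp hr1
    have hBc2 : Nat.card ↥B = p ^ 2 := by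
      have h1 : Nat.card ↥B ≤ p ^ 2 := by
        have := hr2 (B.subgroupOf M) ⟨⟨fun a b => Subtype.ext (Subtype.ext (by
          have := hBe.1.is_comm.comm (⟨a.1.1, a.2⟩ : B) ⟨b.1.1, b.2⟩
          have h2 := congrArg (fun z : B => (z : G)) this
          simpa using h2))⟩⟩ (fun a ha => Subtype.ext (by
          have := hBe.2 a.1 ha
          simpa using this))
        rwa [card_subgroupOf_le hBM] at this
      exact le_antisymm h1 hBc
    have hτ : p ∈ tau2 M := ⟨hpp, hpσ, hr2, hr1⟩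
    obtain ⟨S, hS⟩ := (hQ.comap_subtype (K := M)).exists_le_sylow
    have hSc := h17 M hM p hτ B ⟨hBM, hBe, hBc2⟩ S
    refine ⟨⟨fun a b => Subtype.ext ?_⟩⟩
    have ha : (⟨a.1, hQM a.2⟩ : ↥M) ∈ (S : Subgroup ↥M) := hS (show _ ∈ Q.subgroupOf M from a.2)
    have hb : (⟨b.1, hQM b.2⟩ : ↥M) ∈ (S : Subgroup ↥M) := hS (show _ ∈ Q.subgroupOf M from b.2)
    have h1 := hSc.is_comm.comm (⟨_, ha⟩ : (S : Subgroup ↥M)) ⟨_, hb⟩
    have h2 := congrArg (fun z : (S : Subgroup ↥M) => ((z : ↥M) : G)) h1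
    simpa using h2

/-- **Peterfalvi (Ib), Sylow subgroups of `U`** (S1358), from BG 12.5(b). -/
theorem sylow_U_abelian (hG : IsMinSimpleOddOrder G) (hU : Uniq3 G) (h17 : HypTau2Abelian G)
    {M : Subgroup G} (hM : IsCoatom M) {K U : Subgroup G} (hKU : IsSigmaDecomposition M K U) :
    ∀ (p : ℕ), p.Prime → ∀ P : Sylow p U,
      IsMulCommutative (P : Subgroup U) ∧ PRankLE p 2 (P : Subgroup U) := by
  intro p hpp P
  haveI : Fact p.Prime := ⟨hpp⟩
  obtain ⟨hUM, -, hdisj, -⟩ := hKU.compl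
  set Q : Subgroup G := (P : Subgroup U).map U.subtype with hQdef
  have hQU : Q ≤ U := Subgroup.map_subtype_le _
  have hQM : Q ≤ M := hQU.trans hUM
  have hQ : IsPGroup p Q := P.2.map _
  let e : ↥(P : Subgroup U) ≃* ↥Q := Subgroup.equivMapOfInjective _ _ U.subtype_injective
  have key : IsMulCommutative ↥Q ∧ PRankLE p 2 ↥Q := by
    by_cases hpσ : p ∈ sigma M
    · have h1 : Q ≤ sigmaCore M := le_sigmaCore_of_isPGroup hG hU hM hpσ hQM hQ
      have h2 : Q ≤ U ⊓ (K ⊔ sigmaCore M) := le_inf hQU (h1.trans le_sup_right)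
      rw [hdisj, le_bot_iff] at h2
      rw [h2]
      exact ⟨⟨⟨fun a b => Subsingleton.elim _ _⟩⟩, pRankLE_bot' p 2 hpp rfl⟩
    · exact sigma_prime_pgroup_abelian hG hU h17 hM hpσ hQM hQ
  refine ⟨⟨⟨fun a b => ?_⟩⟩, pRankLE_of_injective e.toMonoidHom e.injective key.2⟩
  apply e.injective
  rw [map_mul, map_mul]
  exact key.1.is_comm.comm (e a) (e b)

end Cfsg.Agent.Lib.H7.BG14
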