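import Mathlib
import Cfsg.Agent.Lib.H7.BG14a
import Cfsg.Agent.Lib.H8.BG12f
import Cfsg.Agent.Lib.H20.BGT6

/-!
# BG section 13, part 0: general lemmas

Complements of `M_σ` containing a given `σ(M)'`-subgroup, coprime action (an invariant subgroup of
prime power order that is not centralized), normal `q`-complements, `σ` and conjugation.
-/

set_option autoImplicit false
set_option linter.style.haveILetI false
open Cfsg
open Cfsg.Agent.Lib.H16.BG
open Cfsg.Agent.Lib.H7.BG7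
open Cfsg.Agent.Lib.H7.BG10
open Cfsg.Agent.Lib.H20.BGS
open Cfsg.Agent.Lib.H19 (IsPiCard)

namespace Cfsg.Agent.Lib.H7.BG13

universe u
variable {G : Type u} [Group G] [Finite G]

local notation:max "cj(" g ", " X ")" => Subgroup.map (MulEquiv.toMonoidHom (MulAut.conj g)) X

/-- Every `σ(M)'`-subgroup of `M` lies in a complement of `M_σ` in `M`. -/
theorem exists_compl_ge (hG : IsMinSimpleOddOrder G) {M : Subgroup G} (hM : IsCoatom M)
    {Y : Subgroup G} (hYM : Y ≤ M) (hY : ∀ q : ℕ, q.Prime → q ∣ Nat.card Y → q ∉ sigma M) :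
    ∃ E : Subgroup G, IsComplIn E (sigmaCore M) M ∧ Y ≤ E := by
  have hU := Cfsg.Agent.Lib.H20.BGT.uniq3 hG
  have hσ := (sigma_core_hall hG hU hM).1
  haveI := solvable_of_coatom hG hM
  obtain ⟨E, hE, hYE⟩ := Cfsg.Agent.Lib.H19.exists_isPiHallOf_ge (π := (sigma M)ᶜ) hYM
    (fun q hq hd => hY q hq hd)
  refine ⟨E, ?_, hYE⟩
  have hNM : sigmaCore M ≤ M := sigmaCore_le M
  have hcop : (Nat.card E).Coprime (Nat.card (sigmaCore M)) := by
    apply Nat.coprime_of_dvd
    intro q hq h1 h2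
    exact hE.2.1 q hq h1 (hσ.2.1 q hq h2)
  have hcard : Nat.card E * Nat.card (sigmaCore M) = Nat.card M := by
    have h1 := SylIn.card_mul_relIndex hE.1
    have h2 := SylIn.card_mul_relIndex hNM
    have h3 : Nat.card (sigmaCore M) = E.relIndex M := by
      apply Cfsg.Agent.Lib.H19.pi_part_unique (π := sigma M) (n := (sigmaCore M).relIndex M)
        (n' := Nat.card E)
      · rw [h2, mul_comm, h1]
      · exact fun q hq hd => hσ.2.1 q hq hd
      · intro q hq hd hqσ; exact hσ.2.2 q hq hqσ hd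
      · intro q hq hd; by_contra hqσ; exact hE.2.2 q hq hqσ hd
      · exact fun q hq hd => hE.2.1 q hq hd
    rw [h3, h1]
  refine ⟨hE.1, hNM, (Subgroup.disjoint_of_coprime_natCard hcop).eq_bot, ?_⟩
  have hc1 : Nat.card (E.subgroupOf M) = Nat.card E :=
    Nat.card_congr (Subgroup.subgroupOfEquivOfLe hE.1).toEquiv
  have hc2 : Nat.card ((sigmaCore M).subgroupOf M) = Nat.card (sigmaCore M) :=
    Nat.card_congr (Subgroup.subgroupOfEquivOfLe hNM).toEquiv
  have hcompl : (E.subgroupOf M).IsComplement' ((sigmaCore M).subgroupOf M) := by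
    apply Subgroup.isComplement'_of_coprime
    · rw [hc1, hc2, hcard]
    · rw [hc1, hc2]; exact hcop
  intro m hm
  obtain ⟨⟨a, b⟩, hab⟩ := hcompl.2 ⟨m, hm⟩
  refine ⟨a.1.1, Subgroup.mem_subgroupOf.1 a.2, b.1.1, Subgroup.mem_subgroupOf.1 b.2, ?_⟩
  have := congrArg Subtype.val hab
  simpa using this.symm

theorem sylIn_of_isPiHallOf_singleton {q : ℕ} (hq : q.Prime) {Q C : Subgroup G}
    (h : IsPiHallOf {q} Q C) : SylIn q Q C := by
  refine ⟨h.1, ?_, h.2.2 q hq rfl⟩
  have h1 : Nat.card Q = q ^ (Nat.card Q).primeFactorsList.length :=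
    Nat.eq_prime_pow_of_unique_prime_dvd Nat.card_pos.ne' (fun {d} hd hdv => h.2.1 d hd hdv)
  haveI : Fact q.Prime := ⟨hq⟩
  exact IsPGroup.of_card h1

/-- Coprime action: if `S` does not centralize the solvable group `C`, some `S`-invariant subgroup
of prime power order of `C` is not centralized by `S`. -/
theorem exists_invariant_pgroup_not_centralized {C S : Subgroup G} [hs : Group.IsSolvable C]
    (hSC : S ≤ Subgroup.normalizer (C : Set G)) (hcop : (Nat.card S).Coprime (Nat.card C))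
    (h : ¬ C ≤ Subgroup.centralizer (S : Set G)) :
    ∃ q : ℕ, q.Prime ∧ ∃ Q : Subgroup G, Q ≤ C ∧ IsPGroup q Q ∧
      S ≤ Subgroup.normalizer (Q : Set G) ∧ ¬ Q ≤ Subgroup.centralizer (S : Set G) := by
  by_contra hall
  push Not at hall
  apply h
  have hact : Cfsg.Agent.Lib.H1.CoprimeAction S C := ⟨hSC, hcop, Or.inr hs⟩
  have hdvd : Nat.card C ∣ Nat.card (C ⊓ Subgroup.centralizer (S : Set G) : Subgroup G) := by
    apply Cfsg.Agent.Lib.H7.le_of_forall_sylow_le
    intro q hq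
    obtain ⟨Q, hQ, hSQ⟩ := Cfsg.Agent.Lib.H19.coprime_exists_invariant_hall hact {q}
    have hsyl := sylIn_of_isPiHallOf_singleton hq hQ
    haveI : Fact q.Prime := ⟨hq⟩
    exact ⟨Q, le_inf hQ.1 (hall q hq Q hQ.1 hsyl.isPGroup hSQ), hsyl.card_eq⟩
  have heq : C ⊓ Subgroup.centralizer (S : Set G) = C :=
    Subgroup.eq_of_le_of_card_ge inf_le_left (Nat.le_of_dvd Nat.card_pos hdvd)
  rw [← heq]
  exact inf_le_right

/-- In a group with a normal `q`-complement, a `p`-subgroup (`p ≠ q`) normalizing a `q`-subgroup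
centralizes it. -/
theorem commutator_eq_bot_of_hasNormalPComplement {q p : ℕ} [Fact q.Prime] [Fact p.Prime]
    (hpq : p ≠ q) {B Q S : Subgroup G} (hB : HasNormalPComplement q ↥B) (hQB : Q ≤ B) (hSB : S ≤ B)
    (hQ : IsPGroup q Q) (hS : IsPGroup p S) (hSQ : S ≤ Subgroup.normalizer (Q : Set G)) :
    ⁅Q, S⁆ = ⊥ := by
  have hQn : Q ≤ Subgroup.normalizer (Q : Set G) := Subgroup.le_normalizer
  have hDB : Q ⊔ S ≤ B := sup_le hQB hSB
  have hD : HasNormalPComplement q ↥(Q ⊔ S) := Cfsg.Agent.Lib.L0.HasNormalPComplement.of_le hDB hB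
  have hDn : Q ⊔ S ≤ Subgroup.normalizer (Q : Set G) := sup_le hQn hSQ
  haveI hn : (Q.subgroupOf (Q ⊔ S)).Normal := by
    refine ⟨fun n hn g => ?_⟩
    rw [Subgroup.mem_subgroupOf] at hn ⊢
    have hg := hDn g.2
    rw [Subgroup.mem_normalizer_iff] at hg
    simpa using (hg n.1).1 hn
  have hQ' : IsPGroup q (Q.subgroupOf (Q ⊔ S)) := hQ.comap_subtype
  rw [Subgroup.commutator_comm, Subgroup.commutator_eq_bot_iff_le_centralizer]
  intro s hs
  have hsD : s ∈ Q ⊔ S := Subgroup.mem_sup_right hs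
  have hcop : Nat.Coprime (orderOf (⟨s, hsD⟩ : ↥(Q ⊔ S))) q := by
    rw [Subgroup.orderOf_mk]
    obtain ⟨k, hk⟩ := (IsPGroup.iff_orderOf.1 hS) ⟨s, hs⟩
    rw [Subgroup.orderOf_mk] at hk
    rw [hk]
    apply Nat.Coprime.pow_left
    exact (Nat.coprime_primes Fact.out Fact.out).2 hpq
  have h := Cfsg.Agent.Lib.L0.HasNormalPComplement.mem_centralizer hD (Q.subgroupOf (Q ⊔ S)) hQ'
    ⟨s, hsD⟩ hcop
  rw [Subgroup.mem_centralizer_iff]
  intro x hx
  have hxD : x ∈ Q ⊔ S := Subgroup.mem_sup_left hx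
  have := (Subgroup.mem_centralizer_iff.1 h) ⟨x, hxD⟩ (by rw [SetLike.mem_coe, Subgroup.mem_subgroupOf]; exact hx)
  exact congrArg Subtype.val this

theorem mem_sigma_of_sylIn {p : ℕ} [hp : Fact p.Prime] {M P : Subgroup G} (hP : SylIn p P M)
    (hP1 : P ≠ ⊥) (hN : Subgroup.normalizer (P : Set G) ≤ M) : p ∈ sigma M := by
  refine ⟨hp.out, ?_, ?_⟩
  · obtain ⟨k, hk⟩ := IsPGroup.iff_card.1 hP.isPGroup
    have hk0 : k ≠ 0 := by
      rintro rfl
      rw [pow_zero] at hk
      exact hP1 (Subgroup.eq_bot_of_card_eq P hk)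
    refine dvd_trans ?_ (Subgroup.card_dvd_of_le hP.le)
    rw [hk]
    exact dvd_pow_self p hk0
  · obtain ⟨T, hT⟩ := hP.exists_sylow
    exact ⟨T, by rw [hT]; exact hN⟩

theorem mem_sigma_conj {p : ℕ} {M : Subgroup G} (h : p ∈ sigma M) (g : G) :
    p ∈ sigma cj(g, M) := by
  haveI : Fact p.Prime := ⟨h.1⟩
  obtain ⟨T, hT⟩ := h.2.2
  have hTs : SylIn p ((T : Subgroup ↥M).map M.subtype) M := SylIn.of_sylow T
  have h1 := hTs.map_conj g
  have hT1 : (T : Subgroup ↥M).map M.subtype ≠ ⊥ := hTs.ne_bot h.2.1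
  apply mem_sigma_of_sylIn h1
  · intro hb
    apply hT1
    rw [Subgroup.map_eq_bot_iff_of_injective _ (MulAut.conj g).injective] at hb
    exact hb
  · rw [Cfsg.Agent.Lib.H10.normalizer_map_conj]
    exact Subgroup.map_mono hT

end Cfsg.Agent.Lib.H7.BG13
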