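import Mathlib
import Cfsg.Agent.Lib.H7.BG13a0
import Cfsg.Agent.Lib.H7.CoprimeFactor
import Cfsg.Agent.Lib.H7.Coprime

/-!
# BG Corollary 13.3(a): prime action of cyclic Sylow subgroups of a complement of `M_σ`

Direct proof (avoiding BG Lemma 13.1) from the Uniqueness Theorem, BG 10.8 (normal `q`-complements of
`M_σ` for `q ∉ β(M)`), BG 12.5/12.6 (as hypotheses `HypCent`, `Hyp1417`) and the extended BG 12.17.
-/


set_option autoImplicit false
set_option linter.style.haveILetI false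
open Cfsg
open Cfsg.Agent.Lib.H16.BG
open Cfsg.Agent.Lib.H7.BG7
open Cfsg.Agent.Lib.H7.BG10
open Cfsg.Agent.Lib.H20.BGS
open Cfsg.Agent.Lib.H20.BGT
open Cfsg.Agent.Lib.H8.BG12
open Cfsg.Agent.Lib.H19 (IsPiCard)
open scoped commutatorElement

namespace Cfsg.Agent.Lib.H7.BG13

universe u
variable {G : Type u} [Group G] [Finite G]

local notation:max "cj(" g ", " X ")" => Subgroup.map (MulEquiv.toMonoidHom (MulAut.conj g)) X

theorem pRankLE_one_of_isCyclic {p : ℕ} (hp : p.Prime) {H : Type*} [Group H] [IsCyclic H] :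
    PRankLE p 1 H := by
  intro A _ hA
  obtain ⟨g, hg⟩ := IsCyclic.exists_generator (α := A)
  have h1 : orderOf g = Nat.card A := orderOf_eq_card_of_forall_mem_zpowers hg
  have h2 : g ^ p = 1 := Subtype.ext (by simpa using hA g.1 g.2)
  rw [pow_one, ← h1]
  exact Nat.le_of_dvd hp.pos (orderOf_dvd_of_pow_eq_one h2)

theorem dvd_card_of_isPGroup_ne_bot {p : ℕ} [Fact p.Prime] {S : Subgroup G} (hS : IsPGroup p S)
    (hS1 : S ≠ ⊥) : p ∣ Nat.card S := by
  obtain ⟨k, hk⟩ := IsPGroup.iff_card.1 hS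
  have hk0 : k ≠ 0 := by
    rintro rfl
    rw [pow_zero] at hk
    exact hS1 (Subgroup.eq_bot_of_card_eq S hk)
  rw [hk]
  exact dvd_pow_self p hk0

/-- `[X, S] ≤ C(A)` when `X` normalizes `A` and `S` centralizes `A`. -/
theorem commutator_le_centralizer {X S A : Subgroup G} (hX : X ≤ Subgroup.normalizer (A : Set G))
    (hS : S ≤ Subgroup.centralizer (A : Set G)) : ⁅X, S⁆ ≤ Subgroup.centralizer (A : Set G) := by
  rw [Subgroup.commutator_le]
  intro a ha s hs
  have hn := hX ha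
  have h2 : a * s * a⁻¹ ∈ Subgroup.centralizer (A : Set G) := by
    rw [Subgroup.mem_centralizer_iff]
    intro y hy
    have hy' : a⁻¹ * y * a ∈ A := by
      have hinv := Subgroup.inv_mem _ hn
      rw [Subgroup.mem_normalizer_iff] at hinv
      have := (hinv y).1 hy
      simpa using this
    have h3 := (Subgroup.mem_centralizer_iff.1 (hS hs)) _ hy'
    calc y * (a * s * a⁻¹) = a * ((a⁻¹ * y * a) * s) * a⁻¹ := by group
      _ = a * (s * (a⁻¹ * y * a)) * a⁻¹ := by rw [h3]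
      _ = a * s * a⁻¹ * y := by group
  have : ⁅a, s⁆ = (a * s * a⁻¹) * s⁻¹ := by rw [commutatorElement_def]
  rw [this]
  exact Subgroup.mul_mem _ h2 (Subgroup.inv_mem _ (hS hs))

/-- If `p ∈ σ(L)`, a `p`-subgroup `S` of `L` normalizes a `q`-subgroup `Q` of `L` and
`[Q, S] ≠ 1`, then `q ∈ σ(L)`. -/
theorem mem_sigma_of_commutator_ne_bot (hG : IsMinSimpleOddOrder G) {L : Subgroup G}
    (hL : IsCoatom L) {p q : ℕ} [Fact p.Prime] [hq : Fact q.Prime] (hp : p ∈ sigma L)
    {S Q : Subgroup G} (hSL : S ≤ L) (hQL : Q ≤ L) (hS : IsPGroup p S) (hQ : IsPGroup q Q)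
    (hSQ : S ≤ Subgroup.normalizer (Q : Set G)) (hne : ⁅Q, S⁆ ≠ ⊥) : q ∈ sigma L := by
  have hU := Cfsg.Agent.Lib.H20.BGT.uniq3 hG
  have hSσ : S ≤ sigmaCore L := Cfsg.Agent.Lib.H7.BG14.le_sigmaCore_of_isPGroup hG hU hL hp hSL hS
  have h1 : ⁅Q, S⁆ ≤ sigmaCore L := by
    rw [Subgroup.commutator_le]
    intro a ha s hs
    have hn := le_normalizer_sigmaCore L (hQL ha)
    rw [Subgroup.mem_normalizer_iff] at hn
    have h2 : a * s * a⁻¹ ∈ sigmaCore L := (hn s).1 (hSσ hs)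
    have : ⁅a, s⁆ = (a * s * a⁻¹) * s⁻¹ := by rw [commutatorElement_def]
    rw [this]
    exact Subgroup.mul_mem _ h2 (Subgroup.inv_mem _ (hSσ hs))
  have h2 : ⁅Q, S⁆ ≤ Q := Subgroup.le_normalizer_iff_commutator_le_left.1 hSQ
  have h3 : IsPGroup q (⁅Q, S⁆ : Subgroup G) := hQ.to_le h2
  obtain ⟨k, hk⟩ := IsPGroup.iff_card.1 h3
  have hk0 : k ≠ 0 := by
    rintro rfl
    rw [pow_zero] at hk
    exact hne (Subgroup.eq_bot_of_card_eq _ hk)
  have h4 : q ∣ Nat.card (sigmaCore L) := by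
    refine dvd_trans ?_ (Subgroup.card_dvd_of_le h1)
    rw [hk]
    exact dvd_pow_self q hk0
  exact sigmaCore_isPiCard L q hq.out h4

/-- In the situation of the previous lemma, if moreover `q ∈ σ(M)`, `p ≠ q` and `[[Q,S],S] ≠ 1`, then `L` is
conjugate to `M`. -/
theorem conj_of_commutator_ne_bot (hG : IsMinSimpleOddOrder G) {M L : Subgroup G}
    (hM : IsCoatom M) (hL : IsCoatom L) {p q : ℕ} [Fact p.Prime] [hq : Fact q.Prime] (hpq : p ≠ q)
    (hp : p ∈ sigma L) (hqM : q ∈ sigma M)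
    {S Q : Subgroup G} (hSL : S ≤ L) (hQL : Q ≤ L) (hS : IsPGroup p S) (hQ : IsPGroup q Q)
    (hSQ : S ≤ Subgroup.normalizer (Q : Set G)) (hne : ⁅Q, S⁆ ≠ ⊥) :
    ∃ g : G, L = cj(g, M) := by
  have hU := Cfsg.Agent.Lib.H20.BGT.uniq3 hG
  have hqL : q ∈ sigma L := mem_sigma_of_commutator_ne_bot hG hL hp hSL hQL hS hQ hSQ hne
  have hSσ : S ≤ sigmaCore L := Cfsg.Agent.Lib.H7.BG14.le_sigmaCore_of_isPGroup hG hU hL hp hSL hS
  have hQσ : Q ≤ sigmaCore L := Cfsg.Agent.Lib.H7.BG14.le_sigmaCore_of_isPGroup hG hU hL hqL hQL hQ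
  by_contra hnc
  push Not at hnc
  have hqα : q ∉ alpha L := Cfsg.Agent.Lib.H20.BGT.not_mem_alpha_of_mem_sigma hG hM hL hnc hqM
  have hqβ : q ∉ beta L := fun h => hqα h.1
  have hnpc := ((beta_core_theorem hG hU hL).2.2.2.2 q hq.out hqL.2.1 hqβ).2.1
  exact hne (commutator_eq_bot_of_hasNormalPComplement hpq hnpc hQσ hSσ hQ hS hSQ)

/-- If `L = N (M ∩ L)` with `N` a normal `p'`-subgroup of `L` and `M` has `p`-rank at most one, then so has `L`. -/
theorem pRankLE_one_of_supplement {M L : Subgroup G} {p : ℕ} [hp : Fact p.Prime]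
    (N : Subgroup ↥L) [N.Normal] (hN : ¬ p ∣ Nat.card N)
    (hsup : N ⊔ (M ⊓ L).subgroupOf L = ⊤) (hr : PRankLE p 1 ↥M) : PRankLE p 1 ↥L := by
  obtain ⟨T, hT⟩ := SylIn.exists_sylIn p (M ⊓ L)
  have hTL : SylIn p T L := by
    refine ⟨hT.le.trans inf_le_right, hT.isPGroup, fun hd => ?_⟩
    rw [← Subgroup.relIndex_mul_relIndex T (M ⊓ L) L hT.le inf_le_right,
      Nat.Prime.dvd_mul hp.out] at hd
    rcases hd with hd | hd
    · exact hT.2.2 hd
    · have h1 := Cfsg.Agent.Lib.H19.relIndex_sup_dvd_card (U := (M ⊓ L).subgroupOf L) (N := N)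
        (by rw [Subgroup.normalizer_eq_top]; exact le_top)
      rw [sup_comm, hsup, Subgroup.relIndex_top_right] at h1
      have h2 : ((M ⊓ L).subgroupOf L).index = (M ⊓ L).relIndex L := rfl
      rw [h2] at h1
      exact hN (hd.trans h1)
  exact pRankLE_of_sylIn hTL (pRankLE_of_le (hT.le.trans inf_le_left) hr)


/-- **BG Corollary 13.3(a)** (S1427, prime action), modulo S1416(a) and S1417. -/
theorem prime_action_core (hG : IsMinSimpleOddOrder G) (hC : HypCent G) (h17 : Hyp1417 G)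
    {M : Subgroup G} (hM : IsCoatom M) {E : Subgroup G} (hE : IsComplIn E (sigmaCore M) M)
    {p : ℕ} [hp : Fact p.Prime] {S : Subgroup G} (hS : SylIn p S E) (hS1 : S ≠ ⊥)
    (hSc : IsCyclic S) {x : G} (hx : x ∈ S) (hx1 : x ≠ 1) :
    sigmaCore M ⊓ Subgroup.centralizer ({x} : Set G) ≤ Subgroup.centralizer (S : Set G) := by
  have hU := uniq3 hG
  have hpp : p.Prime := hp.out
  have hσ := (sigma_core_hall hG hU hM).1
  have h16 : H1416a G := hC
  have h17' : H1417 G := fun M hM p _ hp A hA => h17 M hM p hp A hA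
  have hpE : p ∣ Nat.card E :=
    (dvd_card_of_isPGroup_ne_bot hS.isPGroup hS1).trans (Subgroup.card_dvd_of_le hS.le)
  have hpσ : p ∉ sigma M := compl_not_sigma hσ hE hpp hpE
  have hSM : SylIn p S M := sylIn_of_compl hσ hE hpσ hS
  haveI := hSc
  have hr1 : PRankLE p 1 ↥M := pRankLE_of_sylIn hSM (pRankLE_one_of_isCyclic hpp)
  by_contra hnot
  -- `S` is abelian
  have hScomm : ∀ a ∈ S, ∀ b ∈ S, a * b = b * a := by
    intro a ha b hb
    have := (isMulCommutative_of_isCyclic (α := ↥S)).is_comm.comm ⟨a, ha⟩ ⟨b, hb⟩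
    exact congrArg Subtype.val this
  have hSx : S ≤ Subgroup.centralizer ({x} : Set G) := by
    intro s hs
    rw [Subgroup.mem_centralizer_singleton_iff]
    exact hScomm s hs x hx
  have hSMle : S ≤ M := hSM.le
  have hSnorm : S ≤ Subgroup.normalizer
      ((sigmaCore M ⊓ Subgroup.centralizer ({x} : Set G) : Subgroup G) : Set G) :=
    Cfsg.Agent.Lib.H7.le_normalizer_inf (hSMle.trans (le_normalizer_sigmaCore M))
      (hSx.trans Subgroup.le_normalizer)
  have hCσ : sigmaCore M ⊓ Subgroup.centralizer ({x} : Set G) ≤ sigmaCore M := inf_le_left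
  have hCM : sigmaCore M ⊓ Subgroup.centralizer ({x} : Set G) ≤ M := hCσ.trans (sigmaCore_le M)
  have hcop : (Nat.card S).Coprime
      (Nat.card (sigmaCore M ⊓ Subgroup.centralizer ({x} : Set G) : Subgroup G)) := by
    obtain ⟨k, hk⟩ := IsPGroup.iff_card.1 hS.isPGroup
    rw [hk]
    apply Nat.Coprime.pow_left
    rw [Nat.Prime.coprime_iff_not_dvd hpp]
    intro hd
    exact hpσ (sigmaCore_isPiCard M p hpp (hd.trans (Subgroup.card_dvd_of_le hCσ)))
  haveI : Group.IsSolvable ↥(sigmaCore M ⊓ Subgroup.centralizer ({x} : Set G) : Subgroup G) :=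
    solvable_of_le_ne_top hG hM.1 hCM
  obtain ⟨q, hq, Q, hQC, hQq, hSQ, hQS⟩ :=
    exists_invariant_pgroup_not_centralized hSnorm hcop hnot
  haveI : Fact q.Prime := ⟨hq⟩
  have hQσ : Q ≤ sigmaCore M := hQC.trans hCσ
  have hQM : Q ≤ M := hQC.trans hCM
  -- `[Q, S] ≠ 1` and `[[Q, S], S] ≠ 1`
  have hcopQ : (Nat.card S).Coprime (Nat.card Q) :=
    Nat.Coprime.coprime_dvd_right (Subgroup.card_dvd_of_le hQC) hcop
  have hQ1ne : ⁅Q, S⁆ ≠ ⊥ := by
    intro h
    apply hQS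
    rw [Subgroup.commutator_eq_bot_iff_le_centralizer] at h
    exact h
  have hQ11 : ⁅⁅Q, S⁆, S⁆ ≠ ⊥ := fun h =>
    hQ1ne (Cfsg.Agent.Lib.H7.commutator_eq_bot_of_commutator_commutator_eq_bot hcopQ hSQ h)
  have hQ1Q : ⁅Q, S⁆ ≤ Q := Subgroup.le_normalizer_iff_commutator_le_left.1 hSQ
  have hQ1q : IsPGroup q (⁅Q, S⁆ : Subgroup G) := hQq.to_le hQ1Q
  have hSQ1 : S ≤ Subgroup.normalizer ((⁅Q, S⁆ : Subgroup G) : Set G) :=
    Subgroup.normalizer_commutator_ge_right Q S
  -- `q ∈ σ(M)`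
  have hQne : Q ≠ ⊥ := by
    rintro rfl
    exact hQS bot_le
  have hqσ : q ∈ sigma M :=
    sigmaCore_isPiCard M q hq ((dvd_card_of_isPGroup_ne_bot hQq hQne).trans
      (Subgroup.card_dvd_of_le hQσ))
  have hpq : p ≠ q := by
    rintro rfl
    exact hpσ hqσ
  -- the maximal subgroup `H ⊇ N_G(⟨x⟩)`
  have hPle : Subgroup.zpowers x ≤ S := by
    rw [Subgroup.zpowers_le]; exact hx
  have hPp : IsPGroup p (Subgroup.zpowers x) := hS.isPGroup.to_le hPle
  have hPne : Subgroup.zpowers x ≠ ⊥ := by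
    intro h
    rw [Subgroup.zpowers_eq_bot] at h
    exact hx1 h
  obtain ⟨H, hH, hNH⟩ := exists_coatom_ge (normalizer_ne_top_of_isPGroup hG hPp hPne)
  have hCxH : Subgroup.centralizer ({x} : Set G) ≤ H := by
    rw [Cfsg.Agent.Lib.H7.centralizer_singleton_eq_centralizer_zpowers]
    exact (Subgroup.centralizer_le_normalizer _).trans hNH
  have hSH : S ≤ H := hSx.trans hCxH
  have hQH : Q ≤ H := (hQC.trans inf_le_right).trans hCxH
  have hNSH : Subgroup.normalizer (S : Set G) ≤ H :=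
    (normalizer_le_normalizer_of_le_cyclic hSc hPle).trans hNH
  by_cases hpH : p ∈ sigma H
  · -- Case `p ∈ σ(H)`
    obtain ⟨g, hg⟩ := conj_of_commutator_ne_bot hG hM hH hpq hpH hqσ hSH hQH hS.isPGroup hQq hSQ
      hQ1ne
    -- then `S` and `cj(g, S)` are Sylow in `H`, so `g ∈ H` and `H = M`
    have h1 : SylIn p cj(g, S) H := by
      have := hSM.map_conj g
      rwa [← hg] at this
    obtain ⟨m, hm, hmS⟩ := h1.exists_conj_le hS.isPGroup hSH
    have h2 : cj(m, S) = cj(g, S) := by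
      apply Subgroup.eq_of_le_of_card_ge hmS
      rw [Cfsg.Agent.Lib.H10.card_map_conj, Cfsg.Agent.Lib.H10.card_map_conj]
    have h3 : g⁻¹ * m ∈ Subgroup.normalizer (S : Set G) := by
      have h3' : cj(g⁻¹ * m, S) = S := by
        rw [← Cfsg.Agent.Lib.H10.map_conj_map_conj, h2, Cfsg.Agent.Lib.H10.map_conj_map_conj,
          inv_mul_cancel, Cfsg.Agent.Lib.H10.map_conj_one]
      exact Subgroup.mem_normalizer_iff_map_conj_eq.2 h3'
    have h4 : g ∈ H := by
      have := H.mul_mem hm (H.inv_mem (hNSH h3))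
      simpa using this
    have h5 : H = M := by
      have h6 : cj(g⁻¹, H) = M := by
        rw [hg, Cfsg.Agent.Lib.H10.map_conj_map_conj, inv_mul_cancel,
          Cfsg.Agent.Lib.H10.map_conj_one]
      rw [← h6]
      exact (map_conj_eq_self_of_mem (H.inv_mem h4)).symm
    exact hpσ (h5 ▸ hpH)
  · -- Case `p ∉ σ(H)`: then `p ∈ τ₂(H)`
    have hr2H : PRankLE p 2 ↥H := by
      by_contra h
      exact hpH (alpha_subset_sigma hG hU hH ⟨hpp, h⟩)
    have hr1H : ¬ PRankLE p 1 ↥H := by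
      intro h
      obtain ⟨T, hT, hST⟩ := SylIn.exists_ge (K := H) hS.isPGroup hSH
      have hTc : IsCyclic ↥T :=
        Cfsg.Agent.Lib.H7.BG14.isCyclic_of_pRankLE_one hG hT.le hT.isPGroup h
      have hNT : Subgroup.normalizer (T : Set G) ≤ H :=
        (normalizer_le_normalizer_of_le_cyclic hTc (hPle.trans hST)).trans hNH
      have hT1 : T ≠ ⊥ := fun h => hS1 (le_bot_iff.1 (h ▸ hST))
      exact hpH (mem_sigma_of_sylIn hT hT1 hNT)
    have hτ : p ∈ tau2 H := ⟨hpp, hpH, hr2H, hr1H⟩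
    obtain ⟨A₀, hA₀H, hA₀e, hA₀c⟩ := exists_elemAb_sq hpp hr1H
    obtain ⟨hnil, hsyl, -, -, -, -⟩ := h17 H hH p hτ A₀ ⟨hA₀H, hA₀e, hA₀c⟩
    have hnc : ∀ g : G, H ≠ cj(g, M) := by
      intro g hg
      apply hr1H
      rw [hg]
      exact pRankLE_of_injective
        (Subgroup.equivMapOfInjective M _ (MulAut.conj g).injective).symm.toMonoidHom
        (MulEquiv.injective _) hr1
    have hqH : q ∉ sigma H := not_mem_sigma_of_mem_sigma hG hM hH hnc hnil hqσ
    -- `Q S` lies in a complement `EH` of `H_σ`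
    have hYH : S ⊔ Q ≤ H := sup_le hSH hQH
    have hY : ∀ r : ℕ, r.Prime → r ∣ Nat.card ↥(S ⊔ Q) → r ∉ sigma H := by
      intro r hr hd
      have h1 := hd.trans (Cfsg.Agent.Lib.H19.card_sup_dvd_mul_of_le_normalizer hSQ)
      rw [Nat.Prime.dvd_mul hr] at h1
      rcases h1 with h1 | h1
      · obtain ⟨k, hk⟩ := IsPGroup.iff_card.1 hS.isPGroup
        rw [hk] at h1
        have := (Nat.prime_dvd_prime_iff_eq hr hpp).1 (hr.dvd_of_dvd_pow h1)
        rw [this]; exact hpH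
      · obtain ⟨k, hk⟩ := IsPGroup.iff_card.1 hQq
        rw [hk] at h1
        have := (Nat.prime_dvd_prime_iff_eq hr hq).1 (hr.dvd_of_dvd_pow h1)
        rw [this]; exact hqH
    obtain ⟨EH, hEH, hYEH⟩ := exists_compl_ge hG hH hYH hY
    have hσH := (sigma_core_hall hG hU hH).1
    have hSEH : S ≤ EH := le_sup_left.trans hYEH
    have hQEH : Q ≤ EH := le_sup_right.trans hYEH
    obtain ⟨T₁, hT₁, hST₁⟩ := SylIn.exists_ge (K := EH) hS.isPGroup hSEH
    have hT₁H : SylIn p T₁ H := sylIn_of_compl hσH hEH hpH hT₁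
    have hT₁c : IsMulCommutative ↥T₁ := sylIn_comm hT₁H (fun P => (hsyl P).1)
    have hT₁r : ¬ PRankLE p 1 ↥T₁ := fun h => hr1H (pRankLE_of_sylIn hT₁H h)
    obtain ⟨A, hAT₁, hAe, hAc⟩ := exists_elemAb_sq hpp hT₁r
    have hAEH : A ≤ EH := hAT₁.trans hT₁.le
    have hEHA : EH ≤ Subgroup.normalizer (A : Set G) :=
      (cor_12_6 hG hU hC h17 H hH EH hEH p hτ A ⟨hAEH, hAe, hAc⟩).1.1
    have hSA : S ≤ Subgroup.centralizer (A : Set G) := by
      intro s hs
      rw [Subgroup.mem_centralizer_iff]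
      intro a ha
      exact comm_of_mem hT₁c (hAT₁ ha) (hST₁ hs)
    have hQ1A : ⁅Q, S⁆ ≤ Subgroup.centralizer (A : Set G) :=
      commutator_le_centralizer (hQEH.trans hEHA) hSA
    -- the maximal subgroup `L ⊇ N_G([Q, S])`
    obtain ⟨L, hL, hNL⟩ := exists_coatom_ge (normalizer_ne_top_of_isPGroup hG hQ1q hQ1ne)
    have hAL : A ≤ L := by
      refine le_trans ?_ ((Subgroup.centralizer_le_normalizer _).trans hNL)
      rw [Subgroup.le_centralizer_iff]
      exact hQ1A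
    have hSL : S ≤ L := hSQ1.trans hNL
    have hQ1L : ⁅Q, S⁆ ≤ L := Subgroup.le_normalizer.trans hNL
    have hr1L : ¬ PRankLE p 1 ↥L := by
      apply not_pRankLE_of_elemAb hAL hAe
      rw [hAc, pow_one]
      have := hpp.one_lt
      nlinarith
    have hLM : L ≠ M := by
      rintro rfl
      exact hr1L hr1
    have hQ1M : ⁅Q, S⁆ ≤ M := hQ1Q.trans hQM
    obtain ⟨Sq, hSq, hQ1Sq⟩ := SylIn.exists_ge (K := M ⊓ L) hQ1q (le_inf hQ1M hQ1L)
    obtain ⟨hncL, hNSq, hSqL⟩ :=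
      sigma_subgroup_embedding hG h16 hM hqσ hQ1q hQ1ne hQ1M hL hLM hNL hSq hQ1Sq
    by_cases hqL : q ∈ sigma L
    · have hsup := supplement_alpha (M := M) hG hL hqL hSqL hNSq
      by_cases hpα : p ∈ alpha L
      · have hpL := alpha_subset_sigma hG hU hL hpα
        obtain ⟨g, hg⟩ := conj_of_commutator_ne_bot hG hM hL hpq hpL hqσ hSL hQ1L hS.isPGroup hQ1q
          hSQ1 hQ11
        exact hncL g hg
      · apply hr1L
        exact pRankLE_one_of_supplement (piCore (alpha L) ↥L)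
          (fun hd => hpα (Cfsg.Agent.Lib.H19.piCore_isPiCard (alpha L) p hpp hd)) hsup hr1
    · have hSqnc : ¬ IsCyclic ↥Sq := by
        intro hc
        have hN : Subgroup.normalizer (Sq : Set G) ≤ L :=
          (normalizer_le_normalizer_of_le_cyclic hc hQ1Sq).trans hNL
        have hSq1 : Sq ≠ ⊥ := fun h => hQ1ne (le_bot_iff.1 (h ▸ hQ1Sq))
        exact hqL (mem_sigma_of_sylIn hSqL hSq1 hN)
      obtain ⟨-, hsup⟩ := supplement_sigma hG h16 h17' hM hL hqσ hqL hSqL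
        (hSq.le.trans inf_le_left) hSqnc
      by_cases hpL : p ∈ sigma L
      · exact hqL (mem_sigma_of_commutator_ne_bot hG hL hpL hSL hQ1L hS.isPGroup hQ1q hSQ1 hQ11)
      · apply hr1L
        exact pRankLE_one_of_supplement (piCore (sigma L) ↥L)
          (fun hd => hpL (Cfsg.Agent.Lib.H19.piCore_isPiCard (sigma L) p hpp hd)) hsup hr1


/-- The frozen statement S1427, modulo S1416(a) and S1417. -/
theorem prime_action_statement (hG : IsMinSimpleOddOrder G) (hC : HypCent G) (h17 : Hyp1417 G)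
    (M : Subgroup G) (hM : IsCoatom M) (E : Subgroup G) (hE : IsComplIn E (sigmaCore M) M)
    (p : ℕ) [Fact p.Prime] (S : Sylow p E) (hS1 : (S : Subgroup E) ≠ ⊥)
    (hSc : IsCyclic (S : Subgroup E)) :
    ∀ x ∈ (S : Subgroup E).map E.subtype, x ≠ 1 →
      sigmaCore M ⊓ Subgroup.centralizer ({x} : Set G) =
        sigmaCore M ⊓ Subgroup.centralizer
          (((S : Subgroup E).map E.subtype : Subgroup G) : Set G) := by
  intro x hx hx1
  have hS : SylIn p ((S : Subgroup E).map E.subtype) E := SylIn.of_sylow S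
  have hS1' : (S : Subgroup E).map E.subtype ≠ ⊥ := by
    intro h
    rw [Subgroup.map_eq_bot_iff_of_injective _ E.subtype_injective] at h
    exact hS1 h
  have hSc' : IsCyclic ↥((S : Subgroup E).map E.subtype) := by
    haveI := hSc
    exact isCyclic_of_surjective
      (Subgroup.equivMapOfInjective (S : Subgroup E) E.subtype E.subtype_injective)
      (MulEquiv.surjective _)
  apply le_antisymm
  · exact le_inf inf_le_left (prime_action_core hG hC h17 hM hE hS hS1' hSc' hx hx1)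
  · refine le_inf inf_le_left (inf_le_right.trans ?_)
    apply Subgroup.centralizer_le
    intro y hy
    rw [Set.mem_singleton_iff] at hy
    rw [hy]
    exact hx

end Cfsg.Agent.Lib.H7.BG13
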