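import Mathlib
import Cfsg.Agent.Lib.H7.BG13a
import Cfsg.Agent.Lib.H8.BG12g
import Cfsg.Agent.Lib.H16.BGp
import Cfsg.Agent.Lib.H3.Thompson
import Cfsg.Agent.S1403

/-!
# BG Theorem 12.4-type statement (frozen S1416) from the frozen S1417 as a hypothesis

`thm_12_4 : IsMinSimpleOddOrder G → Hyp1417 G → <frozen S1416>`; paper proof by helper16 (board #1042).
-/

set_option autoImplicit false
set_option linter.style.haveILetI false
set_option linter.unusedSectionVars false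
open Cfsg
open Cfsg.Agent.Lib.H16.BG
open Cfsg.Agent.Lib.H7.BG7
open Cfsg.Agent.Lib.H7.BG10
open Cfsg.Agent.Lib.H20.BGS
open Cfsg.Agent.Lib.H20.BGT
open Cfsg.Agent.Lib.H8.BG12
open Cfsg.Agent.Lib.H19 (IsPiCard)

namespace Cfsg.Agent.Lib.H7.BG124

universe u
variable {G : Type u} [Group G] [Finite G]

local notation:max "cj(" g ", " X ")" => Subgroup.map (MulEquiv.toMonoidHom (MulAut.conj g)) X

/-- If `A` lies in a unique maximal subgroup, and `A ≤ M`, then `M` is the unique maximal subgroup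
over every proper subgroup containing `A`. -/
theorem uniq_of_inUniqueMaximal {A M X : Subgroup G} (hM : IsCoatom M) (hAM : A ≤ M)
    (h : InUniqueMaximal A) (hAX : A ≤ X) (hX : X ≠ ⊤) :
    X ≤ M ∧ ∀ L : Subgroup G, IsCoatom L → X ≤ L → L = M := by
  obtain ⟨M', ⟨hM', hAM'⟩, huniq⟩ := h
  have hMM' : M = M' := huniq M ⟨hM, hAM⟩
  have key : ∀ L : Subgroup G, IsCoatom L → X ≤ L → L = M := fun L hL hXL => by
    rw [hMM']; exact huniq L ⟨hL, hAX.trans hXL⟩
  obtain ⟨L, hL, hXL⟩ := exists_coatom_ge hX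
  refine ⟨?_, key⟩
  rw [← key L hL hXL]; exact hXL

theorem le_centralizer_of_le_comm {A A₀ : Subgroup G} (hA : IsMulCommutative A) (h : A₀ ≤ A) :
    A ≤ Subgroup.centralizer (A₀ : Set G) := by
  intro a ha
  rw [Subgroup.mem_centralizer_iff]
  intro b hb
  exact congrArg Subtype.val (hA.is_comm.comm ⟨b, h hb⟩ ⟨a, ha⟩)

theorem le_normalizer_of_le_comm {A A₀ : Subgroup G} (hA : IsMulCommutative A) (h : A₀ ≤ A) :
    A ≤ Subgroup.normalizer (A₀ : Set G) :=
  (le_centralizer_of_le_comm hA h).trans (Subgroup.centralizer_le_normalizer _)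

theorem centralizer_le_normalizer_of_le {A A₀ : Subgroup G} (h : A₀ ≤ A) :
    Subgroup.centralizer (A : Set G) ≤ Subgroup.normalizer (A₀ : Set G) :=
  (Subgroup.centralizer_le (by exact_mod_cast h)).trans (Subgroup.centralizer_le_normalizer _)

theorem card_zpowers_eq_prime {p : ℕ} [hp : Fact p.Prime] {y : G} (hy : y ^ p = 1) (hy1 : y ≠ 1) :
    Nat.card (Subgroup.zpowers y) = p := by
  rw [Nat.card_zpowers]
  have := orderOf_dvd_of_pow_eq_one hy
  rcases (Nat.dvd_prime hp.out).1 this with h | h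
  · exact absurd (orderOf_eq_one_iff.1 h) hy1
  · exact h

theorem isPGroup_of_elemAb' {p : ℕ} [Fact p.Prime] {A : Subgroup G}
    (hA : IsElementaryAbelian p A) : IsPGroup p A := by
  intro a
  refine ⟨1, ?_⟩
  rw [pow_one]
  exact Subtype.ext (by simpa using hA.2 a a.2)

theorem zpowers_ne_bot_of_ne_one {y : G} (hy1 : y ≠ 1) : Subgroup.zpowers y ≠ ⊥ := by
  intro h
  exact hy1 (Subgroup.zpowers_eq_bot.1 h)

theorem isPGroup_zpowers_of_pow {p : ℕ} [hp : Fact p.Prime] {y : G} (hy : y ^ p = 1) :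
    IsPGroup p (Subgroup.zpowers y) := by
  by_cases h : y = 1
  · subst h
    apply IsPGroup.of_card (n := 0)
    simp
  · apply IsPGroup.of_card (n := 1)
    rw [card_zpowers_eq_prime hy h, pow_one]

/-- there is a non-identity element in a subgroup of order `p²`. -/
theorem exists_ne_one_of_card_sq {p : ℕ} [hp : Fact p.Prime] {A : Subgroup G}
    (hAc : Nat.card A = p ^ 2) : ∃ y ∈ A, y ≠ 1 := by
  by_contra h
  push Not at h
  have : A = ⊥ := by
    rw [eq_bot_iff]
    intro a ha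
    rw [Subgroup.mem_bot]
    exact h a ha
  rw [this, Subgroup.card_bot] at hAc
  have := hp.out.one_lt
  nlinarith

/-- **Case 1** of BG Theorem 12.4-type statement: `p ∉ σ(M)`. -/
theorem exists_line_of_not_mem_sigma (hG : IsMinSimpleOddOrder G) (h17 : Hyp1417 G)
    {M : Subgroup G} (hM : IsCoatom M) {p : ℕ} [hp : Fact p.Prime] {A : Subgroup G}
    (hAM : A ≤ M) (hAe : IsElementaryAbelian p A) (hAc : Nat.card A = p ^ 2)
    (hpσ : p ∉ sigma M) :
    ∃ A₀ : Subgroup G, A₀ ≤ A ∧ Nat.card A₀ = p ∧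
      (Subgroup.normalizer (A₀ : Set G) ≤ M ∧
        ∀ L : Subgroup G, IsCoatom L → Subgroup.normalizer (A₀ : Set G) ≤ L → L = M) := by
  have hU := uniq3 hG
  have hpp := hp.out
  have hr2 : PRankLE p 2 ↥M := by
    by_contra h
    exact hpσ (alpha_subset_sigma hG hU hM ⟨hpp, h⟩)
  have hr1 : ¬ PRankLE p 1 ↥M := by
    apply not_pRankLE_of_elemAb hAM hAe
    rw [hAc, pow_one]
    nlinarith [hpp.one_lt]
  have hτ : p ∈ tau2 M := ⟨hpp, hpσ, hr2, hr1⟩
  obtain ⟨-, -, -, -, he, -⟩ := h17 M hM p hτ A ⟨hAM, hAe, hAc⟩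
  have hK1 : sigmaCore M ≠ ⊥ := sigmaCore_ne_bot hG hU hM
  have hcop : (Nat.card (sigmaCore M)).Coprime p := by
    rw [Nat.coprime_comm, Nat.Prime.coprime_iff_not_dvd hpp]
    intro hd
    exact hpσ (sigmaCore_isPiCard M p hpp hd)
  have hAK : A ≤ Subgroup.normalizer ((sigmaCore M : Subgroup G) : Set G) :=
    hAM.trans (le_normalizer_sigmaCore M)
  have hex : ∃ y ∈ A, y ≠ 1 ∧ sigmaCore M ⊓ Subgroup.centralizer ({y} : Set G) ≠ ⊥ := by
    by_contra hno
    push Not at hno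
    apply hK1
    rw [eq_bot_iff]
    apply le_of_forall_centralizer_le hAe (by rw [hAc]) hcop hAK
    intro y hy hy1
    rw [hno y hy hy1]
  obtain ⟨y, hyA, hy1, hyK⟩ := hex
  have hyp : y ^ p = 1 := hAe.2 y hyA
  have hA₀A : Subgroup.zpowers y ≤ A := by
    rw [Subgroup.zpowers_le]; exact hyA
  have hNt : Subgroup.normalizer ((Subgroup.zpowers y : Subgroup G) : Set G) ≠ ⊤ :=
    normalizer_ne_top_of_isPGroup hG (isPGroup_zpowers_of_pow hyp) (zpowers_ne_bot_of_ne_one hy1)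
  have key : ∀ L : Subgroup G, IsCoatom L →
      Subgroup.normalizer ((Subgroup.zpowers y : Subgroup G) : Set G) ≤ L → L = M := by
    intro L hL hNL
    by_contra hne
    apply hyK
    rw [eq_bot_iff, ← he L hL hne ((le_normalizer_of_le_comm hAe.1 hA₀A).trans hNL)]
    apply inf_le_inf_left
    rw [Cfsg.Agent.Lib.H7.centralizer_singleton_eq_centralizer_zpowers]
    exact (Subgroup.centralizer_le_normalizer _).trans hNL
  obtain ⟨L, hL, hNL⟩ := exists_coatom_ge hNt
  refine ⟨Subgroup.zpowers y, hA₀A, card_zpowers_eq_prime hyp hy1, ?_, key⟩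
  rw [← key L hL hNL]; exact hNL

theorem isElementaryAbelian_zpowers {p : ℕ} {z : G} (hzp : z ^ p = 1) :
    IsElementaryAbelian p (Subgroup.zpowers z) := by
  refine ⟨inferInstance, ?_⟩
  intro a ha
  obtain ⟨k, rfl⟩ := Subgroup.mem_zpowers_iff.1 ha
  rw [← zpow_natCast, ← zpow_mul, mul_comm, zpow_mul, zpow_natCast, hzp, one_zpow]

/-- an elementary abelian subgroup `A` of order `p²` of `X` together with an element of order `p`
of `X ∩ C(A)` outside `A` gives `p`-rank at least three. -/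
theorem not_pRankLE_two_of_extra {p : ℕ} [Fact p.Prime] {A X : Subgroup G} (hAX : A ≤ X)
    (hAe : IsElementaryAbelian p A) (hAc : Nat.card A = p ^ 2) {z : G} (hzX : z ∈ X)
    (hzA : z ∈ Subgroup.centralizer (A : Set G)) (hzp : z ^ p = 1) (hz : z ∉ A) :
    ¬ PRankLE p 2 ↥X := by
  have hZe : IsElementaryAbelian p (Subgroup.zpowers z) := isElementaryAbelian_zpowers hzp
  have hZA : Subgroup.zpowers z ≤ Subgroup.centralizer (A : Set G) := by
    rw [Subgroup.zpowers_le]; exact hzA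
  have hB := Cfsg.Agent.Lib.H3.elemAb_sup hAe hZe hZA
  apply not_pRankLE_of_elemAb (sup_le hAX (Subgroup.zpowers_le.2 hzX)) hB
  rw [← hAc]
  apply card_lt_of_lt
  apply lt_of_le_of_ne le_sup_left
  intro h
  apply hz
  rw [h]
  exact Subgroup.mem_sup_right (Subgroup.mem_zpowers z)

/-- **Case 2a**: `p ∈ α(M)`. -/
theorem exists_line_of_mem_alpha (hG : IsMinSimpleOddOrder G)
    {M : Subgroup G} (hM : IsCoatom M) {p : ℕ} [hp : Fact p.Prime] {A : Subgroup G}
    (hAM : A ≤ M) (hAe : IsElementaryAbelian p A) (hAc : Nat.card A = p ^ 2)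
    (hpα : p ∈ alpha M) :
    ∃ A₀ : Subgroup G, A₀ ≤ A ∧ Nat.card A₀ = p ∧
      (Subgroup.normalizer (A₀ : Set G) ≤ M ∧
        ∀ L : Subgroup G, IsCoatom L → Subgroup.normalizer (A₀ : Set G) ≤ L → L = M) := by
  have hU := uniq3 hG
  have hpp := hp.out
  have hAp : IsPGroup p A := isPGroup_of_elemAb' hAe
  obtain ⟨P, hP, hAP⟩ := SylIn.exists_ge hAp hAM
  have hrP : ¬ PRankLE p 2 ↥P := fun h => hpα.2 (pRankLE_of_sylIn hP h)
  have hPt : P ≠ ⊤ := by
    rintro rfl
    exact hM.1 (top_le_iff.1 hP.le)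
  have hPU : InUniqueMaximal P := hU P hPt (fun h => hrP (h p hpp))
  obtain ⟨y, hyA, hy1⟩ := exists_ne_one_of_card_sq hAc
  have hA1 : A ≠ ⊥ := by
    intro h
    rw [h, Subgroup.mem_bot] at hyA
    exact hy1 hyA
  have hP1 : P ≠ ⊥ := _root_.ne_bot_of_le_ne_bot hA1 hAP
  have hZ1 := inf_centralizer_self_ne_bot hP.isPGroup hP1
  by_cases hall : ∀ z ∈ P ⊓ Subgroup.centralizer (P : Set G), z ^ p = 1 → z ∈ A
  · have hZp : IsPGroup p ↥(P ⊓ Subgroup.centralizer (P : Set G) : Subgroup G) :=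
      hP.isPGroup.to_le inf_le_left
    have hd := Cfsg.Agent.Lib.H7.BG13.dvd_card_of_isPGroup_ne_bot hZp hZ1
    obtain ⟨z, hz⟩ := exists_prime_orderOf_dvd_card' p hd
    have hz' : orderOf (z : G) = p := by rw [Subgroup.orderOf_coe, hz]
    have hzp : (z : G) ^ p = 1 := by rw [← hz']; exact pow_orderOf_eq_one _
    have hz1 : (z : G) ≠ 1 := by
      intro h
      rw [h, orderOf_one] at hz'
      exact hpp.one_lt.ne hz'
    have hzA : (z : G) ∈ A := hall z z.2 hzp
    have hA₀A : Subgroup.zpowers (z : G) ≤ A := by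
      rw [Subgroup.zpowers_le]; exact hzA
    have hNt : Subgroup.normalizer ((Subgroup.zpowers (z : G) : Subgroup G) : Set G) ≠ ⊤ :=
      normalizer_ne_top_of_isPGroup hG (isPGroup_zpowers_of_pow hzp) (zpowers_ne_bot_of_ne_one hz1)
    have hPN : P ≤ Subgroup.normalizer ((Subgroup.zpowers (z : G) : Subgroup G) : Set G) := by
      refine le_trans ?_ (Subgroup.centralizer_le_normalizer _)
      rw [← Cfsg.Agent.Lib.H7.centralizer_singleton_eq_centralizer_zpowers]
      intro x hx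
      rw [Subgroup.mem_centralizer_iff]
      intro w hw
      rw [Set.mem_singleton_iff] at hw
      subst hw
      exact (Subgroup.mem_centralizer_iff.1 z.2.2 x hx).symm
    exact ⟨Subgroup.zpowers (z : G), hA₀A, card_zpowers_eq_prime hzp hz1,
      uniq_of_inUniqueMaximal hM hP.le hPU hPN hNt⟩
  · push Not at hall
    obtain ⟨z, hz, hzp, hzA⟩ := hall
    have hzCA : z ∈ Subgroup.centralizer (A : Set G) :=
      Subgroup.centralizer_le (by exact_mod_cast hAP) hz.2
    have hAA : A ≤ Subgroup.centralizer (A : Set G) :=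
      Subgroup.le_centralizer_iff_isMulCommutative.2 hAe.1
    have hr3 : ¬ PRankLE p 2 ↥(Subgroup.centralizer (A : Set G)) :=
      not_pRankLE_two_of_extra hAA hAe hAc hzCA hzCA hzp hzA
    have hAt : A ≠ ⊤ := by
      rintro rfl
      exact hM.1 (top_le_iff.1 hAM)
    have hA1' : ¬ RankLE 1 ↥A := by
      intro h
      refine not_pRankLE_of_elemAb le_rfl hAe ?_ (h p hpp)
      rw [hAc, pow_one]
      nlinarith [hpp.one_lt]
    have hAU : InUniqueMaximal A :=
      Cfsg.Agent.S1403.result hG A hAt hA1' (Or.inr (fun h => hr3 (h p hpp)))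
    have hyp : y ^ p = 1 := hAe.2 y hyA
    have hA₀A : Subgroup.zpowers y ≤ A := by
      rw [Subgroup.zpowers_le]; exact hyA
    have hNt : Subgroup.normalizer ((Subgroup.zpowers y : Subgroup G) : Set G) ≠ ⊤ :=
      normalizer_ne_top_of_isPGroup hG (isPGroup_zpowers_of_pow hyp) (zpowers_ne_bot_of_ne_one hy1)
    exact ⟨Subgroup.zpowers y, hA₀A, card_zpowers_eq_prime hyp hy1,
      uniq_of_inUniqueMaximal hM hAM hAU (le_normalizer_of_le_comm hAe.1 hA₀A) hNt⟩

open scoped commutatorElement in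
/-- **BG Lemma 12.3(b)-type statement**: if `p ∈ σ(M) ∖ α(M)` and `L ≠ M` is a maximal subgroup
containing `A` and `C_G(A)`, then `A` centralizes `M_α ∩ L`. -/
theorem alphaCore_inf_le_centralizer (hG : IsMinSimpleOddOrder G) (h17 : Hyp1417 G)
    {M L : Subgroup G} (hM : IsCoatom M) (hL : IsCoatom L) (hLM : L ≠ M)
    {p : ℕ} [hp : Fact p.Prime] {A : Subgroup G}
    (hAM : A ≤ M) (hAe : IsElementaryAbelian p A) (hAc : Nat.card A = p ^ 2)
    (hpσ : p ∈ sigma M) (hpα : p ∉ alpha M) (hAL : A ≤ L)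
    (hCL : Subgroup.centralizer (A : Set G) ≤ L) :
    alphaCore M ⊓ L ≤ Subgroup.centralizer (A : Set G) := by
  have hU := uniq3 hG
  have hpp := hp.out
  have hAp : IsPGroup p A := isPGroup_of_elemAb' hAe
  by_contra hD
  have hαM : alphaCore M ≤ M := piCoreOf_le (alpha M) M
  have hAD : A ≤ Subgroup.normalizer ((alphaCore M ⊓ L : Subgroup G) : Set G) :=
    Cfsg.Agent.Lib.H7.le_normalizer_inf (hAM.trans (le_normalizer_piCoreOf (alpha M) M))
      (hAL.trans Subgroup.le_normalizer)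
  have hDπ : IsPiCard (alpha M) (Nat.card (alphaCore M ⊓ L : Subgroup G)) :=
    isPiCard_of_le inf_le_left (piCoreOf_isPiCard (alpha M) M)
  have hcop : (Nat.card A).Coprime (Nat.card (alphaCore M ⊓ L : Subgroup G)) := by
    rw [hAc]
    apply Nat.Coprime.pow_left
    rw [Nat.Prime.coprime_iff_not_dvd hpp]
    intro hd
    exact hpα (hDπ p hpp hd)
  haveI : Group.IsSolvable ↥(alphaCore M ⊓ L : Subgroup G) :=
    solvable_of_le_ne_top hG hM.1 (inf_le_left.trans hαM)
  obtain ⟨q, hq, Q, hQD, hQ, hAQ, hQC⟩ :=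
    Cfsg.Agent.Lib.H7.BG13.exists_invariant_pgroup_not_centralized hAD hcop hD
  haveI : Fact q.Prime := ⟨hq⟩
  have hQ1 : Q ≠ ⊥ := by
    rintro rfl
    exact hQC bot_le
  have hqα : q ∈ alpha M :=
    hDπ q hq ((Cfsg.Agent.Lib.H7.BG13.dvd_card_of_isPGroup_ne_bot hQ hQ1).trans
      (Subgroup.card_dvd_of_le hQD))
  have hpq : p ≠ q := by
    rintro rfl
    exact hpα hqα
  have hqσ : q ∈ sigma M := alpha_subset_sigma hG hU hM hqα
  have hQL : Q ≤ L := hQD.trans inf_le_right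
  have hne : ⁅Q, A⁆ ≠ ⊥ := by
    intro h
    apply hQC
    exact Subgroup.commutator_eq_bot_iff_le_centralizer.1 h
  by_cases hpL : p ∈ sigma L
  · obtain ⟨g, hg⟩ := Cfsg.Agent.Lib.H7.BG13.conj_of_commutator_ne_bot hG hM hL hpq hpL hqσ hAL hQL
      hAp hQ hAQ hne
    obtain ⟨y, hyA, hy1⟩ := exists_ne_one_of_card_sq hAc
    have hA1 : A ≠ ⊥ := by
      intro h
      rw [h, Subgroup.mem_bot] at hyA
      exact hy1 hyA
    have hfus := (sigma_fusion hG hU hM hpσ hAp hA1 hAM).1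
    have h1 : cj(g⁻¹, A) ≤ M := by
      rw [map_conj_le_iff, inv_inv, ← hg]; exact hAL
    obtain ⟨m, hm, c, hc, hgmc⟩ := hfus g⁻¹ h1
    apply hLM
    have hcL : c ∈ L := hCL hc
    have hg' : g = c⁻¹ * m⁻¹ := by
      have : g⁻¹⁻¹ = (m * c)⁻¹ := by rw [hgmc]
      rwa [inv_inv, mul_inv_rev] at this
    have h2 : L = cj(c⁻¹, M) := by
      rw [hg, hg', ← Cfsg.Agent.Lib.H10.map_conj_map_conj, map_conj_eq_self_of_mem (M.inv_mem hm)]
    have h3 : cj(c, L) = M := by
      rw [h2]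
      have := Cfsg.Agent.Lib.H10.map_conj_inv_map_conj c⁻¹ M
      rwa [inv_inv] at this
    rw [map_conj_eq_self_of_mem hcL] at h3
    exact h3
  · have hr2 : PRankLE p 2 ↥L := by
      by_contra h
      exact hpL (alpha_subset_sigma hG hU hL ⟨hpp, h⟩)
    have hr1 : ¬ PRankLE p 1 ↥L := by
      apply not_pRankLE_of_elemAb hAL hAe
      rw [hAc, pow_one]
      nlinarith [hpp.one_lt]
    have hτ : p ∈ tau2 L := ⟨hpp, hpL, hr2, hr1⟩
    obtain ⟨-, -, hc, -, -, -⟩ := h17 L hL p hτ A ⟨hAL, hAe, hAc⟩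
    have h1 : ⁅Q, A⁆ ≤ sigmaCore L ⊔ A := by
      rw [Subgroup.commutator_le]
      intro x hx a ha
      have hn := hc (hQL hx)
      rw [Subgroup.mem_normalizer_iff] at hn
      have h2 : x * a * x⁻¹ ∈ sigmaCore L ⊔ A := (hn a).1 (Subgroup.mem_sup_right ha)
      rw [commutatorElement_def]
      exact mul_mem h2 (inv_mem (Subgroup.mem_sup_right ha))
    have h2 : ⁅Q, A⁆ ≤ Q := by
      rw [Subgroup.commutator_le]
      intro x hx a ha
      have hn := hAQ ha
      rw [Subgroup.mem_normalizer_iff] at hn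
      have h3 : ⁅x, a⁆ = x * (a * x⁻¹ * a⁻¹) := by
        rw [commutatorElement_def]; group
      rw [h3]
      exact mul_mem hx ((hn x⁻¹).1 (inv_mem hx))
    have hqc : IsPGroup q ↥⁅Q, A⁆ := hQ.to_le h2
    have hd : q ∣ Nat.card ↥⁅Q, A⁆ := Cfsg.Agent.Lib.H7.BG13.dvd_card_of_isPGroup_ne_bot hqc hne
    have hd2 : q ∣ Nat.card ↥(sigmaCore L ⊔ A) := hd.trans (Subgroup.card_dvd_of_le h1)
    have hd3 : q ∣ Nat.card ↥(sigmaCore L) * Nat.card ↥A :=
      hd2.trans (Cfsg.Agent.Lib.H7.card_sup_dvd_mul_of_le_normalizer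
        (hAL.trans (le_normalizer_sigmaCore L)))
    have hqL : q ∈ sigma L := by
      rcases (Nat.Prime.dvd_mul hq).1 hd3 with h | h
      · exact sigmaCore_isPiCard L q hq h
      · exfalso
        rw [hAc] at h
        have := (Nat.prime_dvd_prime_iff_eq hq hpp).1 (hq.dvd_of_dvd_pow h)
        exact hpq this.symm
    have hconj : ∃ g : G, M = cj(g, L) := by
      by_contra hnc
      push Not at hnc
      exact not_mem_alpha_of_mem_sigma hG hL hM hnc hqL hqα
    obtain ⟨g, hg⟩ := hconj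
    apply hpL
    have := Cfsg.Agent.Lib.H7.BG13.mem_sigma_conj (M := M) hpσ g⁻¹
    rw [hg, Cfsg.Agent.Lib.H10.map_conj_inv_map_conj] at this
    exact this

/-- **Case 2b, main step**: under hypothesis (H), `M_α = 1`. -/
theorem alphaCore_eq_bot_of_forall_line (hG : IsMinSimpleOddOrder G) (h17 : Hyp1417 G)
    {M : Subgroup G} (hM : IsCoatom M) {p : ℕ} [hp : Fact p.Prime] {A : Subgroup G}
    (hAM : A ≤ M) (hAe : IsElementaryAbelian p A) (hAc : Nat.card A = p ^ 2)
    (hpσ : p ∈ sigma M) (hpα : p ∉ alpha M)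
    (hH : ∀ A₀ : Subgroup G, A₀ ≤ A → Nat.card A₀ = p →
      ¬ (Subgroup.normalizer (A₀ : Set G) ≤ M ∧
        ∀ L : Subgroup G, IsCoatom L → Subgroup.normalizer (A₀ : Set G) ≤ L → L = M)) :
    alphaCore M = ⊥ := by
  have hU := uniq3 hG
  have hpp := hp.out
  have hαM : alphaCore M ≤ M := piCoreOf_le (alpha M) M
  have hαπ : IsPiCard (alpha M) (Nat.card (alphaCore M)) := piCoreOf_isPiCard (alpha M) M
  have hcop : (Nat.card (alphaCore M)).Coprime p := by
    rw [Nat.coprime_comm, Nat.Prime.coprime_iff_not_dvd hpp]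
    intro hd
    exact hpα (hαπ p hpp hd)
  have hAn : A ≤ Subgroup.normalizer ((alphaCore M : Subgroup G) : Set G) :=
    hAM.trans (le_normalizer_piCoreOf (alpha M) M)
  have hcent : alphaCore M ≤ Subgroup.centralizer (A : Set G) := by
    apply le_of_forall_centralizer_le hAe (by rw [hAc]) hcop hAn
    intro y hy hy1
    have hyp : y ^ p = 1 := hAe.2 y hy
    have hA₀A : Subgroup.zpowers y ≤ A := by
      rw [Subgroup.zpowers_le]; exact hy
    have hNt : Subgroup.normalizer ((Subgroup.zpowers y : Subgroup G) : Set G) ≠ ⊤ :=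
      normalizer_ne_top_of_isPGroup hG (isPGroup_zpowers_of_pow hyp) (zpowers_ne_bot_of_ne_one hy1)
    have hexL : ∃ L : Subgroup G, IsCoatom L ∧
        Subgroup.normalizer ((Subgroup.zpowers y : Subgroup G) : Set G) ≤ L ∧ L ≠ M := by
      by_contra hno
      push Not at hno
      obtain ⟨L, hL, hNL⟩ := exists_coatom_ge hNt
      apply hH (Subgroup.zpowers y) hA₀A (card_zpowers_eq_prime hyp hy1)
      refine ⟨?_, hno⟩
      rw [← hno L hL hNL]; exact hNL
    obtain ⟨L, hL, hNL, hLM⟩ := hexL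
    have hAL : A ≤ L := (le_normalizer_of_le_comm hAe.1 hA₀A).trans hNL
    have hCL : Subgroup.centralizer (A : Set G) ≤ L :=
      (centralizer_le_normalizer_of_le hA₀A).trans hNL
    have := alphaCore_inf_le_centralizer hG h17 hM hL hLM hAM hAe hAc hpσ hpα hAL hCL
    refine le_trans ?_ this
    apply inf_le_inf_left
    rw [Cfsg.Agent.Lib.H7.centralizer_singleton_eq_centralizer_zpowers]
    exact (Subgroup.centralizer_le_normalizer _).trans hNL
  by_contra hne
  have hc1 : Nat.card (alphaCore M) ≠ 1 := fun h => hne (Subgroup.card_eq_one.1 h)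
  obtain ⟨q, hq, hqd⟩ := Nat.exists_prime_and_dvd hc1
  haveI : Fact q.Prime := ⟨hq⟩
  have hqα : q ∈ alpha M := hαπ q hq hqd
  obtain ⟨T, hT⟩ := SylIn.exists_sylIn q (alphaCore M)
  have hαH := (alpha_core_hall hG hU hM).1
  have hTM : SylIn q T M := by
    refine ⟨hT.le.trans hαM, hT.isPGroup, fun hd => ?_⟩
    rw [← Subgroup.relIndex_mul_relIndex T (alphaCore M) M hT.le hαM, Nat.Prime.dvd_mul hq] at hd
    rcases hd with hd | hd
    · exact hT.2.2 hd
    · exact hαH.2.2 q hq hqα hd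
  have hrT : ¬ PRankLE q 2 ↥T := fun h => hqα.2 (pRankLE_of_sylIn hTM h)
  have hr3 : ¬ PRankLE q 2 ↥(Subgroup.centralizer (A : Set G)) :=
    fun h => hrT (pRankLE_of_le (hT.le.trans hcent) h)
  have hAt : A ≠ ⊤ := by
    rintro rfl
    exact hM.1 (top_le_iff.1 hAM)
  have hA1' : ¬ RankLE 1 ↥A := by
    intro h
    refine not_pRankLE_of_elemAb le_rfl hAe ?_ (h p hpp)
    rw [hAc, pow_one]
    nlinarith [hpp.one_lt]
  have hAU : InUniqueMaximal A :=
    Cfsg.Agent.S1403.result hG A hAt hA1' (Or.inr (fun h => hr3 (h q hq)))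
  obtain ⟨y, hyA, hy1⟩ := exists_ne_one_of_card_sq hAc
  have hyp : y ^ p = 1 := hAe.2 y hyA
  have hA₀A : Subgroup.zpowers y ≤ A := by
    rw [Subgroup.zpowers_le]; exact hyA
  have hNt : Subgroup.normalizer ((Subgroup.zpowers y : Subgroup G) : Set G) ≠ ⊤ :=
    normalizer_ne_top_of_isPGroup hG (isPGroup_zpowers_of_pow hyp) (zpowers_ne_bot_of_ne_one hy1)
  exact hH (Subgroup.zpowers y) hA₀A (card_zpowers_eq_prime hyp hy1)
    (uniq_of_inUniqueMaximal hM hAM hAU (le_normalizer_of_le_comm hAe.1 hA₀A) hNt)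

/-- If `M_α = 1` then `M_σ` is nilpotent. -/
theorem sigmaCore_nilpotent_of_alphaCore_eq_bot (hG : IsMinSimpleOddOrder G) {M : Subgroup G}
    (hM : IsCoatom M) (h : alphaCore M = ⊥) : Group.IsNilpotent (sigmaCore M) := by
  have hU := uniq3 hG
  have hαH := (alpha_core_hall hG hU hM).1
  have hα : ∀ q : ℕ, q ∉ alpha M := by
    intro q hq
    have h1 := hαH.2.2 q hq.1 hq
    rw [h, Subgroup.relIndex_bot_left] at h1
    exact h1 (alpha_subset_sigma hG hU hM hq).2.1
  obtain ⟨H, hH, hHn⟩ := (beta_core_theorem hG hU hM).2.2.2.1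
  have hHeq : H = sigmaCore M := by
    apply le_antisymm hH.1
    rw [← Subgroup.relIndex_eq_one]
    by_contra hne
    obtain ⟨q, hq, hqd⟩ := Nat.exists_prime_and_dvd hne
    exact hH.2.2 q hq ⟨hq, fun hβ => hα q hβ.1⟩ hqd
  rw [← hHeq]; exact hHn

theorem exists_central_order_p {p : ℕ} [hp : Fact p.Prime] {P : Subgroup G} (hP : IsPGroup p P)
    (hP1 : P ≠ ⊥) : ∃ z ∈ P ⊓ Subgroup.centralizer (P : Set G), z ^ p = 1 ∧ z ≠ 1 := by
  have hpp := hp.out
  have hZ1 := inf_centralizer_self_ne_bot hP hP1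
  have hZp : IsPGroup p ↥(P ⊓ Subgroup.centralizer (P : Set G) : Subgroup G) :=
    hP.to_le inf_le_left
  have hd := Cfsg.Agent.Lib.H7.BG13.dvd_card_of_isPGroup_ne_bot hZp hZ1
  obtain ⟨z, hz⟩ := exists_prime_orderOf_dvd_card' p hd
  have hz' : orderOf (z : G) = p := by rw [Subgroup.orderOf_coe, hz]
  have hzp : (z : G) ^ p = 1 := by rw [← hz']; exact pow_orderOf_eq_one _
  have hz1 : (z : G) ≠ 1 := by
    intro h
    rw [h, orderOf_one] at hz'
    exact hpp.one_lt.ne hz'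
  exact ⟨z, z.2, hzp, hz1⟩

/-- **Case 2b, first part**: `C_G(A) ≤ M` when `p ∈ σ(M) ∖ α(M)` and `M_σ` is nilpotent. -/
theorem centralizer_le_of_nilpotent (hG : IsMinSimpleOddOrder G)
    {M : Subgroup G} (hM : IsCoatom M) {p : ℕ} [hp : Fact p.Prime] {A : Subgroup G}
    (hAM : A ≤ M) (hAe : IsElementaryAbelian p A) (hAc : Nat.card A = p ^ 2)
    (hpσ : p ∈ sigma M) (hpα : p ∉ alpha M) (hnil : Group.IsNilpotent (sigmaCore M)) :
    Subgroup.centralizer (A : Set G) ≤ M := by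
  have hU := uniq3 hG
  have hpp := hp.out
  have hAp : IsPGroup p A := isPGroup_of_elemAb' hAe
  have hAK : A ≤ sigmaCore M :=
    Cfsg.Agent.Lib.H7.BG14.le_sigmaCore_of_isPGroup hG hU hM hpσ hAM hAp
  have hAP : A ≤ piCoreOf {p} (sigmaCore M) :=
    le_piCoreOf_of_nilpotent hnil hAK (isPiCard_card_of_isPGroup (Set.mem_singleton p) hAp)
  have hPp : IsPGroup p ↥(piCoreOf {p} (sigmaCore M)) := isPGroup_piCoreOf_singleton p (sigmaCore M)
  have hPK : piCoreOf {p} (sigmaCore M) ≤ sigmaCore M := piCoreOf_le _ _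
  have hPM : piCoreOf {p} (sigmaCore M) ≤ M := hPK.trans (sigmaCore_le M)
  have hMP : M ≤ Subgroup.normalizer ((piCoreOf {p} (sigmaCore M) : Subgroup G) : Set G) :=
    (le_normalizer_sigmaCore M).trans (normalizer_le_normalizer_piCoreOf {p} (sigmaCore M))
  have hr2 : PRankLE p 2 ↥M := by
    by_contra h
    exact hpα ⟨hpp, h⟩
  have hall : ∀ z ∈ piCoreOf {p} (sigmaCore M) ⊓
      Subgroup.centralizer ((piCoreOf {p} (sigmaCore M) : Subgroup G) : Set G), z ^ p = 1 → z ∈ A := by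
    intro z hz hzp
    by_contra hzA
    exact not_pRankLE_two_of_extra hAM hAe hAc (hPM hz.1)
      (Subgroup.centralizer_le (by exact_mod_cast hAP) hz.2) hzp hzA hr2
  obtain ⟨y, hyA, hy1⟩ := exists_ne_one_of_card_sq hAc
  have hA1 : A ≠ ⊥ := by
    intro h
    rw [h, Subgroup.mem_bot] at hyA
    exact hy1 hyA
  have hP1 : piCoreOf {p} (sigmaCore M) ≠ ⊥ := _root_.ne_bot_of_le_ne_bot hA1 hAP
  obtain ⟨z, hz, hzp, hz1⟩ := exists_central_order_p hPp hP1
  have hZ1 : A ⊓ Subgroup.centralizer ((piCoreOf {p} (sigmaCore M) : Subgroup G) : Set G) ≠ ⊥ := by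
    intro h
    have : z ∈ A ⊓ Subgroup.centralizer ((piCoreOf {p} (sigmaCore M) : Subgroup G) : Set G) :=
      ⟨hall z hz hzp, hz.2⟩
    rw [h, Subgroup.mem_bot] at this
    exact hz1 this
  have hZM : A ⊓ Subgroup.centralizer ((piCoreOf {p} (sigmaCore M) : Subgroup G) : Set G) ≤ M :=
    inf_le_left.trans hAM
  have key : ∀ m ∈ M, ∀ x ∈ A ⊓
      Subgroup.centralizer ((piCoreOf {p} (sigmaCore M) : Subgroup G) : Set G),
      m * x * m⁻¹ ∈ A ⊓
        Subgroup.centralizer ((piCoreOf {p} (sigmaCore M) : Subgroup G) : Set G) := by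
    intro m hm x hx
    have hmN := hMP hm
    have h1 : m * x * m⁻¹ ∈ piCoreOf {p} (sigmaCore M) :=
      (Subgroup.mem_normalizer_iff.1 hmN x).1 (hAP hx.1)
    have h2 : m * x * m⁻¹ ∈
        Subgroup.centralizer ((piCoreOf {p} (sigmaCore M) : Subgroup G) : Set G) :=
      (Subgroup.mem_normalizer_iff.1 (normalizer_le_normalizer_centralizer _ hmN) x).1 hx.2
    have h3 : (m * x * m⁻¹) ^ p = 1 := by
      rw [conj_pow, hAe.2 x hx.1]; group
    exact ⟨hall _ ⟨h1, h2⟩ h3, h2⟩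
  have hMZ : M ≤ Subgroup.normalizer ((A ⊓
      Subgroup.centralizer ((piCoreOf {p} (sigmaCore M) : Subgroup G) : Set G) : Subgroup G) : Set G) := by
    intro m hm
    rw [Subgroup.mem_normalizer_iff]
    intro x
    constructor
    · exact key m hm x
    · intro hx
      have := key m⁻¹ (M.inv_mem hm) _ hx
      have h4 : m⁻¹ * (m * x * m⁻¹) * m⁻¹⁻¹ = x := by group
      rwa [h4] at this
  have hN := normalizer_eq_of_coatom hG hM hZM hZ1 hMZ
  calc Subgroup.centralizer (A : Set G)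
      ≤ Subgroup.centralizer ((A ⊓
        Subgroup.centralizer ((piCoreOf {p} (sigmaCore M) : Subgroup G) : Set G) : Subgroup G) : Set G) :=
        Subgroup.centralizer_le (by exact_mod_cast (inf_le_left : A ⊓ _ ≤ A))
    _ ≤ Subgroup.normalizer ((A ⊓
        Subgroup.centralizer ((piCoreOf {p} (sigmaCore M) : Subgroup G) : Set G) : Subgroup G) : Set G) :=
        Subgroup.centralizer_le_normalizer _
    _ = M := hN

/-- **BG Theorem 12.4-type statement** (frozen S1416), from the frozen S1417 as a hypothesis. -/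
theorem thm_12_4 (hG : IsMinSimpleOddOrder G) (h17 : Hyp1417 G) (M : Subgroup G) (hM : IsCoatom M)
    (p : ℕ) [Fact p.Prime] (A : Subgroup G)
    (hA : A ≤ M ∧ IsElementaryAbelian p A ∧ Nat.card A = p ^ 2) :
    Subgroup.centralizer (A : Set G) ≤ M ∧
      ((∀ A₀ : Subgroup G, A₀ ≤ A → Nat.card A₀ = p →
          ¬ (Subgroup.normalizer (A₀ : Set G) ≤ M ∧
            ∀ L : Subgroup G, IsCoatom L → Subgroup.normalizer (A₀ : Set G) ≤ L → L = M)) →
        p ∈ sigma M ∧ alphaCore M = ⊥ ∧ Group.IsNilpotent (sigmaCore M)) := by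
  obtain ⟨hAM, hAe, hAc⟩ := hA
  by_cases hex : ∃ A₀ : Subgroup G, A₀ ≤ A ∧ Nat.card A₀ = p ∧
      (Subgroup.normalizer (A₀ : Set G) ≤ M ∧
        ∀ L : Subgroup G, IsCoatom L → Subgroup.normalizer (A₀ : Set G) ≤ L → L = M)
  · obtain ⟨A₀, hA₀A, hA₀c, hN, huniq⟩ := hex
    exact ⟨(centralizer_le_normalizer_of_le hA₀A).trans hN,
      fun hH => absurd ⟨hN, huniq⟩ (hH A₀ hA₀A hA₀c)⟩
  · have hH : ∀ A₀ : Subgroup G, A₀ ≤ A → Nat.card A₀ = p →
        ¬ (Subgroup.normalizer (A₀ : Set G) ≤ M ∧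
          ∀ L : Subgroup G, IsCoatom L → Subgroup.normalizer (A₀ : Set G) ≤ L → L = M) :=
      fun A₀ h1 h2 h3 => hex ⟨A₀, h1, h2, h3⟩
    have hpσ : p ∈ sigma M := by
      by_contra h
      exact hex (exists_line_of_not_mem_sigma hG h17 hM hAM hAe hAc h)
    have hpα : p ∉ alpha M := fun h => hex (exists_line_of_mem_alpha hG hM hAM hAe hAc h)
    have hα := alphaCore_eq_bot_of_forall_line hG h17 hM hAM hAe hAc hpσ hpα hH
    have hnil := sigmaCore_nilpotent_of_alphaCore_eq_bot hG hM hα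
    exact ⟨centralizer_le_of_nilpotent hG hM hAM hAe hAc hpσ hpα hnil, fun _ => ⟨hpσ, hα, hnil⟩⟩

end Cfsg.Agent.Lib.H7.BG124
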