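import Mathlib
import Cfsg.Agent.Lib.H16.BGu
import Cfsg.Agent.Lib.H7.FrobNil

/-!
# A Frobenius-action lemma for BG 11.7 (lemma MU of helper16's plan)
-/

set_option autoImplicit false
set_option linter.style.haveILetI false
set_option linter.unusedSectionVars false
set_option linter.unusedVariables false
open Cfsg

namespace Cfsg.Agent.Lib.H7.BG11mu

open Cfsg.Agent.Lib.H16.BG

universe u
variable {G : Type u} [Group G] [Finite G]

/-- `zpowers x` for `x` of prime order `p`, `x ≠ 1`. -/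
theorem card_zpowers_of_pow {p : ℕ} [hp : Fact p.Prime] {x : G} (hx : x ^ p = 1) (hx1 : x ≠ 1) :
    Nat.card (Subgroup.zpowers x) = p := by
  rw [Nat.card_zpowers]; exact orderOf_eq_prime hx hx1

/-- a non-identity element of `zpowers x`, `x` of prime order, generates `zpowers x`. -/
theorem mem_zpowers_of_mem_zpowers_ne_one {p : ℕ} [hp : Fact p.Prime] {x e : G} (hx : x ^ p = 1)
    (he : e ∈ Subgroup.zpowers x) (he1 : e ≠ 1) : x ∈ Subgroup.zpowers e := by
  have hx1 : x ≠ 1 := by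
    rintro rfl
    rw [Subgroup.zpowers_one_eq_bot, Subgroup.mem_bot] at he
    exact he1 he
  have hle : Subgroup.zpowers e ≤ Subgroup.zpowers x := Subgroup.zpowers_le.2 he
  have hc : Nat.card (Subgroup.zpowers x) = p := card_zpowers_of_pow hx hx1
  have hd : Nat.card (Subgroup.zpowers e) ∣ p := by
    rw [← hc]; exact Subgroup.card_dvd_of_le hle
  rcases (Nat.dvd_prime hp.out).1 hd with h | h
  · exfalso
    apply he1
    have := Subgroup.card_eq_one.1 h
    exact Subgroup.zpowers_eq_bot.1 this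
  · have : Subgroup.zpowers e = Subgroup.zpowers x :=
      Subgroup.eq_of_le_of_card_ge hle (by rw [h, hc])
    rw [this]; exact Subgroup.mem_zpowers x

/-- A group `U` on which an element `x` of prime order acts without fixed points, together with
`x`, forms a Frobenius group acting on any invariant solvable group of coprime order. -/
theorem frobAct_of_fpf {p : ℕ} [hp : Fact p.Prime] {U : Subgroup G} (hU1 : U ≠ ⊥) {x : G}
    (hxp : x ^ p = 1) (hxN : x ∈ Subgroup.normalizer (U : Set G))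
    (hfix : U ⊓ Subgroup.centralizer ({x} : Set G) = ⊥)
    {O : Subgroup G} (hOU : (Nat.card O).Coprime (Nat.card U)) (hOp : (Nat.card O).Coprime p)
    (hUO : U ≤ Subgroup.normalizer (O : Set G)) (hxO : x ∈ Subgroup.normalizer (O : Set G))
    (hsolv : Group.IsSolvable ↥O) : Cfsg.Agent.Lib.H8.FrobAct U (Subgroup.zpowers x) O := by
  have hpp : p.Prime := hp.out
  have hx1 : x ≠ 1 := by
    rintro rfl
    apply hU1
    rw [eq_bot_iff, ← hfix]
    intro u hu
    exact Subgroup.mem_inf.2 ⟨hu, Subgroup.mem_centralizer_singleton_iff.2 (by simp)⟩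
  have hRc : Nat.card (Subgroup.zpowers x) = p := card_zpowers_of_pow hxp hx1
  have hRN : Subgroup.zpowers x ≤ Subgroup.normalizer (U : Set G) := Subgroup.zpowers_le.2 hxN
  have hRO : Subgroup.zpowers x ≤ Subgroup.normalizer (O : Set G) := Subgroup.zpowers_le.2 hxO
  have hcardUR : Nat.card (U ⊔ Subgroup.zpowers x : Subgroup G) ∣ Nat.card U * p := by
    have h := Cfsg.Agent.Lib.H7.card_sup_dvd_mul_of_le_normalizer hRN
    rwa [hRc] at h
  have hcop : Nat.Coprime (Nat.card O) (Nat.card (U ⊔ Subgroup.zpowers x : Subgroup G)) :=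
    Nat.Coprime.coprime_dvd_right hcardUR (Nat.Coprime.mul_right hOU hOp)
  have hcomm : ∀ e ∈ Subgroup.zpowers x, e * x = x * e := by
    intro e he
    obtain ⟨k, rfl⟩ := Subgroup.mem_zpowers_iff.1 he
    exact ((Commute.refl x).zpow_left k).eq
  refine ⟨hU1, ?_, ?_, ?_, ?_, ?_, ?_, hsolv, hcop⟩
  · intro h
    rw [h, Subgroup.card_bot] at hRc
    exact hpp.one_lt.ne' hRc.symm
  · rw [eq_bot_iff, ← hfix]
    intro e he
    exact Subgroup.mem_inf.2 ⟨he.1, Subgroup.mem_centralizer_singleton_iff.2 (hcomm e he.2)⟩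
  · intro e he u hu
    exact (Subgroup.mem_normalizer_iff.1 (hRN he) u).1 hu
  · intro e he he1 u hu hc
    have hxe := mem_zpowers_of_mem_zpowers_ne_one hxp he he1
    obtain ⟨k, hk⟩ := Subgroup.mem_zpowers_iff.1 hxe
    have hux : u ∈ U ⊓ Subgroup.centralizer ({x} : Set G) := by
      refine Subgroup.mem_inf.2 ⟨hu, Subgroup.mem_centralizer_singleton_iff.2 ?_⟩
      rw [← hk]
      have h1 : Commute e u := hc
      exact (h1.zpow_left k).eq.symm
    rw [hfix, Subgroup.mem_bot] at hux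
    exact hux
  · intro y hy h hh
    exact (Subgroup.mem_normalizer_iff.1 ((sup_le hUO hRO) hy) h).1 hh
  · exact (Subgroup.disjoint_of_coprime_natCard hcop).eq_bot

/-- Frobenius fixed points: in the situation of `frobAct_of_fpf`, if `C_O(U) = 1` and `O ≠ 1` then
`C_O(x) ≠ 1`. -/
theorem fixed_ne_bot_of_fpf {p : ℕ} [hp : Fact p.Prime] {U : Subgroup G} (hU1 : U ≠ ⊥) {x : G}
    (hxp : x ^ p = 1) (hxN : x ∈ Subgroup.normalizer (U : Set G))
    (hfix : U ⊓ Subgroup.centralizer ({x} : Set G) = ⊥)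
    {O : Subgroup G} (hOU : (Nat.card O).Coprime (Nat.card U)) (hOp : (Nat.card O).Coprime p)
    (hUO : U ≤ Subgroup.normalizer (O : Set G)) (hxO : x ∈ Subgroup.normalizer (O : Set G))
    (hsolv : Group.IsSolvable ↥O) (hO1 : O ≠ ⊥) (hOC : O ⊓ Subgroup.centralizer (U : Set G) = ⊥) :
    O ⊓ Subgroup.centralizer ({x} : Set G) ≠ ⊥ := by
  have hF := frobAct_of_fpf hU1 hxp hxN hfix hOU hOp hUO hxO hsolv
  have hc := Cfsg.Agent.Lib.H7.FrobNil.card_eq_pow hF hOC
  intro hbot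
  rw [← Cfsg.Agent.Lib.H7.centralizer_singleton_eq_centralizer_zpowers, hbot, Subgroup.card_bot,
    one_pow] at hc
  exact hO1 (Subgroup.card_eq_one.1 hc)

theorem card_lt_of_lt' {X Y : Subgroup G} (h : X < Y) : Nat.card X < Nat.card Y := by
  by_contra hc
  push Not at hc
  exact h.ne (Subgroup.eq_of_le_of_card_ge h.le hc)

/-- a subgroup of prime order is generated by an element of that order. -/
theorem exists_generator_of_card_prime {p : ℕ} [hp : Fact p.Prime] {X : Subgroup G}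
    (hX : Nat.card X = p) : ∃ x : G, X = Subgroup.zpowers x ∧ x ^ p = 1 ∧ x ≠ 1 := by
  have hX1 : X ≠ ⊥ := by
    intro h
    rw [h, Subgroup.card_bot] at hX
    exact hp.out.one_lt.ne hX
  obtain ⟨⟨x, hx⟩, hx1'⟩ := (Subgroup.ne_bot_iff_exists_ne_one).1 hX1
  have hx1 : x ≠ 1 := fun h => hx1' (Subtype.ext h)
  have hxp : x ^ p = 1 := by
    have := pow_card_eq_one' (G := X) (x := ⟨x, hx⟩)
    rw [hX] at this
    exact congrArg Subtype.val this
  refine ⟨x, ?_, hxp, hx1⟩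
  have hle : Subgroup.zpowers x ≤ X := Subgroup.zpowers_le.2 hx
  exact (Subgroup.eq_of_le_of_card_ge hle (by rw [card_zpowers_of_pow hxp hx1, hX])).symm

/-- two distinct subgroups of order `p` generate a group of order `p²` containing them. -/
theorem sup_eq_of_card_prime_sq {p : ℕ} [hp : Fact p.Prime] {A A₁ A₂ : Subgroup G}
    (hAp : IsPGroup p A) (hAc : Nat.card A = p ^ 2) (hA₁ : A₁ ≤ A) (hA₁c : Nat.card A₁ = p)
    (hA₂ : A₂ ≤ A) (hA₂c : Nat.card A₂ = p) (hne : A₁ ≠ A₂) : A₁ ⊔ A₂ = A := by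
  have hpp := hp.out
  have hle : A₁ ⊔ A₂ ≤ A := sup_le hA₁ hA₂
  apply Subgroup.eq_of_le_of_card_ge hle
  have hlt : A₁ < A₁ ⊔ A₂ := by
    apply lt_of_le_of_ne le_sup_left
    intro h
    apply hne
    have h2 : A₂ ≤ A₁ := by rw [h]; exact le_sup_right
    exact (Subgroup.eq_of_le_of_card_ge h2 (by rw [hA₁c, hA₂c])).symm
  have hlt' := card_lt_of_lt' hlt
  rw [hA₁c] at hlt'
  have hd : Nat.card (A₁ ⊔ A₂ : Subgroup G) ∣ p ^ 2 := by
    rw [← hAc]; exact Subgroup.card_dvd_of_le hle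
  obtain ⟨k, hk2, hk⟩ := (Nat.dvd_prime_pow hpp).1 hd
  rw [hAc, hk]
  rw [hk] at hlt'
  have hk1 : 1 < k := by
    by_contra h
    push Not at h
    have : p ^ k ≤ p ^ 1 := Nat.pow_le_pow_right hpp.pos h
    rw [pow_one] at this
    omega
  exact Nat.pow_le_pow_right hpp.pos (by omega)

/-- an element not centralizing a group of prime order has no fixed points on it. -/
theorem inf_centralizer_singleton_eq_bot_of_card_prime {r : ℕ} [hr : Fact r.Prime]
    {U : Subgroup G} (hU : Nat.card U = r) {x : G} (hx : x ∉ Subgroup.centralizer (U : Set G)) :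
    U ⊓ Subgroup.centralizer ({x} : Set G) = ⊥ := by
  by_contra hne
  apply hx
  have hle : U ⊓ Subgroup.centralizer ({x} : Set G) ≤ U := inf_le_left
  have hd : Nat.card (U ⊓ Subgroup.centralizer ({x} : Set G) : Subgroup G) ∣ r := by
    rw [← hU]; exact Subgroup.card_dvd_of_le hle
  rcases (Nat.dvd_prime hr.out).1 hd with h | h
  · exact absurd (Subgroup.card_eq_one.1 h) hne
  · have heq : U ⊓ Subgroup.centralizer ({x} : Set G) = U :=
      Subgroup.eq_of_le_of_card_ge hle (by rw [h, hU])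
    rw [Subgroup.mem_centralizer_iff]
    intro u hu
    have : u ∈ U ⊓ Subgroup.centralizer ({x} : Set G) := by rw [heq]; exact hu
    exact (Subgroup.mem_centralizer_singleton_iff.1 this.2)

theorem isPGroup_of_elemAb'' {p : ℕ} [Fact p.Prime] {A : Subgroup G}
    (hA : IsElementaryAbelian p A) : IsPGroup p A := by
  intro a
  refine ⟨1, ?_⟩
  rw [pow_one]
  exact Subtype.ext (by simpa using hA.2 a a.2)

theorem le_normalizer_of_le_comm' {A A₀ : Subgroup G} (hA : IsMulCommutative A) (h : A₀ ≤ A) :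
    A ≤ Subgroup.normalizer (A₀ : Set G) := by
  refine le_trans ?_ (Subgroup.centralizer_le_normalizer _)
  intro a ha
  rw [Subgroup.mem_centralizer_iff]
  intro b hb
  exact congrArg Subtype.val (hA.is_comm.comm ⟨b, h hb⟩ ⟨a, ha⟩)

/-- **Lemma MU** (Frobenius-action lemma for BG 11.7). -/
theorem exists_fixed_of_two_fpf_lines {p r : ℕ} [hp : Fact p.Prime] [hr : Fact r.Prime]
    (hpr : p ≠ r) {K A Ar B₀ A₁ A₂ : Subgroup G} (hAe : IsElementaryAbelian p A)
    (hAc : Nat.card A = p ^ 2) (hAre : IsElementaryAbelian r Ar) (hArc : Nat.card Ar = r ^ 2)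
    (hAAr : A ≤ Subgroup.normalizer (Ar : Set G)) (hB₀ : B₀ ≤ Ar) (hB₀c : Nat.card B₀ = r)
    (hAB₀ : A ≤ Subgroup.normalizer (B₀ : Set G))
    (hnc : ¬ A ≤ Subgroup.centralizer (B₀ : Set G)) (hK1 : K ≠ ⊥) (hKs : Group.IsSolvable ↥K)
    (hKp : (Nat.card K).Coprime p) (hKr : (Nat.card K).Coprime r)
    (hAK : A ≤ Subgroup.normalizer (K : Set G)) (hArK : Ar ≤ Subgroup.normalizer (K : Set G))
    (hKAr : K ⊓ Subgroup.centralizer (Ar : Set G) = ⊥) (hA₁ : A₁ ≤ A) (hA₁c : Nat.card A₁ = p)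
    (hA₂ : A₂ ≤ A) (hA₂c : Nat.card A₂ = p) (hne : A₁ ≠ A₂)
    (hf₁ : K ⊓ Subgroup.centralizer (A₁ : Set G) = ⊥)
    (hf₂ : K ⊓ Subgroup.centralizer (A₂ : Set G) = ⊥) :
    Ar ⊓ Subgroup.centralizer (A : Set G) ≠ ⊥ := by
  intro hbot
  have hpp := hp.out
  have hrp := hr.out
  obtain ⟨x₁, hA₁x, hx₁p, hx₁1⟩ := exists_generator_of_card_prime hA₁c
  obtain ⟨x₂, hA₂x, hx₂p, hx₂1⟩ := exists_generator_of_card_prime hA₂c
  have hx₁A : x₁ ∈ A := hA₁ (by rw [hA₁x]; exact Subgroup.mem_zpowers x₁)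
  have hx₂A : x₂ ∈ A := hA₂ (by rw [hA₂x]; exact Subgroup.mem_zpowers x₂)
  have hC₁ : Subgroup.centralizer ({x₁} : Set G) = Subgroup.centralizer (A₁ : Set G) := by
    rw [hA₁x]; exact Cfsg.Agent.Lib.H7.centralizer_singleton_eq_centralizer_zpowers x₁
  have hC₂ : Subgroup.centralizer ({x₂} : Set G) = Subgroup.centralizer (A₂ : Set G) := by
    rw [hA₂x]; exact Cfsg.Agent.Lib.H7.centralizer_singleton_eq_centralizer_zpowers x₂
  have hsup : A₁ ⊔ A₂ = A :=
    sup_eq_of_card_prime_sq (isPGroup_of_elemAb'' hAe) hAc hA₁ hA₁c hA₂ hA₂c hne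
  have hB₀1 : B₀ ≠ ⊥ := by
    intro h
    rw [h, Subgroup.card_bot] at hB₀c
    exact hrp.one_lt.ne hB₀c
  -- (a) `C_K(B₀) ≠ 1`
  have aux1 : ∀ x : G, x ∈ A → x ^ p = 1 → x ∉ Subgroup.centralizer (B₀ : Set G) →
      K ⊓ Subgroup.centralizer (B₀ : Set G) = ⊥ → K ⊓ Subgroup.centralizer ({x} : Set G) ≠ ⊥ := by
    intro x hxA hxp hxC h0
    refine fixed_ne_bot_of_fpf hB₀1 hxp (hAB₀ hxA)
      (inf_centralizer_singleton_eq_bot_of_card_prime hB₀c hxC) (by rw [hB₀c]; exact hKr) hKp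
      (hB₀.trans hArK) (hAK hxA) hKs hK1 h0
  have hK₀1 : K ⊓ Subgroup.centralizer (B₀ : Set G) ≠ ⊥ := by
    intro h0
    by_cases h1 : x₁ ∈ Subgroup.centralizer (B₀ : Set G)
    · by_cases h2 : x₂ ∈ Subgroup.centralizer (B₀ : Set G)
      · apply hnc
        rw [← hsup, hA₁x, hA₂x]
        exact sup_le (Subgroup.zpowers_le.2 h1) (Subgroup.zpowers_le.2 h2)
      · exact aux1 x₂ hx₂A hx₂p h2 h0 (by rw [hC₂]; exact hf₂)
    · exact aux1 x₁ hx₁A hx₁p h1 h0 (by rw [hC₁]; exact hf₁)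
  -- the group `K₀ = C_K(B₀)`
  have hArcomm : Ar ≤ Subgroup.normalizer (B₀ : Set G) := le_normalizer_of_le_comm' hAre.1 hB₀
  have hK₀s : Group.IsSolvable ↥(K ⊓ Subgroup.centralizer (B₀ : Set G) : Subgroup G) :=
    Group.isSolvable_of_isSolvable_injective
      (Subgroup.inclusion_injective (inf_le_left : K ⊓ Subgroup.centralizer (B₀ : Set G) ≤ K))
  have hK₀d : Nat.card (K ⊓ Subgroup.centralizer (B₀ : Set G) : Subgroup G) ∣ Nat.card K :=
    Subgroup.card_dvd_of_le inf_le_left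
  have hK₀p : (Nat.card (K ⊓ Subgroup.centralizer (B₀ : Set G) : Subgroup G)).Coprime p :=
    Nat.Coprime.coprime_dvd_left hK₀d hKp
  have hK₀r : (Nat.card (K ⊓ Subgroup.centralizer (B₀ : Set G) : Subgroup G)).Coprime r :=
    Nat.Coprime.coprime_dvd_left hK₀d hKr
  have hAK₀ : A ≤ Subgroup.normalizer
      ((K ⊓ Subgroup.centralizer (B₀ : Set G) : Subgroup G) : Set G) :=
    Cfsg.Agent.Lib.H7.le_normalizer_inf hAK (hAB₀.trans (normalizer_le_normalizer_centralizer B₀))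
  have hArK₀ : Ar ≤ Subgroup.normalizer
      ((K ⊓ Subgroup.centralizer (B₀ : Set G) : Subgroup G) : Set G) :=
    Cfsg.Agent.Lib.H7.le_normalizer_inf hArK
      (hArcomm.trans (normalizer_le_normalizer_centralizer B₀))
  have hAr1 : Ar ≠ ⊥ := _root_.ne_bot_of_le_ne_bot hB₀1 hB₀
  have hK₀Ar : (K ⊓ Subgroup.centralizer (B₀ : Set G)) ⊓ Subgroup.centralizer (Ar : Set G) = ⊥ := by
    rw [eq_bot_iff, ← hKAr]
    exact inf_le_inf_right _ inf_le_left
  -- `V ≤ Ar`, `V ≰ B₀` gives `V ⊔ B₀ = Ar`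
  have hVB : ∀ V : Subgroup G, V ≤ Ar → ¬ V ≤ B₀ → B₀ ⊔ V = Ar := by
    intro V hV hVB
    have hle : B₀ ⊔ V ≤ Ar := sup_le hB₀ hV
    apply Subgroup.eq_of_le_of_card_ge hle
    have hlt : B₀ < B₀ ⊔ V := by
      apply lt_of_le_of_ne le_sup_left
      intro h
      apply hVB
      rw [h]; exact le_sup_right
    have hlt' := card_lt_of_lt' hlt
    rw [hB₀c] at hlt'
    have hd : Nat.card (B₀ ⊔ V : Subgroup G) ∣ r ^ 2 := by
      rw [← hArc]; exact Subgroup.card_dvd_of_le hle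
    obtain ⟨k, hk2, hk⟩ := (Nat.dvd_prime_pow hrp).1 hd
    rw [hArc, hk]
    rw [hk] at hlt'
    have hk1 : 1 < k := by
      by_contra h
      push Not at h
      have : r ^ k ≤ r ^ 1 := Nat.pow_le_pow_right hrp.pos h
      rw [pow_one] at this
      omega
    exact Nat.pow_le_pow_right hrp.pos (by omega)
  have hcopAr : (Nat.card (K ⊓ Subgroup.centralizer (B₀ : Set G) : Subgroup G)).Coprime
      (Nat.card Ar) := by
    rw [hArc]; exact Nat.Coprime.pow_right 2 hK₀r
  -- `V_i ≠ 1`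
  have aux2 : ∀ x : G, x ∈ A → x ^ p = 1 → Ar ⊓ Subgroup.centralizer ({x} : Set G) = ⊥ →
      (K ⊓ Subgroup.centralizer (B₀ : Set G)) ⊓ Subgroup.centralizer ({x} : Set G) ≠ ⊥ := by
    intro x hxA hxp hV
    exact fixed_ne_bot_of_fpf hAr1 hxp (hAAr hxA) hV hcopAr hK₀p hArK₀ (hAK₀ hxA) hK₀s hK₀1 hK₀Ar
  have hV₁ : Ar ⊓ Subgroup.centralizer ({x₁} : Set G) ≠ ⊥ := by
    intro hV
    apply aux2 x₁ hx₁A hx₁p hV
    rw [eq_bot_iff, ← hf₁, ← hC₁]
    exact inf_le_inf_right _ inf_le_left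
  have hV₂ : Ar ⊓ Subgroup.centralizer ({x₂} : Set G) ≠ ⊥ := by
    intro hV
    apply aux2 x₂ hx₂A hx₂p hV
    rw [eq_bot_iff, ← hf₂, ← hC₂]
    exact inf_le_inf_right _ inf_le_left
  -- `V₁ ∩ V₂ = 1`
  have hV12 : (Ar ⊓ Subgroup.centralizer ({x₁} : Set G)) ⊓
      (Ar ⊓ Subgroup.centralizer ({x₂} : Set G)) = ⊥ := by
    rw [eq_bot_iff, ← hbot]
    refine le_inf (inf_le_left.trans inf_le_left) ?_
    rw [Subgroup.le_centralizer_iff, ← hsup]
    apply sup_le
    · rw [← Subgroup.le_centralizer_iff, ← hC₁]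
      exact inf_le_left.trans inf_le_right
    · rw [← Subgroup.le_centralizer_iff, ← hC₂]
      exact inf_le_right.trans inf_le_right
  -- `A` normalizes `V_i`
  have hAV : ∀ x : G, x ∈ A → A ≤ Subgroup.normalizer
      ((Ar ⊓ Subgroup.centralizer ({x} : Set G) : Subgroup G) : Set G) := by
    intro x hxA
    apply Cfsg.Agent.Lib.H7.le_normalizer_inf hAAr
    intro a ha
    rw [Subgroup.mem_normalizer_iff]
    intro y
    have hax : a * x = x * a := congrArg Subtype.val (hAe.1.is_comm.comm ⟨a, ha⟩ ⟨x, hxA⟩)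
    rw [Subgroup.mem_centralizer_singleton_iff, Subgroup.mem_centralizer_singleton_iff]
    constructor
    · intro h
      calc a * y * a⁻¹ * x = a * y * (a⁻¹ * x) := by group
        _ = a * y * (x * a⁻¹) := by
            have : a⁻¹ * x = x * a⁻¹ := by
              have h2 : x = a⁻¹ * (a * x) := by group
              calc a⁻¹ * x = a⁻¹ * x * (a * a⁻¹) := by group
                _ = a⁻¹ * (x * a) * a⁻¹ := by group
                _ = a⁻¹ * (a * x) * a⁻¹ := by rw [hax]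
                _ = x * a⁻¹ := by group
            rw [this]
        _ = a * (y * x) * a⁻¹ := by group
        _ = a * (x * y) * a⁻¹ := by rw [h]
        _ = (a * x) * y * a⁻¹ := by group
        _ = (x * a) * y * a⁻¹ := by rw [hax]
        _ = x * (a * y * a⁻¹) := by group
    · intro h
      have h3 : a⁻¹ * x = x * a⁻¹ := by
        calc a⁻¹ * x = a⁻¹ * x * (a * a⁻¹) := by group
          _ = a⁻¹ * (x * a) * a⁻¹ := by group
          _ = a⁻¹ * (a * x) * a⁻¹ := by rw [hax]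
          _ = x * a⁻¹ := by group
      calc y * x = a⁻¹ * ((a * y * a⁻¹) * (a * x)) := by group
        _ = a⁻¹ * ((a * y * a⁻¹) * (x * a)) := by rw [hax]
        _ = a⁻¹ * ((a * y * a⁻¹ * x) * a) := by group
        _ = a⁻¹ * ((x * (a * y * a⁻¹)) * a) := by rw [h]
        _ = (a⁻¹ * x) * a * y := by group
        _ = (x * a⁻¹) * a * y := by rw [h3]
        _ = x * y := by group
  -- the final Frobenius argument
  have aux3 : ∀ xi xj : G, xi ∈ A → xj ∈ A → xj ^ p = 1 →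
      ¬ (Ar ⊓ Subgroup.centralizer ({xi} : Set G)) ≤ B₀ →
      Ar ⊓ Subgroup.centralizer ({xi} : Set G) ≠ ⊥ →
      (Ar ⊓ Subgroup.centralizer ({xi} : Set G)) ⊓ Subgroup.centralizer ({xj} : Set G) = ⊥ →
      (K ⊓ Subgroup.centralizer (B₀ : Set G)) ⊓ Subgroup.centralizer ({xj} : Set G) ≠ ⊥ := by
    intro xi xj hxi hxj hxjp hnB hV1 hVfix
    have hVAr : Ar ⊓ Subgroup.centralizer ({xi} : Set G) ≤ Ar := inf_le_left
    have hcopV : (Nat.card (K ⊓ Subgroup.centralizer (B₀ : Set G) : Subgroup G)).Coprime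
        (Nat.card (Ar ⊓ Subgroup.centralizer ({xi} : Set G) : Subgroup G)) :=
      Nat.Coprime.coprime_dvd_right (Subgroup.card_dvd_of_le hVAr) hcopAr
    refine fixed_ne_bot_of_fpf hV1 hxjp (hAV xi hxi hxj) hVfix hcopV hK₀p (hVAr.trans hArK₀)
      (hAK₀ hxj) hK₀s hK₀1 ?_
    have hsupV := hVB _ hVAr hnB
    rw [eq_bot_iff, ← hK₀Ar]
    refine le_inf inf_le_left ?_
    have h1 : (K ⊓ Subgroup.centralizer (B₀ : Set G)) ⊓
        Subgroup.centralizer ((Ar ⊓ Subgroup.centralizer ({xi} : Set G) : Subgroup G) : Set G) ≤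
        Subgroup.centralizer
          ((B₀ ⊔ (Ar ⊓ Subgroup.centralizer ({xi} : Set G)) : Subgroup G) : Set G) := by
      rw [Subgroup.le_centralizer_iff]
      apply sup_le
      · rw [← Subgroup.le_centralizer_iff]
        exact inf_le_left.trans inf_le_right
      · rw [← Subgroup.le_centralizer_iff]
        exact inf_le_right
    rw [hsupV] at h1
    exact h1
  by_cases hB1 : Ar ⊓ Subgroup.centralizer ({x₁} : Set G) ≤ B₀
  · by_cases hB2 : Ar ⊓ Subgroup.centralizer ({x₂} : Set G) ≤ B₀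
    · -- both equal `B₀`
      have e1 : Ar ⊓ Subgroup.centralizer ({x₁} : Set G) = B₀ := by
        apply Subgroup.eq_of_le_of_card_ge hB1
        have hd : Nat.card (Ar ⊓ Subgroup.centralizer ({x₁} : Set G) : Subgroup G) ∣ r := by
          rw [← hB₀c]; exact Subgroup.card_dvd_of_le hB1
        rcases (Nat.dvd_prime hrp).1 hd with h | h
        · exact absurd (Subgroup.card_eq_one.1 h) hV₁
        · rw [h, hB₀c]
      have e2 : Ar ⊓ Subgroup.centralizer ({x₂} : Set G) = B₀ := by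
        apply Subgroup.eq_of_le_of_card_ge hB2
        have hd : Nat.card (Ar ⊓ Subgroup.centralizer ({x₂} : Set G) : Subgroup G) ∣ r := by
          rw [← hB₀c]; exact Subgroup.card_dvd_of_le hB2
        rcases (Nat.dvd_prime hrp).1 hd with h | h
        · exact absurd (Subgroup.card_eq_one.1 h) hV₂
        · rw [h, hB₀c]
      rw [e1, e2, inf_idem] at hV12
      exact hB₀1 hV12
    · -- `V₂ ≰ B₀`: use `x₁` acting on `V₂`
      apply aux3 x₂ x₁ hx₂A hx₁A hx₁p hB2 hV₂
      · rw [eq_bot_iff, ← hV12]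
        refine le_inf ?_ inf_le_left
        exact le_inf (inf_le_left.trans inf_le_left) inf_le_right
      · rw [eq_bot_iff, ← hf₁, ← hC₁]
        exact inf_le_inf_right _ inf_le_left
  · apply aux3 x₁ x₂ hx₁A hx₂A hx₂p hB1 hV₁
    · rw [eq_bot_iff, ← hV12]
      refine le_inf inf_le_left ?_
      exact le_inf (inf_le_left.trans inf_le_left) inf_le_right
    · rw [eq_bot_iff, ← hf₂, ← hC₂]
      exact inf_le_inf_right _ inf_le_left

end Cfsg.Agent.Lib.H7.BG11mu
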