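import Mathlib
import Cfsg.Agent.Lib.H7.BG11mu
import Cfsg.Agent.Lib.H8.FrobFormula2
import Cfsg.Agent.Lib.H16.BGn
import Cfsg.Agent.Lib.H16.PGroupCenter
import Cfsg.Agent.Lib.H9.SymplecticType
import Cfsg.Agent.Lib.H7.Coprime

/-!
# A Frobenius-action lemma for BG Lemma 12.17 (helper7)

A Frobenius group `Q ⟨x⟩` (`x` of prime order `p` acting fixed-point-freely on `Q`) acts coprimely
on an `r`-group `R` (`r` odd).  If the elements of order dividing `r` of `C_R(Q)` and of `C_R(x)` all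
lie in `⟨x₀⟩` for one element `x₀ ∈ C_R(Q⟨x⟩)` of order `r`, then `R` is cyclic.
-/

set_option autoImplicit false
set_option linter.style.haveILetI false
set_option linter.unusedVariables false
set_option linter.unusedSectionVars false

open scoped commutatorElement

namespace Cfsg.Agent.Lib.H7.BG1217

universe u
variable {G : Type u} [Group G] [Finite G]

/-- conjugation-closed `⇒` in the normalizer. -/
theorem mem_normalizer_of_conj_mem {D : Subgroup G} {t : G}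
    (h1 : ∀ d ∈ D, t * d * t⁻¹ ∈ D) (h2 : ∀ d ∈ D, t⁻¹ * d * t ∈ D) :
    t ∈ Subgroup.normalizer (D : Set G) := by
  rw [Subgroup.mem_normalizer_iff]
  intro d
  constructor
  · exact h1 d
  · intro hd
    have := h2 _ hd
    have e : t⁻¹ * (t * d * t⁻¹) * t = d := by group
    rwa [e] at this

section Core

variable {p r : ℕ} [hp : Fact p.Prime] [hr : Fact r.Prime] {Q R : Subgroup G} {x x₀ : G}

/-- **Step 1**: a `Q⟨x⟩`-invariant subgroup of exponent `r` of `R` is trivial or equals `⟨x₀⟩`. -/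
theorem eq_bot_or_card_eq (hQ1 : Q ≠ ⊥) (hxp : x ^ p = 1)
    (hxN : x ∈ Subgroup.normalizer (Q : Set G))
    (hfix : Q ⊓ Subgroup.centralizer ({x} : Set G) = ⊥)
    (hR : IsPGroup r R) (hRQ : (Nat.card R).Coprime (Nat.card Q)) (hRp : (Nat.card R).Coprime p)
    (hx₀r : x₀ ^ r = 1) (hx₀1 : x₀ ≠ 1)
    (hx₀Q : x₀ ∈ Subgroup.centralizer (Q : Set G)) (hx₀x : x₀ * x = x * x₀)
    (hcQ : ∀ y ∈ R ⊓ Subgroup.centralizer (Q : Set G), y ^ r = 1 → y ∈ Subgroup.zpowers x₀)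
    (hcP : ∀ y ∈ R ⊓ Subgroup.centralizer ({x} : Set G), y ^ r = 1 → y ∈ Subgroup.zpowers x₀)
    {D : Subgroup G} (hDR : D ≤ R) (hQD : Q ≤ Subgroup.normalizer (D : Set G))
    (hxD : x ∈ Subgroup.normalizer (D : Set G)) (hexp : ∀ d ∈ D, d ^ r = 1) :
    D = ⊥ ∨ (x₀ ∈ D ∧ Nat.card D = r) := by
  have hrp : r.Prime := hr.out
  have hpp : p.Prime := hp.out
  have hx1 : x ≠ 1 := by
    rintro rfl
    apply hQ1
    rw [eq_bot_iff, ← hfix]
    intro u hu
    exact Subgroup.mem_inf.2 ⟨hu, Subgroup.mem_centralizer_singleton_iff.2 (by simp)⟩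
  have hDp : IsPGroup r D := hR.to_le hDR
  have hsolv : Group.IsSolvable ↥D := by
    haveI := hDp.isNilpotent
    infer_instance
  have hDQ : (Nat.card D).Coprime (Nat.card Q) :=
    Nat.Coprime.coprime_dvd_left (Subgroup.card_dvd_of_le hDR) hRQ
  have hDpc : (Nat.card D).Coprime p :=
    Nat.Coprime.coprime_dvd_left (Subgroup.card_dvd_of_le hDR) hRp
  have hF := Cfsg.Agent.Lib.H7.BG11mu.frobAct_of_fpf hQ1 hxp hxN hfix hDQ hDpc hQD hxD hsolv
  have hform := Cfsg.Agent.Lib.H8.frobFormula Q (Subgroup.zpowers x) D hF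
  unfold Cfsg.Agent.Lib.H8.FrobFormula at hform
  have hcz : Nat.card (Subgroup.zpowers x) = p :=
    Cfsg.Agent.Lib.H7.BG11mu.card_zpowers_of_pow hxp hx1
  rw [hcz] at hform
  have hZc : Nat.card (Subgroup.zpowers x₀) = r :=
    Cfsg.Agent.Lib.H7.BG11mu.card_zpowers_of_pow hx₀r hx₀1
  -- the three centralizers lie in `⟨x₀⟩`
  have hT1 : D ⊓ Subgroup.centralizer ((Q ⊔ Subgroup.zpowers x : Subgroup G) : Set G) ≤
      Subgroup.zpowers x₀ := by
    intro y hy
    refine hcQ y ⟨hDR hy.1, ?_⟩ (hexp y hy.1)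
    exact Subgroup.centralizer_le (by exact_mod_cast (le_sup_left : Q ≤ Q ⊔ Subgroup.zpowers x)) hy.2
  have hT2 : D ⊓ Subgroup.centralizer ((Subgroup.zpowers x : Subgroup G) : Set G) ≤
      Subgroup.zpowers x₀ := by
    intro y hy
    refine hcP y ⟨hDR hy.1, Subgroup.mem_centralizer_singleton_iff.2 ?_⟩ (hexp y hy.1)
    exact (Subgroup.mem_centralizer_iff.1 hy.2 x (Subgroup.mem_zpowers x)).symm
  have hT3 : D ⊓ Subgroup.centralizer (Q : Set G) ≤ Subgroup.zpowers x₀ := by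
    intro y hy
    exact hcQ y ⟨hDR hy.1, hy.2⟩ (hexp y hy.1)
  by_cases hx₀D : x₀ ∈ D
  · right
    refine ⟨hx₀D, ?_⟩
    have hx₀zx : x₀ ∈ Subgroup.centralizer ((Subgroup.zpowers x : Subgroup G) : Set G) := by
      rw [Subgroup.mem_centralizer_iff]
      intro y hy
      obtain ⟨k, rfl⟩ := Subgroup.mem_zpowers_iff.1 hy
      exact ((Commute.zpow_right (show Commute x₀ x from hx₀x) k).eq).symm
    have hx₀sup : x₀ ∈ Subgroup.centralizer ((Q ⊔ Subgroup.zpowers x : Subgroup G) : Set G) := by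
      have : Q ⊔ Subgroup.zpowers x ≤ Subgroup.centralizer ({x₀} : Set G) := by
        apply sup_le
        · intro u hu
          rw [Subgroup.mem_centralizer_singleton_iff]
          exact (Subgroup.mem_centralizer_iff.1 hx₀Q u hu)
        · intro u hu
          rw [Subgroup.mem_centralizer_singleton_iff]
          exact (Subgroup.mem_centralizer_iff.1 hx₀zx u hu)
      rw [Subgroup.mem_centralizer_iff]
      intro u hu
      exact (Subgroup.mem_centralizer_singleton_iff.1 (this hu))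
    have e1 : D ⊓ Subgroup.centralizer ((Q ⊔ Subgroup.zpowers x : Subgroup G) : Set G) =
        Subgroup.zpowers x₀ :=
      le_antisymm hT1 (Subgroup.zpowers_le.2 ⟨hx₀D, hx₀sup⟩)
    have e2 : D ⊓ Subgroup.centralizer ((Subgroup.zpowers x : Subgroup G) : Set G) =
        Subgroup.zpowers x₀ :=
      le_antisymm hT2 (Subgroup.zpowers_le.2 ⟨hx₀D, hx₀zx⟩)
    have e3 : D ⊓ Subgroup.centralizer (Q : Set G) = Subgroup.zpowers x₀ :=
      le_antisymm hT3 (Subgroup.zpowers_le.2 ⟨hx₀D, hx₀Q⟩)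
    rw [e1, e2, e3, hZc] at hform
    exact Nat.eq_of_mul_eq_mul_left (pow_pos hrp.pos p) hform
  · left
    have hbot : ∀ T : Subgroup G, T ≤ D → T ≤ Subgroup.zpowers x₀ → T = ⊥ := by
      intro T hTD hTZ
      rw [eq_bot_iff]
      intro y hy
      rw [Subgroup.mem_bot]
      by_contra hy1
      exact hx₀D (hTD (Subgroup.zpowers_le.2 hy
        (Cfsg.Agent.Lib.H7.BG11mu.mem_zpowers_of_mem_zpowers_ne_one hx₀r (hTZ hy) hy1)))
    rw [hbot _ inf_le_left hT1, hbot _ inf_le_left hT2, hbot _ inf_le_left hT3] at hform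
    simp only [Subgroup.card_bot, one_pow, one_mul, mul_one] at hform
    exact Subgroup.card_eq_one.1 hform

end Core

section Subgroups

variable {r : ℕ} [hr : Fact r.Prime]

/-- the central elements of `R` of order dividing `r`, as a subgroup of `G`. -/
def omegaCenter (r : ℕ) (R : Subgroup G) : Subgroup G where
  carrier := {z | z ∈ R ∧ z ^ r = 1 ∧ ∀ g ∈ R, g * z = z * g}
  one_mem' := ⟨R.one_mem, one_pow r, fun g _ => by simp⟩
  mul_mem' := by
    rintro a b ⟨haR, har, hac⟩ ⟨hbR, hbr, hbc⟩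
    refine ⟨R.mul_mem haR hbR, ?_, ?_⟩
    · have hab : Commute a b := (hbc a haR)
      rw [hab.mul_pow, har, hbr, one_mul]
    · intro g hg
      calc g * (a * b) = (g * a) * b := by group
        _ = (a * g) * b := by rw [hac g hg]
        _ = a * (g * b) := by group
        _ = a * (b * g) := by rw [hbc g hg]
        _ = a * b * g := by group
  inv_mem' := by
    rintro a ⟨haR, har, hac⟩
    refine ⟨R.inv_mem haR, by rw [inv_pow, har, inv_one], ?_⟩
    intro g hg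
    have := hac g hg
    calc g * a⁻¹ = a⁻¹ * (a * g) * a⁻¹ := by group
      _ = a⁻¹ * (g * a) * a⁻¹ := by rw [this]
      _ = a⁻¹ * g := by group

theorem omegaCenter_le (R : Subgroup G) : omegaCenter r R ≤ R := fun _ h => h.1

theorem mem_normalizer_omegaCenter {R : Subgroup G} {t : G}
    (ht : t ∈ Subgroup.normalizer (R : Set G)) :
    t ∈ Subgroup.normalizer ((omegaCenter r R : Subgroup G) : Set G) := by
  have key : ∀ s : G, s ∈ Subgroup.normalizer (R : Set G) → ∀ d ∈ omegaCenter r R,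
      s * d * s⁻¹ ∈ omegaCenter r R := by
    rintro s hs d ⟨hdR, hdr, hdc⟩
    refine ⟨(Subgroup.mem_normalizer_iff.1 hs d).1 hdR, ?_, ?_⟩
    · rw [conj_pow, hdr]; group
    · intro g hg
      have hg' : s⁻¹ * g * s ∈ R := by
        have := (Subgroup.mem_normalizer_iff.1 (Subgroup.inv_mem _ hs) g).1 hg
        simpa using this
      have := hdc _ hg'
      calc g * (s * d * s⁻¹) = s * ((s⁻¹ * g * s) * d) * s⁻¹ := by group
        _ = s * (d * (s⁻¹ * g * s)) * s⁻¹ := by rw [this]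
        _ = s * d * s⁻¹ * g := by group
  refine mem_normalizer_of_conj_mem (key t ht) ?_
  intro d hd
  have := key t⁻¹ (Subgroup.inv_mem _ ht) d hd
  simpa using this

/-- powers of a central element of order dividing `r` are central of order dividing `r`. -/
theorem zpowers_central {R : Subgroup G} {x₀ : G} (hx₀r : x₀ ^ r = 1)
    (hx₀c : ∀ g ∈ R, g * x₀ = x₀ * g) {z : G} (hz : z ∈ Subgroup.zpowers x₀) :
    z ^ r = 1 ∧ ∀ g ∈ R, g * z = z * g := by
  obtain ⟨k, rfl⟩ := Subgroup.mem_zpowers_iff.1 hz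
  refine ⟨?_, fun g hg => ?_⟩
  · rw [← zpow_natCast, ← zpow_mul, mul_comm, zpow_mul, zpow_natCast, hx₀r, one_zpow]
  · exact (Commute.zpow_right (show Commute g x₀ from hx₀c g hg) k).eq

/-- the elements `u` of `R` of order dividing `r` with `[u, R] ≤ ⟨x₀⟩`, where `x₀` is central of
order dividing `r` and `r` is odd. -/
def omegaSecond (R : Subgroup G) (x₀ : G) (hr2 : r ≠ 2) (hx₀r : x₀ ^ r = 1)
    (hx₀c : ∀ g ∈ R, g * x₀ = x₀ * g) : Subgroup G where
  carrier := {u | u ∈ R ∧ u ^ r = 1 ∧ ∀ g ∈ R, u * g * u⁻¹ * g⁻¹ ∈ Subgroup.zpowers x₀}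
  one_mem' := ⟨R.one_mem, one_pow r, fun g _ => by simp⟩
  mul_mem' := by
    rintro u v ⟨huR, hur, huc⟩ ⟨hvR, hvr, hvc⟩
    refine ⟨R.mul_mem huR hvR, ?_, ?_⟩
    · have hc := hvc u huR
      obtain ⟨hcr, hcc⟩ := zpowers_central hx₀r hx₀c hc
      have h1 : Commute (v * u * v⁻¹ * u⁻¹) u := (hcc u huR).symm
      have h2 : Commute (v * u * v⁻¹ * u⁻¹) v := (hcc v hvR).symm
      rw [Cfsg.Agent.Lib.H9.mul_pow_of_comm h1 h2 r, hur, hvr, one_mul, one_mul]
      have hodd : 2 ∣ r - 1 := by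
        rcases hr.out.eq_two_or_odd with h | h
        · exact absurd h hr2
        · omega
      rw [Nat.mul_div_assoc r hodd, pow_mul, hcr, one_pow]
    · intro g hg
      have hw := hvc g hg
      obtain ⟨-, hwc⟩ := zpowers_central hx₀r hx₀c hw
      have e : u * v * g * (u * v)⁻¹ * g⁻¹ =
          (u * (v * g * v⁻¹ * g⁻¹)) * u⁻¹ * (u * g * u⁻¹ * g⁻¹) := by group
      rw [e, hwc u huR]
      have e2 : v * g * v⁻¹ * g⁻¹ * u * u⁻¹ * (u * g * u⁻¹ * g⁻¹) =
          (v * g * v⁻¹ * g⁻¹) * (u * g * u⁻¹ * g⁻¹) := by group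
      rw [e2]
      exact Subgroup.mul_mem _ hw (huc g hg)
  inv_mem' := by
    rintro u ⟨huR, hur, huc⟩
    refine ⟨R.inv_mem huR, by rw [inv_pow, hur, inv_one], ?_⟩
    intro g hg
    have hw := Subgroup.inv_mem _ (huc g hg)
    obtain ⟨-, hwc⟩ := zpowers_central hx₀r hx₀c hw
    have e : u⁻¹ * g * u⁻¹⁻¹ * g⁻¹ = u⁻¹ * ((u * g * u⁻¹ * g⁻¹)⁻¹ * u) := by group
    rw [e, ← hwc u huR]
    have e4 : u⁻¹ * (u * (u * g * u⁻¹ * g⁻¹)⁻¹) = (u * g * u⁻¹ * g⁻¹)⁻¹ := by group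
    rw [e4]
    exact hw

theorem mem_normalizer_omegaSecond {R : Subgroup G} {x₀ : G} (hr2 : r ≠ 2) (hx₀r : x₀ ^ r = 1)
    (hx₀c : ∀ g ∈ R, g * x₀ = x₀ * g) {t : G}
    (ht : t ∈ Subgroup.normalizer (R : Set G)) (htx : t * x₀ = x₀ * t) :
    t ∈ Subgroup.normalizer ((omegaSecond R x₀ hr2 hx₀r hx₀c : Subgroup G) : Set G) := by
  have key : ∀ s : G, s ∈ Subgroup.normalizer (R : Set G) → s * x₀ = x₀ * s →
      ∀ d ∈ omegaSecond R x₀ hr2 hx₀r hx₀c, s * d * s⁻¹ ∈ omegaSecond R x₀ hr2 hx₀r hx₀c := by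
    rintro s hs hsx d ⟨hdR, hdr, hdc⟩
    refine ⟨(Subgroup.mem_normalizer_iff.1 hs d).1 hdR, ?_, ?_⟩
    · rw [conj_pow, hdr]; group
    · intro g hg
      have hg' : s⁻¹ * g * s ∈ R := by
        have := (Subgroup.mem_normalizer_iff.1 (Subgroup.inv_mem _ hs) g).1 hg
        simpa using this
      have hw := hdc _ hg'
      obtain ⟨k, hk⟩ := Subgroup.mem_zpowers_iff.1 hw
      have hsw : s * (x₀ ^ k) * s⁻¹ = x₀ ^ k := by
        have := (Commute.zpow_right (show Commute s x₀ from hsx) k).eq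
        rw [this]; group
      have e : s * d * s⁻¹ * g * (s * d * s⁻¹)⁻¹ * g⁻¹ =
          s * (d * (s⁻¹ * g * s) * d⁻¹ * (s⁻¹ * g * s)⁻¹) * s⁻¹ := by group
      rw [e, ← hk, hsw]
      exact Subgroup.zpow_mem _ (Subgroup.mem_zpowers x₀) k
  refine mem_normalizer_of_conj_mem (key t ht htx) ?_
  intro d hd
  have htx' : t⁻¹ * x₀ = x₀ * t⁻¹ := by
    calc t⁻¹ * x₀ = t⁻¹ * (x₀ * t) * t⁻¹ := by group
      _ = t⁻¹ * (t * x₀) * t⁻¹ := by rw [htx]
      _ = x₀ * t⁻¹ := by group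
  have := key t⁻¹ (Subgroup.inv_mem _ ht) htx' d hd
  simpa using this

end Subgroups

section Main

variable {p r : ℕ} [hp : Fact p.Prime] [hr : Fact r.Prime] {Q R : Subgroup G} {x x₀ : G}

/-- commutators of elements of a normal subgroup of order `r²` of the `r`-group `R` are central in
`R`. -/
theorem comm_central_of_normal_sq (hR : IsPGroup r R) {V : Subgroup G} (hVR : V ≤ R)
    (hRV : R ≤ Subgroup.normalizer (V : Set G)) (hVc : Nat.card V = r ^ 2) {v g : G} (hv : v ∈ V)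
    (hg : g ∈ R) : ∀ h ∈ R, h * (v * g * v⁻¹ * g⁻¹) = (v * g * v⁻¹ * g⁻¹) * h := by
  have hn : (V.subgroupOf R).Normal := (Subgroup.normal_subgroupOf_iff_le_normalizer hVR).mpr hRV
  have hR' : IsPGroup r ↥R := hR
  have hc : Nat.card (V.subgroupOf R) = r ^ 2 := by
    rw [Cfsg.Agent.Lib.H8.card_subgroupOf_of_le hVR, hVc]
  have hZ2 := Cfsg.Agent.Lib.H16.Narrow.normal_card_sq_le_upperCentralSeries_two hR'
    (V.subgroupOf R) hc
  have hv' : (⟨v, hVR hv⟩ : ↥R) ∈ V.subgroupOf R := Subgroup.mem_subgroupOf.2 hv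
  have h2 := hZ2 hv'
  rw [show (2 : ℕ) = 1 + 1 from rfl, Subgroup.mem_upperCentralSeries_succ_iff] at h2
  have h3 := h2 ⟨g, hg⟩
  rw [Subgroup.upperCentralSeries_one, Subgroup.mem_center_iff] at h3
  intro h hh
  have h4 := h3 ⟨h, hh⟩
  have h5 := congrArg Subtype.val h4
  simp only [Subgroup.coe_mul, Subgroup.coe_inv] at h5
  exact h5

/-- **Core lemma**: a Frobenius group `Q⟨x⟩` acting coprimely on an `r`-group `R` (`r` odd) such
that all elements of order dividing `r` of `C_R(Q)` and of `C_R(x)` lie in `⟨x₀⟩`, with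
`x₀ ≠ 1` of order `r` centralized by `Q⟨x⟩`, forces `R` to be cyclic. -/
theorem isCyclic_of_frob_fixed (hr2 : r ≠ 2) (hQ1 : Q ≠ ⊥) (hxp : x ^ p = 1)
    (hxN : x ∈ Subgroup.normalizer (Q : Set G))
    (hfix : Q ⊓ Subgroup.centralizer ({x} : Set G) = ⊥)
    (hR : IsPGroup r R) (hRQ : (Nat.card R).Coprime (Nat.card Q)) (hRp : (Nat.card R).Coprime p)
    (hQR : Q ≤ Subgroup.normalizer (R : Set G)) (hxR : x ∈ Subgroup.normalizer (R : Set G))
    (hx₀r : x₀ ^ r = 1) (hx₀1 : x₀ ≠ 1)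
    (hx₀Q : x₀ ∈ Subgroup.centralizer (Q : Set G)) (hx₀x : x₀ * x = x * x₀)
    (hcQ : ∀ y ∈ R ⊓ Subgroup.centralizer (Q : Set G), y ^ r = 1 → y ∈ Subgroup.zpowers x₀)
    (hcP : ∀ y ∈ R ⊓ Subgroup.centralizer ({x} : Set G), y ^ r = 1 → y ∈ Subgroup.zpowers x₀) :
    IsCyclic ↥R := by
  have hrp : r.Prime := hr.out
  by_contra hnc
  obtain ⟨V, hVR, hRV, hVe, hVc, -⟩ := Cfsg.Agent.Lib.H16.BG.exists_normal_sq_rel hr2 hR hnc
  have hV1 : V ≠ ⊥ := by
    intro h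
    rw [h, Subgroup.card_bot] at hVc
    have := hrp.one_lt
    nlinarith
  obtain ⟨z, hzV, hz1, hzc⟩ :=
    Cfsg.Agent.Lib.H16.exists_ne_one_central_of_le_normalizer hrp R V hR hVR hRV hV1
  have hzD₀ : z ∈ omegaCenter r R := ⟨hVR hzV, hVe.2 z hzV, hzc⟩
  -- Step 1 for `omegaCenter`
  have hstep := fun (D : Subgroup G) (hDR : D ≤ R) (hQD : Q ≤ Subgroup.normalizer (D : Set G))
      (hxD : x ∈ Subgroup.normalizer (D : Set G)) (hexp : ∀ d ∈ D, d ^ r = 1) =>
    eq_bot_or_card_eq hQ1 hxp hxN hfix hR hRQ hRp hx₀r hx₀1 hx₀Q hx₀x hcQ hcP hDR hQD hxD hexp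
  have h0 := hstep (omegaCenter r R) (omegaCenter_le R)
    (fun t ht => mem_normalizer_omegaCenter (hQR ht)) (mem_normalizer_omegaCenter hxR)
    (fun d hd => hd.2.1)
  rcases h0 with h0 | ⟨hx₀D₀, hD₀c⟩
  · rw [h0, Subgroup.mem_bot] at hzD₀
    exact hz1 hzD₀
  have hx₀R : x₀ ∈ R := hx₀D₀.1
  have hx₀c : ∀ g ∈ R, g * x₀ = x₀ * g := hx₀D₀.2.2
  have hZc : Nat.card (Subgroup.zpowers x₀) = r :=
    Cfsg.Agent.Lib.H7.BG11mu.card_zpowers_of_pow hx₀r hx₀1
  have hD₀eq : omegaCenter r R = Subgroup.zpowers x₀ :=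
    (Subgroup.eq_of_le_of_card_ge (Subgroup.zpowers_le.2 hx₀D₀) (by rw [hD₀c, hZc])).symm
  -- Step 1 for `omegaSecond`
  have h1 := hstep (omegaSecond R x₀ hr2 hx₀r hx₀c) (fun _ h => h.1)
    (fun t ht => mem_normalizer_omegaSecond hr2 hx₀r hx₀c (hQR ht)
      ((Subgroup.mem_centralizer_iff.1 hx₀Q t ht)))
    (mem_normalizer_omegaSecond hr2 hx₀r hx₀c hxR hx₀x.symm) (fun d hd => hd.2.1)
  have hVD : V ≤ omegaSecond R x₀ hr2 hx₀r hx₀c := by
    intro v hv
    refine ⟨hVR hv, hVe.2 v hv, ?_⟩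
    intro g hg
    have hcen := comm_central_of_normal_sq hR hVR hRV hVc hv hg
    have hcV : v * g * v⁻¹ * g⁻¹ ∈ V := by
      have h1 : g * v⁻¹ * g⁻¹ ∈ V :=
        (Subgroup.mem_normalizer_iff.1 (hRV hg) v⁻¹).1 (V.inv_mem hv)
      have e : v * g * v⁻¹ * g⁻¹ = v * (g * v⁻¹ * g⁻¹) := by group
      rw [e]
      exact V.mul_mem hv h1
    have : v * g * v⁻¹ * g⁻¹ ∈ omegaCenter r R := ⟨hVR hcV, hVe.2 _ hcV, hcen⟩
    rw [hD₀eq] at this
    exact this
  have hcard : Nat.card V ≤ Nat.card (omegaSecond R x₀ hr2 hx₀r hx₀c) :=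
    Nat.le_of_dvd Nat.card_pos (Subgroup.card_dvd_of_le hVD)
  rcases h1 with h1 | ⟨-, h1⟩
  · rw [h1, Subgroup.card_bot, hVc] at hcard
    have := hrp.one_lt
    nlinarith
  · rw [h1, hVc] at hcard
    have := hrp.one_lt
    nlinarith

end Main

end Cfsg.Agent.Lib.H7.BG1217
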