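import Mathlib
import Cfsg.Agent.Lib.H7.BG1217a
import Cfsg.Agent.Lib.H7.BG124
import Cfsg.Agent.Lib.H19.BG13e
import Cfsg.Agent.S1406
import Cfsg.Agent.S1407

/-!
# BG Lemma 12.17 (Coq `cent_Malpha_reg_tau1`), part (a) (helper7)

`M` maximal, `P ≤ M` of prime order `p ∉ σ(M)` with `M` of `p`-rank one, `Q ≤ M` a nontrivial
`q`-subgroup (`q ∉ α(M)`, `q ≠ p`) normalized by `P` with `C_Q(P) = 1`, `M_α ≠ 1`, and `M` is not the
unique maximal subgroup containing `N_G(Q)`.  Then `C_{M_α}(P) ≠ 1` and `C_{M_α}(QP) = 1`.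
-/

set_option autoImplicit false
set_option linter.style.haveILetI false
set_option linter.unusedSectionVars false
set_option linter.unusedVariables false
open Cfsg
open Cfsg.Agent.Lib.H16.BG
open Cfsg.Agent.Lib.H7.BG7
open Cfsg.Agent.Lib.H7.BG10
open Cfsg.Agent.Lib.H20.BGT
open Cfsg.Agent.Lib.H19 (IsPiCard)

namespace Cfsg.Agent.Lib.H7.BG1217

universe u
variable {G : Type u} [Group G] [Finite G]

local notation:max "cj(" g ", " X ")" => Subgroup.map (MulEquiv.toMonoidHom (MulAut.conj g)) X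

/-- in a subgroup of `r`-rank one, an element of order dividing `r` commuting with an element `x₀` of
order `r` is a power of `x₀`. -/
theorem mem_zpowers_of_pRankLE_one {r : ℕ} [hr : Fact r.Prime] {Z : Subgroup G}
    (hZ : PRankLE r 1 ↥Z) {x₀ y : G} (hx₀Z : x₀ ∈ Z) (hyZ : y ∈ Z) (hx₀r : x₀ ^ r = 1)
    (hx₀1 : x₀ ≠ 1) (hyr : y ^ r = 1) (hcomm : y * x₀ = x₀ * y) : y ∈ Subgroup.zpowers x₀ := by
  by_contra hy
  have hA := Cfsg.Agent.Lib.H7.BG124.isElementaryAbelian_zpowers hx₀r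
  have hB := Cfsg.Agent.Lib.H7.BG124.isElementaryAbelian_zpowers hyr
  have hBA : Subgroup.zpowers y ≤ Subgroup.centralizer ((Subgroup.zpowers x₀ : Subgroup G) : Set G) := by
    rw [Subgroup.zpowers_le, ← Cfsg.Agent.Lib.H7.centralizer_singleton_eq_centralizer_zpowers,
      Subgroup.mem_centralizer_singleton_iff]
    exact hcomm
  have hE := Cfsg.Agent.Lib.H3.elemAb_sup hA hB hBA
  have hle : Subgroup.zpowers x₀ ⊔ Subgroup.zpowers y ≤ Z :=
    sup_le (Subgroup.zpowers_le.2 hx₀Z) (Subgroup.zpowers_le.2 hyZ)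
  have hlt : Subgroup.zpowers x₀ < Subgroup.zpowers x₀ ⊔ Subgroup.zpowers y := by
    apply lt_of_le_of_ne le_sup_left
    intro h
    apply hy
    rw [h]
    exact Subgroup.mem_sup_right (Subgroup.mem_zpowers y)
  have hc := Cfsg.Agent.Lib.H7.BG11mu.card_lt_of_lt' hlt
  rw [Cfsg.Agent.Lib.H7.BG11mu.card_zpowers_of_pow hx₀r hx₀1] at hc
  exact not_pRankLE_of_elemAb hle hE (by rwa [pow_one]) hZ

/-- a `Z`-group has `r`-rank at most one. -/
theorem pRankLE_one_of_isZGroup {r : ℕ} [hr : Fact r.Prime] {Z : Type*} [Group Z] [Finite Z]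
    (hZ : IsZGroup Z) : PRankLE r 1 Z := by
  intro A hAc hAr
  have hAp : IsPGroup r A := by
    intro a
    refine ⟨1, ?_⟩
    rw [pow_one]
    exact Subtype.ext (by simpa using hAr a.1 a.2)
  obtain ⟨S, hAS⟩ := hAp.exists_le_sylow
  haveI : IsCyclic ↥(S : Subgroup Z) := hZ.isZGroup r hr.out S
  haveI : IsCyclic ↥A :=
    isCyclic_of_injective (Subgroup.inclusion hAS) (Subgroup.inclusion_injective hAS)
  obtain ⟨g, hg⟩ := IsCyclic.exists_generator (α := A)
  have h1 : orderOf g = Nat.card A := orderOf_eq_card_of_forall_mem_zpowers hg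
  have h2 : g ^ r = 1 := Subtype.ext (by simpa using hAr g.1 g.2)
  rw [pow_one, ← h1]
  exact Nat.le_of_dvd hr.out.pos (orderOf_dvd_of_pow_eq_one h2)

/-- `M_α` does not have rank at most one when it is nontrivial. -/
theorem not_rankLE_one_alphaCore (hG : IsMinSimpleOddOrder G) {M : Subgroup G} (hM : IsCoatom M)
    (hα : alphaCore M ≠ ⊥) : ¬ RankLE 1 ↥(alphaCore M) := by
  have hU := uniq3 hG
  have hαM : alphaCore M ≤ M := piCoreOf_le (alpha M) M
  have hαπ : IsPiCard (alpha M) (Nat.card (alphaCore M)) := piCoreOf_isPiCard (alpha M) M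
  have hc1 : Nat.card (alphaCore M) ≠ 1 := fun h => hα (Subgroup.card_eq_one.1 h)
  obtain ⟨t, ht, htd⟩ := Nat.exists_prime_and_dvd hc1
  haveI : Fact t.Prime := ⟨ht⟩
  have htα : t ∈ alpha M := hαπ t ht htd
  obtain ⟨T, hT⟩ := SylIn.exists_sylIn t (alphaCore M)
  have hαH := (alpha_core_hall hG hU hM).1
  have hTM : SylIn t T M := by
    refine ⟨hT.le.trans hαM, hT.isPGroup, fun hd => ?_⟩
    rw [← Subgroup.relIndex_mul_relIndex T (alphaCore M) M hT.le hαM, Nat.Prime.dvd_mul ht] at hd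
    rcases hd with hd | hd
    · exact hT.2.2 hd
    · exact hαH.2.2 t ht htα hd
  have hrT : ¬ PRankLE t 2 ↥T := fun h => htα.2 (pRankLE_of_sylIn hTM h)
  intro h
  apply hrT
  have h1 : PRankLE t 1 ↥T := pRankLE_of_le hT.le (h t ht)
  intro A hAc hAt
  exact (h1 A hAc hAt).trans (Nat.pow_le_pow_right ht.pos (by norm_num))

theorem lemma_12_17a (hG : IsMinSimpleOddOrder G) {M : Subgroup G} (hM : IsCoatom M)
    {p q : ℕ} [hp : Fact p.Prime] [hq : Fact q.Prime] (hpq : p ≠ q)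
    (hpσ : p ∉ sigma M) (hp1 : PRankLE p 1 ↥M)
    {P Q : Subgroup G} (hPM : P ≤ M) (hPc : Nat.card P = p) (hQM : Q ≤ M)
    (hQq : IsPGroup q Q) (hQ1 : Q ≠ ⊥) (hPQ : P ≤ Subgroup.normalizer (Q : Set G))
    (hreg : Q ⊓ Subgroup.centralizer (P : Set G) = ⊥) (hqα : q ∉ alpha M)
    (hα : alphaCore M ≠ ⊥)
    (hnu : ¬ (Subgroup.normalizer (Q : Set G) ≤ M ∧
      ∀ L : Subgroup G, IsCoatom L → Subgroup.normalizer (Q : Set G) ≤ L → L = M)) :
    alphaCore M ⊓ Subgroup.centralizer (P : Set G) ≠ ⊥ ∧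
      alphaCore M ⊓ Subgroup.centralizer ((Q ⊔ P : Subgroup G) : Set G) = ⊥ := by
  have hU := uniq3 hG
  have hpp : p.Prime := hp.out
  have hqp : q.Prime := hq.out
  have hKM : alphaCore M ≤ M := piCoreOf_le (alpha M) M
  have hMK : M ≤ Subgroup.normalizer ((alphaCore M : Subgroup G) : Set G) :=
    le_normalizer_piCoreOf (alpha M) M
  have hKπ : IsPiCard (alpha M) (Nat.card (alphaCore M)) := piCoreOf_isPiCard (alpha M) M
  have hpα : p ∉ alpha M := fun h => hpσ (alpha_subset_sigma hG hU hM h)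
  obtain ⟨x, rfl, hxp, hx1⟩ := Cfsg.Agent.Lib.H7.BG11mu.exists_generator_of_card_prime hPc
  have hxM : x ∈ M := hPM (Subgroup.mem_zpowers x)
  have hxQ : x ∈ Subgroup.normalizer (Q : Set G) := hPQ (Subgroup.mem_zpowers x)
  rw [← Cfsg.Agent.Lib.H7.centralizer_singleton_eq_centralizer_zpowers] at hreg
  have hKp : (Nat.card (alphaCore M)).Coprime p := by
    rw [Nat.coprime_comm, Nat.Prime.coprime_iff_not_dvd hpp]
    exact fun hd => hpα (hKπ p hpp hd)
  have hKq' : (Nat.card (alphaCore M)).Coprime q := by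
    rw [Nat.coprime_comm, Nat.Prime.coprime_iff_not_dvd hqp]
    exact fun hd => hqα (hKπ q hqp hd)
  have hKq : (Nat.card (alphaCore M)).Coprime (Nat.card Q) := by
    obtain ⟨k, hk⟩ := IsPGroup.iff_card.1 hQq
    rw [hk]
    exact Nat.Coprime.pow_right k hKq'
  have hsolvK : Group.IsSolvable ↥(alphaCore M) := solvable_of_le_ne_top hG hM.1 hKM
  have hQK : Q ≤ Subgroup.normalizer ((alphaCore M : Subgroup G) : Set G) := hQM.trans hMK
  have hxK : x ∈ Subgroup.normalizer ((alphaCore M : Subgroup G) : Set G) := hMK hxM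
  -- Step 1: `C_{M_α}(Q)` has rank at most one
  have hrk : RankLE 1 ↥(alphaCore M ⊓ Subgroup.centralizer (Q : Set G)) := by
    by_contra h
    have hIU := Cfsg.Agent.S1406.result hG M hM Q hQM (fun t ht htd => by
      obtain ⟨k, hk⟩ := IsPGroup.iff_card.1 hQq
      rw [hk] at htd
      have := (Nat.prime_dvd_prime_iff_eq ht hqp).1 (ht.dvd_of_dvd_pow htd)
      rw [this]; exact hqα) h
    apply hnu
    exact Cfsg.Agent.Lib.H7.BG124.uniq_of_inUniqueMaximal hM inf_le_left hIU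
      (inf_le_right.trans (Subgroup.centralizer_le_normalizer _))
      (normalizer_ne_top_of_isPGroup hG hQq hQ1)
  -- Step 0: `C_{M_α}(x)` is a `Z`-group
  have hxo : orderOf x = p := orderOf_eq_prime hxp hx1
  have hpM : p ∣ Nat.card M := by
    rw [← hxo]; exact Subgroup.orderOf_dvd_natCard M hxM
  have hZx : PRankLE 1 1 ↥M → True := fun _ => trivial
  have hZg : ∀ r : ℕ, [Fact r.Prime] →
      PRankLE r 1 ↥(alphaCore M ⊓ Subgroup.centralizer ({x} : Set G)) := by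
    intro r _
    have hPp : IsPGroup p ((Subgroup.zpowers x).subgroupOf M) := by
      apply IsPGroup.of_card (n := 1)
      rw [Cfsg.Agent.Lib.H8.card_subgroupOf_of_le hPM, hPc, pow_one]
    obtain ⟨S, hS⟩ := hPp.exists_le_sylow
    obtain ⟨x', hx'mem, hx'o, hZ, -⟩ := Cfsg.Agent.S1407.result hG M hM hα p hpM hpσ S
    obtain ⟨m, hm, rfl⟩ := hx'mem
    obtain ⟨c, hc, rfl⟩ := hm
    have hxS : (⟨x, hxM⟩ : ↥M) ∈ (S : Subgroup ↥M) :=
      hS (Subgroup.mem_subgroupOf.2 (Subgroup.mem_zpowers x))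
    have hcomm : (c : ↥M) * ⟨x, hxM⟩ = ⟨x, hxM⟩ * (c : ↥M) := by
      have := Subgroup.mem_center_iff.1 hc ⟨⟨x, hxM⟩, hxS⟩
      exact (congrArg Subtype.val this).symm
    have hcomm' : ((c : ↥M) : G) * x = x * ((c : ↥M) : G) := congrArg Subtype.val hcomm
    set x' : G := ((c : ↥M) : G) with hx'def
    have hx'M : x' ∈ M := (c : ↥M).2
    have hx'o' : orderOf x' = p := hx'o
    have hZ' : IsZGroup ↥(alphaCore M ⊓ Subgroup.centralizer ({x'} : Set G)) := hZ
    have hx'p : x' ^ p = 1 := by rw [← hx'o']; exact pow_orderOf_eq_one x'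
    have hx'1 : x' ≠ 1 := by
      intro h
      rw [h, orderOf_one] at hx'o'
      exact hpp.one_lt.ne hx'o'
    have hmem : x' ∈ Subgroup.zpowers x :=
      mem_zpowers_of_pRankLE_one (Z := M) hp1 hxM hx'M hxp hx1 hx'p hcomm'
    have hmem' : x ∈ Subgroup.zpowers x' :=
      Cfsg.Agent.Lib.H7.BG11mu.mem_zpowers_of_mem_zpowers_ne_one hxp hmem hx'1
    have heq : Subgroup.zpowers x' = Subgroup.zpowers x :=
      le_antisymm (Subgroup.zpowers_le.2 hmem) (Subgroup.zpowers_le.2 hmem')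
    have hceq : Subgroup.centralizer ({x'} : Set G) = Subgroup.centralizer ({x} : Set G) := by
      rw [Cfsg.Agent.Lib.H7.centralizer_singleton_eq_centralizer_zpowers,
        Cfsg.Agent.Lib.H7.centralizer_singleton_eq_centralizer_zpowers, heq]
    rw [hceq] at hZ'
    exact pRankLE_one_of_isZGroup hZ'
  have hcz : Nat.card (Subgroup.zpowers x) = p := hPc
  have hF := Cfsg.Agent.Lib.H7.BG11mu.frobAct_of_fpf hQ1 hxp hxQ hreg hKq hKp hQK hxK hsolvK
  refine ⟨?_, ?_⟩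
  · -- Step 2
    rw [← Cfsg.Agent.Lib.H7.centralizer_singleton_eq_centralizer_zpowers]
    intro hbot
    have hform := Cfsg.Agent.Lib.H8.frobFormula Q (Subgroup.zpowers x) (alphaCore M) hF
    unfold Cfsg.Agent.Lib.H8.FrobFormula at hform
    rw [hcz, ← Cfsg.Agent.Lib.H7.centralizer_singleton_eq_centralizer_zpowers, hbot] at hform
    have hbot2 : alphaCore M ⊓
        Subgroup.centralizer ((Q ⊔ Subgroup.zpowers x : Subgroup G) : Set G) = ⊥ := by
      rw [eq_bot_iff, ← hbot]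
      refine inf_le_inf_left _ ?_
      rw [Cfsg.Agent.Lib.H7.centralizer_singleton_eq_centralizer_zpowers]
      exact Subgroup.centralizer_le (by exact_mod_cast (le_sup_right : Subgroup.zpowers x ≤ Q ⊔ Subgroup.zpowers x))
    rw [hbot2] at hform
    simp only [Subgroup.card_bot, one_pow, one_mul] at hform
    have heq : alphaCore M ⊓ Subgroup.centralizer (Q : Set G) = alphaCore M :=
      Subgroup.eq_of_le_of_card_ge inf_le_left (by rw [hform])
    rw [heq] at hrk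
    exact not_rankLE_one_alphaCore hG hM hα hrk
  · -- Step 3
    by_contra hne
    have hc1 : Nat.card ↥(alphaCore M ⊓
        Subgroup.centralizer ((Q ⊔ Subgroup.zpowers x : Subgroup G) : Set G)) ≠ 1 :=
      fun h => hne (Subgroup.card_eq_one.1 h)
    obtain ⟨r, hr, hrd⟩ := Nat.exists_prime_and_dvd hc1
    haveI hrF : Fact r.Prime := ⟨hr⟩
    obtain ⟨⟨x₀, hx₀mem⟩, hx₀o⟩ := exists_prime_orderOf_dvd_card' r hrd
    have hx₀o' : orderOf x₀ = r := by
      rw [← hx₀o]; exact (Subgroup.orderOf_mk _ _).symm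
    have hx₀K : x₀ ∈ alphaCore M := hx₀mem.1
    have hx₀C : x₀ ∈ Subgroup.centralizer ((Q ⊔ Subgroup.zpowers x : Subgroup G) : Set G) :=
      hx₀mem.2
    have hx₀r : x₀ ^ r = 1 := by rw [← hx₀o']; exact pow_orderOf_eq_one x₀
    have hx₀1 : x₀ ≠ 1 := by
      intro h
      rw [h, orderOf_one] at hx₀o'
      exact hr.one_lt.ne hx₀o'
    have hZ₀c : Nat.card (Subgroup.zpowers x₀) = r :=
      Cfsg.Agent.Lib.H7.BG11mu.card_zpowers_of_pow hx₀r hx₀1
    have hZ₀p : IsPGroup r (Subgroup.zpowers x₀) := IsPGroup.of_card (n := 1) (by rw [hZ₀c, pow_one])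
    have hZ₀1 : Subgroup.zpowers x₀ ≠ ⊥ := by
      intro h
      rw [h, Subgroup.card_bot] at hZ₀c
      exact hr.one_lt.ne hZ₀c
    have hr2 : r ≠ 2 := prime_ne_two' hG hZ₀p hZ₀1
    have hrα : r ∈ alpha M := hKπ r hr (by
      rw [← hx₀o']; exact Subgroup.orderOf_dvd_natCard _ hx₀K)
    have hx₀Q : x₀ ∈ Subgroup.centralizer (Q : Set G) :=
      Subgroup.centralizer_le (by exact_mod_cast (le_sup_left : Q ≤ Q ⊔ Subgroup.zpowers x)) hx₀C
    have hx₀x : x₀ * x = x * x₀ :=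
      (Subgroup.mem_centralizer_iff.1 hx₀C x
        (Subgroup.mem_sup_right (Subgroup.mem_zpowers x))).symm
    -- the group `H₁ = C_{M_α}(x₀)` and an invariant Sylow `r`-subgroup `R`
    have hSM : Q ⊔ Subgroup.zpowers x ≤ M := sup_le hQM hPM
    have hSx₀ : Q ⊔ Subgroup.zpowers x ≤ Subgroup.centralizer ({x₀} : Set G) := by
      intro s hs
      rw [Subgroup.mem_centralizer_singleton_iff]
      exact (Subgroup.mem_centralizer_iff.1 hx₀C s hs)
    have hSH₁ : Q ⊔ Subgroup.zpowers x ≤ Subgroup.normalizer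
        ((alphaCore M ⊓ Subgroup.centralizer ({x₀} : Set G) : Subgroup G) : Set G) :=
      Cfsg.Agent.Lib.H7.le_normalizer_inf (hSM.trans hMK) (hSx₀.trans Subgroup.le_normalizer)
    have hcardS : Nat.card (Q ⊔ Subgroup.zpowers x : Subgroup G) ∣ Nat.card Q * p := by
      have := Cfsg.Agent.Lib.H7.card_sup_dvd_mul_of_le_normalizer hPQ
      rwa [hcz] at this
    have hcopS : (Nat.card (Q ⊔ Subgroup.zpowers x : Subgroup G)).Coprime
        (Nat.card (alphaCore M ⊓ Subgroup.centralizer ({x₀} : Set G) : Subgroup G)) := by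
      apply Nat.Coprime.coprime_dvd_left hcardS
      apply Nat.Coprime.coprime_dvd_right (Subgroup.card_dvd_of_le inf_le_left)
      exact (Nat.Coprime.mul_right hKq hKp).symm
    have hsolvH₁ : Group.IsSolvable
        ↥(alphaCore M ⊓ Subgroup.centralizer ({x₀} : Set G) : Subgroup G) :=
      solvable_of_le_ne_top hG hM.1 (inf_le_left.trans hKM)
    have hact : Cfsg.Agent.Lib.H1.CoprimeAction (Q ⊔ Subgroup.zpowers x)
        (alphaCore M ⊓ Subgroup.centralizer ({x₀} : Set G)) := ⟨hSH₁, hcopS, Or.inr hsolvH₁⟩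
    obtain ⟨R, hRhall, hSR⟩ := Cfsg.Agent.Lib.H19.coprime_exists_invariant_hall hact {r}
    have hRsyl : SylIn r R (alphaCore M ⊓ Subgroup.centralizer ({x₀} : Set G)) :=
      Cfsg.Agent.Lib.H7.BG13.sylIn_of_isPiHallOf_singleton hr hRhall
    have hZ₀H₁ : Subgroup.zpowers x₀ ≤ alphaCore M ⊓ Subgroup.centralizer ({x₀} : Set G) := by
      rw [Subgroup.zpowers_le]
      exact ⟨hx₀K, Subgroup.mem_centralizer_singleton_iff.2 rfl⟩
    have hH₁Z₀ : alphaCore M ⊓ Subgroup.centralizer ({x₀} : Set G) ≤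
        Subgroup.normalizer ((Subgroup.zpowers x₀ : Subgroup G) : Set G) := by
      refine inf_le_right.trans ?_
      rw [Cfsg.Agent.Lib.H7.centralizer_singleton_eq_centralizer_zpowers]
      exact Subgroup.centralizer_le_normalizer _
    have hx₀R : Subgroup.zpowers x₀ ≤ R := SylIn.normal_le hRsyl hZ₀p hZ₀H₁ hH₁Z₀
    have hRH₁ : R ≤ alphaCore M ⊓ Subgroup.centralizer ({x₀} : Set G) := hRsyl.le
    have hRK : R ≤ alphaCore M := hRH₁.trans inf_le_left
    have hRcomm : ∀ y ∈ R, y * x₀ = x₀ * y := fun y hy =>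
      (Subgroup.mem_centralizer_singleton_iff.1 (hRH₁ hy).2)
    have hRp' : IsPGroup r R := hRsyl.isPGroup
    have hRQc : (Nat.card R).Coprime (Nat.card Q) :=
      Nat.Coprime.coprime_dvd_left (Subgroup.card_dvd_of_le hRK) hKq
    have hRpc : (Nat.card R).Coprime p :=
      Nat.Coprime.coprime_dvd_left (Subgroup.card_dvd_of_le hRK) hKp
    have hRcyc : IsCyclic ↥R := by
      refine isCyclic_of_frob_fixed hr2 hQ1 hxp hxQ hreg hRp' hRQc hRpc (le_sup_left.trans hSR)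
        (hSR (Subgroup.mem_sup_right (Subgroup.mem_zpowers x))) hx₀r hx₀1 hx₀Q hx₀x ?_ ?_
      · intro y hy hyr
        exact mem_zpowers_of_pRankLE_one
          (Z := alphaCore M ⊓ Subgroup.centralizer (Q : Set G)) (hrk r hr) ⟨hx₀K, hx₀Q⟩
          ⟨hRK hy.1, hy.2⟩ hx₀r hx₀1 hyr (hRcomm y hy.1)
      · intro y hy hyr
        exact mem_zpowers_of_pRankLE_one
          (Z := alphaCore M ⊓ Subgroup.centralizer ({x} : Set G)) (hZg r)
          ⟨hx₀K, Subgroup.mem_centralizer_singleton_iff.2 hx₀x⟩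
          ⟨hRK hy.1, hy.2⟩ hx₀r hx₀1 hyr (hRcomm y hy.1)
    -- but `R` is not cyclic
    obtain ⟨R₀, hR₀, hZ₀R₀⟩ := SylIn.exists_ge hZ₀p (Subgroup.zpowers_le.2 hx₀K)
    have hαH := (alpha_core_hall hG hU hM).1
    have hR₀M : SylIn r R₀ M := by
      refine ⟨hR₀.le.trans hKM, hR₀.isPGroup, fun hd => ?_⟩
      rw [← Subgroup.relIndex_mul_relIndex R₀ (alphaCore M) M hR₀.le hKM,
        Nat.Prime.dvd_mul hr] at hd
      rcases hd with hd | hd
      · exact hR₀.2.2 hd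
      · exact hαH.2.2 r hr hrα hd
    have hrR₀ : ¬ PRankLE r 2 ↥R₀ := fun h => hrα.2 (pRankLE_of_sylIn hR₀M h)
    have hx₀R₀ : x₀ ∈ R₀ := hZ₀R₀ (Subgroup.mem_zpowers x₀)
    have hC₀H₁ : R₀ ⊓ Subgroup.centralizer ({x₀} : Set G) ≤
        alphaCore M ⊓ Subgroup.centralizer ({x₀} : Set G) := inf_le_inf_right _ hR₀.le
    obtain ⟨m, hm, hle⟩ := hRsyl.exists_conj_le (hR₀.isPGroup.to_le inf_le_left) hC₀H₁
    have hC₀cyc : IsCyclic ↥(R₀ ⊓ Subgroup.centralizer ({x₀} : Set G) : Subgroup G) :=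
      Cfsg.Agent.Lib.H19.BG13.isCyclic_of_map_conj_le hRcyc hle
    have hC₀r : PRankLE r 1 ↥(R₀ ⊓ Subgroup.centralizer ({x₀} : Set G) : Subgroup G) :=
      Cfsg.Agent.Lib.H7.BG13.pRankLE_one_of_isCyclic hr
    have hR₀1 : R₀ ≠ ⊥ := by
      intro h
      rw [h, Subgroup.mem_bot] at hx₀R₀
      exact hx₀1 hx₀R₀
    obtain ⟨z, hzR₀, hz1, hzc⟩ := Cfsg.Agent.Lib.H16.exists_ne_one_central_of_le_normalizer hr
      R₀ R₀ hR₀.isPGroup le_rfl Subgroup.le_normalizer hR₀1
    -- an element `z'` of order `r` in `⟨z⟩`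
    have hzd : r ∣ Nat.card (Subgroup.zpowers z) := by
      have hzp : IsPGroup r (Subgroup.zpowers z) :=
        hR₀.isPGroup.to_le (Subgroup.zpowers_le.2 hzR₀)
      have hz1' : Subgroup.zpowers z ≠ ⊥ := by
        intro h
        have := Subgroup.mem_zpowers z
        rw [h, Subgroup.mem_bot] at this
        exact hz1 this
      exact Cfsg.Agent.Lib.H7.BG13.dvd_card_of_isPGroup_ne_bot hzp hz1'
    obtain ⟨⟨z', hz'mem⟩, hz'o⟩ := exists_prime_orderOf_dvd_card' r hzd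
    have hz'o' : orderOf z' = r := by
      rw [← hz'o]; exact (Subgroup.orderOf_mk _ _).symm
    have hz'r : z' ^ r = 1 := by rw [← hz'o']; exact pow_orderOf_eq_one z'
    have hz'1 : z' ≠ 1 := by
      intro h
      rw [h, orderOf_one] at hz'o'
      exact hr.one_lt.ne hz'o'
    obtain ⟨k, hk⟩ := Subgroup.mem_zpowers_iff.1 hz'mem
    have hz'c : ∀ g ∈ R₀, g * z' = z' * g := by
      intro g hg
      rw [← hk]
      exact (Commute.zpow_right (show Commute g z from hzc g hg) k).eq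
    have hz'R₀ : z' ∈ R₀ := by
      rw [← hk]; exact Subgroup.zpow_mem _ hzR₀ k
    have hz'C₀ : z' ∈ R₀ ⊓ Subgroup.centralizer ({x₀} : Set G) :=
      ⟨hz'R₀, Subgroup.mem_centralizer_singleton_iff.2 (hz'c x₀ hx₀R₀).symm⟩
    have hx₀C₀ : x₀ ∈ R₀ ⊓ Subgroup.centralizer ({x₀} : Set G) :=
      ⟨hx₀R₀, Subgroup.mem_centralizer_singleton_iff.2 rfl⟩
    have hmem : z' ∈ Subgroup.zpowers x₀ :=
      mem_zpowers_of_pRankLE_one hC₀r hx₀C₀ hz'C₀ hx₀r hx₀1 hz'r (hz'c x₀ hx₀R₀).symm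
    have hmem' : x₀ ∈ Subgroup.zpowers z' :=
      Cfsg.Agent.Lib.H7.BG11mu.mem_zpowers_of_mem_zpowers_ne_one hx₀r hmem hz'1
    obtain ⟨j, hj⟩ := Subgroup.mem_zpowers_iff.1 hmem'
    have hx₀c : ∀ g ∈ R₀, g * x₀ = x₀ * g := by
      intro g hg
      rw [← hj]
      exact (Commute.zpow_right (show Commute g z' from hz'c g hg) j).eq
    have hR₀C : R₀ ⊓ Subgroup.centralizer ({x₀} : Set G) = R₀ := by
      apply le_antisymm inf_le_left
      intro g hg
      exact ⟨hg, Subgroup.mem_centralizer_singleton_iff.2 (hx₀c g hg)⟩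
    rw [hR₀C] at hC₀r
    apply hrR₀
    intro A hAc hAt
    exact (hC₀r A hAc hAt).trans (Nat.pow_le_pow_right hr.pos (by norm_num))

end Cfsg.Agent.Lib.H7.BG1217
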