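import Mathlib
import Cfsg.Agent.Lib.H7.BG1217b
import Cfsg.Agent.Lib.H7.BG10h
import Cfsg.Agent.Lib.H20.BGT4
import Cfsg.Agent.Lib.L0.HallCentral
import Cfsg.Agent.Lib.L0.NPCBasic

/-!
# BG Lemma 12.17 (Coq `cent_Malpha_reg_tau1`), part (b) (helper7)

`M` maximal, `P ≤ M` of prime order `p ∉ σ(M)` with `M` of `p`-rank one, `Q` a nontrivial Sylow
`q`-subgroup of `M` (`q ≠ p`) normalized by `P` with `C_Q(P) = 1`, and `M` is not the unique maximal
subgroup containing `N_G(Q)`.  Then `α(M) = β(M)`, `M_α ≠ 1`, `q ∉ α(M)`, `C_{M_α}(P) ≠ 1`,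
`C_{M_α}(QP) = 1`, `M_α Q ⊴ M` and `M = M_α N_M(Q)`.
-/

set_option autoImplicit false
set_option linter.style.haveILetI false
set_option linter.unusedSectionVars false
set_option linter.unusedVariables false
open Cfsg
open Cfsg.Agent.Lib.H16.BG
open Cfsg.Agent.Lib.H7.BG7
open Cfsg.Agent.Lib.H7.BG10
open Cfsg.Agent.Lib.H20.BGT
open Cfsg.Agent.Lib.H19 (IsPiCard)

namespace Cfsg.Agent.Lib.H7.BG1217

universe u
variable {G : Type u} [Group G] [Finite G]

/-- transport of a normal `t`-complement from `commutator ↥M` to `⁅M, M⁆`. -/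
theorem hasNormalPComplement_commutator_sub (M : Subgroup G) {t : ℕ} [Fact t.Prime]
    (h : HasNormalPComplement t ↥(commutator ↥M)) : HasNormalPComplement t ↥⁅M, M⁆ := by
  let e : ↥(commutator ↥M) ≃* ↥⁅M, M⁆ :=
    (Subgroup.equivMapOfInjective (commutator ↥M) M.subtype M.subtype_injective).trans
      (MulEquiv.subgroupCongr (Subgroup.map_subtype_commutator M))
  exact Cfsg.Agent.Lib.L0.HasNormalPComplement.of_mulEquiv e h

/-- A normal `t`-complement of a subgroup `D`, as a subgroup of the ambient group. -/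
theorem exists_normal_complement_subgroup {D : Subgroup G} {t : ℕ} [ht : Fact t.Prime]
    (h : HasNormalPComplement t ↥D) :
    ∃ N₀ : Subgroup G, N₀ ≤ D ∧ D ≤ Subgroup.normalizer (N₀ : Set G) ∧
      (Nat.card N₀).Coprime t ∧ ∀ x ∈ D, (orderOf x).Coprime t → x ∈ N₀ := by
  obtain ⟨P, N, hN, hc⟩ := h
  haveI := hN
  have hcard : Nat.card N = (P : Subgroup ↥D).index := hc.index_eq_card.symm
  have hidx : N.index = Nat.card (P : Subgroup ↥D) := hc.symm.index_eq_card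
  refine ⟨N.map D.subtype, Subgroup.map_subtype_le N, ?_, ?_, ?_⟩
  · intro d hd
    rw [Subgroup.mem_normalizer_iff_map_conj_eq]
    ext y
    constructor
    · rintro ⟨z, ⟨w, hw, rfl⟩, rfl⟩
      refine ⟨⟨d, hd⟩ * w * ⟨d, hd⟩⁻¹, hN.conj_mem w hw _, ?_⟩
      simp
    · rintro ⟨w, hw, rfl⟩
      refine ⟨d⁻¹ * (w : G) * d, ⟨⟨d, hd⟩⁻¹ * w * ⟨d, hd⟩, ?_, by simp⟩, ?_⟩
      · have := hN.conj_mem w hw ⟨d, hd⟩⁻¹
        simpa using this
      · simp [mul_assoc]
  · rw [Subgroup.card_map_of_injective D.subtype_injective, hcard, Nat.coprime_comm,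
      Nat.Prime.coprime_iff_not_dvd ht.out]
    exact P.not_dvd_index
  · intro x hx hco
    have hmem : (⟨x, hx⟩ : ↥D) ∈ N := by
      apply Cfsg.Agent.Lib.L0.mem_of_coprime_orderOf_index N
      rw [hidx, Subgroup.orderOf_mk]
      obtain ⟨k, hk⟩ := IsPGroup.iff_card.1 P.isPGroup'
      rw [hk]
      exact Nat.Coprime.pow_right k hco
    exact ⟨⟨x, hx⟩, hmem, rfl⟩

/-- A Sylow `q`-subgroup `Q` of `M` with `Q = [Q, P]` for some `P ≤ M`: `M = M_α N_M(Q)`. -/
theorem supplement_alphaCore_of_le_commutator (hG : IsMinSimpleOddOrder G) {M : Subgroup G}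
    (hM : IsCoatom M) {q : ℕ} [hq : Fact q.Prime] {Q : Subgroup G} (hQ : SylIn q Q M)
    (hQc : Q ≤ ⁅M, M⁆) :
    ∀ m ∈ M, ∃ a ∈ alphaCore M, ∃ n ∈ M ⊓ Subgroup.normalizer (Q : Set G), m = a * n := by
  have hU := uniq3 hG
  obtain ⟨-, -, -, -, hnil⟩ := alpha_core_hall hG hU hM
  have hSq : IsPGroup q (Q.subgroupOf M) := hQ.isPGroup.comap_subtype
  have hSi : ¬ q ∣ (Q.subgroupOf M).index := hQ.2.2
  have hSc : Q.subgroupOf M ≤ commutator ↥M := by
    intro t ht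
    rw [Subgroup.mem_subgroupOf] at ht
    have h1 : (t : G) ∈ (commutator ↥M).map M.subtype := by
      rw [Subgroup.map_subtype_commutator]; exact hQc ht
    obtain ⟨t', ht', hte⟩ := h1
    have : t' = t := Subtype.ext hte
    rwa [this] at ht'
  have h1 := normalizer_sup_eq_top_of_nilpotent_quotient (piCore (alpha M) ↥M)
    (Q.subgroupOf M) hSq hSi hSc hnil
  intro m hm
  have hmem : (⟨m, hm⟩ : ↥M) ∈ piCore (alpha M) ↥M ⊔
      Subgroup.normalizer ((Q.subgroupOf M : Subgroup ↥M) : Set ↥M) := by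
    rw [sup_comm, h1]; exact Subgroup.mem_top _
  have hmem' : (⟨m, hm⟩ : ↥M) ∈ ((piCore (alpha M) ↥M ⊔
      Subgroup.normalizer ((Q.subgroupOf M : Subgroup ↥M) : Set ↥M) : Subgroup ↥M) : Set ↥M) := hmem
  rw [Subgroup.normal_mul] at hmem'
  obtain ⟨a, ha, n, hn, han⟩ := Set.mem_mul.1 hmem'
  refine ⟨(a : G), ⟨a, ha, rfl⟩, (n : G),
    ⟨n.2, coe_mem_normalizer_of_mem_normalizer_subgroupOf hQ.le hn⟩, ?_⟩
  have := congrArg Subtype.val han
  simpa using this.symm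

theorem lemma_12_17b (hG : IsMinSimpleOddOrder G) {M : Subgroup G} (hM : IsCoatom M)
    {p q : ℕ} [hp : Fact p.Prime] [hq : Fact q.Prime] (hpq : p ≠ q)
    (hpσ : p ∉ sigma M) (hp1 : PRankLE p 1 ↥M)
    {P Q : Subgroup G} (hPM : P ≤ M) (hPc : Nat.card P = p) (hQ : SylIn q Q M)
    (hQ1 : Q ≠ ⊥) (hPQ : P ≤ Subgroup.normalizer (Q : Set G))
    (hreg : Q ⊓ Subgroup.centralizer (P : Set G) = ⊥)
    (hnu : ¬ (Subgroup.normalizer (Q : Set G) ≤ M ∧
      ∀ L : Subgroup G, IsCoatom L → Subgroup.normalizer (Q : Set G) ≤ L → L = M)) :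
    (∀ t ∈ alpha M, t ∈ beta M) ∧ alphaCore M ≠ ⊥ ∧ q ∉ alpha M ∧
      alphaCore M ⊓ Subgroup.centralizer (P : Set G) ≠ ⊥ ∧
      alphaCore M ⊓ Subgroup.centralizer ((Q ⊔ P : Subgroup G) : Set G) = ⊥ ∧
      M ≤ Subgroup.normalizer ((alphaCore M ⊔ Q : Subgroup G) : Set G) ∧
      ∀ m ∈ M, ∃ a ∈ alphaCore M, ∃ n ∈ M ⊓ Subgroup.normalizer (Q : Set G), m = a * n := by
  have hU := uniq3 hG
  have hpp : p.Prime := hp.out
  have hqp : q.Prime := hq.out
  have hQM : Q ≤ M := hQ.le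
  have hQq : IsPGroup q Q := hQ.isPGroup
  have hNtop : Subgroup.normalizer (Q : Set G) ≠ ⊤ := normalizer_ne_top_of_isPGroup hG hQq hQ1
  have hKM : alphaCore M ≤ M := piCoreOf_le (alpha M) M
  have hMK : M ≤ Subgroup.normalizer ((alphaCore M : Subgroup G) : Set G) :=
    le_normalizer_piCoreOf (alpha M) M
  have hKπ : IsPiCard (alpha M) (Nat.card (alphaCore M)) := piCoreOf_isPiCard (alpha M) M
  -- a subgroup of `N_G(Q) ∩ M` of rank at least three is impossible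
  have hkill : ∀ {t : ℕ} {R : Subgroup G}, R ≤ M → R ≤ Subgroup.normalizer (Q : Set G) →
      ¬ PRankLE t 2 ↥R → t.Prime → False := by
    intro t R hRM hRN hrk ht
    have hR2 : ¬ RankLE 2 ↥R := fun h => hrk (h t ht)
    have hRtop : R ≠ ⊤ := fun h => hM.1 (top_le_iff.1 (h ▸ hRM))
    exact hnu (Cfsg.Agent.Lib.H7.BG124.uniq_of_inUniqueMaximal hM hRM (hU R hRtop hR2) hRN hNtop)
  -- Step A: `q ∉ α(M)`
  have hqα : q ∉ alpha M := by
    intro h
    exact hkill hQM Subgroup.le_normalizer (fun h2 => h.2 (pRankLE_of_sylIn hQ h2)) hqp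
  -- Step B: `Q ≤ M'`
  have hcopPQ : (Nat.card P).Coprime (Nat.card Q) := by
    rw [hPc]
    obtain ⟨k, hk⟩ := IsPGroup.iff_card.1 hQq
    rw [hk]
    exact Nat.Coprime.pow_right k ((Nat.coprime_primes hpp hqp).2 hpq)
  have hsolvQ : Group.IsSolvable ↥Q := solvable_of_le_ne_top hG hM.1 hQM
  have hactPQ : Cfsg.Agent.Lib.H1.CoprimeAction P Q := ⟨hPQ, hcopPQ, Or.inr hsolvQ⟩
  have hQcomm : ⁅Q, P⁆ = Q := by
    have := Cfsg.Agent.Lib.H1.coprime_commutator_sup_centralizer hactPQ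
    rwa [hreg, sup_bot_eq] at this
  have hQc : Q ≤ ⁅M, M⁆ := by
    rw [← hQcomm]; exact Subgroup.commutator_mono hQM hPM
  -- Step C: the supplement
  have hsup := supplement_alphaCore_of_le_commutator hG hM hQ hQc
  have hnorm : M ≤ Subgroup.normalizer ((alphaCore M ⊔ Q : Subgroup G) : Set G) := by
    intro m hm
    obtain ⟨a, ha, n, hn, rfl⟩ := hsup m hm
    refine Subgroup.mul_mem _ (Subgroup.le_normalizer (Subgroup.mem_sup_left ha)) ?_
    exact Cfsg.Agent.Lib.H7.le_normalizer_sup (K := Subgroup.zpowers n)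
      (Subgroup.zpowers_le.2 (hMK hn.1)) (Subgroup.zpowers_le.2 hn.2) (Subgroup.mem_zpowers n)
  -- Step D: `M_α ≠ 1`
  have hα : alphaCore M ≠ ⊥ := by
    intro hbot
    have hMN : M ≤ Subgroup.normalizer (Q : Set G) := by
      intro m hm
      obtain ⟨a, ha, n, hn, rfl⟩ := hsup m hm
      rw [hbot, Subgroup.mem_bot] at ha
      rw [ha, one_mul]; exact hn.2
    have hNM : Subgroup.normalizer (Q : Set G) = M := by
      by_contra hne
      exact hNtop (hM.2 _ (lt_of_le_of_ne hMN (Ne.symm hne)))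
    apply hnu
    rw [hNM]
    refine ⟨le_rfl, fun L hL hML => ?_⟩
    by_contra hne
    exact hL.1 (hM.2 _ (lt_of_le_of_ne hML (Ne.symm hne)))
  -- Step E: `α(M) ⊆ β(M)`
  have hKq' : (Nat.card (alphaCore M)).Coprime q := by
    rw [Nat.coprime_comm, Nat.Prime.coprime_iff_not_dvd hqp]
    exact fun hd => hqα (hKπ q hqp hd)
  have hKq : (Nat.card Q).Coprime (Nat.card (alphaCore M)) := by
    obtain ⟨k, hk⟩ := IsPGroup.iff_card.1 hQq
    rw [hk]
    exact (Nat.Coprime.pow_right k hKq').symm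
  have hsolvK : Group.IsSolvable ↥(alphaCore M) := solvable_of_le_ne_top hG hM.1 hKM
  have hαβ : ∀ t ∈ alpha M, t ∈ beta M := by
    intro t htα
    by_contra htβ
    have ht : t.Prime := htα.1
    haveI : Fact t.Prime := ⟨ht⟩
    have htq : t ≠ q := fun h => hqα (h ▸ htα)
    have hact : Cfsg.Agent.Lib.H1.CoprimeAction Q (alphaCore M) :=
      ⟨hQM.trans hMK, hKq, Or.inr hsolvK⟩
    obtain ⟨R, hRhall, hQR⟩ := Cfsg.Agent.Lib.H19.coprime_exists_invariant_hall hact {t}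
    have hRsyl : SylIn t R (alphaCore M) :=
      Cfsg.Agent.Lib.H7.BG13.sylIn_of_isPiHallOf_singleton ht hRhall
    have hαH := (alpha_core_hall hG hU hM).1
    have hRM : SylIn t R M := by
      refine ⟨hRsyl.le.trans hKM, hRsyl.isPGroup, fun hd => ?_⟩
      rw [← Subgroup.relIndex_mul_relIndex R (alphaCore M) M hRsyl.le hKM,
        Nat.Prime.dvd_mul ht] at hd
      rcases hd with hd | hd
      · exact hRsyl.2.2 hd
      · exact hαH.2.2 t ht htα hd
    have hrR : ¬ PRankLE t 2 ↥R := fun h => htα.2 (pRankLE_of_sylIn hRM h)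
    -- `R` centralizes `Q`
    obtain ⟨N₀, hN₀D, hDN₀, hN₀t, hN₀mem⟩ := exists_normal_complement_subgroup
      (hasNormalPComplement_commutator_sub M (not_beta_complement hG hU hM ht htβ).1)
    have hσle := sigmaCore_le_commutator hG hU hM
    have hRD : R ≤ ⁅M, M⁆ := (hRsyl.le.trans (alpha_core_hall hG hU hM).2.2.1).trans hσle
    have hQN₀ : Q ≤ N₀ := by
      intro y hy
      apply hN₀mem y (hQc hy)
      have h1 : orderOf y ∣ Nat.card Q := by
        have := orderOf_dvd_natCard (⟨y, hy⟩ : Q)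
        rwa [Subgroup.orderOf_mk] at this
      obtain ⟨k, hk⟩ := IsPGroup.iff_card.1 hQq
      rw [hk] at h1
      exact Nat.Coprime.coprime_dvd_left h1
        (Nat.Coprime.pow_left k ((Nat.coprime_primes hqp ht).2 (Ne.symm htq)))
    have hRC : R ≤ Subgroup.centralizer (Q : Set G) := by
      intro x hx
      rw [Subgroup.mem_centralizer_iff]
      intro y hy
      have hyN : y ∈ N₀ := hQN₀ hy
      have h1 : x * y * x⁻¹ * y⁻¹ ∈ N₀ :=
        N₀.mul_mem ((Subgroup.mem_normalizer_iff.1 (hDN₀ (hRD hx)) y).1 hyN) (N₀.inv_mem hyN)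
      have h2 : x * y * x⁻¹ * y⁻¹ ∈ R := by
        have h3 : y * x⁻¹ * y⁻¹ ∈ R :=
          (Subgroup.mem_normalizer_iff.1 (hQR hy) x⁻¹).1 (R.inv_mem hx)
        have h4 := R.mul_mem hx h3
        have e : x * (y * x⁻¹ * y⁻¹) = x * y * x⁻¹ * y⁻¹ := by group
        rwa [e] at h4
      have h5 : x * y * x⁻¹ * y⁻¹ = 1 := by
        have h6 : orderOf (x * y * x⁻¹ * y⁻¹) ∣ Nat.card R := by
          have := orderOf_dvd_natCard (⟨_, h2⟩ : R)
          rwa [Subgroup.orderOf_mk] at this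
        have h7 : orderOf (x * y * x⁻¹ * y⁻¹) ∣ Nat.card N₀ := by
          have := orderOf_dvd_natCard (⟨_, h1⟩ : N₀)
          rwa [Subgroup.orderOf_mk] at this
        obtain ⟨k, hk⟩ := IsPGroup.iff_card.1 hRsyl.isPGroup
        rw [hk] at h6
        have h8 : (Nat.card N₀).Coprime (t ^ k) := Nat.Coprime.pow_right k hN₀t
        have h9 := Nat.dvd_gcd h7 h6
        rw [h8.gcd_eq_one, Nat.dvd_one] at h9
        exact orderOf_eq_one_iff.1 h9
      have e2 : x * y * x⁻¹ * y⁻¹ * (y * x) = x * y := by group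
      rw [← e2, h5, one_mul]
    exact hkill hRM.le (hRC.trans (Subgroup.centralizer_le_normalizer _)) hrR ht
  -- Step F
  obtain ⟨h1, h2⟩ := lemma_12_17a hG hM hpq hpσ hp1 hPM hPc hQM hQq hQ1 hPQ hreg hqα hα hnu
  exact ⟨hαβ, hα, hqα, h1, h2, hnorm, hsup⟩

end Cfsg.Agent.Lib.H7.BG1217
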