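import Mathlib
import Cfsg.Agent.Lib.H7.BG1217c
import Cfsg.Agent.Lib.H20.SOC1
import Cfsg.Agent.Lib.H1.CoprimeSylow

/-!
# BG Theorem 13.8 (Coq `tau1_mmaxI_asymmetry`), part 1: general lemmas (helper7)

* `pRankLE_one_cent_alphaCore` : `C_{M_α}(P)` has all Sylow subgroups cyclic (`P` of order
  `p ∉ σ(M)`, `M` of `p`-rank one, `M_α ≠ 1`); step (0) of the proof of 12.17.
* `exists_normal_prime_of_isZGroup` : a nontrivial finite `Z`-group has a normal subgroup of prime
  order.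
* `exists_conj_le_normalizer_of_supplement` : the Glauberman transfer used in 13.8.
-/

set_option autoImplicit false
set_option linter.style.haveILetI false
set_option linter.unusedSectionVars false
set_option linter.unusedVariables false
open Cfsg
open Cfsg.Agent.Lib.H16.BG
open Cfsg.Agent.Lib.H7.BG7
open Cfsg.Agent.Lib.H7.BG10
open Cfsg.Agent.Lib.H20.BGT
open Cfsg.Agent.Lib.H19 (IsPiCard)
open scoped commutatorElement

namespace Cfsg.Agent.Lib.H7.BG138

universe u
variable {G : Type u} [Group G] [Finite G]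

local notation:max "cj(" g ", " X ")" => Subgroup.map (MulEquiv.toMonoidHom (MulAut.conj g)) X

/-- Step (0) of BG 12.17: `C_{M_α}(x)` has rank at most one. -/
theorem pRankLE_one_cent_alphaCore (hG : IsMinSimpleOddOrder G) {M : Subgroup G} (hM : IsCoatom M)
    (hα : alphaCore M ≠ ⊥) {p : ℕ} [hp : Fact p.Prime] (hpσ : p ∉ sigma M)
    (hp1 : PRankLE p 1 ↥M) {x : G} (hxM : x ∈ M) (hxp : x ^ p = 1) (hx1 : x ≠ 1)
    (r : ℕ) [hr : Fact r.Prime] :
    PRankLE r 1 ↥(alphaCore M ⊓ Subgroup.centralizer ({x} : Set G)) := by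
  have hpp : p.Prime := hp.out
  have hPM : Subgroup.zpowers x ≤ M := Subgroup.zpowers_le.2 hxM
  have hPc : Nat.card (Subgroup.zpowers x) = p :=
    Cfsg.Agent.Lib.H7.BG11mu.card_zpowers_of_pow hxp hx1
  have hxo : orderOf x = p := orderOf_eq_prime hxp hx1
  have hpM : p ∣ Nat.card M := by
    rw [← hxo]; exact Subgroup.orderOf_dvd_natCard M hxM
  have hPp : IsPGroup p ((Subgroup.zpowers x).subgroupOf M) := by
    apply IsPGroup.of_card (n := 1)
    rw [Cfsg.Agent.Lib.H8.card_subgroupOf_of_le hPM, hPc, pow_one]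
  obtain ⟨S, hS⟩ := hPp.exists_le_sylow
  obtain ⟨x', hx'mem, hx'o, hZ, -⟩ := Cfsg.Agent.S1407.result hG M hM hα p hpM hpσ S
  obtain ⟨m, hm, rfl⟩ := hx'mem
  obtain ⟨c, hc, rfl⟩ := hm
  have hxS : (⟨x, hxM⟩ : ↥M) ∈ (S : Subgroup ↥M) :=
    hS (Subgroup.mem_subgroupOf.2 (Subgroup.mem_zpowers x))
  have hcomm : (c : ↥M) * ⟨x, hxM⟩ = ⟨x, hxM⟩ * (c : ↥M) := by
    have := Subgroup.mem_center_iff.1 hc ⟨⟨x, hxM⟩, hxS⟩
    exact (congrArg Subtype.val this).symm
  have hcomm' : ((c : ↥M) : G) * x = x * ((c : ↥M) : G) := congrArg Subtype.val hcomm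
  set x' : G := ((c : ↥M) : G) with hx'def
  have hx'M : x' ∈ M := (c : ↥M).2
  have hx'o' : orderOf x' = p := hx'o
  have hZ' : IsZGroup ↥(alphaCore M ⊓ Subgroup.centralizer ({x'} : Set G)) := hZ
  have hx'p : x' ^ p = 1 := by rw [← hx'o']; exact pow_orderOf_eq_one x'
  have hx'1 : x' ≠ 1 := by
    intro h
    rw [h, orderOf_one] at hx'o'
    exact hpp.one_lt.ne hx'o'
  have hmem : x' ∈ Subgroup.zpowers x :=
    Cfsg.Agent.Lib.H7.BG1217.mem_zpowers_of_pRankLE_one (Z := M) hp1 hxM hx'M hxp hx1 hx'p hcomm'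
  have hmem' : x ∈ Subgroup.zpowers x' :=
    Cfsg.Agent.Lib.H7.BG11mu.mem_zpowers_of_mem_zpowers_ne_one hxp hmem hx'1
  have heq : Subgroup.zpowers x' = Subgroup.zpowers x :=
    le_antisymm (Subgroup.zpowers_le.2 hmem) (Subgroup.zpowers_le.2 hmem')
  have hceq : Subgroup.centralizer ({x'} : Set G) = Subgroup.centralizer ({x} : Set G) := by
    rw [Cfsg.Agent.Lib.H7.centralizer_singleton_eq_centralizer_zpowers,
      Cfsg.Agent.Lib.H7.centralizer_singleton_eq_centralizer_zpowers, heq]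
  rw [hceq] at hZ'
  exact Cfsg.Agent.Lib.H7.BG1217.pRankLE_one_of_isZGroup hZ'

/-- Step (0) of BG 12.17, subgroup form. -/
theorem pRankLE_one_cent_alphaCore' (hG : IsMinSimpleOddOrder G) {M : Subgroup G}
    (hM : IsCoatom M) (hα : alphaCore M ≠ ⊥) {p : ℕ} [hp : Fact p.Prime] (hpσ : p ∉ sigma M)
    (hp1 : PRankLE p 1 ↥M) {P : Subgroup G} (hPM : P ≤ M) (hPc : Nat.card P = p)
    (r : ℕ) [hr : Fact r.Prime] :
    PRankLE r 1 ↥(alphaCore M ⊓ Subgroup.centralizer (P : Set G)) := by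
  obtain ⟨x, rfl, hxp, hx1⟩ := Cfsg.Agent.Lib.H7.BG11mu.exists_generator_of_card_prime hPc
  rw [← Cfsg.Agent.Lib.H7.centralizer_singleton_eq_centralizer_zpowers]
  exact pRankLE_one_cent_alphaCore hG hM hα hpσ hp1 (hPM (Subgroup.mem_zpowers x)) hxp hx1 r

/-- A nontrivial finite `Z`-group has a normal subgroup of prime order. -/
theorem exists_normal_prime_of_isZGroup {F : Type*} [Group F] [Finite F] [IsZGroup F]
    [Nontrivial F] : ∃ X : Subgroup F, X.Normal ∧ (Nat.card X).Prime := by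
  by_cases hc : commutator F = ⊥
  · -- abelian case
    have hcomm : ∀ a b : F, a * b = b * a := by
      intro a b
      have h1 : ⁅a, b⁆ ∈ commutator F := Subgroup.commutator_mem_commutator
        (Subgroup.mem_top a) (Subgroup.mem_top b)
      rw [hc, Subgroup.mem_bot, commutatorElement_eq_one_iff_mul_comm] at h1
      exact h1
    have h1 : Nat.card F ≠ 1 := fun h => by
      have := (Nat.card_eq_one_iff_unique.1 h).1
      exact not_subsingleton F this
    obtain ⟨r, hr, hrd⟩ := Nat.exists_prime_and_dvd h1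
    haveI : Fact r.Prime := ⟨hr⟩
    obtain ⟨x, hx⟩ := exists_prime_orderOf_dvd_card' r hrd
    refine ⟨Subgroup.zpowers x, ⟨fun n hn g => ?_⟩, ?_⟩
    · have : g * n * g⁻¹ = n := by rw [hcomm g n, mul_inv_cancel_right]
      rwa [this]
    · rw [Nat.card_zpowers, hx]; exact hr
  · haveI hcyc : IsCyclic ↥(commutator F) := IsZGroup.isCyclic_commutator F
    have h1 : Nat.card ↥(commutator F) ≠ 1 := fun h => hc (Subgroup.card_eq_one.1 h)
    obtain ⟨r, hr, hrd⟩ := Nat.exists_prime_and_dvd h1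
    haveI : Fact r.Prime := ⟨hr⟩
    obtain ⟨x, hx⟩ := exists_prime_orderOf_dvd_card' r hrd
    set X₀ : Subgroup ↥(commutator F) := Subgroup.zpowers x with hX₀
    have hX₀c : Nat.card X₀ = r := by rw [hX₀, Nat.card_zpowers, hx]
    refine ⟨X₀.map (commutator F).subtype, ⟨fun n hn g => ?_⟩, ?_⟩
    · obtain ⟨y, hy, rfl⟩ := hn
      -- the conjugate subgroup inside the commutator
      have hgn : ∀ z : ↥(commutator F), g * (z : F) * g⁻¹ ∈ commutator F := fun z =>
        (inferInstance : (commutator F).Normal).conj_mem z z.2 g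
      let φ : ↥(commutator F) →* ↥(commutator F) :=
        { toFun := fun z => ⟨g * (z : F) * g⁻¹, hgn z⟩
          map_one' := by ext; simp
          map_mul' := fun a b => by ext; simp }
      have hφinj : Function.Injective φ := by
        intro a b hab
        have h2 := congrArg Subtype.val hab
        simp only [φ, MonoidHom.coe_mk, OneHom.coe_mk] at h2
        ext
        have h3 : g * ((a : F) * g⁻¹) = g * ((b : F) * g⁻¹) := by
          rw [← mul_assoc, ← mul_assoc]; exact h2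
        exact mul_right_cancel (mul_left_cancel h3)
      have hcard : Nat.card (X₀.map φ) = Nat.card X₀ :=
        Subgroup.card_map_of_injective hφinj
      have heq : X₀.map φ = X₀ :=
        Cfsg.Agent.Lib.H20.SOC.eq_of_card_eq_of_isCyclic _ _ hcard
      have hmem : φ y ∈ X₀ := by
        rw [← heq]; exact Subgroup.mem_map_of_mem φ hy
      exact ⟨φ y, hmem, rfl⟩
    · rw [Subgroup.card_map_of_injective (commutator F).subtype_injective, hX₀c]; exact hr

/-- A nontrivial subgroup `F₀` of `G` all of whose Sylow subgroups are cyclic normalizes one of its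
subgroups of prime order. -/
theorem exists_normal_prime_sub {F₀ : Subgroup G} (hF₀ : F₀ ≠ ⊥) (hZ : IsZGroup ↥F₀) :
    ∃ X : Subgroup G, X ≤ F₀ ∧ F₀ ≤ Subgroup.normalizer (X : Set G) ∧ (Nat.card X).Prime := by
  haveI := hZ
  haveI : Nontrivial ↥F₀ := (Subgroup.nontrivial_iff_ne_bot F₀).2 hF₀
  obtain ⟨X, hXn, hXc⟩ := exists_normal_prime_of_isZGroup (F := ↥F₀)
  refine ⟨X.map F₀.subtype, Subgroup.map_subtype_le X, ?_, ?_⟩
  · intro f hf
    rw [Subgroup.mem_normalizer_iff_map_conj_eq]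
    apply Subgroup.eq_of_le_of_card_ge
    · rintro _ ⟨_, ⟨y, hy, rfl⟩, rfl⟩
      refine ⟨⟨f, hf⟩ * y * ⟨f, hf⟩⁻¹, hXn.conj_mem y hy _, ?_⟩
      simp
    · exact (Cfsg.Agent.Lib.H10.card_map_conj f (X.map F₀.subtype)).ge
  · rw [Subgroup.card_map_of_injective F₀.subtype_injective]; exact hXc

section Transfer

open Pointwise
open Cfsg.Agent.Lib.H1 (CoprimeAction conj_smul_eq_self_iff_mem_normalizer
  glauberman_set_exists_fixed glauberman_set_fixed_trans)

/-- **Glauberman transfer.**  `K ⊴ M`, `M = K N_M(Q)`, `A ≤ M` acts coprimely on the solvable group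
`K`, and `P ≤ A` normalizes `Q`.  Then some `c ∈ C_K(P)` conjugates `A` into `N_G(Q)`. -/
theorem exists_conj_le_normalizer_of_supplement {M K Q A P : Subgroup G}
    (hKM : K ≤ M) (hMK : M ≤ Subgroup.normalizer (K : Set G))
    (hsup : ∀ m ∈ M, ∃ a ∈ K, ∃ n ∈ M ⊓ Subgroup.normalizer (Q : Set G), m = a * n)
    (hAM : A ≤ M) (hPA : P ≤ A) (hcop : (Nat.card A).Coprime (Nat.card K))
    (hsolv : Group.IsSolvable ↥K) (hPQ : P ≤ Subgroup.normalizer (Q : Set G)) :
    ∃ c ∈ K ⊓ Subgroup.centralizer (P : Set G),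
      ∀ a ∈ A, c * a * c⁻¹ ∈ Subgroup.normalizer (Q : Set G) := by
  let _ : MulAction G (Subgroup G) :=
    MulAction.compHom (Subgroup G) (MulAut.conj : G →* MulAut G)
  have hsmul : ∀ (g : G) (H : Subgroup G), g • H = MulAut.conj g • H := fun _ _ => rfl
  set Y : Set (Subgroup G) := {S | ∃ m ∈ M, S = m • Q} with hY
  have hactA : CoprimeAction A K := ⟨hAM.trans hMK, hcop, Or.inr hsolv⟩
  have hactP : CoprimeAction P K :=
    ⟨(hPA.trans hAM).trans hMK,
      Nat.Coprime.coprime_dvd_left (Subgroup.card_dvd_of_le hPA) hcop, Or.inr hsolv⟩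
  have hYM : ∀ g ∈ M, ∀ S ∈ Y, g • S ∈ Y := by
    rintro g hg S ⟨m, hm, rfl⟩
    exact ⟨g * m, M.mul_mem hg hm, by rw [mul_smul]⟩
  have hnQ : ∀ n ∈ Subgroup.normalizer (Q : Set G), n • Q = Q := fun n hn => by
    rw [hsmul]; exact conj_smul_eq_self_iff_mem_normalizer.2 hn
  have hYK' : ∀ S ∈ Y, ∃ a ∈ K, S = a • Q := by
    rintro S ⟨m, hm, rfl⟩
    obtain ⟨a, ha, n, hn, rfl⟩ := hsup m hm
    exact ⟨a, ha, by rw [mul_smul, hnQ n hn.2]⟩
  have htrans : ∀ S ∈ Y, ∀ S' ∈ Y, ∃ k ∈ K, k • S = S' := by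
    intro S hS S' hS'
    obtain ⟨a, ha, rfl⟩ := hYK' S hS
    obtain ⟨a', ha', rfl⟩ := hYK' S' hS'
    refine ⟨a' * a⁻¹, K.mul_mem ha' (K.inv_mem ha), ?_⟩
    rw [← mul_smul, inv_mul_cancel_right]
  have hQY : Q ∈ Y := ⟨1, M.one_mem, by rw [one_smul]⟩
  obtain ⟨S, hSY, hSfix⟩ := glauberman_set_exists_fixed hactA Y ⟨Q, hQY⟩
    (fun k hk S hS => hYM k (hKM hk) S hS) (fun a ha S hS => hYM a (hAM ha) S hS) htrans
  obtain ⟨c, hc, hcS⟩ := glauberman_set_fixed_trans hactP Y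
    (fun k hk S hS => hYM k (hKM hk) S hS) (fun a ha S hS => hYM a (hAM (hPA ha)) S hS) htrans
    hSY hQY (fun a ha => hSfix a (hPA ha)) (fun a ha => hnQ a (hPQ ha))
  refine ⟨c, hc, fun a ha => ?_⟩
  rw [← conj_smul_eq_self_iff_mem_normalizer, ← hsmul, mul_smul, mul_smul]
  have h1 : c⁻¹ • Q = S := by rw [← hcS, ← mul_smul, inv_mul_cancel, one_smul]
  rw [h1, hSfix a ha, hcS]

end Transfer


end Cfsg.Agent.Lib.H7.BG138
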