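import Mathlib
import Cfsg.Agent.Lib.H7.BG138a
import Cfsg.Agent.Lib.H7.BG14a
import Cfsg.Agent.Lib.H1.CoprimeAbelian
import Cfsg.Agent.S1408

/-!
# BG Theorem 13.8 (Coq `tau1_mmaxI_asymmetry`), part 2: the key asymmetric step (helper7)

In the situation of 13.8, no prime of `α(N)` divides `|C_M(P)|`.
-/

set_option autoImplicit false
set_option linter.style.haveILetI false
set_option linter.unusedSectionVars false
set_option linter.unusedVariables false
open Cfsg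
open Cfsg.Agent.Lib.H16.BG
open Cfsg.Agent.Lib.H7.BG7
open Cfsg.Agent.Lib.H7.BG10
open Cfsg.Agent.Lib.H20.BGT
open Cfsg.Agent.Lib.H19 (IsPiCard)
open scoped commutatorElement

namespace Cfsg.Agent.Lib.H7.BG138

universe u
variable {G : Type u} [Group G] [Finite G]

local notation:max "cj(" g ", " X ")" => Subgroup.map (MulEquiv.toMonoidHom (MulAut.conj g)) X

/-- In a cyclic group of prime power order two subgroups meeting trivially: one is trivial. -/
theorem eq_bot_or_eq_bot_of_cyclic {r : ℕ} [hr : Fact r.Prime] {Z A B : Subgroup G}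
    (hZc : IsCyclic ↥Z) (hZr : IsPGroup r Z) (hAZ : A ≤ Z) (hBZ : B ≤ Z) (hAB : A ⊓ B = ⊥) :
    A = ⊥ ∨ B = ⊥ := by
  by_contra hne
  rw [not_or] at hne
  obtain ⟨hA, hB⟩ := hne
  have key : ∀ C : Subgroup G, C ≤ Z → C ≠ ⊥ → ∃ c ∈ C, orderOf c = r := by
    intro C hCZ hC
    have hCr : IsPGroup r C := hZr.to_le hCZ
    have hd : r ∣ Nat.card C := by
      obtain ⟨k, hk⟩ := IsPGroup.iff_card.1 hCr
      have hk0 : k ≠ 0 := by
        rintro rfl
        rw [pow_zero] at hk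
        exact hC (Subgroup.card_eq_one.1 hk)
      rw [hk]
      exact dvd_pow_self r hk0
    obtain ⟨⟨c, hc⟩, hco⟩ := exists_prime_orderOf_dvd_card' r hd
    exact ⟨c, hc, by rw [← hco]; exact (Subgroup.orderOf_mk _ _).symm⟩
  obtain ⟨a, haA, hao⟩ := key A hAZ hA
  obtain ⟨b, hbB, hbo⟩ := key B hBZ hB
  haveI := hZc
  have h1 : Nat.card ((Subgroup.zpowers a).subgroupOf Z) =
      Nat.card ((Subgroup.zpowers b).subgroupOf Z) := by
    rw [Cfsg.Agent.Lib.H8.card_subgroupOf_of_le (Subgroup.zpowers_le.2 (hAZ haA)),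
      Cfsg.Agent.Lib.H8.card_subgroupOf_of_le (Subgroup.zpowers_le.2 (hBZ hbB)),
      Nat.card_zpowers, Nat.card_zpowers, hao, hbo]
  have h2 := Cfsg.Agent.Lib.H20.SOC.eq_of_card_eq_of_isCyclic _ _ h1
  have h3 : (⟨a, hAZ haA⟩ : ↥Z) ∈ (Subgroup.zpowers b).subgroupOf Z := by
    rw [← h2, Subgroup.mem_subgroupOf]; exact Subgroup.mem_zpowers a
  rw [Subgroup.mem_subgroupOf] at h3
  have h4 : a ∈ A ⊓ B := ⟨haA, (Subgroup.zpowers_le.2 hbB) h3⟩
  rw [hAB, Subgroup.mem_bot] at h4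
  rw [h4, orderOf_one] at hao
  exact hr.out.one_lt.ne hao

/-- A cyclic subgroup is commutative. -/
theorem isMulCommutative_of_isCyclic {Z : Subgroup G} (hZc : IsCyclic ↥Z) : IsMulCommutative ↥Z := by
  obtain ⟨g, hg⟩ := hZc.exists_generator
  refine ⟨⟨fun a b => ?_⟩⟩
  obtain ⟨i, rfl⟩ := Subgroup.mem_zpowers_iff.1 (hg a)
  obtain ⟨j, rfl⟩ := Subgroup.mem_zpowers_iff.1 (hg b)
  exact (Commute.zpow_zpow_self g i j).eq

/-- A coprime automorphism group of a cyclic `r`-group with a nontrivial fixed point is trivial. -/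
theorem le_centralizer_of_cyclic_of_fixed {r : ℕ} [hr : Fact r.Prime] {Z P : Subgroup G}
    (hZc : IsCyclic ↥Z) (hZr : IsPGroup r Z) (hPZ : P ≤ Subgroup.normalizer (Z : Set G))
    (hcop : (Nat.card P).Coprime (Nat.card Z)) (hfix : Z ⊓ Subgroup.centralizer (P : Set G) ≠ ⊥) :
    Z ≤ Subgroup.centralizer (P : Set G) := by
  haveI := isMulCommutative_of_isCyclic hZc
  have hsolv : Group.IsSolvable ↥Z := by
    haveI : IsCyclic ↥Z := hZc
    letI : CommGroup ↥Z := IsCyclic.commGroup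
    infer_instance
  have hact : Cfsg.Agent.Lib.H1.CoprimeAction P Z := ⟨hPZ, hcop, Or.inr hsolv⟩
  have h1 := Cfsg.Agent.Lib.H1.coprime_commutator_sup_centralizer hact
  have h2 := Cfsg.Agent.Lib.H1.coprime_abelian_centralizer_inf_commutator hPZ hcop
  rcases eq_bot_or_eq_bot_of_cyclic hZc hZr inf_le_left hact.commutator_le h2 with h3 | h3
  · exact absurd h3 hfix
  · rw [h3, bot_sup_eq] at h1
    exact inf_eq_left.1 h1

/-- **Key step of BG 13.8.**  No prime of `α(N)` divides `|C_M(P)|`. -/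
theorem no_alpha_prime_in_cent (hG : IsMinSimpleOddOrder G) {M N : Subgroup G}
    (hM : IsCoatom M) (hN : IsCoatom N) (hnc : ∀ g : G, N ≠ cj(g, M))
    {p t : ℕ} [hp : Fact p.Prime] [ht : Fact t.Prime]
    (hpσM : p ∉ sigma M) (hpσN : p ∉ sigma N)
    {P Q T : Subgroup G} (hPM : P ≤ M) (hPN : P ≤ N) (hPc : Nat.card P = p)
    (hPQ : P ≤ Subgroup.normalizer (Q : Set G)) (hNQ : Subgroup.normalizer (Q : Set G) ≤ N)
    (hsupM : ∀ m ∈ M, ∃ a ∈ alphaCore M, ∃ n ∈ M ⊓ Subgroup.normalizer (Q : Set G), m = a * n)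
    (hTM : T ≤ M) (hTN : T ≤ N) (hTt : IsPGroup t T) (hpt : p ≠ t)
    (hPT : P ≤ Subgroup.normalizer (T : Set G))
    (hregT : T ⊓ Subgroup.centralizer (P : Set G) = ⊥)
    (htα : t ∉ alpha N) (hαβN : ∀ s ∈ alpha N, s ∈ beta N)
    (hcentN : alphaCore N ⊓ Subgroup.centralizer ((T ⊔ P : Subgroup G) : Set G) = ⊥)
    {r' : ℕ} [hr' : Fact r'.Prime] (hr'α : r' ∈ alpha N) {R₁ : Subgroup G} (hR₁M : R₁ ≤ M)
    (hR₁P : R₁ ≤ Subgroup.centralizer (P : Set G)) (hR₁c : Nat.card R₁ = r') : False := by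
  have hU := uniq3 hG
  have hpp : p.Prime := hp.out
  have htp : t.Prime := ht.out
  have hr'p : r'.Prime := hr'.out
  -- (iii) `M` has `r'`-rank at most one
  have hr'σM : r' ∉ sigma M := fun h => not_mem_alpha_of_mem_sigma hG hM hN hnc h hr'α
  have hr'αM : r' ∉ alpha M := fun h => hr'σM (alpha_subset_sigma hG hU hM h)
  have hpαM : p ∉ alpha M := fun h => hpσM (alpha_subset_sigma hG hU hM h)
  have hpαN : p ∉ alpha N := fun h => hpσN (alpha_subset_sigma hG hU hN h)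
  have hr'2 : PRankLE r' 2 ↥M := by
    by_contra h
    exact hr'αM ⟨hr'p, h⟩
  have hr'1 : PRankLE r' 1 ↥M := by
    by_contra h
    exact (Cfsg.Agent.S1408.result hG M hM r' hr'σM hr'2 h).1 (hαβN r' hr'α).2
  -- (i) transfer into `N_M(Q)`
  have hKM : alphaCore M ≤ M := piCoreOf_le (alpha M) M
  have hMK : M ≤ Subgroup.normalizer ((alphaCore M : Subgroup G) : Set G) :=
    le_normalizer_piCoreOf (alpha M) M
  have hKπ : IsPiCard (alpha M) (Nat.card (alphaCore M)) := piCoreOf_isPiCard (alpha M) M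
  have hsolvK : Group.IsSolvable ↥(alphaCore M) := solvable_of_le_ne_top hG hM.1 hKM
  have hPR₁ : P ≤ Subgroup.normalizer (R₁ : Set G) :=
    (le_centralizer_comm hR₁P).trans (Subgroup.centralizer_le_normalizer _)
  have hAcard : Nat.card (R₁ ⊔ P : Subgroup G) ∣ r' * p := by
    have := Cfsg.Agent.Lib.H7.card_sup_dvd_mul_of_le_normalizer hPR₁
    rwa [hR₁c, hPc] at this
  have hAcop : (Nat.card (R₁ ⊔ P : Subgroup G)).Coprime (Nat.card (alphaCore M)) := by
    apply Nat.Coprime.coprime_dvd_left hAcard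
    apply Nat.Coprime.mul_left
    · rw [Nat.Prime.coprime_iff_not_dvd hr'p]
      exact fun hd => hr'αM (hKπ r' hr'p hd)
    · rw [Nat.Prime.coprime_iff_not_dvd hpp]
      exact fun hd => hpαM (hKπ p hpp hd)
  obtain ⟨c, hc, hcA⟩ := exists_conj_le_normalizer_of_supplement hKM hMK hsupM
    (sup_le hR₁M hPM) (le_sup_right : P ≤ R₁ ⊔ P) hAcop hsolvK hPQ
  -- `R₀ = R₁^c`
  set R₀ : Subgroup G := cj(c, R₁) with hR₀
  have hR₀c : Nat.card R₀ = r' := by rw [hR₀, Cfsg.Agent.Lib.H10.card_map_conj, hR₁c]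
  have hcM : c ∈ M := hKM hc.1
  have hcP : c ∈ Subgroup.centralizer (P : Set G) := hc.2
  have hR₀M : R₀ ≤ M := by
    rintro _ ⟨y, hy, rfl⟩
    exact M.mul_mem (M.mul_mem hcM (hR₁M hy)) (M.inv_mem hcM)
  have hR₀N : R₀ ≤ N := by
    rintro _ ⟨y, hy, rfl⟩
    exact hNQ (hcA y (Subgroup.mem_sup_left hy))
  have hR₀P : R₀ ≤ Subgroup.centralizer (P : Set G) := by
    rintro _ ⟨y, hy, rfl⟩
    exact Subgroup.mul_mem _ (Subgroup.mul_mem _ hcP (hR₁P hy)) (Subgroup.inv_mem _ hcP)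
  have hR₀r : IsPGroup r' R₀ := IsPGroup.of_card (n := 1) (by rw [hR₀c, pow_one])
  have hR₀1 : R₀ ≠ ⊥ := by
    intro h
    rw [h, Subgroup.card_bot] at hR₀c
    exact hr'p.one_lt.ne hR₀c
  -- (ii) `R₀ ≤ N_α ∩ M`
  have hαHN := (alpha_core_hall hG hU hN).1
  have hLN : alphaCore N ≤ N := piCoreOf_le (alpha N) N
  have hNL : N ≤ Subgroup.normalizer ((alphaCore N : Subgroup G) : Set G) :=
    le_normalizer_piCoreOf (alpha N) N
  have hLπ : IsPiCard (alpha N) (Nat.card (alphaCore N)) := piCoreOf_isPiCard (alpha N) N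
  have hR₀L : R₀ ≤ alphaCore N := by
    apply Cfsg.Agent.Lib.H19.BG13.le_piCoreOf_of_hall hαHN hR₀N
    intro s hs hsd
    rw [hR₀c] at hsd
    rw [(Nat.prime_dvd_prime_iff_eq hs hr'p).1 hsd]
    exact hr'α
  set J : Subgroup G := alphaCore N ⊓ M with hJ
  have hR₀J : R₀ ≤ J := le_inf hR₀L hR₀M
  have hJM : J ≤ M := inf_le_right
  have hJL : J ≤ alphaCore N := inf_le_left
  -- (iv) coprime action of `TP` on `J`
  have hTPN : T ⊔ P ≤ N := sup_le hTN hPN
  have hTPM : T ⊔ P ≤ M := sup_le hTM hPM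
  have hTPJ : T ⊔ P ≤ Subgroup.normalizer (J : Set G) :=
    Cfsg.Agent.Lib.H7.le_normalizer_inf (hTPN.trans hNL) (hTPM.trans Subgroup.le_normalizer)
  have hLt : (Nat.card (alphaCore N)).Coprime t := by
    rw [Nat.coprime_comm, Nat.Prime.coprime_iff_not_dvd htp]
    exact fun hd => htα (hLπ t htp hd)
  have hLp : (Nat.card (alphaCore N)).Coprime p := by
    rw [Nat.coprime_comm, Nat.Prime.coprime_iff_not_dvd hpp]
    exact fun hd => hpαN (hLπ p hpp hd)
  have hLT : (Nat.card (alphaCore N)).Coprime (Nat.card T) := by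
    obtain ⟨k, hk⟩ := IsPGroup.iff_card.1 hTt
    rw [hk]
    exact Nat.Coprime.pow_right k hLt
  have hTPcard : Nat.card (T ⊔ P : Subgroup G) ∣ Nat.card T * p := by
    have := Cfsg.Agent.Lib.H7.card_sup_dvd_mul_of_le_normalizer hPT
    rwa [hPc] at this
  have hTPcop : (Nat.card (T ⊔ P : Subgroup G)).Coprime (Nat.card J) := by
    apply Nat.Coprime.coprime_dvd_left hTPcard
    apply Nat.Coprime.coprime_dvd_right (Subgroup.card_dvd_of_le hJL)
    exact (Nat.Coprime.mul_right hLT hLp).symm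
  have hsolvJ : Group.IsSolvable ↥J := solvable_of_le_ne_top hG hM.1 hJM
  have hactTP : Cfsg.Agent.Lib.H1.CoprimeAction (T ⊔ P) J := ⟨hTPJ, hTPcop, Or.inr hsolvJ⟩
  have hactP : Cfsg.Agent.Lib.H1.CoprimeAction P J :=
    ⟨le_sup_right.trans hTPJ,
      Nat.Coprime.coprime_dvd_left (Subgroup.card_dvd_of_le le_sup_right) hTPcop, Or.inr hsolvJ⟩
  obtain ⟨Z, hZ, hTPZ⟩ := Cfsg.Agent.Lib.H1.coprime_exists_invariant_sylow hactTP r'
  -- (v) a `P`-fixed element of `Z`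
  have hPR₀ : P ≤ Subgroup.normalizer (R₀ : Set G) :=
    (le_centralizer_comm hR₀P).trans (Subgroup.centralizer_le_normalizer _)
  obtain ⟨Z', hZ', hR₀Z', hPZ'⟩ :=
    Cfsg.Agent.Lib.H1.coprime_invariant_psubgroup_le_sylow hactP hR₀J hR₀r hPR₀
  obtain ⟨c', hc', hc'Z⟩ := Cfsg.Agent.Lib.H1.coprime_invariant_sylow_conj hactP hZ' hZ hPZ'
    (le_sup_right.trans hTPZ)
  have hZfix : Z ⊓ Subgroup.centralizer (P : Set G) ≠ ⊥ := by
    obtain ⟨⟨y, hy⟩, hy1⟩ := (Subgroup.ne_bot_iff_exists_ne_one).1 hR₀1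
    have hy1' : y ≠ 1 := fun h => hy1 (Subtype.ext h)
    intro hbot
    have hmem : c' * y * c'⁻¹ ∈ Z ⊓ Subgroup.centralizer (P : Set G) := by
      refine ⟨?_, ?_⟩
      · rw [← hc'Z]
        exact Cfsg.Agent.Lib.H1.conj_mem_conj_smul (hR₀Z' hy)
      · exact Subgroup.mul_mem _ (Subgroup.mul_mem _ hc'.2 (hR₀P hy)) (Subgroup.inv_mem _ hc'.2)
    rw [hbot, Subgroup.mem_bot] at hmem
    apply hy1'
    have : y = c'⁻¹ * (c' * y * c'⁻¹) * c' := by group
    rw [this, hmem]; group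
  -- (vi) `P` centralizes the cyclic group `Z`
  have hZJ : Z ≤ J := hZ.le
  have hZr : IsPGroup r' Z := hZ.isPGroup
  have hZc : IsCyclic ↥Z :=
    Cfsg.Agent.Lib.H7.BG14.isCyclic_of_pRankLE_one hG (hZJ.trans hJM) hZr hr'1
  have hPZcop : (Nat.card P).Coprime (Nat.card Z) :=
    Nat.Coprime.coprime_dvd_right (Subgroup.card_dvd_of_le hZJ) hactP.coprime
  have hZP : Z ≤ Subgroup.centralizer (P : Set G) :=
    le_centralizer_of_cyclic_of_fixed hZc hZr (le_sup_right.trans hTPZ) hPZcop hZfix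
  -- (vii) `T = [T, P]` centralizes `Z`
  have hcopPT : (Nat.card P).Coprime (Nat.card T) := by
    rw [hPc]
    obtain ⟨k, hk⟩ := IsPGroup.iff_card.1 hTt
    rw [hk]
    exact Nat.Coprime.pow_right k ((Nat.coprime_primes hpp htp).2 hpt)
  have hsolvT : Group.IsSolvable ↥T := solvable_of_le_ne_top hG hM.1 hTM
  have hactPT : Cfsg.Agent.Lib.H1.CoprimeAction P T := ⟨hPT, hcopPT, Or.inr hsolvT⟩
  have hTcomm : ⁅T, P⁆ = T := by
    have := Cfsg.Agent.Lib.H1.coprime_commutator_sup_centralizer hactPT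
    rwa [hregT, sup_bot_eq] at this
  have hTZ : T ≤ Subgroup.centralizer (Z : Set G) := by
    rw [← hTcomm, Subgroup.commutator_le]
    intro s hs y hy
    have hsZ : s ∈ Subgroup.normalizer (Z : Set G) := hTPZ (Subgroup.mem_sup_left hs)
    have hyZ : y ∈ Subgroup.centralizer (Z : Set G) := le_centralizer_comm hZP hy
    rw [Subgroup.mem_centralizer_iff]
    intro z hz
    -- `s y s⁻¹ y⁻¹` commutes with `z`
    have hz' : s⁻¹ * z * s ∈ Z := by
      have := (Subgroup.mem_normalizer_iff.1 (Subgroup.inv_mem _ hsZ) z).1 hz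
      rwa [inv_inv] at this
    have e1 : y * z = z * y := (Subgroup.mem_centralizer_iff.1 hyZ z hz).symm
    have e2 : y * (s⁻¹ * z * s) = (s⁻¹ * z * s) * y :=
      (Subgroup.mem_centralizer_iff.1 hyZ _ hz').symm
    have e1' : y⁻¹ * z = z * y⁻¹ := by
      have : y⁻¹ * (y * z) * y⁻¹ = y⁻¹ * (z * y) * y⁻¹ := by rw [e1]
      calc y⁻¹ * z = y⁻¹ * (z * y) * y⁻¹ := by group
        _ = y⁻¹ * (y * z) * y⁻¹ := by rw [e1]
        _ = z * y⁻¹ := by group
    calc z * ⁅s, y⁆ = z * (s * y * s⁻¹ * y⁻¹) := rfl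
      _ = s * (s⁻¹ * z * s) * y * s⁻¹ * y⁻¹ := by group
      _ = s * (y * (s⁻¹ * z * s)) * s⁻¹ * y⁻¹ := by rw [e2]; group
      _ = s * y * s⁻¹ * (z * y⁻¹) := by group
      _ = s * y * s⁻¹ * (y⁻¹ * z) := by rw [e1']
      _ = ⁅s, y⁆ * z := by rw [commutatorElement_def]; group
  have hZbot : Z ≤ alphaCore N ⊓ Subgroup.centralizer ((T ⊔ P : Subgroup G) : Set G) := by
    refine le_inf (hZJ.trans hJL) ?_
    intro z hz
    rw [Subgroup.mem_centralizer_iff]
    intro u hu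
    have hu' : u ∈ Subgroup.centralizer (Z : Set G) :=
      (sup_le hTZ (le_centralizer_comm hZP)) hu
    exact (Subgroup.mem_centralizer_iff.1 hu' z hz).symm
  rw [hcentN] at hZbot
  apply hZfix
  rw [eq_bot_iff]
  exact inf_le_left.trans hZbot

end Cfsg.Agent.Lib.H7.BG138
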