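import Mathlib
import Cfsg.Agent.Lib.H7.BG138b
import Cfsg.Agent.Lib.H16.BGHyp
import Cfsg.Agent.S1417
import Cfsg.Agent.S1423

/-!
# BG Theorem 13.8 (Coq `tau1_mmaxI_asymmetry`), part 3 (helper7)

`M`, `N` nonconjugate maximal subgroups, `p ∈ τ₁(M) ∩ τ₁(N)`, `P ≤ M ∩ N` of order `p`, `Q`, `T`
`P`-invariant Sylow `q`-, `t`-subgroups of `M ∩ N` with `C_Q(P) = 1 = C_T(P)`, `N_G(Q) ≤ N` and
`N_G(T) ≤ M`: impossible.
-/

set_option autoImplicit false
set_option linter.style.haveILetI false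
set_option linter.unusedSectionVars false
set_option linter.unusedVariables false
open Cfsg
open Cfsg.Agent.Lib.H16.BG
open Cfsg.Agent.Lib.H7.BG7
open Cfsg.Agent.Lib.H7.BG10
open Cfsg.Agent.Lib.H20.BGT
open Cfsg.Agent.Lib.H19 (IsPiCard)
open scoped commutatorElement

namespace Cfsg.Agent.Lib.H7.BG138

universe u
variable {G : Type u} [Group G] [Finite G]

local notation:max "cj(" g ", " X ")" => Subgroup.map (MulEquiv.toMonoidHom (MulAut.conj g)) X

theorem not_conj_symm {M N : Subgroup G} (hnc : ∀ g : G, N ≠ cj(g, M)) :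
    ∀ g : G, M ≠ cj(g, N) := by
  intro g e
  apply hnc g⁻¹
  rw [e, Cfsg.Agent.Lib.H10.map_conj_map_conj, inv_mul_cancel, Cfsg.Agent.Lib.H10.map_conj_one]

/-- `N_G(X) ≤ M` for `X ≤ M` of prime order `r ∈ β(M)`. -/
theorem normalizer_le_of_beta (hG : IsMinSimpleOddOrder G) {M : Subgroup G} (hM : IsCoatom M)
    {r : ℕ} [hr : Fact r.Prime] (hrβ : r ∈ beta M) {X : Subgroup G} (hXM : X ≤ M)
    (hXc : Nat.card X = r) :
    Subgroup.centralizer (X : Set G) ≤ M ∧ Subgroup.normalizer (X : Set G) ≤ M := by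
  have hU := Cfsg.Agent.Lib.H20.BGT.uniq3 hG
  have hrσ : r ∈ sigma M := alpha_subset_sigma hG hU hM hrβ.1
  obtain ⟨P₀⟩ : Nonempty (Sylow r ↥(sigmaCore M)) := inferInstance
  obtain ⟨⟨hC, huniq⟩, -, -⟩ := Cfsg.Agent.S1423.result hG M hM r hrσ X hXM hXc P₀ (Or.inl hrβ)
  refine ⟨hC, ?_⟩
  have hXp : IsPGroup r X := IsPGroup.of_card (n := 1) (by rw [hXc, pow_one])
  have hX1 : X ≠ ⊥ := by
    intro h
    rw [h, Subgroup.card_bot] at hXc
    exact hr.out.one_lt.ne hXc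
  obtain ⟨L', hL', hle⟩ := exists_coatom_ge (normalizer_ne_top_of_isPGroup hG hXp hX1)
  have := huniq L' hL' ((Subgroup.centralizer_le_normalizer _).trans hle)
  rwa [this] at hle

/-- **Lemma C.**  For `r ∣ |C_{M_α}(P)|` and a maximal subgroup `L ≥ N_G(P)`: `L` has `r`-rank at
most one, and every subgroup `X` of order `r` of `C_G(P)` has `N_G(X) ≤ M^c` with `c ∈ C_G(P)`. -/
theorem cent_alpha_prime (hG : IsMinSimpleOddOrder G) {M L : Subgroup G} (hM : IsCoatom M)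
    (hL : IsCoatom L) {p : ℕ} [hp : Fact p.Prime] (hpσ : p ∉ sigma M) (hp1 : PRankLE p 1 ↥M)
    {P : Subgroup G} (hPM : P ≤ M) (hPc : Nat.card P = p)
    (hNP : Subgroup.normalizer (P : Set G) ≤ L) (hαβ : ∀ s ∈ alpha M, s ∈ beta M)
    (hα : alphaCore M ≠ ⊥) {r : ℕ} [hr : Fact r.Prime]
    (hrd : r ∣ Nat.card ↥(alphaCore M ⊓ Subgroup.centralizer (P : Set G))) :
    r ∈ alpha M ∧ PRankLE r 1 ↥L ∧ ∀ X : Subgroup G, X ≤ Subgroup.centralizer (P : Set G) →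
      Nat.card X = r → ∃ c ∈ Subgroup.centralizer (P : Set G),
        Subgroup.normalizer (X : Set G) ≤ cj(c, M) := by
  have hU := Cfsg.Agent.Lib.H20.BGT.uniq3 hG
  have h13 := Cfsg.Agent.Lib.H16.BGHyp.hyp13 hG
  have hpp : p.Prime := hp.out
  have hrp : r.Prime := hr.out
  have hKM : alphaCore M ≤ M := piCoreOf_le (alpha M) M
  have hKπ : IsPiCard (alpha M) (Nat.card (alphaCore M)) := piCoreOf_isPiCard (alpha M) M
  have hαH := (alpha_core_hall hG hU hM).1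
  have hKσ : alphaCore M ≤ sigmaCore M := (alpha_core_hall hG hU hM).2.2.1
  set D : Subgroup G := alphaCore M ⊓ Subgroup.centralizer (P : Set G) with hD
  have hrα : r ∈ alpha M := hKπ r hrp (hrd.trans (Subgroup.card_dvd_of_le inf_le_left))
  have hrβ : r ∈ beta M := hαβ r hrα
  have hPp : IsPGroup p P := IsPGroup.of_card (n := 1) (by rw [hPc, pow_one])
  have hP1 : P ≠ ⊥ := by
    intro h
    rw [h, Subgroup.card_bot] at hPc
    exact hpp.one_lt.ne hPc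
  have hCL : Subgroup.centralizer (P : Set G) ≤ L :=
    (Subgroup.centralizer_le_normalizer _).trans hNP
  have hPL : P ≤ L := Subgroup.le_normalizer.trans hNP
  obtain ⟨S, hS, hPS⟩ := SylIn.exists_ge hPp hPM
  have hSc : IsCyclic ↥S := Cfsg.Agent.Lib.H7.BG14.isCyclic_of_pRankLE_one hG hS.le hS.isPGroup hp1
  obtain ⟨hncL, -⟩ := Cfsg.Agent.Lib.H19.BG13.type_of_normalizer_ge hG hM hpσ hS hSc hPp hP1 hPM
    hL hNP
  have hcent := Cfsg.Agent.Lib.H19.BG13.centralizes_of_normalizer_le hG h13 hM hpσ hS hSc hPp hP1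
    hPM hL hNP hPp hPM hPL
  have hrσL : r ∉ sigma L := fun h =>
    not_mem_alpha_of_mem_sigma hG hL hM (not_conj_symm hncL) h hrα
  have hDr : PRankLE r 1 ↥D := pRankLE_one_cent_alphaCore' hG hM hα hpσ hp1 hPM hPc r
  -- a subgroup of order `r` in `D`
  obtain ⟨⟨x₁, hx₁D⟩, hx₁o⟩ := exists_prime_orderOf_dvd_card' r hrd
  have hx₁o' : orderOf x₁ = r := by rw [← hx₁o]; exact (Subgroup.orderOf_mk _ _).symm
  set X₁ : Subgroup G := Subgroup.zpowers x₁ with hX₁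
  have hX₁c : Nat.card X₁ = r := by rw [hX₁, Nat.card_zpowers, hx₁o']
  have hX₁D : X₁ ≤ D := Subgroup.zpowers_le.2 hx₁D
  have hX₁M : X₁ ≤ M := hX₁D.trans (inf_le_left.trans hKM)
  have hX₁C : X₁ ≤ Subgroup.centralizer (P : Set G) := hX₁D.trans inf_le_right
  have hX₁r : IsPGroup r X₁ := IsPGroup.of_card (n := 1) (by rw [hX₁c, pow_one])
  obtain ⟨hCX₁, hNX₁⟩ := normalizer_le_of_beta hG hM hrβ hX₁M hX₁c
  -- (C1)
  have hC1 : PRankLE r 1 ↥L := by
    by_contra h1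
    have h2 : PRankLE r 2 ↥L := by
      by_contra h
      exact hrσL (alpha_subset_sigma hG hU hL ⟨hrp, h⟩)
    have hrτ : r ∈ tau2 L := ⟨hrp, hrσL, h2, h1⟩
    obtain ⟨Sr, hSr, hX₁Sr⟩ := SylIn.exists_ge hX₁r (hX₁C.trans hCL)
    have hr2 : r ≠ 2 := prime_ne_two' hG hX₁r (by
      intro h
      rw [h, Subgroup.card_bot] at hX₁c
      exact hrp.one_lt.ne hX₁c)
    have hSrnc : ¬ IsCyclic ↥Sr := by
      intro hc
      haveI := hc
      exact h1 (pRankLE_of_sylIn hSr (Cfsg.Agent.Lib.H7.BG13.pRankLE_one_of_isCyclic hrp))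
    obtain ⟨A, hASr, hAe, hAc⟩ := exists_elemAb_sq_of_not_cyclic hr2 hSr.isPGroup hSrnc
    obtain ⟨-, hab, -⟩ := Cfsg.Agent.S1417.result hG L hL r hrτ A ⟨hASr.trans hSr.le, hAe, hAc⟩
    obtain ⟨Sy, hSy⟩ := hSr.exists_sylow
    have hSrab : IsMulCommutative ↥(Sy : Subgroup ↥L) := (hab Sy).1
    have hSrC : Sr ≤ Subgroup.centralizer (X₁ : Set G) := by
      intro s hs
      rw [Subgroup.mem_centralizer_iff]
      intro y hy
      have hyS : y ∈ Sr := hX₁Sr hy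
      rw [← hSy] at hs hyS
      obtain ⟨s', hs', rfl⟩ := hs
      obtain ⟨y', hy', rfl⟩ := hyS
      have := hSrab.is_comm.comm ⟨y', hy'⟩ ⟨s', hs'⟩
      have h3 : y' * s' = s' * y' := congrArg Subtype.val this
      exact congrArg Subtype.val h3
    have hSrM : Sr ≤ M := hSrC.trans hCX₁
    have hSrK : Sr ≤ alphaCore M := by
      apply Cfsg.Agent.Lib.H19.BG13.le_piCoreOf_of_hall hαH hSrM
      intro s hs hsd
      obtain ⟨k, hk⟩ := IsPGroup.iff_card.1 hSr.isPGroup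
      rw [hk] at hsd
      rw [(Nat.prime_dvd_prime_iff_eq hs hrp).1 (hs.dvd_of_dvd_pow hsd)]
      exact hrα
    have hSrD : Sr ≤ D := le_inf hSrK ((le_inf (hSrK.trans hKσ) hSr.le).trans hcent)
    exact h1 (pRankLE_of_sylIn hSr (pRankLE_of_le hSrD hDr))
  refine ⟨hrα, hC1, ?_⟩
  -- (C2)
  intro X hXC hXc
  have hXr : IsPGroup r X := IsPGroup.of_card (n := 1) (by rw [hXc, pow_one])
  obtain ⟨S₁, hS₁, hX₁S₁⟩ := SylIn.exists_ge hX₁r hX₁C
  obtain ⟨c, hc, hle⟩ := hS₁.exists_conj_le hXr hXC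
  have hS₁c : IsCyclic ↥S₁ :=
    Cfsg.Agent.Lib.H7.BG14.isCyclic_of_pRankLE_one hG (hS₁.le.trans hCL) hS₁.isPGroup hC1
  have heq : cj(c, X) = X₁ := by
    haveI := hS₁c
    have h1 : Nat.card ((cj(c, X)).subgroupOf S₁) = Nat.card (X₁.subgroupOf S₁) := by
      rw [Cfsg.Agent.Lib.H8.card_subgroupOf_of_le hle,
        Cfsg.Agent.Lib.H8.card_subgroupOf_of_le hX₁S₁, Cfsg.Agent.Lib.H10.card_map_conj, hXc, hX₁c]
    have h2 := Cfsg.Agent.Lib.H20.SOC.eq_of_card_eq_of_isCyclic _ _ h1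
    have h3 := congrArg (Subgroup.map S₁.subtype) h2
    rwa [Subgroup.map_subgroupOf_eq_of_le hle, Subgroup.map_subgroupOf_eq_of_le hX₁S₁] at h3
  refine ⟨c⁻¹, Subgroup.inv_mem _ hc, ?_⟩
  have h4 : cj(c, Subgroup.normalizer (X : Set G)) ≤ M := by
    rw [← Cfsg.Agent.Lib.H10.normalizer_map_conj, heq]; exact hNX₁
  exact (map_conj_le_iff c).1 h4

/-- A Hall `{r, r'}`-subgroup of `C` whose `r`- and `r'`-subgroups are cyclic is a `Z`-group. -/
theorem isZGroup_of_hall_pair (hG : IsMinSimpleOddOrder G) {L C F₀ : Subgroup G} {r r' : ℕ}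
    (hCL : C ≤ L) (hF₀ : IsPiHallOf {r, r'} F₀ C)
    (h1 : PRankLE r 1 ↥L) (h2 : PRankLE r' 1 ↥L) : IsZGroup ↥F₀ := by
  refine ⟨fun s hs S => ?_⟩
  haveI : Fact s.Prime := ⟨hs⟩
  have hSp : IsPGroup s ((S : Subgroup ↥F₀).map F₀.subtype) := S.2.map _
  have hSL : (S : Subgroup ↥F₀).map F₀.subtype ≤ L :=
    (Subgroup.map_subtype_le _).trans (hF₀.1.trans hCL)
  have hcyc : IsCyclic ↥((S : Subgroup ↥F₀).map F₀.subtype) := by
    by_cases hd : s ∣ Nat.card ↥F₀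
    · have hs' : s ∈ ({r, r'} : Set ℕ) := hF₀.2.1 s hs hd
      rcases hs' with rfl | hs'
      · exact Cfsg.Agent.Lib.H7.BG14.isCyclic_of_pRankLE_one hG hSL hSp h1
      · rw [Set.mem_singleton_iff] at hs'
        subst hs'
        exact Cfsg.Agent.Lib.H7.BG14.isCyclic_of_pRankLE_one hG hSL hSp h2
    · have hbot : (S : Subgroup ↥F₀).map F₀.subtype = ⊥ := by
        rw [← Subgroup.card_eq_one]
        obtain ⟨k, hk⟩ := IsPGroup.iff_card.1 hSp
        have hdv : Nat.card ↥((S : Subgroup ↥F₀).map F₀.subtype) ∣ Nat.card ↥F₀ :=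
          Subgroup.card_dvd_of_le (Subgroup.map_subtype_le _)
        rw [hk] at hdv ⊢
        rcases Nat.eq_zero_or_pos k with rfl | hkpos
        · rfl
        · exact absurd ((dvd_pow_self s hkpos.ne').trans hdv) hd
      rw [hbot]
      exact isCyclic_of_subsingleton
  exact isCyclic_of_injective
    ((S : Subgroup ↥F₀).equivMapOfInjective F₀.subtype F₀.subtype_injective).toMonoidHom
    ((S : Subgroup ↥F₀).equivMapOfInjective F₀.subtype F₀.subtype_injective).injective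

/-- **BG Theorem 13.8** (Coq `tau1_mmaxI_asymmetry`). -/
theorem tau1_asymmetry (hG : IsMinSimpleOddOrder G) {M N : Subgroup G} (hM : IsCoatom M)
    (hN : IsCoatom N) (hnc : ∀ g : G, N ≠ cj(g, M))
    {p q t : ℕ} [hp : Fact p.Prime] [hq : Fact q.Prime] [ht : Fact t.Prime]
    (hpM : p ∈ tau1 M) (hpN : p ∈ tau1 N) {P Q T : Subgroup G} (hPM : P ≤ M) (hPN : P ≤ N)
    (hPc : Nat.card P = p) (hQ : SylIn q Q (M ⊓ N)) (hT : SylIn t T (M ⊓ N))
    (hpq : p ≠ q) (hpt : p ≠ t)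
    (hPQ : P ≤ Subgroup.normalizer (Q : Set G)) (hPT : P ≤ Subgroup.normalizer (T : Set G))
    (hregQ : Q ⊓ Subgroup.centralizer (P : Set G) = ⊥)
    (hregT : T ⊓ Subgroup.centralizer (P : Set G) = ⊥)
    (hNQ : Subgroup.normalizer (Q : Set G) ≤ N) (hNT : Subgroup.normalizer (T : Set G) ≤ M) :
    False := by
  have hU := Cfsg.Agent.Lib.H20.BGT.uniq3 hG
  have hpp : p.Prime := hp.out
  have hnc' : ∀ g : G, M ≠ cj(g, N) := not_conj_symm hnc
  have hpσM : p ∉ sigma M := hpM.2.1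
  have hpσN : p ∉ sigma N := hpN.2.1
  have hp1M : PRankLE p 1 ↥M := hpM.2.2.2.2
  have hp1N : PRankLE p 1 ↥N := hpN.2.2.2.2
  have hQM : SylIn q Q M := hQ.of_normalizer_le inf_le_left
    (le_inf inf_le_left (inf_le_right.trans hNQ))
  have hTN : SylIn t T N := hT.of_normalizer_le inf_le_right
    (le_inf (inf_le_right.trans hNT) inf_le_left)
  have hQ1 : Q ≠ ⊥ := by
    rintro rfl
    apply hN.1
    rw [eq_top_iff]
    refine le_trans ?_ hNQ
    intro g _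
    rw [Subgroup.mem_normalizer_iff]
    intro h
    simp [Subgroup.mem_bot]
  have hT1 : T ≠ ⊥ := by
    rintro rfl
    apply hM.1
    rw [eq_top_iff]
    refine le_trans ?_ hNT
    intro g _
    rw [Subgroup.mem_normalizer_iff]
    intro h
    simp [Subgroup.mem_bot]
  have hNM : N ≠ M := fun e => hnc 1 (by rw [Cfsg.Agent.Lib.H10.map_conj_one]; exact e)
  have hnuM : ¬ (Subgroup.normalizer (Q : Set G) ≤ M ∧
      ∀ L : Subgroup G, IsCoatom L → Subgroup.normalizer (Q : Set G) ≤ L → L = M) :=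
    fun h => hNM (h.2 N hN hNQ)
  have hnuN : ¬ (Subgroup.normalizer (T : Set G) ≤ N ∧
      ∀ L : Subgroup G, IsCoatom L → Subgroup.normalizer (T : Set G) ≤ L → L = N) :=
    fun h => hNM (h.2 M hM hNT).symm
  obtain ⟨hαβM, hαM, hqαM, hDM, hcentM, -, hsupM⟩ :=
    Cfsg.Agent.Lib.H7.BG1217.lemma_12_17b hG hM hpq hpσM hp1M hPM hPc hQM hQ1 hPQ hregQ hnuM
  obtain ⟨hαβN, hαN, htαN, hDN, hcentN, -, hsupN⟩ :=
    Cfsg.Agent.Lib.H7.BG1217.lemma_12_17b hG hN hpt hpσN hp1N hPN hPc hTN hT1 hPT hregT hnuN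
  -- a maximal subgroup `L ≥ N_G(P)`
  have hPp : IsPGroup p P := IsPGroup.of_card (n := 1) (by rw [hPc, pow_one])
  have hP1 : P ≠ ⊥ := by
    intro h
    rw [h, Subgroup.card_bot] at hPc
    exact hpp.one_lt.ne hPc
  obtain ⟨L, hL, hNPL⟩ := exists_coatom_ge (normalizer_ne_top_of_isPGroup hG hPp hP1)
  have hCL : Subgroup.centralizer (P : Set G) ≤ L :=
    (Subgroup.centralizer_le_normalizer _).trans hNPL
  -- primes `r`, `r'`
  have hc1 : Nat.card ↥(alphaCore M ⊓ Subgroup.centralizer (P : Set G)) ≠ 1 :=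
    fun h => hDM (Subgroup.card_eq_one.1 h)
  have hc2 : Nat.card ↥(alphaCore N ⊓ Subgroup.centralizer (P : Set G)) ≠ 1 :=
    fun h => hDN (Subgroup.card_eq_one.1 h)
  obtain ⟨r, hr, hrd⟩ := Nat.exists_prime_and_dvd hc1
  obtain ⟨r', hr', hr'd⟩ := Nat.exists_prime_and_dvd hc2
  haveI : Fact r.Prime := ⟨hr⟩
  haveI : Fact r'.Prime := ⟨hr'⟩
  obtain ⟨hrα, hrL, hrX⟩ := cent_alpha_prime hG hM hL hpσM hp1M hPM hPc hNPL hαβM hαM hrd
  obtain ⟨hr'α, hr'L, hr'X⟩ := cent_alpha_prime hG hN hL hpσN hp1N hPN hPc hNPL hαβN hαN hr'd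
  -- the Hall subgroup `F₀`
  set C : Subgroup G := Subgroup.centralizer (P : Set G) with hC
  haveI hsolvC : Group.IsSolvable ↥C := solvable_of_le_ne_top hG hL.1 hCL
  obtain ⟨F₀, hF₀⟩ := Cfsg.Agent.Lib.H19.exists_isPiHallOf C ({r, r'} : Set ℕ)
  have hZ : IsZGroup ↥F₀ := isZGroup_of_hall_pair hG hCL hF₀ hrL hr'L
  have hdvd : ∀ s : ℕ, s.Prime → s ∈ ({r, r'} : Set ℕ) → s ∣ Nat.card ↥C → s ∣ Nat.card ↥F₀ := by
    intro s hs hsπ hsd
    rw [← SylIn.card_mul_relIndex hF₀.1, Nat.Prime.dvd_mul hs] at hsd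
    rcases hsd with h | h
    · exact h
    · exact absurd h (hF₀.2.2 s hs hsπ)
  have hrF : r ∣ Nat.card ↥F₀ := hdvd r hr (Set.mem_insert _ _)
    (hrd.trans (Subgroup.card_dvd_of_le inf_le_right))
  have hr'F : r' ∣ Nat.card ↥F₀ := hdvd r' hr' (Set.mem_insert_of_mem _ rfl)
    (hr'd.trans (Subgroup.card_dvd_of_le inf_le_right))
  have hF₀1 : F₀ ≠ ⊥ := by
    intro h
    rw [h, Subgroup.card_bot, Nat.dvd_one] at hrF
    exact hr.one_lt.ne' hrF
  obtain ⟨X, hXF, hFX, hXc⟩ := exists_normal_prime_sub hF₀1 hZ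
  have hXπ : Nat.card X ∈ ({r, r'} : Set ℕ) :=
    hF₀.2.1 _ hXc (Subgroup.card_dvd_of_le hXF)
  have hXC : X ≤ C := hXF.trans hF₀.1
  -- elements of order `r`, `r'` in `F₀`
  obtain ⟨⟨y, hyF⟩, hyo⟩ := exists_prime_orderOf_dvd_card' r hrF
  have hyo' : orderOf y = r := by rw [← hyo]; exact (Subgroup.orderOf_mk _ _).symm
  obtain ⟨⟨y', hy'F⟩, hy'o⟩ := exists_prime_orderOf_dvd_card' r' hr'F
  have hy'o' : orderOf y' = r' := by rw [← hy'o]; exact (Subgroup.orderOf_mk _ _).symm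
  rcases hXπ with hXr | hXr
  · -- `X` of order `r`: `F₀ ≤ M^c`
    obtain ⟨c, hc, hle⟩ := hrX X hXC hXr
    set R₁ : Subgroup G := cj(c⁻¹, Subgroup.zpowers y') with hR₁
    have hR₁c : Nat.card R₁ = r' := by
      rw [hR₁, Cfsg.Agent.Lib.H10.card_map_conj, Nat.card_zpowers, hy'o']
    have hR₁M : R₁ ≤ M := by
      rw [hR₁, map_conj_le_iff, inv_inv]
      exact (Subgroup.zpowers_le.2 hy'F).trans (hFX.trans hle)
    have hR₁P : R₁ ≤ Subgroup.centralizer (P : Set G) := by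
      rintro _ ⟨z, hz, rfl⟩
      have hzC : z ∈ C := hF₀.1 ((Subgroup.zpowers_le.2 hy'F) hz)
      exact Subgroup.mul_mem _ (Subgroup.mul_mem _ (Subgroup.inv_mem _ hc) hzC)
        (Subgroup.inv_mem _ (Subgroup.inv_mem _ hc))
    exact no_alpha_prime_in_cent hG hM hN hnc hpσM hpσN hPM hPN hPc hPQ hNQ hsupM
      (hT.le.trans inf_le_left) (hT.le.trans inf_le_right) hT.isPGroup hpt hPT hregT htαN hαβN
      hcentN hr'α hR₁M hR₁P hR₁c
  · rw [Set.mem_singleton_iff] at hXr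
    obtain ⟨c, hc, hle⟩ := hr'X X hXC hXr
    set R₁ : Subgroup G := cj(c⁻¹, Subgroup.zpowers y) with hR₁
    have hR₁c : Nat.card R₁ = r := by
      rw [hR₁, Cfsg.Agent.Lib.H10.card_map_conj, Nat.card_zpowers, hyo']
    have hR₁N : R₁ ≤ N := by
      rw [hR₁, map_conj_le_iff, inv_inv]
      exact (Subgroup.zpowers_le.2 hyF).trans (hFX.trans hle)
    have hR₁P : R₁ ≤ Subgroup.centralizer (P : Set G) := by
      rintro _ ⟨z, hz, rfl⟩
      have hzC : z ∈ C := hF₀.1 ((Subgroup.zpowers_le.2 hyF) hz)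
      exact Subgroup.mul_mem _ (Subgroup.mul_mem _ (Subgroup.inv_mem _ hc) hzC)
        (Subgroup.inv_mem _ (Subgroup.inv_mem _ hc))
    exact no_alpha_prime_in_cent hG hN hM hnc' hpσN hpσM hPN hPM hPc hPT hNT hsupN
      (hQ.le.trans inf_le_right) (hQ.le.trans inf_le_left) hQ.isPGroup hpq hPQ hregQ hqαM hαβM
      hcentM hrα hR₁N hR₁P hR₁c


end Cfsg.Agent.Lib.H7.BG138
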