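import Mathlib
import Cfsg.Agent.Lib.H7.BG138c
import Cfsg.Agent.Lib.H19.BG13k

/-!
# BG Theorem 13.9 (Coq `sigma_partition`) modulo S1428 (helper7)

If `σ(M) ∩ σ(N) ≠ ∅` for maximal subgroups `M`, `N`, then `N` is conjugate to `M`.
Proof: a common Sylow `q`-subgroup `Q` of `G` with `N_G(Q) ≤ M ∩ N`; `Q = [Q, W]` (S1411), only
`τ₁(M) ∩ τ₁(N)`-elements of `N_G(Q)` act nontrivially on `Q` (BG 13.1(a)), prime action of `E₁`
(S1427, S1428) gives `P` of prime order with `C_Q(P) = 1`, and BG 13.8 finishes.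
-/

set_option autoImplicit false
set_option linter.style.haveILetI false
set_option linter.unusedSectionVars false
set_option linter.unusedVariables false
open Cfsg
open Cfsg.Agent.Lib.H16.BG
open Cfsg.Agent.Lib.H7.BG7
open Cfsg.Agent.Lib.H7.BG10
open Cfsg.Agent.Lib.H19 (IsPiCard)
open Cfsg.Agent.Lib.H1 (CoprimeAction)

namespace Cfsg.Agent.Lib.H7.BG139

universe u
variable {G : Type u} [Group G] [Finite G]

local notation:max "cj(" g ", " X ")" => Subgroup.map (MulEquiv.toMonoidHom (MulAut.conj g)) X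

/-- The frozen statement S1428 (BG 13.4) as a hypothesis. -/
def Hyp1428 (G : Type u) [Group G] : Prop :=
  ∀ (M : Subgroup G), IsCoatom M → ∀ (E : Subgroup G), IsComplIn E (sigmaCore M) M →
    ∀ (p : ℕ), p ∈ tau1 M → ∀ (P : Subgroup G), P ≤ E → Nat.card P = p →
    ∀ (R : Subgroup G), R ≤ E ⊓ Subgroup.centralizer (P : Set G) → (Nat.card R).Prime →
      sigmaCore M ⊓ Subgroup.centralizer (P : Set G) ≤
        sigmaCore M ⊓ Subgroup.centralizer (R : Set G)

theorem sigma_partition_aux (hG : IsMinSimpleOddOrder G) (h28 : Hyp1428 G) {M N : Subgroup G}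
    (hM : IsCoatom M) (hN : IsCoatom N) (hnc : ∀ g : G, N ≠ cj(g, M)) {q : ℕ}
    [hq : Fact q.Prime] (hqM : q ∈ sigma M) (hqN : q ∈ sigma N) {Q : Subgroup G}
    (hQ : SylIn q Q ⊤) (hNM : Subgroup.normalizer (Q : Set G) ≤ M)
    (hNN : Subgroup.normalizer (Q : Set G) ≤ N) : False := by
  have h13 := Cfsg.Agent.Lib.H16.BGHyp.hyp13 hG
  have hU := Cfsg.Agent.Lib.H20.BGT.uniq3 hG
  have hqq := hq.out
  set N₁ : Subgroup G := Subgroup.normalizer (Q : Set G) with hN₁def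
  have hQN₁ : Q ≤ N₁ := Subgroup.le_normalizer
  have hQM : Q ≤ M := hQN₁.trans hNM
  have hQN : Q ≤ N := hQN₁.trans hNN
  have hQp : IsPGroup q Q := hQ.isPGroup
  have hQ1 : Q ≠ ⊥ := by
    apply hQ.ne_bot
    rw [Subgroup.card_top]
    exact hqM.2.1.trans (Subgroup.card_subgroup_dvd_card M)
  have hMN : M ≠ N := by
    intro e
    apply hnc 1
    rw [Cfsg.Agent.Lib.H10.map_conj_one]
    exact e.symm
  -- `Q` is abelian
  have hQc : IsMulCommutative ↥Q := by
    by_contra hna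
    have h1 := Cfsg.Agent.S1422.result hG q Q hQp hna
    rw [inUniqueMaximal_iff] at h1
    obtain ⟨L, -, -, huniq⟩ := h1
    exact hMN ((huniq M hM hQM).trans (huniq N hN hQN).symm)
  have hQcomm : ∀ a ∈ Q, ∀ b ∈ Q, a * b = b * a := by
    intro a ha b hb
    have := hQc.is_comm.comm ⟨a, ha⟩ ⟨b, hb⟩
    exact congrArg Subtype.val this
  have hQCQ : Q ≤ Subgroup.centralizer (Q : Set G) := by
    intro a ha
    rw [Subgroup.mem_centralizer_iff]
    intro b hb
    exact hQcomm b hb a ha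
  haveI : Group.IsSolvable ↥N₁ := solvable_of_le_ne_top hG hM.1 hNM
  have hCN : Subgroup.centralizer (Q : Set G) ≤ N₁ := Subgroup.centralizer_le_normalizer _
  -- the Hall `τ₁(M)`-subgroup `V` of `N₁`
  obtain ⟨V, hV⟩ := Cfsg.Agent.Lib.H19.exists_isPiHallOf N₁ (tau1 M)
  have hVN : V ≤ N₁ := hV.1
  have hVM : V ≤ M := hVN.trans hNM
  have hVH : V ≤ N := hVN.trans hNN
  have hVτ : ∀ s : ℕ, s.Prime → s ∣ Nat.card V → s ∈ tau1 M := hV.2.1
  have hVcomm : ∀ a ∈ V, ∀ b ∈ V, a * b = b * a :=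
    fun a ha b hb => Cfsg.Agent.Lib.H19.BG13.mul_comm_of_tau1 hVM hVτ ha hb
  -- `N₁ = C(Q) V`
  have hsup : Subgroup.centralizer (Q : Set G) ⊔ V = N₁ := by
    apply eq_of_forall_sylIn_le (sup_le hCN hVN)
    intro s hs
    haveI := hs
    by_cases hsτ : s ∈ tau1 M
    · obtain ⟨Y, hY⟩ := SylIn.exists_sylIn s V
      exact ⟨Y, Cfsg.Agent.Lib.H20.BGV.sylIn_of_hall hV hsτ hY, hY.le.trans le_sup_right⟩
    · obtain ⟨Y, hY⟩ := SylIn.exists_sylIn s N₁
      refine ⟨Y, hY, le_trans ?_ le_sup_left⟩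
      by_cases hsq : s = q
      · subst hsq
        have h1 : IsPGroup s (Q ⊔ Y : Subgroup G) :=
          IsPGroup.to_sup_of_normal_left' hQp hY.isPGroup hY.le
        have h2 : Q = Q ⊔ Y := hQ.eq_of_le le_sup_left le_top h1
        have h3 : Y ≤ Q := by rw [h2]; exact le_sup_right
        exact h3.trans hQCQ
      · have := Cfsg.Agent.Lib.H19.BG13.centralizes_of_not_tau1_tau1 hG h13 hM hN hnc hqM hqN hQp
          hQM hQN hsq hY.isPGroup (hY.le.trans hNM) (hY.le.trans hNN) hY.le (Or.inl hsτ)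
        exact le_centralizer_comm this
  -- `C_Q(V) = 1`
  have hQV : Q ⊓ Subgroup.centralizer (V : Set G) = ⊥ := by
    obtain ⟨Pq, hPq⟩ := hQ.exists_sylow_top
    obtain ⟨W, hW, hWcop⟩ :=
      Cfsg.Agent.Lib.H19.BG13.exists_isComplIn_of_sylIn (hQ.mono hQN₁ le_top) le_rfl
    have hW' : IsComplIn (Pq : Subgroup G) W
        (Subgroup.normalizer ((Pq : Subgroup G) : Set G)) := by
      rw [hPq]; exact hW
    have h1 := (Cfsg.Agent.S1411.result hG q Pq W hW').1
    rw [hPq] at h1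
    have hact : CoprimeAction W Q := ⟨hW.2.1, hWcop, Or.inr (by
      haveI : Group.IsSolvable ↥M := solvable_of_coatom hG hM
      exact solvable_of_le_ne_top hG hM.1 hQM)⟩
    have h2 := Cfsg.Agent.Lib.H19.BG13.commutator_inf_centralizer_eq_bot hact hQc
    rw [← h1] at h2
    rw [eq_bot_iff, ← h2]
    rintro x ⟨hxQ, hxV⟩
    refine ⟨hxQ, ?_⟩
    have hle : Subgroup.centralizer (Q : Set G) ⊔ V ≤ Subgroup.centralizer ({x} : Set G) := by
      apply sup_le
      · intro c hc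
        rw [Subgroup.mem_centralizer_iff]
        intro y hy
        rw [Set.mem_singleton_iff] at hy
        rw [hy]
        exact ((Subgroup.mem_centralizer_iff.1 hc) x hxQ)
      · intro v hv
        rw [Subgroup.mem_centralizer_iff]
        intro y hy
        rw [Set.mem_singleton_iff] at hy
        rw [hy]
        exact ((Subgroup.mem_centralizer_iff.1 hxV) v hv).symm
    rw [hsup] at hle
    refine Subgroup.mem_centralizer_iff.2 ?_
    intro w hw
    have := (Subgroup.mem_centralizer_iff.1 (hle (hW.2.1 hw))) x (Set.mem_singleton x)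
    exact this.symm
  -- `V ≠ 1`
  have hV1 : V ≠ ⊥ := by
    intro e
    apply hQ1
    rw [eq_bot_iff, ← hQV, e]
    intro x hx
    refine ⟨hx, ?_⟩
    refine Subgroup.mem_centralizer_iff.2 ?_
    intro y hy
    rw [SetLike.mem_coe, Subgroup.mem_bot] at hy
    rw [hy, one_mul, mul_one]
  -- a subgroup `P ≤ V` of prime order `p`
  have hVc1 : Nat.card V ≠ 1 := fun h => hV1 (Subgroup.card_eq_one.1 h)
  obtain ⟨p, hpp, hpd⟩ := Nat.exists_prime_and_dvd hVc1
  haveI hp : Fact p.Prime := ⟨hpp⟩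
  obtain ⟨⟨x, hxV⟩, hxo⟩ := exists_prime_orderOf_dvd_card' p hpd
  have hxo' : orderOf x = p := by rw [← hxo]; exact (Subgroup.orderOf_mk _ _).symm
  set P : Subgroup G := Subgroup.zpowers x with hPdef
  have hPc : Nat.card P = p := by rw [hPdef, Nat.card_zpowers, hxo']
  have hPV : P ≤ V := Subgroup.zpowers_le.2 hxV
  have hpM : p ∈ tau1 M := hVτ p hpp hpd
  have hpσM : p ∉ sigma M := hpM.2.1
  have hpq : p ≠ q := fun e => hpσM (e ▸ hqM)
  have hPp : IsPGroup p P := IsPGroup.of_card (n := 1) (by rw [hPc, pow_one])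
  have hPM : P ≤ M := hPV.trans hVM
  have hPN : P ≤ N := hPV.trans hVH
  have hPQ : P ≤ Subgroup.normalizer (Q : Set G) := hPV.trans hVN
  -- a complement `E ≥ V`
  obtain ⟨E, hE, hVE⟩ := Cfsg.Agent.Lib.H19.BG13.exists_compl_ge hG hM hVM
    (fun s hs hsd => (hVτ s hs hsd).2.1)
  have hQσ : Q ≤ sigmaCore M := by
    apply Cfsg.Agent.Lib.H20.BGT.le_sigmaCore_of_isPiCard hG hM hQM
    intro s hs hsd
    obtain ⟨k, hk⟩ := IsPGroup.iff_card.1 hQp
    rw [hk] at hsd
    rw [(Nat.prime_dvd_prime_iff_eq hs hqq).1 (hs.dvd_of_dvd_pow hsd)]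
    exact hqM
  -- `C_Q(P) = 1`
  have hreg : Q ⊓ Subgroup.centralizer (P : Set G) = ⊥ := by
    rw [eq_bot_iff, ← hQV]
    rintro y ⟨hyQ, hyP⟩
    refine ⟨hyQ, ?_⟩
    have hyσ : y ∈ sigmaCore M := hQσ hyQ
    -- `V ∩ C(y) = V`
    have hVy : V ⊓ Subgroup.centralizer ({y} : Set G) = V := by
      apply eq_of_forall_sylIn_le inf_le_left
      intro s hs
      haveI := hs
      obtain ⟨Y, hY⟩ := SylIn.exists_sylIn s V
      refine ⟨Y, hY, le_inf hY.le ?_⟩
      by_cases hY1 : Y = ⊥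
      · rw [hY1]; exact bot_le
      have hsd : s ∣ Nat.card Y := by
        obtain ⟨k, hk⟩ := IsPGroup.iff_card.1 hY.isPGroup
        have hk0 : k ≠ 0 := by
          rintro rfl
          rw [pow_zero] at hk
          exact hY1 (Subgroup.card_eq_one.1 hk)
        rw [hk]
        exact dvd_pow_self s hk0
      obtain ⟨⟨x', hx'Y⟩, hx'o⟩ := exists_prime_orderOf_dvd_card' s hsd
      have hx'o' : orderOf x' = s := by rw [← hx'o]; exact (Subgroup.orderOf_mk _ _).symm
      have hx'1 : x' ≠ 1 := by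
        intro h
        rw [h, orderOf_one] at hx'o'
        exact hs.out.one_lt.ne hx'o'
      have hsτ : s ∈ tau1 M := hVτ s hs.out (hsd.trans (Subgroup.card_dvd_of_le hY.le))
      set R : Subgroup G := Subgroup.zpowers x' with hRdef
      have hRc : Nat.card R = s := by rw [hRdef, Nat.card_zpowers, hx'o']
      have hRV : R ≤ V := Subgroup.zpowers_le.2 (hY.le hx'Y)
      have hRP : R ≤ Subgroup.centralizer (P : Set G) :=
        Cfsg.Agent.Lib.H19.BG13.le_centralizer_of_tau1 hVM hVτ hRV hPV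
      have h1 := h28 M hM E hE p hpM P (hPV.trans hVE) hPc R (le_inf (hRV.trans hVE) hRP)
        (by rw [hRc]; exact hs.out)
      have hyR : y ∈ sigmaCore M ⊓ Subgroup.centralizer (R : Set G) := h1 ⟨hyσ, hyP⟩
      have hyx' : y ∈ sigmaCore M ⊓ Subgroup.centralizer ({x'} : Set G) := by
        refine ⟨hyR.1, ?_⟩
        rw [Cfsg.Agent.Lib.H7.centralizer_singleton_eq_centralizer_zpowers]
        exact hyR.2
      have h2 := Cfsg.Agent.Lib.H19.BG13.sigmaCore_inf_centralizer_le_of_rank_one hG h13 hM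
        hsτ.2.1 hsτ.2.2.2.2 hY.isPGroup (hY.le.trans hVM) hx'Y hx'1 hyx'
      intro z hz
      rw [Subgroup.mem_centralizer_iff]
      intro w hw
      rw [Set.mem_singleton_iff] at hw
      rw [hw]
      exact (Subgroup.mem_centralizer_iff.1 h2 z hz).symm
    refine Subgroup.mem_centralizer_iff.2 ?_
    intro v hv
    have hv' : v ∈ V ⊓ Subgroup.centralizer ({y} : Set G) := by rw [hVy]; exact hv
    exact ((Subgroup.mem_centralizer_iff.1 hv'.2) y (Set.mem_singleton y)).symm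
  -- `p ∈ τ₁(N)`
  have hpN : p ∈ tau1 N := by
    by_contra hpN
    have := Cfsg.Agent.Lib.H19.BG13.centralizes_of_not_tau1_tau1 hG h13 hM hN hnc hqM hqN hQp
      hQM hQN hpq hPp hPM hPN hPQ (Or.inr hpN)
    apply hQ1
    rw [eq_bot_iff, ← hreg]
    exact le_inf le_rfl this
  have hQI : SylIn q Q (M ⊓ N) := hQ.mono (le_inf hQM hQN) le_top
  exact Cfsg.Agent.Lib.H7.BG138.tau1_asymmetry hG hM hN hnc hpM hpN hPM hPN hPc hQI hQI hpq hpq
    hPQ hPQ hreg hreg hNN hNM

/-- **BG Theorem 13.9** modulo S1428. -/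
theorem sigma_partition (hG : IsMinSimpleOddOrder G) (h28 : Hyp1428 G) {M N : Subgroup G}
    (hM : IsCoatom M) (hN : IsCoatom N) (hne : (sigma M ∩ sigma N).Nonempty) :
    ∃ g : G, N = cj(g, M) := by
  by_contra hnc
  rw [not_exists] at hnc
  obtain ⟨q, hqM, hqN⟩ := hne
  haveI hq : Fact q.Prime := ⟨hqM.1⟩
  obtain ⟨Q₀, hQ₀⟩ := SylIn.exists_sylIn q M
  obtain ⟨Q₁, hQ₁⟩ := SylIn.exists_sylIn q N
  obtain ⟨hN₀, hQ₀top⟩ := Cfsg.Agent.Lib.H20.BGT.normalizer_le_of_sylIn_sigma hqM hQ₀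
  obtain ⟨hN₁, hQ₁top⟩ := Cfsg.Agent.Lib.H20.BGT.normalizer_le_of_sylIn_sigma hqN hQ₁
  obtain ⟨g, -, hle⟩ := hQ₁top.exists_conj_le hQ₀top.isPGroup le_top
  have heq : cj(g, Q₀) = Q₁ := by
    apply Subgroup.eq_of_le_of_card_ge hle
    rw [Cfsg.Agent.Lib.H10.card_map_conj, hQ₀top.card_eq, hQ₁top.card_eq]
  have hM' : IsCoatom cj(g, M) := isCoatom_map_conj hM g
  have hqM' : q ∈ sigma cj(g, M) := Cfsg.Agent.Lib.H19.BG13.mem_sigma_map_conj hG hqM g
  have hnc' : ∀ g' : G, N ≠ cj(g', cj(g, M)) := by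
    intro g' e
    rw [Cfsg.Agent.Lib.H10.map_conj_map_conj] at e
    exact hnc (g' * g) e
  have hNM' : Subgroup.normalizer (Q₁ : Set G) ≤ cj(g, M) := by
    rw [← heq, Cfsg.Agent.Lib.H10.normalizer_map_conj]
    exact Subgroup.map_mono hN₀
  exact sigma_partition_aux hG h28 hM' hN hnc' hqM' hqN hQ₁top hNM' hN₁

/-- every prime divisor of `|G|` lies in `σ(M)` for some maximal subgroup `M`. -/
theorem exists_mem_sigma (hG : IsMinSimpleOddOrder G) {p : ℕ} (hp : p.Prime)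
    (hd : p ∣ Nat.card G) : ∃ M : Subgroup G, IsCoatom M ∧ p ∈ sigma M := by
  haveI : Fact p.Prime := ⟨hp⟩
  obtain ⟨P, hP⟩ := SylIn.exists_sylIn p (⊤ : Subgroup G)
  have hP1 : P ≠ ⊥ := hP.ne_bot (by rw [Subgroup.card_top]; exact hd)
  obtain ⟨M, hM, hNM⟩ := exists_coatom_ge (normalizer_ne_top_of_isPGroup hG hP.isPGroup hP1)
  refine ⟨M, hM, ?_⟩
  exact Cfsg.Agent.Lib.H19.BG13.mem_sigma_of_sylIn
    (hP.mono (Subgroup.le_normalizer.trans hNM) le_top) hP1 hNM


end Cfsg.Agent.Lib.H7.BG139
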