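import Mathlib
import Cfsg.Agent.Lib.H7.BG13a
import Cfsg.Agent.Lib.H7.TypeP
import Cfsg.Agent.Lib.H1.Misc

/-!
# Subgroups of `M` outside `σ(M) ∪ κ(M)` centralizing elements of `M_σ` (BG 14.1(c), S1361)
-/

set_option autoImplicit false
set_option linter.style.haveILetI false
open Cfsg
open Cfsg.Agent.Lib.H16.BG
open Cfsg.Agent.Lib.H7.BG7
open Cfsg.Agent.Lib.H7.BG10
open Cfsg.Agent.Lib.H20.BGS
open Cfsg.Agent.Lib.H20.BGT
open Cfsg.Agent.Lib.H8.BG12
open Cfsg.Agent.Lib.H19 (IsPiCard)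

namespace Cfsg.Agent.Lib.H7.BG14

universe u
variable {G : Type u} [Group G] [Finite G]

/-- An element of prime order `r ∉ σ(M) ∪ κ(M)` of `M` centralizing a non-identity element of `M_σ`
has `r ∈ τ₂(M)`. -/
theorem mem_tau2_of_centralizes (hG : IsMinSimpleOddOrder G) {M : Subgroup G} (hM : IsCoatom M)
    {r : ℕ} [hr : Fact r.Prime] (hrσ : r ∉ sigma M) (hrκ : r ∉ kappa M) {z : G} (hzM : z ∈ M)
    (hz : orderOf z = r) {y : G} (hy : y ∈ sigmaCore M) (hy1 : y ≠ 1) (hzy : z * y = y * z) :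
    r ∈ tau2 M := by
  have hU := uniq3 hG
  have hr2 : PRankLE r 2 ↥M := by
    by_contra h
    exact hrσ (alpha_subset_sigma hG hU hM ⟨hr.out, h⟩)
  by_contra hτ
  have hr1 : PRankLE r 1 ↥M := by
    by_contra h
    exact hτ ⟨hr.out, hrσ, hr2, h⟩
  have hdvd : r ∣ Nat.card ↥M := by
    rw [← hz]
    have := orderOf_dvd_natCard (⟨z, hzM⟩ : ↥M)
    rwa [Subgroup.orderOf_mk] at this
  have hrne2 : r ≠ 2 := Cfsg.Agent.Lib.H8.BG12.prime_ne_two_of_dvd hG hdvd
  apply hrκ
  refine ⟨hr.out, hdvd, hrσ, fun P => ⟨?_, ?_⟩⟩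
  · exact Cfsg.Agent.Lib.H15.isCyclic_of_pRankLE_one hrne2 hr1 P.2
  · have hzp : IsPGroup r (Subgroup.zpowers z) := by
      apply IsPGroup.of_card (n := 1)
      rw [Nat.card_zpowers, hz, pow_one]
    have hzle : Subgroup.zpowers z ≤ M := by
      rw [Subgroup.zpowers_le]; exact hzM
    obtain ⟨m, hm, hmP⟩ := (SylIn.of_sylow P).exists_conj_le hzp hzle
    have h1 : m * z * m⁻¹ ∈ (P : Subgroup ↥M).map M.subtype := by
      apply hmP
      exact ⟨z, Subgroup.mem_zpowers z, by simp [MulAut.conj_apply]⟩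
    obtain ⟨x, hxP, hx⟩ := h1
    have hz1 : z ≠ 1 := by
      rintro rfl
      rw [orderOf_one] at hz
      exact hr.out.one_lt.ne hz
    refine ⟨x, hxP, ?_, m * y * m⁻¹, ?_, ?_, ?_⟩
    · rintro rfl
      apply hz1
      have h2 : m * z * m⁻¹ = 1 := by rw [← hx]; rfl
      have h3 : z = m⁻¹ * (m * z * m⁻¹) * m := by group
      rw [h3, h2]; group
    · have hn := le_normalizer_sigmaCore M hm
      rw [Subgroup.mem_normalizer_iff] at hn
      exact (hn y).1 hy
    · intro h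
      apply hy1
      have h3 : y = m⁻¹ * (m * y * m⁻¹) * m := by group
      rw [h3, h]; group
    · have hx' : (x : G) = m * z * m⁻¹ := hx
      rw [hx']
      calc m * z * m⁻¹ * (m * y * m⁻¹) = m * (z * y) * m⁻¹ := by group
        _ = m * (y * z) * m⁻¹ := by rw [hzy]
        _ = m * y * m⁻¹ * (m * z * m⁻¹) := by group


/-- **BG Lemma 14.1(c)-type statement.** A nontrivial subgroup `X` of `M` whose order involves no prime of
`σ(M) ∪ κ(M)` and which centralizes a non-identity element of `M_σ` is a cyclic `τ₂(M)`-group, and `M` is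
the unique maximal subgroup containing `C_G(X)`. -/
theorem nonregular_structure (hG : IsMinSimpleOddOrder G) (hC : HypCent G) (h17 : Hyp1417 G)
    {M : Subgroup G} (hM : IsCoatom M) {X : Subgroup G} (hXM : X ≤ M) (hX1 : X ≠ ⊥)
    (hXπ : ∀ r : ℕ, r.Prime → r ∣ Nat.card X → r ∉ sigma M ∧ r ∉ kappa M)
    (hXc : sigmaCore M ⊓ Subgroup.centralizer (X : Set G) ≠ ⊥) :
    IsCyclic X ∧ (∀ r : ℕ, r.Prime → r ∣ Nat.card X → r ∈ tau2 M) ∧
      Subgroup.centralizer (X : Set G) ≤ M ∧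
      ∀ L : Subgroup G, IsCoatom L → Subgroup.centralizer (X : Set G) ≤ L → L = M := by
  have hU := uniq3 hG
  obtain ⟨⟨y, hy⟩, hy1'⟩ := (Subgroup.ne_bot_iff_exists_ne_one).1 hXc
  have hy1 : y ≠ 1 := fun h => hy1' (Subtype.ext h)
  have hyσ : y ∈ sigmaCore M := hy.1
  have hyX : ∀ h ∈ X, h * y = y * h := fun h hh => Subgroup.mem_centralizer_iff.1 hy.2 h hh
  have hτ : ∀ r : ℕ, r.Prime → r ∣ Nat.card X → r ∈ tau2 M := by
    intro r hr hd
    haveI : Fact r.Prime := ⟨hr⟩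
    obtain ⟨z, hz⟩ := exists_prime_orderOf_dvd_card' r hd
    have hz' : orderOf (z : G) = r := by rw [Subgroup.orderOf_coe, hz]
    exact mem_tau2_of_centralizes hG hM (hXπ r hr hd).1 (hXπ r hr hd).2 (hXM z.2) hz' hyσ hy1
      (hyX z z.2)
  obtain ⟨E, hE, hXE⟩ := Cfsg.Agent.Lib.H7.BG13.exists_compl_ge hG hM hXM
    (fun q hq hd => (hXπ q hq hd).1)
  have hXcomm : IsMulCommutative ↥X :=
    tau2_subgroup_abelian hG hU hC (hypTau2_of_hyp1417 h17) (hypNorm_of_hyps hG hU hC h17)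
      (hypNonab_of_hyps hG hU hC h17) (hypBeta_of_uniq3 hG hU) hM hE hXE hτ
  haveI : Group.IsNilpotent ↥X := Cfsg.Agent.Lib.H1.isNilpotent_of_isMulCommutative ↥X
  haveI : IsZGroup ↥X := by
    refine ⟨fun r hr P => ?_⟩
    haveI : Fact r.Prime := ⟨hr⟩
    by_contra hnc
    have hP' : IsPGroup r ((P : Subgroup ↥X).map X.subtype) := P.2.map _
    have hnc' : ¬ IsCyclic ↥((P : Subgroup ↥X).map X.subtype) := by
      intro h
      apply hnc
      exact isCyclic_of_surjective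
        ((P : Subgroup ↥X).equivMapOfInjective X.subtype X.subtype_injective).symm
        (MulEquiv.surjective _)
    have hP1 : (P : Subgroup ↥X).map X.subtype ≠ ⊥ := by
      intro h
      apply hnc'
      rw [h]
      infer_instance
    have hPX : (P : Subgroup ↥X).map X.subtype ≤ X := Subgroup.map_subtype_le _
    have hd : r ∣ Nat.card X :=
      (Cfsg.Agent.Lib.H7.BG13.dvd_card_of_isPGroup_ne_bot hP' hP1).trans
        (Subgroup.card_dvd_of_le hPX)
    have hr2 : r ≠ 2 := prime_ne_two' hG hP' hP1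
    obtain ⟨A, hAP, hAe, hAc⟩ :=
      Cfsg.Agent.Lib.H20.BGT.exists_elemAb_sq_of_not_cyclic hr2 hP' hnc'
    have hAX : A ≤ X := hAP.trans hPX
    obtain ⟨-, -, -, hd4, -, -⟩ := h17 M hM r (hτ r hr hd) A ⟨hAX.trans hXM, hAe, hAc⟩
    apply hXc
    rw [eq_bot_iff, ← hd4]
    exact inf_le_inf_left _ (Subgroup.centralizer_le (by exact_mod_cast hAX))
  have hXcyc : IsCyclic ↥X := inferInstance
  refine ⟨hXcyc, hτ, ?_⟩
  obtain ⟨x, hx⟩ := hXcyc.exists_generator
  have hXz : X = Subgroup.zpowers (x : G) := by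
    apply le_antisymm
    · intro a ha
      obtain ⟨k, hk⟩ := hx ⟨a, ha⟩
      exact ⟨k, by simpa using congrArg Subtype.val hk⟩
    · rw [Subgroup.zpowers_le]; exact x.2
  have hx1 : (x : G) ≠ 1 := by
    intro h
    apply hX1
    rw [hXz, h, Subgroup.zpowers_one_eq_bot]
  have hxτ : ∀ p : ℕ, p.Prime → p ∣ orderOf (x : G) → p ∈ tau2 M := by
    intro p hp hd
    apply hτ p hp
    rw [hXz, Nat.card_zpowers]
    exact hd
  have hxσ : (x : G) ∈ sigmaHat M := ⟨hXM x.2, y, hyσ, hy1, hyX x x.2⟩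
  have h := (cor_12_10' hG hU hC h17 M hM E hE).2.2.2 (x : G) (hXM x.2) hx1 hxτ hxσ
  rw [hXz, ← Cfsg.Agent.Lib.H7.centralizer_singleton_eq_centralizer_zpowers]
  exact h

/-- If `A` is a complement in `M` to `B` and `C ≤ B`, then `|A|` divides `|M : C|`. -/
theorem card_dvd_relIndex_of_isComplIn {A B C M : Subgroup G} (h : IsComplIn A B M) (hCB : C ≤ B) :
    Nat.card A ∣ C.relIndex M := by
  have h1 := Cfsg.Agent.Lib.H7.isComplIn_card_mul h
  have hBM : B ≤ M := h.2.1
  have h2 : B.relIndex M = Nat.card A := by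
    have h3 : Nat.card B * B.relIndex M = Nat.card M := by
      rw [← Subgroup.relIndex_bot_left B, ← Subgroup.relIndex_bot_left M]
      exact Subgroup.relIndex_mul_relIndex ⊥ B M bot_le hBM
    have hpos : 0 < Nat.card B := Nat.card_pos
    have : Nat.card B * B.relIndex M = Nat.card B * Nat.card A := by rw [h3, ← h1, mul_comm]
    exact Nat.eq_of_mul_eq_mul_left hpos this
  rw [← Subgroup.relIndex_mul_relIndex C B M hCB hBM, h2]
  exact dvd_mul_left _ _

/-- The primes dividing `|U|` in a standard factorisation `M = K U M_σ` lie outside `σ(M) ∪ κ(M)`. -/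
theorem not_mem_sigma_kappa_of_isSigmaDecomposition (hG : IsMinSimpleOddOrder G) {M K U : Subgroup G}
    (hM : IsCoatom M) (hKU : IsSigmaDecomposition M K U) {r : ℕ} (hr : r.Prime)
    (hd : r ∣ Nat.card U) : r ∉ sigma M ∧ r ∉ kappa M := by
  have hU := uniq3 hG
  constructor
  · intro hσ
    have hh := (sigma_core_hall hG hU hM).1
    exact hh.2.2 r hr hσ (hd.trans (card_dvd_relIndex_of_isComplIn hKU.compl le_sup_right))
  · intro hκ
    exact hKU.hall.2.2 r hr hκ (hd.trans (card_dvd_relIndex_of_isComplIn hKU.compl le_sup_left))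

/-- **S1361** modulo `HypCent`, `Hyp1417`. -/
theorem complement_centralizer_statement (hG : IsMinSimpleOddOrder G) (hC : HypCent G)
    (h17 : Hyp1417 G) (M : Subgroup G) (hM : IsCoatom M) (K U : Subgroup G)
    (hKU : IsSigmaDecomposition M K U) (X : Subgroup G) (hXU : X ≤ U) (hX : X ≠ ⊥)
    (hXc : sigmaCore M ⊓ Subgroup.centralizer (X : Set G) ≠ ⊥) :
    Subgroup.centralizer (X : Set G) ≤ M ∧
      ∀ L : Subgroup G, IsCoatom L → Subgroup.centralizer (X : Set G) ≤ L → L = M := by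
  have h := nonregular_structure hG hC h17 hM (hXU.trans hKU.compl.1) hX
    (fun r hr hd => not_mem_sigma_kappa_of_isSigmaDecomposition hG hM hKU hr
      (hd.trans (Subgroup.card_dvd_of_le hXU))) hXc
  exact h.2.2

end Cfsg.Agent.Lib.H7.BG14
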