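import Mathlib
import Cfsg.Agent.Lib.H7.BG138c
import Cfsg.Agent.Lib.H7.BG1217c
import Cfsg.Agent.Lib.H19.BG13k
import Cfsg.Agent.Lib.H10.BG131b4
import Cfsg.Agent.Lib.L0.TransferBasic
import Cfsg.Agent.S1415
import Cfsg.Agent.S1417
import Cfsg.Agent.S1418

/-!
# T3R' (helper7): a cyclic Hall `κ(M)`-subgroup forces `κ(M) ⊆ τ₁(M)`

For a maximal subgroup `M` of a minimal simple group of odd order with a CYCLIC Hall
`κ(M)`-subgroup `K` (as in `IsSigmaDecomposition`), every prime of `κ(M)` lies in `τ₁(M)`.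
Uses BG 12.17(b), 13.1(a), 13.1(b), 13.2, S1415, S1417, S1418, S1427-type prime action.
-/

set_option autoImplicit false
set_option linter.style.haveILetI false
set_option linter.unusedSectionVars false
set_option linter.unusedVariables false
open Cfsg
open Cfsg.Agent.Lib.H16.BG
open Cfsg.Agent.Lib.H7.BG7
open Cfsg.Agent.Lib.H7.BG10
open Cfsg.Agent.Lib.H19 (IsPiCard)
open Cfsg.Agent.Lib.H1 (CoprimeAction)

namespace Cfsg.Agent.Lib.H7.BG13t

universe u
variable {G : Type u} [Group G] [Finite G]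

local notation:max "cj(" g ", " X ")" => Subgroup.map (MulEquiv.toMonoidHom (MulAut.conj g)) X

theorem eq_bot_of_central_sylow_le_commutator {r : ℕ} [hr : Fact r.Prime] {E S : Subgroup G}
    (hS : SylIn r S E) (hc : E ≤ Subgroup.centralizer (S : Set G)) (hSE : S ≤ ⁅E, E⁆) :
    S = ⊥ := by
  obtain ⟨P, hP⟩ := hS.exists_sylow
  have hab : ∀ a ∈ P, ∀ b ∈ P, a * b = b * a := by
    intro a ha b hb
    apply Subtype.ext
    have hbS : (b : G) ∈ S := by rw [← hP]; exact ⟨b, hb, rfl⟩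
    have := Subgroup.mem_centralizer_iff.1 (hc a.2) (b : G) hbS
    simpa using this.symm
  have h1 := Cfsg.Agent.Lib.L0.commutator_inf_sylow_of_comm P hab
  have h2 : ⁅(P : Subgroup E), Subgroup.normalizer ((P : Subgroup E) : Set E)⁆ = ⊥ := by
    rw [Subgroup.commutator_eq_bot_iff_le_centralizer]
    intro a ha
    rw [Subgroup.mem_centralizer_iff]
    intro b _
    apply Subtype.ext
    have haS : (a : G) ∈ S := by rw [← hP]; exact ⟨a, ha, rfl⟩
    have := Subgroup.mem_centralizer_iff.1 (hc b.2) (a : G) haS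
    simpa using this.symm
  rw [h2] at h1
  have h3 : (P : Subgroup E) ≤ commutator E := by
    intro a ha
    have haS : (a : G) ∈ S := by rw [← hP]; exact ⟨a, ha, rfl⟩
    have h4 : (a : G) ∈ ⁅E, E⁆ := hSE haS
    rw [← Subgroup.map_subtype_commutator] at h4
    obtain ⟨b, hb, hba⟩ := h4
    have : b = a := Subtype.ext hba
    rwa [← this]
  have h5 : (P : Subgroup E) = ⊥ := by
    rw [eq_bot_iff, ← h1]
    exact le_inf h3 le_rfl
  rw [← hP, h5, Subgroup.map_bot]

theorem inf_centralizer_eq_bot_of_cyclic {r t : ℕ} [hr : Fact r.Prime] [ht : Fact t.Prime]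
    (hrt : t ≠ r) {X S : Subgroup G} (hX : IsPGroup t X) (hS : IsPGroup r S) (hSc : IsCyclic ↥S)
    (hXS : X ≤ Subgroup.normalizer (S : Set G)) (hnc : ¬ S ≤ Subgroup.centralizer (X : Set G)) :
    S ⊓ Subgroup.centralizer (X : Set G) = ⊥ := by
  have hact : CoprimeAction X S :=
    Cfsg.Agent.Lib.H19.BG13.coprimeAction_of_isPGroup hrt hX hS hXS
  haveI : IsMulCommutative ↥S := Cfsg.Agent.Lib.H7.BG138.isMulCommutative_of_isCyclic hSc
  have h1 := Cfsg.Agent.Lib.H1.coprime_abelian_centralizer_inf_commutator hXS hact.coprime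
  have h2 := Cfsg.Agent.Lib.H1.coprime_commutator_sup_centralizer hact
  rcases Cfsg.Agent.Lib.H7.BG138.eq_bot_or_eq_bot_of_cyclic hSc hS
    (inf_le_left : S ⊓ Subgroup.centralizer (X : Set G) ≤ S) hact.commutator_le h1 with h | h
  · exact h
  · exfalso
    apply hnc
    rw [h, bot_sup_eq] at h2
    rw [← h2]
    exact inf_le_right

theorem mem_kappa_of_centralizer_ne_bot (hG : IsMinSimpleOddOrder G) {M : Subgroup G}
    (hM : IsCoatom M) {t : ℕ} [ht : Fact t.Prime] (htσ : t ∉ sigma M) (ht1 : PRankLE t 1 ↥M)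
    {X : Subgroup G} (hXM : X ≤ M) (hXc : Nat.card X = t)
    (hne : sigmaCore M ⊓ Subgroup.centralizer (X : Set G) ≠ ⊥) : t ∈ kappa M := by
  have hXp : IsPGroup t X := IsPGroup.of_card (n := 1) (by rw [hXc, pow_one])
  have hX1 : X ≠ ⊥ := by
    intro h
    rw [h, Subgroup.card_bot] at hXc
    exact ht.out.one_lt.ne hXc
  have htM : t ∣ Nat.card ↥M := by
    rw [← hXc]; exact Subgroup.card_dvd_of_le hXM
  refine ⟨ht.out, htM, htσ, ?_⟩
  intro P
  have hP' : SylIn t ((P : Subgroup M).map M.subtype) M := SylIn.of_sylow P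
  have hPc' : IsCyclic ↥((P : Subgroup M).map M.subtype) :=
    Cfsg.Agent.Lib.H7.BG14.isCyclic_of_pRankLE_one hG hP'.le hP'.isPGroup ht1
  have hPc : IsCyclic ↥(P : Subgroup M) :=
    isCyclic_of_injective
      ((P : Subgroup M).equivMapOfInjective _ M.subtype_injective).toMonoidHom
      ((P : Subgroup M).equivMapOfInjective _ M.subtype_injective).injective
  refine ⟨hPc, ?_⟩
  obtain ⟨m, hm, hle⟩ := hP'.exists_conj_le hXp hXM
  obtain ⟨x, hx, -, hx1⟩ := Cfsg.Agent.Lib.H7.BG11mu.exists_generator_of_card_prime hXc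
  have hxX : x ∈ X := by rw [hx]; exact Subgroup.mem_zpowers x
  obtain ⟨⟨y, hy⟩, hy1'⟩ := (Subgroup.ne_bot_iff_exists_ne_one).1 hne
  have hy1 : y ≠ 1 := fun h => hy1' (Subtype.ext h)
  obtain ⟨hyσ, hyC⟩ := Subgroup.mem_inf.1 hy
  have hxy : x * y = y * x := Subgroup.mem_centralizer_iff.1 hyC x hxX
  have hx'P : m * x * m⁻¹ ∈ (P : Subgroup M).map M.subtype :=
    hle ⟨x, hxX, by simp [MulAut.conj_apply]⟩
  obtain ⟨x', hx'mem, hx'eq⟩ := hx'P
  have hσn : M ≤ Subgroup.normalizer ((sigmaCore M : Subgroup G) : Set G) :=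
    le_normalizer_piCoreOf (sigma M) M
  refine ⟨x', hx'mem, ?_, m * y * m⁻¹, ?_, ?_, ?_⟩
  · intro h
    apply hx1
    have h1 : (x' : G) = 1 := by rw [h]; rfl
    have h2 : m * x * m⁻¹ = 1 := by rw [← hx'eq]; exact h1
    have : x = m⁻¹ * (m * x * m⁻¹) * m := by group
    rw [this, h2]; group
  · exact ((Subgroup.mem_normalizer_iff.1 (hσn hm)) y).1 hyσ
  · intro h
    apply hy1
    have : y = m⁻¹ * (m * y * m⁻¹) * m := by group
    rw [this, h]; group
  · have h1 : (x' : G) = m * x * m⁻¹ := hx'eq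
    rw [h1]
    calc m * x * m⁻¹ * (m * y * m⁻¹) = m * (x * y) * m⁻¹ := by group
      _ = m * (y * x) * m⁻¹ := by rw [hxy]
      _ = m * y * m⁻¹ * (m * x * m⁻¹) := by group

/-- a nontrivial `t`-group has a subgroup of order `t`. -/
theorem exists_le_card_eq_prime {t : ℕ} [ht : Fact t.Prime] {T : Subgroup G} (hT : IsPGroup t T)
    (hT1 : T ≠ ⊥) : ∃ X : Subgroup G, X ≤ T ∧ Nat.card X = t := by
  have hd : t ∣ Nat.card ↥T := dvd_card_of_ne_bot hT le_rfl hT1
  obtain ⟨x, hx⟩ := exists_prime_orderOf_dvd_card' t hd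
  refine ⟨Subgroup.zpowers (x : G), ?_, ?_⟩
  · rw [Subgroup.zpowers_le]; exact x.2
  · rw [Nat.card_zpowers, Subgroup.orderOf_coe, hx]

/-- if `e` normalizes `S` and `cj(e, T)` centralizes `S`, then `T` centralizes `S`. -/
theorem le_centralizer_of_map_conj_le {T S : Subgroup G} {e : G}
    (he : e ∈ Subgroup.normalizer (S : Set G))
    (h : cj(e, T) ≤ Subgroup.centralizer (S : Set G)) : T ≤ Subgroup.centralizer (S : Set G) := by
  intro a ha
  rw [Subgroup.mem_centralizer_iff]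
  intro s hs
  have hs' : e * s * e⁻¹ ∈ S := ((Subgroup.mem_normalizer_iff.1 he) s).1 hs
  have ha' : e * a * e⁻¹ ∈ cj(e, T) := ⟨a, ha, by simp [MulAut.conj_apply]⟩
  have h1 := Subgroup.mem_centralizer_iff.1 (h ha') _ hs'
  have h2 : e * (s * a) * e⁻¹ = e * (a * s) * e⁻¹ := by
    calc e * (s * a) * e⁻¹ = e * s * e⁻¹ * (e * a * e⁻¹) := by group
      _ = e * a * e⁻¹ * (e * s * e⁻¹) := h1
      _ = e * (a * s) * e⁻¹ := by group
  exact mul_left_cancel (mul_right_cancel h2)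

/-- the main step: with `S` a normal cyclic Sylow `r`-subgroup (`r ∈ τ₃(M)`) of a complement `E`,
`S ≤ K ≤ E` with `K` a cyclic Hall `κ(M)`-subgroup, `C_{M_σ}(Ω₁(S)) ≠ 1`: every Sylow subgroup of
`E` centralizes `S`. -/
theorem sylow_le_centralizer (hG : IsMinSimpleOddOrder G) {M : Subgroup G} (hM : IsCoatom M)
    {K : Subgroup G} (hKc : IsCyclic ↥K) (hK : IsPiHallOf (kappa M) K M)
    {E : Subgroup G} (hE : IsComplIn E (sigmaCore M) M) (hKE : K ≤ E)
    {r : ℕ} [hr : Fact r.Prime] (hr3 : r ∈ tau3 M) {S : Subgroup G} (hSK : S ≤ K)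
    (hSM : SylIn r S M) (hSc : IsCyclic ↥S) (hSn : E ≤ Subgroup.normalizer (S : Set G))
    {X : Subgroup G} (hXS : X ≤ S) (hXc : Nat.card X = r)
    (hY : sigmaCore M ⊓ Subgroup.centralizer (X : Set G) ≠ ⊥)
    {t : ℕ} [ht : Fact t.Prime] (htr : t ≠ r) {T : Subgroup G} (hT : SylIn t T E) :
    T ≤ Subgroup.centralizer (S : Set G) := by
  have h13 := Cfsg.Agent.Lib.H16.BGHyp.hyp13 hG
  have hU := Cfsg.Agent.Lib.H20.BGT.uniq3 hG
  have hσ := (Cfsg.Agent.Lib.H20.BGS.sigma_core_hall hG hU hM).1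
  have hrσ : r ∉ sigma M := hr3.2.1
  have hr1 : PRankLE r 1 ↥M := hr3.2.2.2
  have hSp : IsPGroup r S := hSM.isPGroup
  have hXp : IsPGroup r X := hSp.to_le hXS
  have hX1 : X ≠ ⊥ := by
    intro h
    rw [h, Subgroup.card_bot] at hXc
    exact hr.out.one_lt.ne hXc
  have hS1 : S ≠ ⊥ := _root_.ne_bot_of_le_ne_bot hX1 hXS
  have hSE : S ≤ E := hSK.trans hKE
  have hXM : X ≤ M := hXS.trans hSM.le
  have hEX : E ≤ Subgroup.normalizer (X : Set G) :=
    hSn.trans (Cfsg.Agent.Lib.H20.BGT.normalizer_le_normalizer_of_le_cyclic hSc hXS)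
  -- the maximal subgroup H
  have hNtop : Subgroup.normalizer (X : Set G) ≠ ⊤ := normalizer_ne_top_of_isPGroup hG hXp hX1
  obtain ⟨H, hH, hNX⟩ := exists_coatom_ge hNtop
  obtain ⟨hnc, hrH⟩ := Cfsg.Agent.Lib.H19.BG13.type_of_normalizer_ge hG hM hrσ hSM hSc hXp hX1 hXM
    hH hNX
  have hEH : E ≤ H := hEX.trans hNX
  have hCX : Subgroup.centralizer (X : Set G) ≤ H :=
    (Subgroup.centralizer_le_normalizer (X : Set G)).trans hNX
  have hCS : Subgroup.centralizer (S : Set G) ≤ Subgroup.centralizer (X : Set G) :=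
    Subgroup.centralizer_le hXS
  have hHM : H ≠ M := by
    intro e
    apply hnc 1
    rw [Cfsg.Agent.Lib.H10.map_conj_one, e]
  set Y : Subgroup G := sigmaCore M ⊓ Subgroup.centralizer (X : Set G) with hYdef
  have hYH : Y ≤ sigmaCore M ⊓ H := le_inf inf_le_left (inf_le_right.trans hCX)
  by_contra hTS
  have hT1 : T ≠ ⊥ := by
    intro h
    apply hTS
    rw [h]; exact bot_le
  have htE : t ∣ Nat.card ↥E := dvd_card_of_ne_bot hT.isPGroup hT.le hT1
  have htσ : t ∉ sigma M := Cfsg.Agent.Lib.H8.BG12.compl_not_sigma hσ hE ht.out htE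
  have hTM : SylIn t T M := Cfsg.Agent.Lib.H8.BG12.sylIn_of_compl hσ hE htσ hT
  have htM : t ∣ Nat.card ↥M := htE.trans (Subgroup.card_dvd_of_le hE.1)
  have ht2' : t ≠ 2 := prime_ne_two_of_dvd_card hG htM
  have hTn : T ≤ Subgroup.normalizer (S : Set G) := hT.le.trans hSn
  -- `T` is cyclic
  have hTc : IsCyclic ↥T := by
    by_contra hTc
    obtain ⟨A, hAT, hAe, hAc⟩ :=
      Cfsg.Agent.Lib.H20.BGT.exists_elemAb_sq_of_not_cyclic ht2' hT.isPGroup hTc
    have hAE : A ≤ E := hAT.trans hT.le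
    have hAM : A ≤ M := hAE.trans hE.1
    have ht2 : t ∈ tau2 M := Cfsg.Agent.Lib.H20.BGT.mem_tau2_of_elemAb_sq hG hM htσ hAM hAe hAc
    have hEA : E ≤ Subgroup.normalizer (A : Set G) :=
      (Cfsg.Agent.S1418.result hG M hM E hE t ht2 A ⟨hAE, hAe, hAc⟩).1.1
    have h17 := (Cfsg.Agent.S1417.result hG M hM t ht2 A ⟨hAM, hAe, hAc⟩).2.2.2.2.1
    have hAS : A ⊓ S = ⊥ := by
      have hcop : (Nat.card A).Coprime (Nat.card S) :=
        Cfsg.Agent.Lib.H19.BG13.isPGroup_coprime_card htr (hT.isPGroup.to_le hAT) hSp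
      exact (Subgroup.disjoint_of_coprime_natCard hcop).eq_bot
    have hAC : A ≤ Subgroup.centralizer (S : Set G) :=
      le_centralizer_of_inf_eq_bot (hAE.trans hSn) (hSE.trans hEA) hAS
    have hAH : A ≤ H := hAC.trans (hCS.trans hCX)
    have h1 := h17 H hH hHM hAH
    apply hY
    rw [eq_bot_iff, ← h1]
    exact hYH
  have ht1' : PRankLE t 1 ↥M := by
    haveI := hTc
    exact pRankLE_of_sylIn hTM (Cfsg.Agent.Lib.H7.BG13.pRankLE_one_of_isCyclic ht.out)
  -- `t ∉ τ₃(M)`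
  have ht3 : t ∉ tau3 M := by
    intro ht3
    have hTc' : T ≤ ⁅M, M⁆ :=
      Cfsg.Agent.Lib.H19.BG13.tau3_le_commutator hG hM ht3 hT.isPGroup hTM.le
    have hSc' : S ≤ ⁅M, M⁆ :=
      Cfsg.Agent.Lib.H19.BG13.tau3_le_commutator hG hM hr3 hSp hSM.le
    have hrα : r ∉ alpha M := fun h => h.2 (fun A hA1 hA2 => (hr1 A hA1 hA2).trans
      (Nat.pow_le_pow_right hr.out.pos (by norm_num)))
    have := Cfsg.Agent.Lib.H19.BG13.le_centralizer_of_le_commutator hG hM htr hrα hT.isPGroup hSp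
      hTM.le hSM.le hTc' hSc' hTn
    exact hTS (le_centralizer_comm this)
  have ht1 : t ∈ tau1 M := by
    refine ⟨ht.out, htσ, htM, ?_, ht1'⟩
    intro hd
    exact ht3 ⟨ht.out, htσ, hd, ht1'⟩
  -- `X_t`
  obtain ⟨Xt, hXtT, hXtc⟩ : ∃ Xt : Subgroup G, Xt ≤ T ∧ Nat.card Xt = t :=
    exists_le_card_eq_prime hT.isPGroup hT1
  have hXtp : IsPGroup t Xt := hT.isPGroup.to_le hXtT
  have hXtE : Xt ≤ E := hXtT.trans hT.le
  have hXtM : Xt ≤ M := hXtE.trans hE.1
  have hXtH : Xt ≤ H := hXtE.trans hEH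
  obtain ⟨xt, hxt, -, hxt1⟩ := Cfsg.Agent.Lib.H7.BG11mu.exists_generator_of_card_prime hXtc
  have hxtX : xt ∈ Xt := by rw [hxt]; exact Subgroup.mem_zpowers xt
  -- `t ∈ κ(M)`
  have htκ : t ∈ kappa M := by
    apply mem_kappa_of_centralizer_ne_bot hG hM htσ ht1' hXtM hXtc
    by_cases hα : S ≤ Subgroup.centralizer (Xt : Set G)
    · -- case β
      have hYXt : Y ≤ Subgroup.centralizer (Xt : Set G) := by
        by_contra hYXt
        have htH : t ∈ tau1 H := by
          have htdH : t ∣ Nat.card ↥H := by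
            rw [← hXtc]; exact Subgroup.card_dvd_of_le hXtH
          rcases Cfsg.Agent.Lib.H19.BG13.prime_type hG hH ht.out htdH with h | h | h | h
          · exact absurd (hYH.trans (Cfsg.Agent.Lib.H19.BG13.centralizes_of_not_tau1 hG h13 hM hH
              hnc htσ (Or.inl h) hXtp hXtM hXtH)) hYXt
          · exact h
          · exact absurd (hYH.trans (Cfsg.Agent.Lib.H19.BG13.centralizes_of_not_tau1 hG h13 hM hH
              hnc htσ (Or.inr (Or.inl h)) hXtp hXtM hXtH)) hYXt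
          · exact absurd (hYH.trans (Cfsg.Agent.Lib.H19.BG13.centralizes_of_not_tau1 hG h13 hM hH
              hnc htσ (Or.inr (Or.inr h)) hXtp hXtM hXtH)) hYXt
        rcases hrH with hrH | hrH
        · -- `r ∈ σ(H)`
          have hSσ : S ≤ sigmaCore H :=
            Cfsg.Agent.Lib.H20.BGT.le_sigmaCore_of_isPiCard hG hH (hSE.trans hEH)
              (isPiCard_of_isPGroup hr.out hrH hSp)
          have h1 := Cfsg.Agent.Lib.H19.BG13.sigmaCore_inf_centralizer_le_of_rank_one hG h13 hH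
            htH.2.1 htH.2.2.2.2 hT.isPGroup (hT.le.trans hEH) (hXtT hxtX) hxt1
          apply hTS
          apply le_centralizer_comm
          refine le_trans (le_inf hSσ ?_) h1
          intro s hs
          have := hα hs
          rw [Subgroup.mem_centralizer_iff] at this ⊢
          intro z hz
          rw [Set.mem_singleton_iff] at hz
          rw [hz]
          exact this xt hxtX
        · -- `r ∈ τ₂(H)`
          refine Cfsg.Agent.Lib.H10.BG131b.not_tau2_of_commutator_ne_bot hG hM hH hnc hrσ hXc hXM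
            (hXS.trans (hSE.trans hEH)) ?_ hrH
          intro hcomm
          apply hYXt
          have h1 : sigmaCore M ⊓ H ≤ Subgroup.centralizer ((M ⊓ H : Subgroup G) : Set G) :=
            le_centralizer_of_commutator_eq_bot hcomm
          exact hYH.trans (h1.trans (Subgroup.centralizer_le (le_inf hXtM hXtH)))
      intro hbot
      apply hY
      rw [eq_bot_iff, ← hbot]
      exact le_inf inf_le_left hYXt
    · -- case α
      have hreg : S ⊓ Subgroup.centralizer (Xt : Set G) = ⊥ :=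
        inf_centralizer_eq_bot_of_cyclic htr hXtp hSp hSc (hXtT.trans hTn) hα
      have hnu : ¬ (Subgroup.normalizer (S : Set G) ≤ M ∧
          ∀ L : Subgroup G, IsCoatom L → Subgroup.normalizer (S : Set G) ≤ L → L = M) := by
        rintro ⟨hN, -⟩
        exact hrσ (Cfsg.Agent.Lib.H19.BG13.mem_sigma_of_sylIn hSM hS1 hN)
      have h1217 := Cfsg.Agent.Lib.H7.BG1217.lemma_12_17b hG hM htr htσ ht1' hXtM hXtc hSM hS1
        (hXtT.trans hTn) hreg hnu
      have hασ : alphaCore M ≤ sigmaCore M := (alpha_core_hall hG hU hM).2.2.1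
      intro hbot
      apply h1217.2.2.2.1
      rw [eq_bot_iff, ← hbot]
      exact inf_le_inf_right _ hασ
  -- contradiction: a Sylow `t`-subgroup of `K` centralizes `S`
  obtain ⟨TK, hTK⟩ := SylIn.exists_sylIn t K
  have hTKM : SylIn t TK M := Cfsg.Agent.Lib.H20.BGV.sylIn_of_hall hK htκ hTK
  have hTKE : SylIn t TK E := hTKM.mono (hTK.le.trans hKE) hE.1
  have hTKS : TK ≤ Subgroup.centralizer (S : Set G) := by
    intro a ha
    rw [Subgroup.mem_centralizer_iff]
    intro s hs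
    have := (Cfsg.Agent.Lib.H7.BG138.isMulCommutative_of_isCyclic hKc).is_comm.comm
      (⟨s, hSK hs⟩ : K) ⟨a, hTK.le ha⟩
    exact congrArg Subtype.val this
  obtain ⟨e, he, hle⟩ := hTKE.exists_conj_le hT.isPGroup hT.le
  exact hTS (le_centralizer_of_map_conj_le (hSn he) (hle.trans hTKS))

/-- **T3R'**: if `M` has a cyclic Hall `κ(M)`-subgroup, then `κ(M) ⊆ τ₁(M)`. -/
theorem mem_tau1_of_mem_kappa (hG : IsMinSimpleOddOrder G) {M : Subgroup G} (hM : IsCoatom M)
    {K : Subgroup G} (hKc : IsCyclic ↥K) (hK : IsPiHallOf (kappa M) K M) {r : ℕ}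
    (hr : r ∈ kappa M) : r ∈ tau1 M := by
  have h13 := Cfsg.Agent.Lib.H16.BGHyp.hyp13 hG
  haveI hrF : Fact r.Prime := ⟨hr.1⟩
  have hrσ : r ∉ sigma M := hr.2.2.1
  obtain ⟨S, hS⟩ := SylIn.exists_sylIn r K
  have hSM : SylIn r S M := Cfsg.Agent.Lib.H20.BGV.sylIn_of_hall hK hr hS
  have hSp : IsPGroup r S := hSM.isPGroup
  have hS1 : S ≠ ⊥ := hSM.ne_bot hr.2.1
  obtain ⟨P, hP⟩ := hSM.exists_sylow
  obtain ⟨hPc, x, hxP, hx1, y, hyσ, hy1, hxy⟩ := hr.2.2.2 P
  have hSc : IsCyclic ↥S := by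
    rw [← hP]
    haveI := hPc
    exact isCyclic_of_surjective
      ((P : Subgroup M).equivMapOfInjective _ M.subtype_injective).toMonoidHom
      ((P : Subgroup M).equivMapOfInjective _ M.subtype_injective).surjective
  have hr1 : PRankLE r 1 ↥M := by
    haveI := hSc
    exact pRankLE_of_sylIn hSM (Cfsg.Agent.Lib.H7.BG13.pRankLE_one_of_isCyclic hr.1)
  by_contra hnot
  have hr3 : r ∈ tau3 M := by
    refine ⟨hr.1, hrσ, ?_, hr1⟩
    by_contra hd
    exact hnot ⟨hr.1, hrσ, hr.2.1, hd, hr1⟩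
  obtain ⟨E, hE, hKE⟩ := Cfsg.Agent.Lib.H19.BG13.exists_compl_ge hG hM hK.1
    (fun q hq hd => (hK.2.1 q hq hd).2.2.1)
  have hSE : S ≤ E := hS.le.trans hKE
  have hSEs : SylIn r S E := hSM.mono hSE hE.1
  haveI : Group.IsSolvable ↥E := solvable_of_le_ne_top hG hM.1 hE.1
  obtain ⟨E₃, hE₃, hSE₃⟩ := Cfsg.Agent.Lib.H19.exists_isPiHallOf_ge hSE
    (isPiCard_of_isPGroup hr.1 hr3 hSp)
  obtain ⟨hE₃c, hE₃', hE₃n⟩ := (Cfsg.Agent.S1415.result hG M hM E hE).2.2 E₃ hE₃
  have hSn : E ≤ Subgroup.normalizer (S : Set G) :=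
    hE₃n.trans (Cfsg.Agent.Lib.H20.BGT.normalizer_le_normalizer_of_le_cyclic hE₃c hSE₃)
  obtain ⟨X, hXS, hXc⟩ := exists_le_card_eq_prime hSp hS1
  have hxS : (x : G) ∈ S := by rw [← hP]; exact ⟨x, hxP, rfl⟩
  have hx1' : (x : G) ≠ 1 := fun h => hx1 (Subtype.ext h)
  have hY : sigmaCore M ⊓ Subgroup.centralizer (X : Set G) ≠ ⊥ := by
    have h1 := Cfsg.Agent.Lib.H19.BG13.sigmaCore_inf_centralizer_le_of_rank_one hG h13 hM hrσ hr1
      hSp hSM.le hxS hx1'
    have hy : y ∈ sigmaCore M ⊓ Subgroup.centralizer ({(x : G)} : Set G) := by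
      refine Subgroup.mem_inf.2 ⟨hyσ, ?_⟩
      rw [Subgroup.mem_centralizer_iff]
      intro z hz
      rw [Set.mem_singleton_iff] at hz
      rw [hz]; exact hxy
    intro hbot
    apply hy1
    have : y ∈ sigmaCore M ⊓ Subgroup.centralizer (X : Set G) :=
      Subgroup.mem_inf.2 ⟨hyσ, Subgroup.centralizer_le hXS (h1 hy)⟩
    rw [hbot] at this
    exact Subgroup.mem_bot.1 this
  have hEC : E ⊓ Subgroup.centralizer (S : Set G) = E := by
    apply eq_of_forall_sylIn_le inf_le_left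
    intro q hq
    by_cases hqr : q = r
    · subst hqr
      refine ⟨S, hSEs, le_inf hSE ?_⟩
      intro a ha
      rw [Subgroup.mem_centralizer_iff]
      intro s hs
      have := (Cfsg.Agent.Lib.H7.BG138.isMulCommutative_of_isCyclic hSc).is_comm.comm
        (⟨s, hs⟩ : S) ⟨a, ha⟩
      exact congrArg Subtype.val this
    · obtain ⟨T, hT⟩ := SylIn.exists_sylIn q E
      exact ⟨T, hT, le_inf hT.le (sylow_le_centralizer hG hM hKc hK hE hKE hr3 hS.le hSM hSc hSn
        hXS hXc hY hqr hT)⟩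
  have hEC' : E ≤ Subgroup.centralizer (S : Set G) := by
    rw [← hEC]; exact inf_le_right
  exact hS1 (eq_bot_of_central_sylow_le_commutator hSEs hEC' (hSE₃.trans hE₃'))

/-- **T3R'**, set form. -/
theorem kappa_subset_tau1 (hG : IsMinSimpleOddOrder G) {M : Subgroup G} (hM : IsCoatom M)
    {K : Subgroup G} (hKc : IsCyclic ↥K) (hK : IsPiHallOf (kappa M) K M) :
    kappa M ⊆ tau1 M := fun _ hr => mem_tau1_of_mem_kappa hG hM hKc hK hr

end Cfsg.Agent.Lib.H7.BG13t
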