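import Mathlib
import Cfsg.Prelude.Def_Local
import Cfsg.Agent.Lib.H7.ExtLayer2
import Cfsg.Agent.Lib.H7.CoprimeFactor

set_option autoImplicit false
set_option linter.unusedSectionVars false

namespace Cfsg.Agent.Lib.H7

open Cfsg

variable {G : Type*} [Group G]

theorem pPrimeCoreOf_le (q : ℕ) (U : Subgroup G) : pPrimeCoreOf q U ≤ U := by
  rintro _ ⟨x, _, rfl⟩
  exact x.2

theorem card_pPrimeCoreOf_coprime [Finite G] (q : ℕ) (U : Subgroup G) :
    (Nat.card (pPrimeCoreOf q U)).Coprime q := by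
  have h1 : Nat.card (pPrimeCoreOf q U) = Nat.card (pPrimeCore q ↥U) :=
    (Nat.card_congr ((pPrimeCore q ↥U).equivMapOfInjective U.subtype
      (Subgroup.subtype_injective U)).toEquiv).symm
  rw [h1]
  exact Cfsg.Agent.Lib.H22.card_pPrimeCore_coprime q

/-- A `q'`-subgroup of `U` normalized by `U` lies in `O_{q'}(U)`. -/
theorem le_pPrimeCoreOf (q : ℕ) {U W : Subgroup G} (hWU : W ≤ U)
    (hn : U ≤ Subgroup.normalizer (W : Set G)) (hc : (Nat.card W).Coprime q) :
    W ≤ pPrimeCoreOf q U := by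
  have hnorm : (W.subgroupOf U).Normal := Subgroup.normal_subgroupOf_of_le_normalizer hn
  have hcard : Nat.card (W.subgroupOf U) = Nat.card W :=
    Nat.card_congr (Subgroup.subgroupOfEquivOfLe hWU).toEquiv
  have h1 := Cfsg.Agent.Lib.H22.le_pPrimeCore q (W.subgroupOf U) hnorm (by rw [hcard]; exact hc)
  intro w hw
  exact ⟨⟨w, hWU hw⟩, h1 (Subgroup.mem_subgroupOf.2 hw), rfl⟩

/-- `O_{q'}(U)` is normalized by `N_G(U)`. -/
theorem normalizer_le_normalizer_pPrimeCoreOf (q : ℕ) (U : Subgroup G) :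
    Subgroup.normalizer (U : Set G) ≤ Subgroup.normalizer (pPrimeCoreOf q U : Set G) := by
  intro g hg
  rw [Subgroup.mem_normalizer_iff_map_conj_eq] at hg ⊢
  have h1 := pPrimeCoreOf_map_equiv q U (MulAut.conj g)
  exact h1.trans (pPrimeCoreOf_congr q hg)

theorem le_normalizer_pPrimeCoreOf (q : ℕ) (U : Subgroup G) :
    U ≤ Subgroup.normalizer (pPrimeCoreOf q U : Set G) :=
  Subgroup.le_normalizer.trans (normalizer_le_normalizer_pPrimeCoreOf q U)

/-- `O_{q'}(U) ≤ O_{q'}(V)` when `U` is a normal subgroup of `V`. -/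
theorem pPrimeCoreOf_le_of_normal [Finite G] (q : ℕ) {U V : Subgroup G} (hUV : U ≤ V)
    (hn : V ≤ Subgroup.normalizer (U : Set G)) : pPrimeCoreOf q U ≤ pPrimeCoreOf q V :=
  le_pPrimeCoreOf q ((pPrimeCoreOf_le q U).trans hUV)
    (hn.trans (normalizer_le_normalizer_pPrimeCoreOf q U)) (card_pPrimeCoreOf_coprime q U)

end Cfsg.Agent.Lib.H7
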