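import Mathlib
import Cfsg.Agent.Lib.H7.BG13t
import Cfsg.Agent.S1423
import Cfsg.Agent.S1426
import Cfsg.Agent.S1428
import Cfsg.Agent.S1408
import Cfsg.Agent.S1414
import Cfsg.Agent.S1417
import Cfsg.Agent.S1418

/-!
# BG sec. 14 preliminaries (helper7): prime action of `E₁`, and the THETA configuration is impossible

* `sigmaCore_inf_centralizer_le_of_cyclic_tau1` (N3): a cyclic `τ₁(M)`-subgroup `E₁` of a complement
  acts in a prime manner on `M_σ`.
* `no_theta`: `p ∈ τ₁(M)`, `P ≤ E` of order `p` with `C_{M_σ}(P) ≠ 1`, `t ∈ τ₂(M)`, `A ≤ E` elementary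
  abelian of order `t²`, `R ≤ C_A(P)` of order `t`, `A ≰ C(P)`: impossible.
-/

set_option autoImplicit false
set_option linter.style.haveILetI false
set_option linter.unusedSectionVars false
set_option linter.unusedVariables false
open Cfsg
open Cfsg.Agent.Lib.H16.BG
open Cfsg.Agent.Lib.H7.BG7
open Cfsg.Agent.Lib.H7.BG10
open Cfsg.Agent.Lib.H19 (IsPiCard)
open Cfsg.Agent.Lib.H1 (CoprimeAction)

namespace Cfsg.Agent.Lib.H7.BG14t

universe u
variable {G : Type u} [Group G] [Finite G]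

local notation:max "cj(" g ", " X ")" => Subgroup.map (MulEquiv.toMonoidHom (MulAut.conj g)) X

theorem sigmaCore_inf_centralizer_le_of_cyclic_tau1 (hG : IsMinSimpleOddOrder G) {M : Subgroup G}
    (hM : IsCoatom M) {E : Subgroup G} (hE : IsComplIn E (sigmaCore M) M) {E₁ : Subgroup G}
    (hE₁E : E₁ ≤ E) (hE₁c : IsCyclic ↥E₁)
    (hE₁τ : ∀ q : ℕ, q.Prime → q ∣ Nat.card E₁ → q ∈ tau1 M) {P : Subgroup G} (hPE₁ : P ≤ E₁)
    {p : ℕ} (hp : p.Prime) (hPc : Nat.card P = p) :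
    sigmaCore M ⊓ Subgroup.centralizer (P : Set G) ≤ Subgroup.centralizer (E₁ : Set G) := by
  have h13 := Cfsg.Agent.Lib.H16.BGHyp.hyp13 hG
  set W : Subgroup G := sigmaCore M ⊓ Subgroup.centralizer (P : Set G) with hW
  have hpτ : p ∈ tau1 M := hE₁τ p hp (by rw [← hPc]; exact Subgroup.card_dvd_of_le hPE₁)
  have hab := Cfsg.Agent.Lib.H7.BG138.isMulCommutative_of_isCyclic hE₁c
  have key : E₁ ⊓ Subgroup.centralizer (W : Set G) = E₁ := by
    apply eq_of_forall_sylIn_le inf_le_left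
    intro s hs
    obtain ⟨S, hS⟩ := SylIn.exists_sylIn s E₁
    refine ⟨S, hS, le_inf hS.le ?_⟩
    by_cases hS1 : S = ⊥
    · rw [hS1]; exact bot_le
    have hsd : s ∣ Nat.card E₁ := dvd_card_of_ne_bot hS.isPGroup hS.le hS1
    have hsτ : s ∈ tau1 M := hE₁τ s hs.out hsd
    obtain ⟨R, hRS, hRc⟩ := Cfsg.Agent.Lib.H7.BG13t.exists_le_card_eq_prime hS.isPGroup hS1
    have hRE₁ : R ≤ E₁ := hRS.trans hS.le
    have hRP : R ≤ Subgroup.centralizer (P : Set G) := by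
      intro a ha
      rw [Subgroup.mem_centralizer_iff]
      intro b hb
      have := hab.is_comm.comm (⟨b, hPE₁ hb⟩ : E₁) ⟨a, hRE₁ ha⟩
      exact congrArg Subtype.val this
    have h28 := Cfsg.Agent.S1428.result hG M hM E hE p hpτ P (hPE₁.trans hE₁E) hPc R
      (le_inf (hRE₁.trans hE₁E) hRP) (by rw [hRc]; exact hs.out)
    obtain ⟨x, hx, -, hx1⟩ := Cfsg.Agent.Lib.H7.BG11mu.exists_generator_of_card_prime hRc
    have hxR : x ∈ R := by rw [hx]; exact Subgroup.mem_zpowers x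
    have h27 := Cfsg.Agent.Lib.H19.BG13.sigmaCore_inf_centralizer_le_of_rank_one hG h13 hM
      hsτ.2.1 hsτ.2.2.2.2 hS.isPGroup (hS.le.trans (hE₁E.trans hE.1)) (hRS hxR) hx1
    apply le_centralizer_comm
    refine le_trans ?_ h27
    refine le_trans h28 (inf_le_inf_left _ ?_)
    apply Subgroup.centralizer_le
    rw [Set.singleton_subset_iff]
    exact hxR
  have : E₁ ≤ Subgroup.centralizer (W : Set G) := by rw [← key]; exact inf_le_right
  exact le_centralizer_comm this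


/-- conjugation by an element of `P` normalizing `A` normalizes `⁅A, P⁆`. -/
theorem le_normalizer_commutator {A P : Subgroup G} (hPA : P ≤ Subgroup.normalizer (A : Set G)) :
    P ≤ Subgroup.normalizer ((⁅A, P⁆ : Subgroup G) : Set G) := by
  intro x hx
  have hA : cj(x, A) = A := by
    apply le_antisymm
    · rintro _ ⟨a, ha, rfl⟩
      exact ((Subgroup.mem_normalizer_iff.1 (hPA hx)) a).1 ha
    · intro a ha
      refine ⟨x⁻¹ * a * x, ?_, by simp [MulAut.conj_apply, mul_assoc]⟩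
      have := ((Subgroup.mem_normalizer_iff.1 (hPA (P.inv_mem hx))) a).1 ha
      simpa using this
  have hP : cj(x, P) = P := by
    apply le_antisymm
    · rintro _ ⟨a, ha, rfl⟩
      exact P.mul_mem (P.mul_mem hx ha) (P.inv_mem hx)
    · intro a ha
      exact ⟨x⁻¹ * a * x, P.mul_mem (P.mul_mem (P.inv_mem hx) ha) hx,
        by simp [MulAut.conj_apply, mul_assoc]⟩
  have hmap : cj(x, ⁅A, P⁆) = ⁅A, P⁆ := by
    rw [Subgroup.map_commutator, hA, hP]
  rw [Subgroup.mem_normalizer_iff]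
  intro y
  constructor
  · intro hy
    rw [← hmap]
    exact ⟨y, hy, by simp [MulAut.conj_apply]⟩
  · intro hy
    rw [← hmap] at hy
    obtain ⟨z, hz, hzy⟩ := hy
    have : z = y := by
      have h1 : x * z * x⁻¹ = x * y * x⁻¹ := by simpa [MulAut.conj_apply] using hzy
      exact mul_left_cancel (mul_right_cancel h1)
    rwa [← this]

/-- a complement `E` of `M_σ` acts coprimely on `M_σ`. -/
theorem coprimeAction_compl (hG : IsMinSimpleOddOrder G) {M : Subgroup G} (hM : IsCoatom M)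
    {E : Subgroup G} (hE : IsComplIn E (sigmaCore M) M) : CoprimeAction E (sigmaCore M) := by
  have hU := Cfsg.Agent.Lib.H20.BGT.uniq3 hG
  have hσ := (Cfsg.Agent.Lib.H20.BGS.sigma_core_hall hG hU hM).1
  refine ⟨hE.1.trans (Cfsg.Agent.Lib.H20.BGS.le_normalizer_sigmaCore M), ?_, ?_⟩
  · apply Nat.coprime_of_dvd
    intro q hq h1 h2
    exact Cfsg.Agent.Lib.H8.BG12.compl_not_sigma hσ hE hq h1 (hσ.2.1 q hq h2)
  · exact Or.inl (solvable_of_le_ne_top hG hM.1 hE.1)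

/-- if `τ₂(L) = ∅`, a `t`-subgroup `R` of `L_σ` (`t ∈ σ(L) ∖ β(L)`) centralized by a subgroup `P`
of order `p ∈ τ₁(L)` of the complement `E` lies in `(L_σ)'`. -/
theorem le_commutator_sigmaCore_of_tau2_empty (hG : IsMinSimpleOddOrder G) {L : Subgroup G}
    (hL : IsCoatom L) {E : Subgroup G} (hE : IsComplIn E (sigmaCore L) L)
    (hτ₂ : ∀ s : ℕ, s ∉ tau2 L) {p : ℕ} (hp1 : p ∈ tau1 L) {P : Subgroup G} (hPE : P ≤ E)
    (hPc : Nat.card P = p) {t : ℕ} [ht : Fact t.Prime] (htσ : t ∈ sigma L) (htβ : t ∉ beta L)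
    {R : Subgroup G} (hRσ : R ≤ sigmaCore L) (hRt : IsPGroup t R)
    (hRP : R ≤ Subgroup.centralizer (P : Set G)) :
    R ≤ ⁅sigmaCore L, sigmaCore L⁆ := by
  have hU := Cfsg.Agent.Lib.H20.BGT.uniq3 hG
  have hσ := (Cfsg.Agent.Lib.H20.BGS.sigma_core_hall hG hU hL).1
  haveI hpF : Fact p.Prime := ⟨hp1.1⟩
  haveI : Group.IsSolvable ↥E := solvable_of_le_ne_top hG hL.1 hE.1
  have hPp : IsPGroup p P := IsPGroup.of_card (n := 1) (by rw [hPc, pow_one])
  obtain ⟨E₁, hE₁, hPE₁⟩ := Cfsg.Agent.Lib.H19.exists_isPiHallOf_ge hPE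
    (isPiCard_of_isPGroup hp1.1 hp1 hPp)
  have h15 := Cfsg.Agent.S1415.result hG L hL E hE
  have hE₁c : IsCyclic ↥E₁ := h15.2.1 E₁ hE₁
  have hRE₁ : R ≤ Subgroup.centralizer (E₁ : Set G) :=
    (le_inf hRσ hRP).trans (sigmaCore_inf_centralizer_le_of_cyclic_tau1 hG hL hE hE₁.1 hE₁c
      hE₁.2.1 hPE₁ hp1.1 hPc)
  have hact : CoprimeAction E (sigmaCore L) := coprimeAction_compl hG hL hE
  have hact₁ : CoprimeAction E₁ (sigmaCore L) :=
    ⟨hE₁.1.trans hact.normalizes,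
      Nat.Coprime.coprime_dvd_left (Subgroup.card_dvd_of_le hE₁.1) hact.coprime,
      Or.inl (solvable_of_le_ne_top hG hL.1 (hE₁.1.trans hE.1))⟩
  -- invariant Sylow subgroups
  obtain ⟨T, hT, hET⟩ := Cfsg.Agent.Lib.H1.coprime_exists_invariant_sylow hact t
  obtain ⟨T', hT', hRT', hE₁T'⟩ := Cfsg.Agent.Lib.H1.coprime_invariant_psubgroup_le_sylow hact₁
    hRσ hRt ((le_centralizer_comm hRE₁).trans (Subgroup.centralizer_le_normalizer (R : Set G)))
  obtain ⟨c, hc, hcT⟩ := Cfsg.Agent.Lib.H1.coprime_invariant_sylow_conj hact₁ hT' hT hE₁T'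
    (hE₁.1.trans hET)
  obtain ⟨hcσ, hcE₁⟩ := Subgroup.mem_inf.1 hc
  -- `E' ` centralizes `T`
  have hE'L : ⁅E, E⁆ ≤ ⁅L, L⁆ := Subgroup.commutator_mono hE.1 hE.1
  have hσL' : sigmaCore L ≤ ⁅L, L⁆ := sigmaCore_le_commutator hG hU hL
  have hE'E : ⁅E, E⁆ ≤ E := Subgroup.commutator_le_self E
  have hTp : IsPGroup t T := hT.isPGroup
  have hβE : ∀ q : ℕ, q.Prime → q ∣ Nat.card ↥(⁅E, E⁆ : Subgroup G) → q ∉ beta L := by
    intro q hq hd hβ
    have hqσ : q ∈ sigma L := alpha_subset_sigma hG hU hL hβ.1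
    exact Cfsg.Agent.Lib.H8.BG12.compl_not_sigma hσ hE hq
      (hd.trans (Subgroup.card_dvd_of_le hE'E)) hqσ
  have hβT : ∀ q : ℕ, q.Prime → q ∣ Nat.card ↥T → q ∉ beta L := by
    intro q hq hd
    rw [Cfsg.Agent.Lib.H8.BG12.prime_eq_of_dvd_card_pGroup hTp hq hd]
    exact htβ
  have hcop : (Nat.card ↥(⁅E, E⁆ : Subgroup G)).Coprime (Nat.card ↥T) :=
    Nat.Coprime.coprime_dvd_left (Subgroup.card_dvd_of_le hE'E)
      (Nat.Coprime.coprime_dvd_right (Subgroup.card_dvd_of_le hT.le) hact.coprime)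
  have hTE' : T ≤ Subgroup.centralizer ((⁅E, E⁆ : Subgroup G) : Set G) :=
    Cfsg.Agent.Lib.H19.BG13.le_centralizer_of_beta' hG hL hE'L (hT.le.trans hσL')
      (hE'E.trans hET) hcop hβE hβT
  -- `cj(c, R)` is centralized by `E`
  have hcR_T : cj(c, R) ≤ T := by
    rw [← hcT]
    rintro _ ⟨r, hr, rfl⟩
    exact ⟨r, hRT' hr, rfl⟩
  have hcR_E₁ : cj(c, R) ≤ Subgroup.centralizer (E₁ : Set G) := by
    rintro _ ⟨r, hr, rfl⟩
    rw [Subgroup.mem_centralizer_iff]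
    intro e he
    have h1 : e * c = c * e := Subgroup.mem_centralizer_iff.1 hcE₁ e he
    have h2 : e * r = r * e := Subgroup.mem_centralizer_iff.1 (hRE₁ hr) e he
    have h3 : e * c⁻¹ = c⁻¹ * e := by
      have : c⁻¹ * (e * c) * c⁻¹ = c⁻¹ * (c * e) * c⁻¹ := by rw [h1]
      calc e * c⁻¹ = c⁻¹ * (c * e) * c⁻¹ := by group
        _ = c⁻¹ * (e * c) * c⁻¹ := by rw [h1]
        _ = c⁻¹ * e := by group
    show e * (MulAut.conj c r) = (MulAut.conj c r) * e
    simp only [MulAut.conj_apply]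
    calc e * (c * r * c⁻¹) = (e * c) * r * c⁻¹ := by group
      _ = c * (e * r) * c⁻¹ := by rw [h1]; group
      _ = c * r * (e * c⁻¹) := by rw [h2]; group
      _ = c * r * c⁻¹ * e := by rw [h3]; group
  -- `E = E₁ ⊔ E'`
  have hgen : E ⊓ Subgroup.centralizer ((cj(c, R) : Subgroup G) : Set G) = E := by
    apply eq_of_forall_sylIn_le inf_le_left
    intro s hs
    obtain ⟨S, hS⟩ := SylIn.exists_sylIn s E
    by_cases hS1 : S = ⊥
    · exact ⟨S, hS, by rw [hS1]; exact bot_le⟩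
    have hsE : s ∣ Nat.card ↥E := dvd_card_of_ne_bot hS.isPGroup hS.le hS1
    have hsσ : s ∉ sigma L := Cfsg.Agent.Lib.H8.BG12.compl_not_sigma hσ hE hs.out hsE
    have hsL : s ∣ Nat.card ↥L := hsE.trans (Subgroup.card_dvd_of_le hE.1)
    rcases Cfsg.Agent.Lib.H19.BG13.prime_type hG hL hs.out hsL with h | h | h | h
    · exact absurd h hsσ
    · -- `s ∈ τ₁(L)`: a Sylow `s`-subgroup of `E₁`
      obtain ⟨S₁, hS₁⟩ := SylIn.exists_sylIn s E₁
      have hS₁E : SylIn s S₁ E := Cfsg.Agent.Lib.H20.BGV.sylIn_of_hall hE₁ h hS₁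
      exact ⟨S₁, hS₁E, le_inf hS₁E.le (hS₁.le.trans (le_centralizer_comm hcR_E₁))⟩
    · exact absurd h (hτ₂ s)
    · -- `s ∈ τ₃(L)`: `S ≤ E'`
      obtain ⟨E₃, hE₃, hSE₃⟩ := Cfsg.Agent.Lib.H19.exists_isPiHallOf_ge hS.le
        (isPiCard_of_isPGroup hs.out h hS.isPGroup)
      have hE₃' : E₃ ≤ ⁅E, E⁆ := (h15.2.2 E₃ hE₃).2.1
      refine ⟨S, hS, le_inf hS.le ?_⟩
      exact (hSE₃.trans hE₃').trans (le_centralizer_comm (hcR_T.trans hTE'))
  have hcR_E : cj(c, R) ≤ Subgroup.centralizer (E : Set G) := by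
    apply le_centralizer_comm
    rw [← hgen]; exact inf_le_right
  have hcR_σ : cj(c, R) ≤ sigmaCore L := hcR_T.trans hT.le
  have h26 := (Cfsg.Agent.S1426.result hG L hL E hE).1
  have hcR' : cj(c, R) ≤ ⁅sigmaCore L, sigmaCore L⁆ := (le_inf hcR_σ hcR_E).trans h26
  -- back to `R`
  intro r hr
  have h1 : c * r * c⁻¹ ∈ ⁅sigmaCore L, sigmaCore L⁆ := hcR' ⟨r, hr, by simp [MulAut.conj_apply]⟩
  have hn : sigmaCore L ≤ Subgroup.normalizer ((⁅sigmaCore L, sigmaCore L⁆ : Subgroup G) : Set G) :=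
    le_normalizer_commutator Subgroup.le_normalizer
  have h2 := ((Subgroup.mem_normalizer_iff.1 (hn ((sigmaCore L).inv_mem hcσ))) (c * r * c⁻¹)).1 h1
  have h3 : c⁻¹ * (c * r * c⁻¹) * c⁻¹⁻¹ = r := by group
  rwa [h3] at h2

/-- the elementary abelian `p`-subgroup of order `p²` of `L` containing `P` when `p ∈ τ₂(L)`. -/
theorem exists_elemAb_sq_ge_of_tau2 (hG : IsMinSimpleOddOrder G) {L : Subgroup G} (hL : IsCoatom L)
    {p : ℕ} [hp : Fact p.Prime] (hp2 : p ∈ tau2 L) {P : Subgroup G} (hPL : P ≤ L)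
    (hPc : Nat.card P = p) :
    ∃ B : Subgroup G, B ≤ L ∧ IsElementaryAbelian p B ∧ Nat.card B = p ^ 2 ∧ P ≤ B := by
  have hPp : IsPGroup p P := IsPGroup.of_card (n := 1) (by rw [hPc, pow_one])
  obtain ⟨S, hS, hPS⟩ := SylIn.exists_ge hPp hPL
  have hpL : p ∣ Nat.card ↥L := by rw [← hPc]; exact Subgroup.card_dvd_of_le hPL
  have hp2' : p ≠ 2 := prime_ne_two_of_dvd_card hG hpL
  have hSc : ¬ IsCyclic ↥S := by
    intro hSc
    haveI := hSc
    exact hp2.2.2.2 (pRankLE_of_sylIn hS (Cfsg.Agent.Lib.H7.BG13.pRankLE_one_of_isCyclic hp.out))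
  obtain ⟨B, hBS, hBe, hBc⟩ :=
    Cfsg.Agent.Lib.H20.BGT.exists_elemAb_sq_of_not_cyclic hp2' hS.isPGroup hSc
  refine ⟨B, hBS.trans hS.le, hBe, hBc, ?_⟩
  obtain ⟨S', hS'⟩ := hS.exists_sylow
  have h17 := (Cfsg.Agent.S1417.result hG L hL p hp2 B ⟨hBS.trans hS.le, hBe, hBc⟩).2.1 S'
  rw [hS'] at h17
  have h1 := (h17.2 hBS).1
  intro x hx
  apply (h1 x (hPS hx)).1
  have := orderOf_dvd_natCard (⟨x, hx⟩ : P)
  rw [hPc, Subgroup.orderOf_mk] at this
  exact orderOf_dvd_iff_pow_eq_one.1 this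

/-- **THETA is impossible**. -/
theorem no_theta (hG : IsMinSimpleOddOrder G) {M : Subgroup G} (hM : IsCoatom M)
    {E : Subgroup G} (hE : IsComplIn E (sigmaCore M) M) {p : ℕ} (hp1 : p ∈ tau1 M)
    {P : Subgroup G} (hPE : P ≤ E) (hPc : Nat.card P = p)
    (hK : sigmaCore M ⊓ Subgroup.centralizer (P : Set G) ≠ ⊥)
    {t : ℕ} [ht : Fact t.Prime] (ht2 : t ∈ tau2 M) {A : Subgroup G} (hAE : A ≤ E)
    (hAe : IsElementaryAbelian t A) (hAc : Nat.card A = t ^ 2) {R : Subgroup G} (hRA : R ≤ A)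
    (hRc : Nat.card R = t) (hRP : R ≤ Subgroup.centralizer (P : Set G))
    (hAP : ¬ A ≤ Subgroup.centralizer (P : Set G)) : False := by
  have h13 := Cfsg.Agent.Lib.H16.BGHyp.hyp13 hG
  have hU := Cfsg.Agent.Lib.H20.BGT.uniq3 hG
  haveI hpF : Fact p.Prime := ⟨hp1.1⟩
  have hAM : A ≤ M := hAE.trans hE.1
  have hPp : IsPGroup p P := IsPGroup.of_card (n := 1) (by rw [hPc, pow_one])
  have hAp : IsPGroup t A := IsPGroup.of_card (n := 2) hAc
  have hRp : IsPGroup t R := hAp.to_le hRA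
  have hP1 : P ≠ ⊥ := by
    intro h; rw [h, Subgroup.card_bot] at hPc; exact hpF.out.one_lt.ne hPc
  have hR1 : R ≠ ⊥ := by
    intro h; rw [h, Subgroup.card_bot] at hRc; exact ht.out.one_lt.ne hRc
  have hA1 : A ≠ ⊥ := _root_.ne_bot_of_le_ne_bot hR1 hRA
  have hpt : p ≠ t := by
    rintro rfl
    exact ht2.2.2.2 hp1.2.2.2.2
  -- (1)
  have h28 := Cfsg.Agent.S1428.result hG M hM E hE p hp1 P hPE hPc R
    (le_inf (hRA.trans hAE) hRP) (by rw [hRc]; exact ht.out)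
  have hRσ : sigmaCore M ⊓ Subgroup.centralizer (R : Set G) ≠ ⊥ :=
    fun h => hK (eq_bot_iff.2 (h ▸ h28))
  have h18 := Cfsg.Agent.S1418.result hG M hM E hE t ht2 A ⟨hAE, hAe, hAc⟩
  obtain ⟨hRM, hRu⟩ := h18.2.2 R hRA hRc hRσ
  have hEA : E ≤ Subgroup.normalizer (A : Set G) := h18.1.1
  -- (2)
  have hNtop : Subgroup.normalizer (A : Set G) ≠ ⊤ := normalizer_ne_top_of_isPGroup hG hAp hA1
  obtain ⟨L, hL, hNL⟩ := exists_coatom_ge hNtop
  have hLM : L ≠ M := fun e => h18.2.1.2.2 (e ▸ hNL)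
  have hEL : E ≤ L := hEA.trans hNL
  have hAL : A ≤ L := hAE.trans hEL
  have hσL : sigmaCore M ⊓ L = ⊥ :=
    (Cfsg.Agent.S1417.result hG M hM t ht2 A ⟨hAM, hAe, hAc⟩).2.2.2.2.1 L hL hLM hAL
  have htσL : t ∈ sigma L := by
    by_contra htσL
    have ht2L : t ∈ tau2 L :=
      Cfsg.Agent.Lib.H20.BGT.mem_tau2_of_elemAb_sq hG hL htσL hAL hAe hAc
    obtain ⟨EL, hELc, hAEL⟩ := Cfsg.Agent.Lib.H19.BG13.exists_compl_ge hG hL hAL (by
      intro q hq hd
      rw [Cfsg.Agent.Lib.H8.BG12.prime_eq_of_dvd_card_pGroup hAp hq hd]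
      exact htσL)
    exact (Cfsg.Agent.S1418.result hG L hL EL hELc t ht2L A ⟨hAEL, hAe, hAc⟩).2.1.2.2 hNL
  have hAσ : A ≤ sigmaCore L :=
    Cfsg.Agent.Lib.H20.BGT.le_sigmaCore_of_isPiCard hG hL hAL
      (isPiCard_of_isPGroup ht.out htσL hAp)
  have htβ : t ∉ beta L := fun h =>
    (Cfsg.Agent.S1408.result hG M hM t ht2.2.1 ht2.2.2.1 ht2.2.2.2).1 h.2
  -- the decomposition of `A`
  have hPA : P ≤ Subgroup.normalizer (A : Set G) := hPE.trans hEA
  have hact : CoprimeAction P A :=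
    Cfsg.Agent.Lib.H19.BG13.coprimeAction_of_isPGroup hpt hPp hAp hPA
  haveI : IsMulCommutative ↥A := hAe.1
  set A₁ : Subgroup G := ⁅A, P⁆ with hA₁
  have hdec := Cfsg.Agent.Lib.H1.coprime_commutator_sup_centralizer hact
  have hint := Cfsg.Agent.Lib.H1.coprime_abelian_centralizer_inf_commutator hPA hact.coprime
  have hA₁A : A₁ ≤ A := hact.commutator_le
  have hA₁1 : A₁ ≠ ⊥ := by
    intro h
    apply hAP
    rw [← hdec, ← hA₁, h, bot_sup_eq]
    exact inf_le_right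
  have hPA₁ : P ≤ Subgroup.normalizer (A₁ : Set G) := le_normalizer_commutator hPA
  have hA₁P : A₁ ⊓ Subgroup.centralizer (P : Set G) = ⊥ := by
    rw [eq_bot_iff, ← hint]
    exact le_inf (inf_le_inf_right _ hA₁A) inf_le_left
  have hA₁p : IsPGroup t A₁ := hAp.to_le hA₁A
  have hcontra : ¬ A₁ ≤ Subgroup.centralizer (P : Set G) := by
    intro h
    apply hA₁1
    rw [eq_bot_iff, ← hA₁P]
    exact le_inf le_rfl h
  -- (3)
  have hKL : ¬ sigmaCore M ⊓ Subgroup.centralizer (P : Set G) ≤ L := by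
    intro h
    apply hK
    rw [eq_bot_iff, ← hσL]
    exact le_inf inf_le_left h
  have hNPtop : Subgroup.normalizer (P : Set G) ≠ ⊤ := normalizer_ne_top_of_isPGroup hG hPp hP1
  obtain ⟨Ms, hMs, hNPMs⟩ := exists_coatom_ge hNPtop
  have hCPMs : Subgroup.centralizer (P : Set G) ≤ Ms :=
    (Subgroup.centralizer_le_normalizer (P : Set G)).trans hNPMs
  have hMsL : Ms ≠ L := fun e => hKL (inf_le_right.trans (e ▸ hCPMs))
  have hRMs : R ≤ Ms := hRP.trans hCPMs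
  have hRσL : R ≤ sigmaCore L := hRA.trans hAσ
  have hPL : P ≤ L := hPE.trans hEL
  have hpL : p ∣ Nat.card ↥L := by rw [← hPc]; exact Subgroup.card_dvd_of_le hPL
  have hσL' : sigmaCore L ≤ ⁅L, L⁆ := sigmaCore_le_commutator hG hU hL
  have hcop : (Nat.card ↥P).Coprime (Nat.card ↥A₁) :=
    Cfsg.Agent.Lib.H19.BG13.isPGroup_coprime_card hpt hPp hA₁p
  have hβA₁ : ∀ q : ℕ, q.Prime → q ∣ Nat.card ↥A₁ → q ∉ beta L := by
    intro q hq hd
    rw [Cfsg.Agent.Lib.H8.BG12.prime_eq_of_dvd_card_pGroup hA₁p hq hd]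
    exact htβ
  have hβP : p ∉ beta L → ∀ q : ℕ, q.Prime → q ∣ Nat.card ↥P → q ∉ beta L := by
    intro h q hq hd
    rw [Cfsg.Agent.Lib.H8.BG12.prime_eq_of_dvd_card_pGroup hPp hq hd]
    exact h
  -- (4)
  rcases Cfsg.Agent.Lib.H19.BG13.prime_type hG hL hpF.out hpL with hpσ | hpτ1 | hpτ2 | hpτ3
  · -- `p ∈ σ(L)`
    have hpβ : p ∉ beta L := by
      intro hpβ
      obtain ⟨S⟩ : Nonempty (Sylow p ↥(sigmaCore L)) := inferInstance
      have := (Cfsg.Agent.S1423.result hG L hL p hpσ P hPL hPc S (Or.inl hpβ)).1.1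
      exact hKL (inf_le_right.trans this)
    have hPσ : P ≤ sigmaCore L :=
      Cfsg.Agent.Lib.H20.BGT.le_sigmaCore_of_isPiCard hG hL hPL
        (isPiCard_of_isPGroup hpF.out hpσ hPp)
    exact hcontra (Cfsg.Agent.Lib.H19.BG13.le_centralizer_of_beta' hG hL (hPσ.trans hσL')
      ((hA₁A.trans hAσ).trans hσL') hPA₁ hcop (hβP hpβ) hβA₁)
  · -- `p ∈ τ₁(L)`
    obtain ⟨EL, hELc, hPEL⟩ := Cfsg.Agent.Lib.H19.BG13.exists_compl_ge hG hL hPL (by
      intro q hq hd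
      rw [Cfsg.Agent.Lib.H8.BG12.prime_eq_of_dvd_card_pGroup hPp hq hd]
      exact hpτ1.2.1)
    have hσLh := (Cfsg.Agent.Lib.H20.BGS.sigma_core_hall hG hU hL).1
    by_cases hτ₂ : ∃ s : ℕ, s ∈ tau2 L
    · obtain ⟨s, hs2⟩ := hτ₂
      haveI hsF : Fact s.Prime := ⟨hs2.1⟩
      -- `A' = E_{s²} ≤ E_L`
      obtain ⟨T', hT'⟩ := SylIn.exists_sylIn s EL
      have hT'L : SylIn s T' L := Cfsg.Agent.Lib.H8.BG12.sylIn_of_compl hσLh hELc hs2.2.1 hT'
      have hT'c : ¬ IsCyclic ↥T' := by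
        intro hc
        haveI := hc
        exact hs2.2.2.2 (pRankLE_of_sylIn hT'L
          (Cfsg.Agent.Lib.H7.BG13.pRankLE_one_of_isCyclic hsF.out))
      have hT'1 : T' ≠ ⊥ := by
        intro h
        apply hT'c
        rw [h]
        exact isCyclic_of_subsingleton
      have hs2' : s ≠ 2 :=
        prime_ne_two_of_dvd_card hG (dvd_card_of_ne_bot hT'L.isPGroup hT'L.le hT'1)
      obtain ⟨A', hA'T, hA'e, hA'c⟩ :=
        Cfsg.Agent.Lib.H20.BGT.exists_elemAb_sq_of_not_cyclic hs2' hT'.isPGroup hT'c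
      have hA'E : A' ≤ EL := hA'T.trans hT'.le
      have hA'L : A' ≤ L := hA'E.trans hELc.1
      have hA'p : IsPGroup s A' := IsPGroup.of_card (n := 2) hA'c
      have h17L := Cfsg.Agent.S1417.result hG L hL s hs2 A' ⟨hA'L, hA'e, hA'c⟩
      have hnil : Group.IsNilpotent ↥(sigmaCore L) := h17L.1
      have h18L := Cfsg.Agent.S1418.result hG L hL EL hELc s hs2 A' ⟨hA'E, hA'e, hA'c⟩
      have hPA' : P ≤ Subgroup.normalizer (A' : Set G) := hPEL.trans h18L.1.1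
      have hst : s ≠ t := by
        rintro rfl
        exact hs2.2.1 htσL
      have hps : p ≠ s := by
        rintro rfl
        exact hs2.2.2.2 hpτ1.2.2.2.2
      have hact' : CoprimeAction P A' :=
        Cfsg.Agent.Lib.H19.BG13.coprimeAction_of_isPGroup hps hPp hA'p hPA'
      have hdec' := Cfsg.Agent.Lib.H1.coprime_commutator_sup_centralizer hact'
      -- `T = O_t(L_σ) ≥ R`
      set T : Subgroup G := piCoreOf ({t} : Set ℕ) (sigmaCore L) with hT
      have hRT : R ≤ T := le_piCoreOf_of_nilpotent hnil hRσL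
        (isPiCard_of_isPGroup ht.out (Set.mem_singleton t) hRp)
      have hTp : IsPGroup t T := isPGroup_piCoreOf_singleton t (sigmaCore L)
      have hLT : L ≤ Subgroup.normalizer (T : Set G) :=
        (Cfsg.Agent.Lib.H20.BGS.le_normalizer_sigmaCore L).trans
          (normalizer_le_normalizer_piCoreOf _ _)
      have hTσ : T ≤ sigmaCore L := piCoreOf_le _ _
      have hA'₁E : ⁅A', P⁆ ≤ ⁅EL, EL⁆ := Subgroup.commutator_mono hA'E hPEL
      have hA'₁A' : ⁅A', P⁆ ≤ A' := hact'.commutator_le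
      have hA'₁p : IsPGroup s (⁅A', P⁆ : Subgroup G) := hA'p.to_le hA'₁A'
      have hsβ : s ∉ beta L := fun h => hs2.2.1 (alpha_subset_sigma hG hU hL h.1)
      have h1 : T ≤ Subgroup.centralizer ((⁅A', P⁆ : Subgroup G) : Set G) :=
        Cfsg.Agent.Lib.H19.BG13.le_centralizer_of_beta' hG hL
          (hA'₁E.trans (Subgroup.commutator_mono hELc.1 hELc.1)) (hTσ.trans hσL')
          ((hA'₁A'.trans hA'L).trans hLT)
          (Cfsg.Agent.Lib.H19.BG13.isPGroup_coprime_card hst hA'₁p hTp)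
          (by
            intro q hq hd
            rw [Cfsg.Agent.Lib.H8.BG12.prime_eq_of_dvd_card_pGroup hA'₁p hq hd]
            exact hsβ)
          (by
            intro q hq hd
            rw [Cfsg.Agent.Lib.H8.BG12.prime_eq_of_dvd_card_pGroup hTp hq hd]
            exact htβ)
      have h2 : ⁅A', P⁆ ≤ Subgroup.centralizer (R : Set G) :=
        le_centralizer_comm (hRT.trans h1)
      have h3 : A' ⊓ Subgroup.centralizer (P : Set G) ≤ Subgroup.centralizer (R : Set G) := by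
        intro x hx
        obtain ⟨hxA', hxP⟩ := Subgroup.mem_inf.1 hx
        by_cases hx1 : x = 1
        · rw [hx1]; exact Subgroup.one_mem _
        have hxs : x ^ s = 1 := hA'e.2 x hxA'
        have hox : orderOf x = s := orderOf_eq_prime hxs hx1
        have hXc : Nat.card (Subgroup.zpowers x) = s := by rw [Nat.card_zpowers, hox]
        have hXE : Subgroup.zpowers x ≤ EL ⊓ Subgroup.centralizer (P : Set G) := by
          rw [Subgroup.zpowers_le]
          exact Subgroup.mem_inf.2 ⟨hA'E hxA', hxP⟩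
        have h28L := Cfsg.Agent.S1428.result hG L hL EL hELc p hpτ1 P hPEL hPc
          (Subgroup.zpowers x) hXE (by rw [hXc]; exact hsF.out)
        have hRx : R ≤ Subgroup.centralizer ((Subgroup.zpowers x : Subgroup G) : Set G) :=
          (le_inf hRσL hRP).trans (h28L.trans inf_le_right)
        exact le_centralizer_comm hRx (Subgroup.mem_zpowers x)
      have hA'R : A' ≤ Subgroup.centralizer (R : Set G) := by
        rw [← hdec']
        exact sup_le h2 h3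
      have hA'M : A' ≤ M := hA'R.trans hRM
      have h4 := h17L.2.2.2.2.1 M hM hLM.symm hA'M
      apply hR1
      rw [eq_bot_iff, ← h4]
      exact le_inf hRσL (hRA.trans hAM)
    · -- `τ₂(L) = ∅`
      have hτ₂' : ∀ s : ℕ, s ∉ tau2 L := fun s hs => hτ₂ ⟨s, hs⟩
      have hR' := le_commutator_sigmaCore_of_tau2_empty hG hL hELc hτ₂' hpτ1 hPEL hPc htσL htβ
        hRσL hRp hRP
      obtain ⟨S⟩ : Nonempty (Sylow t ↥(sigmaCore L)) := inferInstance
      have := (Cfsg.Agent.S1423.result hG L hL t htσL R (hRσL.trans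
        (Cfsg.Agent.Lib.H20.BGS.sigmaCore_le L)) hRc S (Or.inr hR')).1.1
      exact hLM (hRu L hL this)
  · -- `p ∈ τ₂(L)`
    obtain ⟨B, hBL, hBe, hBc, hPB⟩ := exists_elemAb_sq_ge_of_tau2 hG hL hpτ2 hPL hPc
    have hBP : B ≤ Subgroup.centralizer (P : Set G) := by
      intro b hb
      rw [Subgroup.mem_centralizer_iff]
      intro x hx
      have := hBe.1.is_comm.comm (⟨x, hPB hx⟩ : B) ⟨b, hb⟩
      exact congrArg Subtype.val this
    have h4 := (Cfsg.Agent.S1417.result hG L hL p hpτ2 B ⟨hBL, hBe, hBc⟩).2.2.2.2.1 Ms hMs hMsL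
      (hBP.trans hCPMs)
    apply hR1
    rw [eq_bot_iff, ← h4]
    exact le_inf hRσL hRMs
  · -- `p ∈ τ₃(L)`
    have hpβ : p ∉ beta L := fun h => hpτ3.2.1 (alpha_subset_sigma hG hU hL h.1)
    have hPL' : P ≤ ⁅L, L⁆ := Cfsg.Agent.Lib.H19.BG13.tau3_le_commutator hG hL hpτ3 hPp hPL
    exact hcontra (Cfsg.Agent.Lib.H19.BG13.le_centralizer_of_beta' hG hL hPL'
      ((hA₁A.trans hAσ).trans hσL') hPA₁ hcop (hβP hpβ) hβA₁)

end Cfsg.Agent.Lib.H7.BG14t
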