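import Mathlib
import Cfsg.Agent.Lib.H7.BG14t
import Cfsg.Agent.Lib.H7.BG14b

/-!
# BG Theorem 14.2(a),(c) for a cyclic Hall `κ(M)`-subgroup `K` (helper7)

* `compl_inf_centralizer_eq` : `C_E(k) = K` for `1 ≠ k ∈ K ≤ E`.
* `inf_centralizer_singleton_eq` : `C_M(k) = K C_{M_σ}(K)` (S1354).
* `inf_centralizer_singleton_eq_bot` : `C_U(k) = 1` (S1353).
-/

set_option autoImplicit false
set_option linter.style.haveILetI false
set_option linter.unusedSectionVars false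
set_option linter.unusedVariables false
open Cfsg
open Cfsg.Agent.Lib.H16.BG
open Cfsg.Agent.Lib.H7.BG7
open Cfsg.Agent.Lib.H7.BG10
open Cfsg.Agent.Lib.H19 (IsPiCard)
open Cfsg.Agent.Lib.H1 (CoprimeAction)

namespace Cfsg.Agent.Lib.H7.BG14u

universe u
variable {G : Type u} [Group G] [Finite G]

local notation:max "cj(" g ", " X ")" => Subgroup.map (MulEquiv.toMonoidHom (MulAut.conj g)) X

theorem exists_le_card_prime {Z : Subgroup G} (hZ : Z ≠ ⊥) :
    ∃ p : ℕ, p.Prime ∧ ∃ X : Subgroup G, X ≤ Z ∧ Nat.card X = p := by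
  have hc : Nat.card ↥Z ≠ 1 := fun h => hZ (Subgroup.card_eq_one.1 h)
  obtain ⟨p, hp, hd⟩ := Nat.exists_prime_and_dvd hc
  haveI : Fact p.Prime := ⟨hp⟩
  obtain ⟨x, hx⟩ := exists_prime_orderOf_dvd_card' p hd
  refine ⟨p, hp, Subgroup.zpowers (x : G), ?_, ?_⟩
  · rw [Subgroup.zpowers_le]; exact x.2
  · rw [Nat.card_zpowers, Subgroup.orderOf_coe, hx]

theorem sigmaCore_inf_centralizer_ne_bot (hG : IsMinSimpleOddOrder G) {M : Subgroup G}
    (hM : IsCoatom M) {K : Subgroup G} (hK : IsPiHallOf (kappa M) K M) {X : Subgroup G}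
    (hXK : X ≤ K) {p : ℕ} (hp : p.Prime) (hXc : Nat.card X = p) :
    sigmaCore M ⊓ Subgroup.centralizer (X : Set G) ≠ ⊥ := by
  have h13 := Cfsg.Agent.Lib.H16.BGHyp.hyp13 hG
  haveI : Fact p.Prime := ⟨hp⟩
  have hpκ : p ∈ kappa M := hK.2.1 p hp (by rw [← hXc]; exact Subgroup.card_dvd_of_le hXK)
  have hXp : IsPGroup p X := IsPGroup.of_card (n := 1) (by rw [hXc, pow_one])
  obtain ⟨S, hS, hXS⟩ := SylIn.exists_ge hXp hXK
  have hSM : SylIn p S M := Cfsg.Agent.Lib.H20.BGV.sylIn_of_hall hK hpκ hS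
  obtain ⟨P, hP⟩ := hSM.exists_sylow
  obtain ⟨hPc, x, hxP, hx1, y, hyσ, hy1, hxy⟩ := hpκ.2.2.2 P
  have hSc : IsCyclic ↥S := by
    rw [← hP]
    haveI := hPc
    exact isCyclic_of_surjective
      ((P : Subgroup M).equivMapOfInjective _ M.subtype_injective).toMonoidHom
      ((P : Subgroup M).equivMapOfInjective _ M.subtype_injective).surjective
  have hr1 : PRankLE p 1 ↥M := by
    haveI := hSc
    exact pRankLE_of_sylIn hSM (Cfsg.Agent.Lib.H7.BG13.pRankLE_one_of_isCyclic hp)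
  have hxS : (x : G) ∈ S := by rw [← hP]; exact ⟨x, hxP, rfl⟩
  have hx1' : (x : G) ≠ 1 := fun h => hx1 (Subtype.ext h)
  have h1 := Cfsg.Agent.Lib.H19.BG13.sigmaCore_inf_centralizer_le_of_rank_one hG h13 hM
    hpκ.2.2.1 hr1 hSM.isPGroup hSM.le hxS hx1'
  have hy : y ∈ sigmaCore M ⊓ Subgroup.centralizer ({(x : G)} : Set G) := by
    refine Subgroup.mem_inf.2 ⟨hyσ, ?_⟩
    rw [Subgroup.mem_centralizer_iff]
    intro z hz
    rw [Set.mem_singleton_iff] at hz
    rw [hz]; exact hxy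
  intro hbot
  apply hy1
  have : y ∈ sigmaCore M ⊓ Subgroup.centralizer (X : Set G) :=
    Subgroup.mem_inf.2 ⟨hyσ, Subgroup.centralizer_le hXS (h1 hy)⟩
  rw [hbot] at this
  exact Subgroup.mem_bot.1 this

/-- a subgroup `R` of prime order of `E` centralizing `X ≤ K` of prime order has `|R| ∈ κ(M)`. -/
theorem mem_kappa_of_le_centralizer (hG : IsMinSimpleOddOrder G) {M : Subgroup G}
    (hM : IsCoatom M) {K : Subgroup G} (hKc : IsCyclic ↥K) (hK : IsPiHallOf (kappa M) K M)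
    {E : Subgroup G} (hE : IsComplIn E (sigmaCore M) M) {X : Subgroup G} (hXK : X ≤ K)
    (hXE : X ≤ E) {p : ℕ} (hp : p.Prime) (hXc : Nat.card X = p) {R : Subgroup G} (hRE : R ≤ E)
    {r : ℕ} (hr : r.Prime) (hRc : Nat.card R = r) (hRX : R ≤ Subgroup.centralizer (X : Set G)) :
    r ∈ kappa M := by
  have hU := Cfsg.Agent.Lib.H20.BGT.uniq3 hG
  have hσ := (Cfsg.Agent.Lib.H20.BGS.sigma_core_hall hG hU hM).1
  haveI hpF : Fact p.Prime := ⟨hp⟩
  haveI hrF : Fact r.Prime := ⟨hr⟩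
  have hpκ : p ∈ kappa M := hK.2.1 p hp (by rw [← hXc]; exact Subgroup.card_dvd_of_le hXK)
  have hp1 : p ∈ tau1 M := Cfsg.Agent.Lib.H7.BG13t.mem_tau1_of_mem_kappa hG hM hKc hK hpκ
  have hKs := sigmaCore_inf_centralizer_ne_bot hG hM hK hXK hp hXc
  have hRM : R ≤ M := hRE.trans hE.1
  have hrE : r ∣ Nat.card ↥E := by rw [← hRc]; exact Subgroup.card_dvd_of_le hRE
  have hrσ : r ∉ sigma M := Cfsg.Agent.Lib.H8.BG12.compl_not_sigma hσ hE hr hrE
  have hrM : r ∣ Nat.card ↥M := hrE.trans (Subgroup.card_dvd_of_le hE.1)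
  have h28 := Cfsg.Agent.S1428.result hG M hM E hE p hp1 X hXE hXc R (le_inf hRE hRX)
    (by rw [hRc]; exact hr)
  have hRσ : sigmaCore M ⊓ Subgroup.centralizer (R : Set G) ≠ ⊥ :=
    fun h => hKs (eq_bot_iff.2 (h ▸ h28))
  rcases Cfsg.Agent.Lib.H19.BG13.prime_type hG hM hr hrM with h | h | h | h
  · exact absurd h hrσ
  · exact Cfsg.Agent.Lib.H7.BG13t.mem_kappa_of_centralizer_ne_bot hG hM hrσ h.2.2.2.2 hRM hRc hRσ
  · -- `r ∈ τ₂(M)`: THETA
    exfalso
    obtain ⟨T, hT⟩ := SylIn.exists_sylIn r E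
    have hTM : SylIn r T M := Cfsg.Agent.Lib.H8.BG12.sylIn_of_compl hσ hE hrσ hT
    have hTc : ¬ IsCyclic ↥T := by
      intro hc
      haveI := hc
      exact h.2.2.2 (pRankLE_of_sylIn hTM (Cfsg.Agent.Lib.H7.BG13.pRankLE_one_of_isCyclic hr))
    have hr2 : r ≠ 2 := prime_ne_two_of_dvd_card hG hrM
    obtain ⟨A, hAT, hAe, hAc⟩ :=
      Cfsg.Agent.Lib.H20.BGT.exists_elemAb_sq_of_not_cyclic hr2 hT.isPGroup hTc
    have hAE : A ≤ E := hAT.trans hT.le
    have hAM : A ≤ M := hAE.trans hE.1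
    have h18 := Cfsg.Agent.S1418.result hG M hM E hE r h A ⟨hAE, hAe, hAc⟩
    have hRA : R ≤ A := h18.1.2 R hRE hRc
    have h17 := Cfsg.Agent.S1417.result hG M hM r h A ⟨hAM, hAe, hAc⟩
    apply Cfsg.Agent.Lib.H7.BG14t.no_theta hG hM hE hp1 hXE hXc hKs h hAE hAe hAc hRA hRc
      (le_centralizer_comm (le_centralizer_comm hRX))
    intro hAX
    -- `A ≤ C(X)`: then `C_{M_σ}(X) ≤ C_{M_σ}(A) = 1`
    apply hKs
    rw [eq_bot_iff, ← h17.2.2.2.1]
    refine le_inf inf_le_left ?_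
    intro w hw
    rw [Subgroup.mem_centralizer_iff]
    intro a ha
    by_cases ha1 : a = 1
    · rw [ha1]; simp
    have har : a ^ r = 1 := hAe.2 a ha
    have hoa : orderOf a = r := orderOf_eq_prime har ha1
    have hZc : Nat.card (Subgroup.zpowers a) = r := by rw [Nat.card_zpowers, hoa]
    have hZE : Subgroup.zpowers a ≤ E ⊓ Subgroup.centralizer (X : Set G) := by
      rw [Subgroup.zpowers_le]
      exact Subgroup.mem_inf.2 ⟨hAE ha, hAX ha⟩
    have h28' := Cfsg.Agent.S1428.result hG M hM E hE p hp1 X hXE hXc (Subgroup.zpowers a) hZE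
      (by rw [hZc]; exact hr)
    have := (h28' hw).2
    exact Subgroup.mem_centralizer_iff.1 this a (Subgroup.mem_zpowers a)
  · exact Cfsg.Agent.Lib.H7.BG13t.mem_kappa_of_centralizer_ne_bot hG hM hrσ h.2.2.2 hRM hRc hRσ

/-- **`C_E(k) = K`** for `1 ≠ k ∈ K`, `K ≤ E` a cyclic Hall `κ(M)`-subgroup. -/
theorem compl_inf_centralizer_eq (hG : IsMinSimpleOddOrder G) {M : Subgroup G}
    (hM : IsCoatom M) {K : Subgroup G} (hKc : IsCyclic ↥K) (hK : IsPiHallOf (kappa M) K M)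
    {E : Subgroup G} (hE : IsComplIn E (sigmaCore M) M) (hKE : K ≤ E) {k : G} (hk : k ∈ K)
    (hk1 : k ≠ 1) : E ⊓ Subgroup.centralizer ({k} : Set G) = K := by
  have hZ1 : Subgroup.zpowers k ≠ ⊥ := by
    intro h
    apply hk1
    have : k ∈ Subgroup.zpowers k := Subgroup.mem_zpowers k
    rw [h] at this
    exact Subgroup.mem_bot.1 this
  obtain ⟨p, hp, X, hXZ, hXc⟩ := exists_le_card_prime hZ1
  have hZK : Subgroup.zpowers k ≤ K := by rw [Subgroup.zpowers_le]; exact hk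
  have hXK : X ≤ K := hXZ.trans hZK
  set C : Subgroup G := E ⊓ Subgroup.centralizer ({k} : Set G) with hC
  have hCX : C ≤ Subgroup.centralizer (X : Set G) := by
    intro c hc
    have h1 : c ∈ Subgroup.centralizer ({k} : Set G) := hc.2
    rw [Cfsg.Agent.Lib.H7.centralizer_singleton_eq_centralizer_zpowers] at h1
    exact Subgroup.centralizer_le hXZ h1
  have hab := Cfsg.Agent.Lib.H7.BG138.isMulCommutative_of_isCyclic hKc
  have hKC : K ≤ C := by
    refine le_inf hKE ?_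
    intro a ha
    rw [Subgroup.mem_centralizer_iff]
    intro z hz
    rw [Set.mem_singleton_iff] at hz
    rw [hz]
    have := hab.is_comm.comm (⟨k, hk⟩ : K) ⟨a, ha⟩
    exact congrArg Subtype.val this
  have hCM : C ≤ M := inf_le_left.trans hE.1
  apply le_antisymm _ hKC
  rw [← Subgroup.relIndex_eq_one]
  by_contra hne
  obtain ⟨q, hq, hqd⟩ := Nat.exists_prime_and_dvd hne
  haveI : Fact q.Prime := ⟨hq⟩
  have hqC : q ∣ Nat.card ↥C := hqd.trans (Subgroup.relIndex_dvd_card K C)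
  obtain ⟨x, hx⟩ := exists_prime_orderOf_dvd_card' q hqC
  have hRc : Nat.card (Subgroup.zpowers (x : G)) = q := by
    rw [Nat.card_zpowers, Subgroup.orderOf_coe, hx]
  have hRC : Subgroup.zpowers (x : G) ≤ C := by rw [Subgroup.zpowers_le]; exact x.2
  have hqκ : q ∈ kappa M := mem_kappa_of_le_centralizer hG hM hKc hK hE hXK (hXK.trans hKE) hp hXc
    (hRC.trans inf_le_left) hq hRc (hRC.trans hCX)
  apply hK.2.2 q hq hqκ
  rw [← Subgroup.relIndex_mul_relIndex K C M hKC hCM]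
  exact Dvd.dvd.mul_right hqd _

/-- `C_{M_σ}(k) = C_{M_σ}(K)` for `1 ≠ k ∈ K` (prime action of `K`). -/
theorem sigmaCore_inf_centralizer_singleton_le (hG : IsMinSimpleOddOrder G) {M : Subgroup G}
    (hM : IsCoatom M) {K : Subgroup G} (hKc : IsCyclic ↥K) (hK : IsPiHallOf (kappa M) K M)
    {E : Subgroup G} (hE : IsComplIn E (sigmaCore M) M) (hKE : K ≤ E) {k : G} (hk : k ∈ K)
    (hk1 : k ≠ 1) :
    sigmaCore M ⊓ Subgroup.centralizer ({k} : Set G) ≤ Subgroup.centralizer (K : Set G) := by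
  have hZ1 : Subgroup.zpowers k ≠ ⊥ := by
    intro h
    apply hk1
    have : k ∈ Subgroup.zpowers k := Subgroup.mem_zpowers k
    rw [h] at this
    exact Subgroup.mem_bot.1 this
  obtain ⟨p, hp, X, hXZ, hXc⟩ := exists_le_card_prime hZ1
  have hZK : Subgroup.zpowers k ≤ K := by rw [Subgroup.zpowers_le]; exact hk
  have hXK : X ≤ K := hXZ.trans hZK
  have hτ : ∀ q : ℕ, q.Prime → q ∣ Nat.card K → q ∈ tau1 M := fun q hq hd =>
    Cfsg.Agent.Lib.H7.BG13t.mem_tau1_of_mem_kappa hG hM hKc hK (hK.2.1 q hq hd)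
  have h1 := Cfsg.Agent.Lib.H7.BG14t.sigmaCore_inf_centralizer_le_of_cyclic_tau1 hG hM hE hKE hKc
    hτ hXK hp hXc
  refine le_trans (inf_le_inf_left _ ?_) h1
  rw [Cfsg.Agent.Lib.H7.centralizer_singleton_eq_centralizer_zpowers]
  exact Subgroup.centralizer_le hXZ

/-- **`C_M(k) = K × C_{M_σ}(K)`** for `1 ≠ k ∈ K`. -/
theorem inf_centralizer_singleton_eq (hG : IsMinSimpleOddOrder G) {M : Subgroup G}
    (hM : IsCoatom M) {K : Subgroup G} (hKc : IsCyclic ↥K) (hK : IsPiHallOf (kappa M) K M)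
    {k : G} (hk : k ∈ K) (hk1 : k ≠ 1) :
    M ⊓ Subgroup.centralizer ({k} : Set G) =
      K ⊔ (sigmaCore M ⊓ Subgroup.centralizer (K : Set G)) := by
  obtain ⟨E, hE, hKE⟩ := Cfsg.Agent.Lib.H19.BG13.exists_compl_ge hG hM hK.1
    (fun q hq hd => (hK.2.1 q hq hd).2.2.1)
  have hab := Cfsg.Agent.Lib.H7.BG138.isMulCommutative_of_isCyclic hKc
  have hσn : M ≤ Subgroup.normalizer ((sigmaCore M : Subgroup G) : Set G) :=
    Cfsg.Agent.Lib.H20.BGS.le_normalizer_sigmaCore M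
  apply le_antisymm
  · intro m hm
    obtain ⟨hmM, hmk⟩ := Subgroup.mem_inf.1 hm
    have hmk' : k * m = m * k :=
      Subgroup.mem_centralizer_iff.1 hmk k (Set.mem_singleton k)
    obtain ⟨e, he, s, hs, rfl⟩ := hE.2.2.2 m hmM
    have hkE : k ∈ E := hKE hk
    -- `c = s k s⁻¹ k⁻¹ = e⁻¹ k e k⁻¹`
    have hc1 : s * k * s⁻¹ * k⁻¹ ∈ sigmaCore M := by
      have h1 : k * s⁻¹ * k⁻¹ ∈ sigmaCore M :=
        ((Subgroup.mem_normalizer_iff.1 (hσn (hE.1 hkE))) s⁻¹).1 ((sigmaCore M).inv_mem hs)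
      have : s * k * s⁻¹ * k⁻¹ = s * (k * s⁻¹ * k⁻¹) := by group
      rw [this]; exact (sigmaCore M).mul_mem hs h1
    have hc2 : s * k * s⁻¹ * k⁻¹ = e⁻¹ * k * e * k⁻¹ := by
      have h1 : s * k * s⁻¹ = e⁻¹ * (e * s * k) * s⁻¹ := by group
      rw [h1, ← hmk']
      group
    have hc3 : e⁻¹ * k * e * k⁻¹ ∈ E :=
      E.mul_mem (E.mul_mem (E.mul_mem (E.inv_mem he) hkE) he) (E.inv_mem hkE)
    have hc : s * k * s⁻¹ * k⁻¹ = 1 := by
      have : s * k * s⁻¹ * k⁻¹ ∈ E ⊓ sigmaCore M := ⟨hc2 ▸ hc3, hc1⟩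
      rw [hE.2.2.1] at this
      exact Subgroup.mem_bot.1 this
    have hsk : k * s = s * k := by
      have : s * k = (s * k * s⁻¹ * k⁻¹) * (k * s) := by group
      rw [this, hc, one_mul]
    have hek : k * e = e * k := by
      have h1 : e⁻¹ * k * e * k⁻¹ = 1 := by rw [← hc2, hc]
      have : k * e = e * (e⁻¹ * k * e * k⁻¹) * k := by group
      rw [this, h1, mul_one]
    have heK : e ∈ K := by
      rw [← compl_inf_centralizer_eq hG hM hKc hK hE hKE hk hk1]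
      refine Subgroup.mem_inf.2 ⟨he, ?_⟩
      rw [Subgroup.mem_centralizer_iff]
      intro z hz
      rw [Set.mem_singleton_iff] at hz
      rw [hz]; exact hek
    have hsK : s ∈ sigmaCore M ⊓ Subgroup.centralizer (K : Set G) := by
      refine Subgroup.mem_inf.2 ⟨hs, ?_⟩
      apply sigmaCore_inf_centralizer_singleton_le hG hM hKc hK hE hKE hk hk1
      refine Subgroup.mem_inf.2 ⟨hs, ?_⟩
      rw [Subgroup.mem_centralizer_iff]
      intro z hz
      rw [Set.mem_singleton_iff] at hz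
      rw [hz]; exact hsk
    exact Subgroup.mul_mem_sup heK hsK
  · apply sup_le
    · refine le_inf hK.1 ?_
      intro a ha
      rw [Subgroup.mem_centralizer_iff]
      intro z hz
      rw [Set.mem_singleton_iff] at hz
      rw [hz]
      have := hab.is_comm.comm (⟨k, hk⟩ : K) ⟨a, ha⟩
      exact congrArg Subtype.val this
    · refine le_inf (inf_le_left.trans (Cfsg.Agent.Lib.H20.BGS.sigmaCore_le M)) ?_
      intro a ha
      have h1 : a ∈ Subgroup.centralizer (K : Set G) := ha.2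
      rw [Subgroup.mem_centralizer_iff]
      intro z hz
      rw [Set.mem_singleton_iff] at hz
      rw [hz]
      exact Subgroup.mem_centralizer_iff.1 h1 k hk

/-- **`C_U(k) = 1`** for `1 ≠ k ∈ K` in a standard factorisation. -/
theorem inf_centralizer_singleton_eq_bot (hG : IsMinSimpleOddOrder G) {M K U : Subgroup G}
    (hM : IsCoatom M) (hKU : IsSigmaDecomposition M K U) {k : G} (hk : k ∈ K) (hk1 : k ≠ 1) :
    U ⊓ Subgroup.centralizer ({k} : Set G) = ⊥ := by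
  have hKM : K ≤ M := hKU.hall.1
  have hUM : U ≤ M := hKU.compl.1
  have hprimes : ∀ q : ℕ, q.Prime → q ∣ Nat.card (U ⊔ K : Subgroup G) → q ∉ sigma M := by
    intro q hq hd
    have h1 := hd.trans (Cfsg.Agent.Lib.H7.card_sup_dvd_mul_of_le_normalizer hKU.normal)
    rcases (Nat.Prime.dvd_mul hq).1 h1 with h2 | h2
    · exact (Cfsg.Agent.Lib.H7.BG14.not_mem_sigma_kappa_of_isSigmaDecomposition hG hM hKU hq h2).1
    · exact (hKU.hall.2.1 q hq h2).2.2.1
  obtain ⟨E, hE, hUKE⟩ := Cfsg.Agent.Lib.H19.BG13.exists_compl_ge hG hM (sup_le hUM hKM) hprimes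
  have hUE : U ≤ E := le_sup_left.trans hUKE
  have hKE : K ≤ E := le_sup_right.trans hUKE
  have h1 := compl_inf_centralizer_eq hG hM hKU.cyclic hKU.hall hE hKE hk hk1
  rw [eq_bot_iff, ← hKU.compl.2.2.1]
  refine le_inf inf_le_left ?_
  refine le_trans ?_ (le_sup_left : K ≤ K ⊔ sigmaCore M)
  rw [← h1]
  exact inf_le_inf_right _ hUE

end Cfsg.Agent.Lib.H7.BG14u
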