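import Mathlib
import Cfsg.Agent.Lib.H7.BG14u
import Cfsg.Agent.Lib.H7.BG139
import Cfsg.Agent.S1428

/-!
# BG 13.4 / 13.5 and the impossibility of the bad case of BG 14.2(d) (helper7)

* `mem_beta_or_le_commutator`
* `centralizer_le_uniq_of_tau1` : BG 13.4/13.5 for `p ∈ τ₁(M)`
* `sigma_partition'` : unconditional form of BG 13.9
* `no_theta'` : bad case of BG 14.2(d) cannot occur
-/

set_option autoImplicit false
set_option linter.style.haveILetI false
set_option linter.unusedSectionVars false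
set_option linter.unusedVariables false
open Cfsg
open Cfsg.Agent.Lib.H16.BG
open Cfsg.Agent.Lib.H7.BG7
open Cfsg.Agent.Lib.H7.BG10
open Cfsg.Agent.Lib.H19 (IsPiCard)
open Cfsg.Agent.Lib.H1 (CoprimeAction)

namespace Cfsg.Agent.Lib.H7.BG14v

universe u
variable {G : Type u} [Group G] [Finite G]

local notation:max "cj(" g ", " X ")" => Subgroup.map (MulEquiv.toMonoidHom (MulAut.conj g)) X

/-- **BG 13.4/13.5, key step**: for `p ∈ τ₁(M)`, `P ≤ E` of order `p`, a `q`-subgroup `Y` of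
`C_{M_σ}(P)` has `q ∈ β(M)` or `Y ≤ (M_σ)'`. -/
theorem mem_beta_or_le_commutator (hG : IsMinSimpleOddOrder G) {M : Subgroup G} (hM : IsCoatom M)
    {E : Subgroup G} (hE : IsComplIn E (sigmaCore M) M) {p : ℕ} (hp1 : p ∈ tau1 M)
    {P : Subgroup G} (hPE : P ≤ E) (hPc : Nat.card P = p) {q : ℕ} [hq : Fact q.Prime]
    {Y : Subgroup G} (hYσ : Y ≤ sigmaCore M) (hYq : IsPGroup q Y)
    (hYP : Y ≤ Subgroup.centralizer (P : Set G)) :
    q ∈ beta M ∨ Y ≤ ⁅sigmaCore M, sigmaCore M⁆ := by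
  have hU := Cfsg.Agent.Lib.H20.BGT.uniq3 hG
  have hσ := (Cfsg.Agent.Lib.H20.BGS.sigma_core_hall hG hU hM).1
  haveI hpF : Fact p.Prime := ⟨hp1.1⟩
  by_cases hqβ : q ∈ beta M
  · exact Or.inl hqβ
  right
  by_cases hY1 : Y = ⊥
  · rw [hY1]; exact bot_le
  have hqσ : q ∈ sigma M :=
    hσ.2.1 q hq.out (dvd_card_of_ne_bot hYq hYσ hY1)
  have hPp : IsPGroup p P := IsPGroup.of_card (n := 1) (by rw [hPc, pow_one])
  by_cases hτ₂ : ∃ s : ℕ, s ∈ tau2 M
  · exfalso
    obtain ⟨s, hs2⟩ := hτ₂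
    haveI hsF : Fact s.Prime := ⟨hs2.1⟩
    obtain ⟨T', hT'⟩ := SylIn.exists_sylIn s E
    have hT'M : SylIn s T' M := Cfsg.Agent.Lib.H8.BG12.sylIn_of_compl hσ hE hs2.2.1 hT'
    have hT'c : ¬ IsCyclic ↥T' := by
      intro hc
      haveI := hc
      exact hs2.2.2.2 (pRankLE_of_sylIn hT'M
        (Cfsg.Agent.Lib.H7.BG13.pRankLE_one_of_isCyclic hsF.out))
    have hT'1 : T' ≠ ⊥ := by
      intro h
      apply hT'c
      rw [h]
      exact isCyclic_of_subsingleton
    have hs2' : s ≠ 2 :=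
      prime_ne_two_of_dvd_card hG (dvd_card_of_ne_bot hT'M.isPGroup hT'M.le hT'1)
    obtain ⟨A, hAT, hAe, hAc⟩ :=
      Cfsg.Agent.Lib.H20.BGT.exists_elemAb_sq_of_not_cyclic hs2' hT'.isPGroup hT'c
    have hAE : A ≤ E := hAT.trans hT'.le
    have hAM : A ≤ M := hAE.trans hE.1
    have hAp : IsPGroup s A := IsPGroup.of_card (n := 2) hAc
    have h17 := Cfsg.Agent.S1417.result hG M hM s hs2 A ⟨hAM, hAe, hAc⟩
    have hnil : Group.IsNilpotent ↥(sigmaCore M) := h17.1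
    have h18 := Cfsg.Agent.S1418.result hG M hM E hE s hs2 A ⟨hAE, hAe, hAc⟩
    have hPA : P ≤ Subgroup.normalizer (A : Set G) := hPE.trans h18.1.1
    have hsq : s ≠ q := by
      rintro rfl
      exact hs2.2.1 hqσ
    have hps : p ≠ s := by
      rintro rfl
      exact hs2.2.2.2 hp1.2.2.2.2
    have hact : CoprimeAction P A :=
      Cfsg.Agent.Lib.H19.BG13.coprimeAction_of_isPGroup hps hPp hAp hPA
    have hdec := Cfsg.Agent.Lib.H1.coprime_commutator_sup_centralizer hact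
    set T : Subgroup G := piCoreOf ({q} : Set ℕ) (sigmaCore M) with hT
    have hYT : Y ≤ T := le_piCoreOf_of_nilpotent hnil hYσ
      (isPiCard_of_isPGroup hq.out (Set.mem_singleton q) hYq)
    have hTp : IsPGroup q T := isPGroup_piCoreOf_singleton q (sigmaCore M)
    have hMT : M ≤ Subgroup.normalizer (T : Set G) :=
      (Cfsg.Agent.Lib.H20.BGS.le_normalizer_sigmaCore M).trans
        (normalizer_le_normalizer_piCoreOf _ _)
    have hTσ : T ≤ sigmaCore M := piCoreOf_le _ _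
    have hσM' : sigmaCore M ≤ ⁅M, M⁆ := sigmaCore_le_commutator hG hU hM
    have hA₁E : ⁅A, P⁆ ≤ ⁅E, E⁆ := Subgroup.commutator_mono hAE hPE
    have hA₁A : ⁅A, P⁆ ≤ A := hact.commutator_le
    have hA₁p : IsPGroup s (⁅A, P⁆ : Subgroup G) := hAp.to_le hA₁A
    have hsβ : s ∉ beta M := fun h => hs2.2.1 (alpha_subset_sigma hG hU hM h.1)
    have h1 : T ≤ Subgroup.centralizer ((⁅A, P⁆ : Subgroup G) : Set G) :=
      Cfsg.Agent.Lib.H19.BG13.le_centralizer_of_beta' hG hM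
        (hA₁E.trans (Subgroup.commutator_mono hE.1 hE.1)) (hTσ.trans hσM')
        ((hA₁A.trans hAM).trans hMT)
        (Cfsg.Agent.Lib.H19.BG13.isPGroup_coprime_card hsq hA₁p hTp)
        (by
          intro r hr hd
          rw [Cfsg.Agent.Lib.H8.BG12.prime_eq_of_dvd_card_pGroup hA₁p hr hd]
          exact hsβ)
        (by
          intro r hr hd
          rw [Cfsg.Agent.Lib.H8.BG12.prime_eq_of_dvd_card_pGroup hTp hr hd]
          exact hqβ)
    have h2 : ⁅A, P⁆ ≤ Subgroup.centralizer (Y : Set G) :=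
      le_centralizer_comm (hYT.trans h1)
    have h3 : A ⊓ Subgroup.centralizer (P : Set G) ≤ Subgroup.centralizer (Y : Set G) := by
      intro x hx
      obtain ⟨hxA, hxP⟩ := Subgroup.mem_inf.1 hx
      by_cases hx1 : x = 1
      · rw [hx1]; exact Subgroup.one_mem _
      have hxs : x ^ s = 1 := hAe.2 x hxA
      have hox : orderOf x = s := orderOf_eq_prime hxs hx1
      have hXc : Nat.card (Subgroup.zpowers x) = s := by rw [Nat.card_zpowers, hox]
      have hXE : Subgroup.zpowers x ≤ E ⊓ Subgroup.centralizer (P : Set G) := by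
        rw [Subgroup.zpowers_le]
        exact Subgroup.mem_inf.2 ⟨hAE hxA, hxP⟩
      have h28 := Cfsg.Agent.S1428.result hG M hM E hE p hp1 P hPE hPc
        (Subgroup.zpowers x) hXE (by rw [hXc]; exact hsF.out)
      have hYx : Y ≤ Subgroup.centralizer ((Subgroup.zpowers x : Subgroup G) : Set G) :=
        (le_inf hYσ hYP).trans (h28.trans inf_le_right)
      exact le_centralizer_comm hYx (Subgroup.mem_zpowers x)
    have hAY : A ≤ Subgroup.centralizer (Y : Set G) := by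
      rw [← hdec]
      exact sup_le h2 h3
    apply hY1
    rw [eq_bot_iff, ← h17.2.2.2.1]
    exact le_inf hYσ (le_centralizer_comm hAY)
  · have hτ₂' : ∀ s : ℕ, s ∉ tau2 M := fun s hs => hτ₂ ⟨s, hs⟩
    exact Cfsg.Agent.Lib.H7.BG14t.le_commutator_sigmaCore_of_tau2_empty hG hM hE hτ₂' hp1 hPE hPc
      hqσ hqβ hYσ hYq hYP

/-- **BG 13.4/13.5**: for `p ∈ τ₁(M)`, `P ≤ E` of order `p`, `Y ≤ C_{M_σ}(P)` of prime order:
`𝓜(C_G(Y)) = {M}`. -/
theorem centralizer_le_uniq_of_tau1 (hG : IsMinSimpleOddOrder G) {M : Subgroup G} (hM : IsCoatom M)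
    {E : Subgroup G} (hE : IsComplIn E (sigmaCore M) M) {p : ℕ} (hp1 : p ∈ tau1 M)
    {P : Subgroup G} (hPE : P ≤ E) (hPc : Nat.card P = p) {q : ℕ} [hq : Fact q.Prime]
    {Y : Subgroup G} (hYσ : Y ≤ sigmaCore M) (hYc : Nat.card Y = q)
    (hYP : Y ≤ Subgroup.centralizer (P : Set G)) :
    q ∈ sigma M ∧ (Subgroup.centralizer (Y : Set G) ≤ M ∧
      ∀ L : Subgroup G, IsCoatom L → Subgroup.centralizer (Y : Set G) ≤ L → L = M) ∧
      ∀ S : Sylow q ↥(sigmaCore M),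
        InUniqueMaximal ((S : Subgroup ↥(sigmaCore M)).map (sigmaCore M).subtype) ∧
        (S : Subgroup ↥(sigmaCore M)).map (sigmaCore M).subtype ≤ M := by
  have hU := Cfsg.Agent.Lib.H20.BGT.uniq3 hG
  have hσ := (Cfsg.Agent.Lib.H20.BGS.sigma_core_hall hG hU hM).1
  have hYq : IsPGroup q Y := IsPGroup.of_card (n := 1) (by rw [hYc, pow_one])
  have hY1 : Y ≠ ⊥ := by
    intro h; rw [h, Subgroup.card_bot] at hYc; exact hq.out.one_lt.ne hYc
  have hqσ : q ∈ sigma M := hσ.2.1 q hq.out (dvd_card_of_ne_bot hYq hYσ hY1)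
  have h := mem_beta_or_le_commutator hG hM hE hp1 hPE hPc hYσ hYq hYP
  refine ⟨hqσ, ?_, ?_⟩
  · obtain ⟨S⟩ : Nonempty (Sylow q ↥(sigmaCore M)) := inferInstance
    exact (Cfsg.Agent.S1423.result hG M hM q hqσ Y (hYσ.trans
      (Cfsg.Agent.Lib.H20.BGS.sigmaCore_le M)) hYc S h).1
  · intro S
    exact (Cfsg.Agent.S1423.result hG M hM q hqσ Y (hYσ.trans
      (Cfsg.Agent.Lib.H20.BGS.sigmaCore_le M)) hYc S h).2

/-- BG 13.9 (unconditional form). -/
theorem sigma_partition' (hG : IsMinSimpleOddOrder G) {M N : Subgroup G} (hM : IsCoatom M)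
    (hN : IsCoatom N) {q : ℕ} (hqM : q ∈ sigma M) (hqN : q ∈ sigma N) : ∃ g : G, N = cj(g, M) :=
  Cfsg.Agent.Lib.H7.BG139.sigma_partition hG
    (fun M hM E hE p hp P hPE hP R hRE hR =>
      Cfsg.Agent.S1428.result hG M hM E hE p hp P hPE hP R hRE hR) hM hN ⟨q, hqM, hqN⟩

/-- `σ` is a conjugacy invariant (other direction). -/
theorem mem_sigma_of_mem_sigma_map_conj (hG : IsMinSimpleOddOrder G) {M : Subgroup G} {p : ℕ}
    {g : G} (hp : p ∈ sigma cj(g, M)) : p ∈ sigma M := by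
  have h2 := Cfsg.Agent.Lib.H19.BG13.mem_sigma_map_conj hG hp g⁻¹
  rwa [Cfsg.Agent.Lib.H10.map_conj_map_conj, inv_mul_cancel, Cfsg.Agent.Lib.H10.map_conj_one] at h2

/-- **the bad case of BG 14.2(d) is impossible**: `X ≤ M ∩ H` of order `p` with `p`-rank one in
`M`, `p ∉ σ(M)`, `N_G(X) ≤ H`, `p ∈ τ₂(H)`, and `Y ≤ C_G(X)` of prime order `q ∈ σ(M)` with
`C_G(Y) ≤ M`. -/
theorem no_theta' (hG : IsMinSimpleOddOrder G) {M H : Subgroup G} (hM : IsCoatom M)
    (hH : IsCoatom H) {p : ℕ} [hp : Fact p.Prime] (hp2 : p ∈ tau2 H) (hpσ : p ∉ sigma M)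
    (hp1 : PRankLE p 1 ↥M) {X : Subgroup G} (hXM : X ≤ M) (hXc : Nat.card X = p)
    (hNX : Subgroup.normalizer (X : Set G) ≤ H) {q : ℕ} [hq : Fact q.Prime] (hqσ : q ∈ sigma M)
    {Y : Subgroup G} (hYc : Nat.card Y = q) (hYX : Y ≤ Subgroup.centralizer (X : Set G))
    (hYM : Subgroup.centralizer (Y : Set G) ≤ M) : False := by
  have hU := Cfsg.Agent.Lib.H20.BGT.uniq3 hG
  have hσH := (Cfsg.Agent.Lib.H20.BGS.sigma_core_hall hG hU hH).1
  have hXp : IsPGroup p X := IsPGroup.of_card (n := 1) (by rw [hXc, pow_one])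
  have hYq : IsPGroup q Y := IsPGroup.of_card (n := 1) (by rw [hYc, pow_one])
  have hX1 : X ≠ ⊥ := by
    intro h; rw [h, Subgroup.card_bot] at hXc; exact hp.out.one_lt.ne hXc
  have hY1 : Y ≠ ⊥ := by
    intro h; rw [h, Subgroup.card_bot] at hYc; exact hq.out.one_lt.ne hYc
  have hCXH : Subgroup.centralizer (X : Set G) ≤ H :=
    (Subgroup.centralizer_le_normalizer (X : Set G)).trans hNX
  have hXH : X ≤ H := Subgroup.le_normalizer.trans hNX
  have hYH : Y ≤ H := hYX.trans hCXH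
  have hpq : p ≠ q := by
    rintro rfl
    exact hpσ hqσ
  have hXY : X ≤ Subgroup.centralizer (Y : Set G) := le_centralizer_comm hYX
  -- `q ∉ σ(H)`
  have hqH : q ∉ sigma H := by
    intro hqH
    obtain ⟨g, hg⟩ := sigma_partition' hG hM hH hqσ hqH
    apply hp2.2.2.2
    rw [hg]
    have hinj : Function.Injective ((MulAut.conj g).toMonoidHom : G →* G) :=
      (MulAut.conj g).injective
    exact pRankLE_of_injective (M.equivMapOfInjective _ hinj).symm.toMonoidHom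
      (M.equivMapOfInjective _ hinj).symm.injective hp1
  -- the complement `E_H ⊇ X Y`
  have hprimes : ∀ r : ℕ, r.Prime → r ∣ Nat.card (X ⊔ Y : Subgroup G) → r ∉ sigma H := by
    intro r hr hd
    have h1 := hd.trans (Cfsg.Agent.Lib.H7.card_sup_dvd_mul_of_le_normalizer
      (hYX.trans (Subgroup.centralizer_le_normalizer (X : Set G))))
    rcases (Nat.Prime.dvd_mul hr).1 h1 with h2 | h2
    · rw [Cfsg.Agent.Lib.H8.BG12.prime_eq_of_dvd_card_pGroup hXp hr h2]; exact hp2.2.1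
    · rw [Cfsg.Agent.Lib.H8.BG12.prime_eq_of_dvd_card_pGroup hYq hr h2]; exact hqH
  obtain ⟨EH, hEH, hXYE⟩ := Cfsg.Agent.Lib.H19.BG13.exists_compl_ge hG hH (sup_le hXH hYH) hprimes
  have hXE : X ≤ EH := le_sup_left.trans hXYE
  have hYE : Y ≤ EH := le_sup_right.trans hXYE
  -- `A`
  obtain ⟨T', hT'⟩ := SylIn.exists_sylIn p EH
  have hT'H : SylIn p T' H := Cfsg.Agent.Lib.H8.BG12.sylIn_of_compl hσH hEH hp2.2.1 hT'
  have hT'c : ¬ IsCyclic ↥T' := by
    intro hc
    haveI := hc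
    exact hp2.2.2.2 (pRankLE_of_sylIn hT'H
      (Cfsg.Agent.Lib.H7.BG13.pRankLE_one_of_isCyclic hp.out))
  have hpH : p ∣ Nat.card ↥H := by rw [← hXc]; exact Subgroup.card_dvd_of_le hXH
  have hp2' : p ≠ 2 := prime_ne_two_of_dvd_card hG hpH
  obtain ⟨A, hAT, hAe, hAc⟩ :=
    Cfsg.Agent.Lib.H20.BGT.exists_elemAb_sq_of_not_cyclic hp2' hT'.isPGroup hT'c
  have hAE : A ≤ EH := hAT.trans hT'.le
  have hAH : A ≤ H := hAE.trans hEH.1
  have hAp : IsPGroup p A := IsPGroup.of_card (n := 2) hAc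
  have h18 := Cfsg.Agent.S1418.result hG H hH EH hEH p hp2 A ⟨hAE, hAe, hAc⟩
  have hXA : X ≤ A := h18.1.2 X hXE hXc
  have hA1 : A ≠ ⊥ := _root_.ne_bot_of_le_ne_bot hX1 hXA
  have hEA : EH ≤ Subgroup.normalizer (A : Set G) := h18.1.1
  have hAY : ¬ A ≤ Subgroup.centralizer (Y : Set G) := by
    intro h
    refine not_pRankLE_of_elemAb (h.trans hYM) hAe ?_ hp1
    rw [hAc, pow_one]
    have h1 : 1 < p := hp.out.one_lt
    nlinarith
  -- the decomposition of `A`
  have hYA : Y ≤ Subgroup.normalizer (A : Set G) := hYE.trans hEA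
  have hact : CoprimeAction Y A :=
    Cfsg.Agent.Lib.H19.BG13.coprimeAction_of_isPGroup hpq.symm hYq hAp hYA
  haveI : IsMulCommutative ↥A := hAe.1
  set A₁ : Subgroup G := ⁅A, Y⁆ with hA₁
  have hdec := Cfsg.Agent.Lib.H1.coprime_commutator_sup_centralizer hact
  have hint := Cfsg.Agent.Lib.H1.coprime_abelian_centralizer_inf_commutator hYA hact.coprime
  have hA₁A : A₁ ≤ A := hact.commutator_le
  have hA₁1 : A₁ ≠ ⊥ := by
    intro h
    apply hAY
    rw [← hdec, ← hA₁, h, bot_sup_eq]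
    exact inf_le_right
  have hYA₁ : Y ≤ Subgroup.normalizer (A₁ : Set G) :=
    Cfsg.Agent.Lib.H7.BG14t.le_normalizer_commutator hYA
  have hA₁Y : A₁ ⊓ Subgroup.centralizer (Y : Set G) = ⊥ := by
    rw [eq_bot_iff, ← hint]
    exact le_inf (inf_le_inf_right _ hA₁A) inf_le_left
  have hA₁p : IsPGroup p A₁ := hAp.to_le hA₁A
  have hcontra : ¬ A₁ ≤ Subgroup.centralizer (Y : Set G) := by
    intro h
    apply hA₁1
    rw [eq_bot_iff, ← hA₁Y]
    exact le_inf le_rfl h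
  -- `L`
  have hNtop : Subgroup.normalizer (A : Set G) ≠ ⊤ := normalizer_ne_top_of_isPGroup hG hAp hA1
  obtain ⟨L, hL, hNL⟩ := exists_coatom_ge hNtop
  have hLH : L ≠ H := fun e => h18.2.1.2.2 (e ▸ hNL)
  have hEL : EH ≤ L := hEA.trans hNL
  have hAL : A ≤ L := hAE.trans hEL
  have hpσL : p ∈ sigma L := by
    by_contra hpσL
    have hp2L : p ∈ tau2 L :=
      Cfsg.Agent.Lib.H20.BGT.mem_tau2_of_elemAb_sq hG hL hpσL hAL hAe hAc
    obtain ⟨EL, hELc, hAEL⟩ := Cfsg.Agent.Lib.H19.BG13.exists_compl_ge hG hL hAL (by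
      intro r hr hd
      rw [Cfsg.Agent.Lib.H8.BG12.prime_eq_of_dvd_card_pGroup hAp hr hd]
      exact hpσL)
    exact (Cfsg.Agent.S1418.result hG L hL EL hELc p hp2L A ⟨hAEL, hAe, hAc⟩).2.1.2.2 hNL
  have hAσ : A ≤ sigmaCore L :=
    Cfsg.Agent.Lib.H20.BGT.le_sigmaCore_of_isPiCard hG hL hAL
      (isPiCard_of_isPGroup hp.out hpσL hAp)
  have hpβ : p ∉ beta L := fun h =>
    (Cfsg.Agent.S1408.result hG H hH p hp2.2.1 hp2.2.2.1 hp2.2.2.2).1 h.2
  have hLM : L ≠ M := by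
    rintro rfl
    exact hpσ hpσL
  have hXσL : X ≤ sigmaCore L := hXA.trans hAσ
  have hYL : Y ≤ L := hYE.trans hEL
  have hqL : q ∣ Nat.card ↥L := by rw [← hYc]; exact Subgroup.card_dvd_of_le hYL
  have hσL' : sigmaCore L ≤ ⁅L, L⁆ := sigmaCore_le_commutator hG hU hL
  have hcop : (Nat.card ↥Y).Coprime (Nat.card ↥A₁) :=
    Cfsg.Agent.Lib.H19.BG13.isPGroup_coprime_card hpq.symm hYq hA₁p
  have hβA₁ : ∀ r : ℕ, r.Prime → r ∣ Nat.card ↥A₁ → r ∉ beta L := by
    intro r hr hd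
    rw [Cfsg.Agent.Lib.H8.BG12.prime_eq_of_dvd_card_pGroup hA₁p hr hd]
    exact hpβ
  rcases Cfsg.Agent.Lib.H19.BG13.prime_type hG hL hq.out hqL with hqσL | hqτ1 | hqτ2 | hqτ3
  · -- `q ∈ σ(L)`
    obtain ⟨g, hg⟩ := sigma_partition' hG hM hL hqσ hqσL
    rw [hg] at hpσL
    exact hpσ (mem_sigma_of_mem_sigma_map_conj hG hpσL)
  · -- `q ∈ τ₁(L)`
    obtain ⟨EL, hELc, hYEL⟩ := Cfsg.Agent.Lib.H19.BG13.exists_compl_ge hG hL hYL (by
      intro r hr hd
      rw [Cfsg.Agent.Lib.H8.BG12.prime_eq_of_dvd_card_pGroup hYq hr hd]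
      exact hqτ1.2.1)
    have hσLh := (Cfsg.Agent.Lib.H20.BGS.sigma_core_hall hG hU hL).1
    by_cases hτ₂ : ∃ s : ℕ, s ∈ tau2 L
    · obtain ⟨s, hs2⟩ := hτ₂
      haveI hsF : Fact s.Prime := ⟨hs2.1⟩
      obtain ⟨T'', hT''⟩ := SylIn.exists_sylIn s EL
      have hT''L : SylIn s T'' L := Cfsg.Agent.Lib.H8.BG12.sylIn_of_compl hσLh hELc hs2.2.1 hT''
      have hT''c : ¬ IsCyclic ↥T'' := by
        intro hc
        haveI := hc
        exact hs2.2.2.2 (pRankLE_of_sylIn hT''L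
          (Cfsg.Agent.Lib.H7.BG13.pRankLE_one_of_isCyclic hsF.out))
      have hT''1 : T'' ≠ ⊥ := by
        intro h
        apply hT''c
        rw [h]
        exact isCyclic_of_subsingleton
      have hs2' : s ≠ 2 :=
        prime_ne_two_of_dvd_card hG (dvd_card_of_ne_bot hT''L.isPGroup hT''L.le hT''1)
      obtain ⟨A', hA'T, hA'e, hA'c⟩ :=
        Cfsg.Agent.Lib.H20.BGT.exists_elemAb_sq_of_not_cyclic hs2' hT''.isPGroup hT''c
      have hA'E : A' ≤ EL := hA'T.trans hT''.le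
      have hA'L : A' ≤ L := hA'E.trans hELc.1
      have hA'p : IsPGroup s A' := IsPGroup.of_card (n := 2) hA'c
      have h17L := Cfsg.Agent.S1417.result hG L hL s hs2 A' ⟨hA'L, hA'e, hA'c⟩
      have hnil : Group.IsNilpotent ↥(sigmaCore L) := h17L.1
      have h18L := Cfsg.Agent.S1418.result hG L hL EL hELc s hs2 A' ⟨hA'E, hA'e, hA'c⟩
      have hYA' : Y ≤ Subgroup.normalizer (A' : Set G) := hYEL.trans h18L.1.1
      have hsp : s ≠ p := by
        rintro rfl
        exact hs2.2.1 hpσL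
      have hqs : q ≠ s := by
        rintro rfl
        exact hs2.2.2.2 hqτ1.2.2.2.2
      have hact' : CoprimeAction Y A' :=
        Cfsg.Agent.Lib.H19.BG13.coprimeAction_of_isPGroup hqs hYq hA'p hYA'
      have hdec' := Cfsg.Agent.Lib.H1.coprime_commutator_sup_centralizer hact'
      set T : Subgroup G := piCoreOf ({p} : Set ℕ) (sigmaCore L) with hT
      have hXT : X ≤ T := le_piCoreOf_of_nilpotent hnil hXσL
        (isPiCard_of_isPGroup hp.out (Set.mem_singleton p) hXp)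
      have hTp : IsPGroup p T := isPGroup_piCoreOf_singleton p (sigmaCore L)
      have hLT : L ≤ Subgroup.normalizer (T : Set G) :=
        (Cfsg.Agent.Lib.H20.BGS.le_normalizer_sigmaCore L).trans
          (normalizer_le_normalizer_piCoreOf _ _)
      have hTσ : T ≤ sigmaCore L := piCoreOf_le _ _
      have hA'₁E : ⁅A', Y⁆ ≤ ⁅EL, EL⁆ := Subgroup.commutator_mono hA'E hYEL
      have hA'₁A' : ⁅A', Y⁆ ≤ A' := hact'.commutator_le
      have hA'₁p : IsPGroup s (⁅A', Y⁆ : Subgroup G) := hA'p.to_le hA'₁A'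
      have hsβ : s ∉ beta L := fun h => hs2.2.1 (alpha_subset_sigma hG hU hL h.1)
      have h1 : T ≤ Subgroup.centralizer ((⁅A', Y⁆ : Subgroup G) : Set G) :=
        Cfsg.Agent.Lib.H19.BG13.le_centralizer_of_beta' hG hL
          (hA'₁E.trans (Subgroup.commutator_mono hELc.1 hELc.1)) (hTσ.trans hσL')
          ((hA'₁A'.trans hA'L).trans hLT)
          (Cfsg.Agent.Lib.H19.BG13.isPGroup_coprime_card hsp hA'₁p hTp)
          (by
            intro r hr hd
            rw [Cfsg.Agent.Lib.H8.BG12.prime_eq_of_dvd_card_pGroup hA'₁p hr hd]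
            exact hsβ)
          (by
            intro r hr hd
            rw [Cfsg.Agent.Lib.H8.BG12.prime_eq_of_dvd_card_pGroup hTp hr hd]
            exact hpβ)
      have h2 : ⁅A', Y⁆ ≤ Subgroup.centralizer (X : Set G) :=
        le_centralizer_comm (hXT.trans h1)
      have h3 : A' ⊓ Subgroup.centralizer (Y : Set G) ≤ Subgroup.centralizer (X : Set G) := by
        intro x hx
        obtain ⟨hxA', hxY⟩ := Subgroup.mem_inf.1 hx
        by_cases hx1 : x = 1
        · rw [hx1]; exact Subgroup.one_mem _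
        have hxs : x ^ s = 1 := hA'e.2 x hxA'
        have hox : orderOf x = s := orderOf_eq_prime hxs hx1
        have hZc : Nat.card (Subgroup.zpowers x) = s := by rw [Nat.card_zpowers, hox]
        have hZE : Subgroup.zpowers x ≤ EL ⊓ Subgroup.centralizer (Y : Set G) := by
          rw [Subgroup.zpowers_le]
          exact Subgroup.mem_inf.2 ⟨hA'E hxA', hxY⟩
        have h28L := Cfsg.Agent.S1428.result hG L hL EL hELc q hqτ1 Y hYEL hYc
          (Subgroup.zpowers x) hZE (by rw [hZc]; exact hsF.out)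
        have hXx : X ≤ Subgroup.centralizer ((Subgroup.zpowers x : Subgroup G) : Set G) :=
          (le_inf hXσL hXY).trans (h28L.trans inf_le_right)
        exact le_centralizer_comm hXx (Subgroup.mem_zpowers x)
      have hA'X : A' ≤ Subgroup.centralizer (X : Set G) := by
        rw [← hdec']
        exact sup_le h2 h3
      have hA'H : A' ≤ H := hA'X.trans hCXH
      have h4 := h17L.2.2.2.2.1 H hH hLH.symm hA'H
      apply hX1
      rw [eq_bot_iff, ← h4]
      exact le_inf hXσL hXH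
    · have hτ₂' : ∀ s : ℕ, s ∉ tau2 L := fun s hs => hτ₂ ⟨s, hs⟩
      have hX' := Cfsg.Agent.Lib.H7.BG14t.le_commutator_sigmaCore_of_tau2_empty hG hL hELc hτ₂'
        hqτ1 hYEL hYc hpσL hpβ hXσL hXp hXY
      obtain ⟨S⟩ : Nonempty (Sylow p ↥(sigmaCore L)) := inferInstance
      have := (Cfsg.Agent.S1423.result hG L hL p hpσL X (hXσL.trans
        (Cfsg.Agent.Lib.H20.BGS.sigmaCore_le L)) hXc S (Or.inr hX')).1.2
      exact hLH (this H hH hCXH).symm
  · -- `q ∈ τ₂(L)`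
    obtain ⟨B, hBL, hBe, hBc, hYB⟩ :=
      Cfsg.Agent.Lib.H7.BG14t.exists_elemAb_sq_ge_of_tau2 hG hL hqτ2 hYL hYc
    have hBY : B ≤ Subgroup.centralizer (Y : Set G) := by
      intro b hb
      rw [Subgroup.mem_centralizer_iff]
      intro x hx
      have := hBe.1.is_comm.comm (⟨x, hYB hx⟩ : B) ⟨b, hb⟩
      exact congrArg Subtype.val this
    have h4 := (Cfsg.Agent.S1417.result hG L hL q hqτ2 B ⟨hBL, hBe, hBc⟩).2.2.2.2.1 M hM hLM.symm
      (hBY.trans hYM)
    apply hX1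
    rw [eq_bot_iff, ← h4]
    exact le_inf hXσL hXM
  · -- `q ∈ τ₃(L)`
    have hqβ : q ∉ beta L := fun h => hqτ3.2.1 (alpha_subset_sigma hG hU hL h.1)
    have hYL' : Y ≤ ⁅L, L⁆ := Cfsg.Agent.Lib.H19.BG13.tau3_le_commutator hG hL hqτ3 hYq hYL
    exact hcontra (Cfsg.Agent.Lib.H19.BG13.le_centralizer_of_beta' hG hL hYL'
      ((hA₁A.trans hAσ).trans hσL') hYA₁ hcop (by
        intro r hr hd
        rw [Cfsg.Agent.Lib.H8.BG12.prime_eq_of_dvd_card_pGroup hYq hr hd]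
        exact hqβ) hβA₁)

end Cfsg.Agent.Lib.H7.BG14v
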