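import Mathlib
import Cfsg.Prelude.Def_Local
import Cfsg.Agent.Lib.H7.FStar2
import Cfsg.Agent.Lib.H7.Coprime
import Cfsg.Agent.Lib.H7.PLocal3
import Cfsg.Agent.Lib.H1.Fitting
import Cfsg.Agent.Lib.H1.PCore
import Cfsg.Agent.Lib.H8.Nilpotent
import Cfsg.Agent.Lib.H6.PResidual

set_option autoImplicit false
open Cfsg

namespace Cfsg.Agent.Lib.H7

variable {H : Type*} [Group H] [Finite H]

/-- `r`-elements of the Fitting subgroup lie in `O_r`. -/
theorem mem_pCore_of_mem_fitting_of_pow (r : ℕ) [Fact r.Prime] {x : H}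
    (hx : x ∈ fittingSubgroup H) (hk : ∃ k : ℕ, x ^ (r ^ k) = 1) : x ∈ pCore r H := by
  obtain ⟨P, hPF, hPr, -, hPall⟩ :=
    Cfsg.Agent.Lib.H8.sylow_of_nilpotent (fittingSubgroup H) fittingSubgroup_isNilpotent r
  have hPn : P.Normal := by
    constructor
    intro y hy h
    apply hPall
    · exact (inferInstance : (fittingSubgroup H).Normal).conj_mem y (hPF hy) h
    · obtain ⟨k, hk⟩ := hPr ⟨y, hy⟩
      refine ⟨k, ?_⟩
      have hk' : y ^ (r ^ k) = 1 := congrArg Subtype.val hk
      rw [conj_pow, hk']; group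
  exact Cfsg.Agent.Lib.H1.le_pCore hPn hPr (hPall x hx hk)

theorem pCore_le_fittingSubgroup (r : ℕ) [Fact r.Prime] : pCore r H ≤ fittingSubgroup H :=
  le_fittingSubgroup (Cfsg.Agent.Lib.H1.pCore_normal r H)
    (Cfsg.Agent.Lib.H1.pCore_isPGroup r H).isNilpotent

section Bender

variable {S : Subgroup H}

theorem bender_isSubnormal (hSF : S ≤ generalizedFittingSubgroup H)
    (hSsn : (S.subgroupOf (generalizedFittingSubgroup H)).IsSubnormal) : S.IsSubnormal :=
  isSubnormal_of_le_of_le hSF le_rfl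
    (inferInstance : (generalizedFittingSubgroup H).Normal).isSubnormal hSsn

theorem bender_layer_le (hSF : S ≤ generalizedFittingSubgroup H)
    (hSsn : (S.subgroupOf (generalizedFittingSubgroup H)).IsSubnormal)
    (hSC : generalizedFittingSubgroup H ⊓ Subgroup.centralizer (S : Set H) ≤ S) :
    layer H ≤ S := by
  have hS := bender_isSubnormal hSF hSsn
  apply sSup_le
  intro L hL
  rcases component_le_or_commutator_eq_bot hL hS with h | h
  · exact h
  · apply le_trans _ hSC
    apply le_inf
    · exact (component_le_layer hL).trans layer_le_generalizedFittingSubgroup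
    · exact Subgroup.commutator_eq_bot_iff_le_centralizer.1 h

theorem bender_core_centralizer (hSF : S ≤ generalizedFittingSubgroup H)
    (hSsn : (S.subgroupOf (generalizedFittingSubgroup H)).IsSubnormal)
    (hSC : generalizedFittingSubgroup H ⊓ Subgroup.centralizer (S : Set H) ≤ S)
    (r : ℕ) [Fact r.Prime] :
    pCore r H ⊓ Subgroup.centralizer ((S ⊓ pCore r H : Subgroup H) : Set H) ≤ S := by
  have hlay := bender_layer_le hSF hSsn hSC
  intro c hc
  have hcR : c ∈ pCore r H := (Subgroup.mem_inf.1 hc).1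
  have hcC : c ∈ Subgroup.centralizer ((S ⊓ pCore r H : Subgroup H) : Set H) :=
    (Subgroup.mem_inf.1 hc).2
  have hcF : c ∈ fittingSubgroup H := pCore_le_fittingSubgroup r hcR
  apply hSC
  refine Subgroup.mem_inf.2 ⟨fittingSubgroup_le_generalizedFittingSubgroup hcF, ?_⟩
  rw [Subgroup.mem_centralizer_iff]
  intro s hs
  obtain ⟨e, he, f, hf, hefs⟩ := mem_sup_of_commutator_eq_bot layer_commutator_fitting (hSF hs)
  have hfS : f ∈ S := by
    have : f = e⁻¹ * s := by rw [← hefs]; group
    rw [this]; exact mul_mem (inv_mem (hlay he)) hs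
  -- c commutes with e
  have hce : e * c = c * e := by
    have h1 : layer H ≤ Subgroup.centralizer (fittingSubgroup H : Set H) :=
      Subgroup.commutator_eq_bot_iff_le_centralizer.1 layer_commutator_fitting
    exact (Subgroup.mem_centralizer_iff.1 (h1 he) c hcF).symm
  -- c commutes with f
  have hcf : f * c = c * f := by
    obtain ⟨c₁, c₂, hc₁, hc₂, hdec, hc₁p, hc₂p⟩ :=
      Cfsg.Agent.Lib.H8.exists_p_decomp f (orderOf_pos f).ne' r (Fact.out : r.Prime)
    have hzS : Subgroup.zpowers f ≤ S := by rw [Subgroup.zpowers_le]; exact hfS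
    have hzF : Subgroup.zpowers f ≤ fittingSubgroup H := by rw [Subgroup.zpowers_le]; exact hf
    have h1 : c₁ ∈ S ⊓ pCore r H :=
      Subgroup.mem_inf.2 ⟨hzS hc₁, mem_pCore_of_mem_fitting_of_pow r (hzF hc₁) hc₁p⟩
    have h2 : c₁ * c = c * c₁ := Subgroup.mem_centralizer_iff.1 hcC c₁ h1
    have hcord : ∃ k : ℕ, orderOf c = r ^ k := by
      obtain ⟨k, hk⟩ := (IsPGroup.iff_orderOf.1 (Cfsg.Agent.Lib.H1.pCore_isPGroup r H)) ⟨c, hcR⟩
      exact ⟨k, by rw [← hk, Subgroup.orderOf_mk]⟩
    obtain ⟨k, hk⟩ := hcord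
    have h3 : c₂ * c = c * c₂ :=
      Cfsg.Agent.Lib.H8.mul_comm_of_coprime_of_mem_nilpotent (fittingSubgroup H)
        fittingSubgroup_isNilpotent (hzF hc₂) hcF (by rw [hk]; exact Nat.Coprime.pow_right k hc₂p)
    rw [hdec, mul_assoc, h3, ← mul_assoc, h2, mul_assoc]
  rw [← hefs, mul_assoc, hcf, ← mul_assoc, hce, mul_assoc]

theorem bender_centralizes_core (hSF : S ≤ generalizedFittingSubgroup H)
    (hSsn : (S.subgroupOf (generalizedFittingSubgroup H)).IsSubnormal)
    (hSC : generalizedFittingSubgroup H ⊓ Subgroup.centralizer (S : Set H) ≤ S)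
    (r : ℕ) [Fact r.Prime] {X : Subgroup H} (hX : (Nat.card X).Coprime r)
    (hSX : S ≤ Subgroup.normalizer (X : Set H)) :
    X ≤ Subgroup.centralizer (pCore r H : Set H) := by
  have hRn : (pCore r H).Normal := Cfsg.Agent.Lib.H1.pCore_normal r H
  have hRp : IsPGroup r (pCore r H) := Cfsg.Agent.Lib.H1.pCore_isPGroup r H
  have hXR : X ⊓ pCore r H = ⊥ := by
    rw [eq_bot_iff]
    intro x hx
    rw [Subgroup.mem_bot]
    have h1 : orderOf x ∣ Nat.card X := Subgroup.orderOf_dvd_natCard X (Subgroup.mem_inf.1 hx).1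
    obtain ⟨k, hk⟩ := (IsPGroup.iff_orderOf.1 hRp) ⟨x, (Subgroup.mem_inf.1 hx).2⟩
    rw [Subgroup.orderOf_mk] at hk
    have h2 : (orderOf x).Coprime (orderOf x) := by
      have := Nat.Coprime.coprime_dvd_left h1 hX
      conv_rhs => rw [hk]
      exact Nat.Coprime.pow_right k this
    rw [Nat.coprime_self] at h2
    exact orderOf_eq_one_iff.1 h2
  have hAB : ⁅X, S ⊓ pCore r H⁆ = ⊥ := by
    rw [eq_bot_iff, ← hXR]
    apply le_inf
    · rw [Subgroup.commutator_comm]
      exact (Subgroup.le_normalizer_iff_commutator_le_right.1 (inf_le_left.trans hSX))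
    · have : X ≤ Subgroup.normalizer ((pCore r H : Subgroup H) : Set H) := by
        rw [Subgroup.normalizer_eq_top]; exact le_top
      exact (Subgroup.commutator_mono le_rfl inf_le_right).trans
        (Subgroup.le_normalizer_iff_commutator_le_right.1 this)
  have hC : ⁅X, pCore r H ⊓ Subgroup.centralizer ((S ⊓ pCore r H : Subgroup H) : Set H)⁆ = ⊥ := by
    rw [eq_bot_iff, ← hAB]
    apply Subgroup.commutator_mono le_rfl
    exact le_inf (bender_core_centralizer hSF hSsn hSC r) inf_le_left
  have := thompson_AxB' r hRp (hRp.to_le inf_le_right) hX hAB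
    (by rw [Subgroup.normalizer_eq_top]; exact le_top)
    (by rw [Subgroup.normalizer_eq_top]; exact le_top) hC
  exact Subgroup.commutator_eq_bot_iff_le_centralizer.1 this

theorem bender_centralizes_layer (hSF : S ≤ generalizedFittingSubgroup H)
    (hSsn : (S.subgroupOf (generalizedFittingSubgroup H)).IsSubnormal)
    (hSC : generalizedFittingSubgroup H ⊓ Subgroup.centralizer (S : Set H) ≤ S)
    {X : Subgroup H} (hXs : Group.IsSolvable X)
    (hSX : S ≤ Subgroup.normalizer (X : Set H)) :
    X ≤ Subgroup.centralizer (layer H : Set H) := by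
  have hlay := bender_layer_le hSF hSsn hSC
  rw [Subgroup.le_centralizer_iff]
  apply sSup_le
  intro L hL
  have hLX : L ≤ Subgroup.normalizer (X : Set H) :=
    ((component_le_layer hL).trans hlay).trans hSX
  exact Subgroup.commutator_eq_bot_iff_le_centralizer.1
    (component_commutator_solvable hL hXs hLX)

end Bender

/-- Distinct cores commute. -/
theorem commutator_pCore_pCore_eq_bot {r r' : ℕ} [Fact r.Prime] [Fact r'.Prime] (hne : r ≠ r') :
    ⁅pCore r H, pCore r' H⁆ = ⊥ := by
  have hn := Cfsg.Agent.Lib.H1.pCore_normal r H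
  have hn' := Cfsg.Agent.Lib.H1.pCore_normal r' H
  rw [eq_bot_iff]
  have h1 : ⁅pCore r H, pCore r' H⁆ ≤ pCore r H ⊓ pCore r' H :=
    le_inf (Subgroup.commutator_le_left _ _) (Subgroup.commutator_le_right _ _)
  refine h1.trans ?_
  intro x hx
  rw [Subgroup.mem_bot]
  obtain ⟨k, hk⟩ := (IsPGroup.iff_orderOf.1 (Cfsg.Agent.Lib.H1.pCore_isPGroup r H))
    ⟨x, (Subgroup.mem_inf.1 hx).1⟩
  obtain ⟨k', hk'⟩ := (IsPGroup.iff_orderOf.1 (Cfsg.Agent.Lib.H1.pCore_isPGroup r' H))
    ⟨x, (Subgroup.mem_inf.1 hx).2⟩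
  rw [Subgroup.orderOf_mk] at hk hk'
  have hcop : (r ^ k).Coprime (r' ^ k') :=
    Nat.Coprime.pow k k' ((Nat.coprime_primes Fact.out Fact.out).2 hne)
  rw [← hk, ← hk', Nat.coprime_self] at hcop
  exact orderOf_eq_one_iff.1 hcop

/-- `Z(O_r(H))` as a subgroup of `H`. -/
def coreCenter (r : ℕ) (H : Type*) [Group H] : Subgroup H :=
  pCore r H ⊓ Subgroup.centralizer (pCore r H : Set H)

instance coreCenter_normal (r : ℕ) : (coreCenter r H).Normal := by
  have := Cfsg.Agent.Lib.H1.pCore_normal r H
  unfold coreCenter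
  infer_instance

theorem coreCenter_le_pCore (r : ℕ) : coreCenter r H ≤ pCore r H := inf_le_left

theorem coreCenter_ne_bot (r : ℕ) [Fact r.Prime] (h : pCore r H ≠ ⊥) : coreCenter r H ≠ ⊥ := by
  have hnt : Nontrivial (pCore r H) := (Subgroup.nontrivial_iff_ne_bot _).2 h
  have := (Cfsg.Agent.Lib.H1.pCore_isPGroup r H).center_nontrivial
  obtain ⟨z, hz⟩ := exists_ne (1 : Subgroup.center (pCore r H))
  intro hbot
  apply hz
  have hmem : ((z : pCore r H) : H) ∈ coreCenter r H := by
    refine Subgroup.mem_inf.2 ⟨(z : pCore r H).2, ?_⟩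
    rw [Subgroup.mem_centralizer_iff]
    intro y hy
    have := Subgroup.mem_center_iff.1 z.2 ⟨y, hy⟩
    exact congrArg Subtype.val this
  rw [hbot, Subgroup.mem_bot] at hmem
  exact Subtype.ext (Subtype.ext hmem)

/-- `Z(O_r(H))` centralizes `F*(H)`. -/
theorem generalizedFittingSubgroup_le_centralizer_coreCenter (r : ℕ) [Fact r.Prime] :
    generalizedFittingSubgroup H ≤ Subgroup.centralizer (coreCenter r H : Set H) := by
  unfold generalizedFittingSubgroup
  apply sup_le
  · have h1 : layer H ≤ Subgroup.centralizer (fittingSubgroup H : Set H) :=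
      Subgroup.commutator_eq_bot_iff_le_centralizer.1 layer_commutator_fitting
    exact h1.trans (Subgroup.centralizer_le
      ((coreCenter_le_pCore r).trans (pCore_le_fittingSubgroup r)))
  · rw [Cfsg.Agent.Lib.H1.fittingSubgroup_eq_iSup_pCore]
    apply iSup_le
    intro r'
    haveI : Fact (r' : ℕ).Prime := ⟨r'.2⟩
    by_cases hrr : (r' : ℕ) = r
    · rw [hrr]
      rw [Subgroup.le_centralizer_iff]
      exact inf_le_right
    · have := commutator_pCore_pCore_eq_bot (H := H) hrr
      exact (Subgroup.commutator_eq_bot_iff_le_centralizer.1 this).trans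
        (Subgroup.centralizer_le (coreCenter_le_pCore r))

/-- A subgroup containing the layer and all `O_r` (`r ≠ p`) contains every `p'`-element of
`F*(H)`. -/
theorem mem_of_coprime_of_mem_generalizedFittingSubgroup (p : ℕ) [Fact p.Prime] {C : Subgroup H}
    (hlay : layer H ≤ C) (hcore : ∀ r : ℕ, r.Prime → r ≠ p → pCore r H ≤ C) {g : H}
    (hg : g ∈ generalizedFittingSubgroup H) (hcop : (orderOf g).Coprime p) : g ∈ C := by
  set N' : Subgroup H := ⨆ r : {r : Nat.Primes // (r : ℕ) ≠ p}, pCore (r : ℕ) H with hN'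
  have hN'C : N' ≤ C := iSup_le (fun r => hcore _ r.1.2 r.2)
  have hfit : fittingSubgroup H ≤ pCore p H ⊔ N' := by
    rw [Cfsg.Agent.Lib.H1.fittingSubgroup_eq_iSup_pCore]
    apply iSup_le
    intro r
    by_cases hr : (r : ℕ) = p
    · rw [hr]; exact le_sup_left
    · exact le_trans (le_iSup (fun r : {r : Nat.Primes // (r : ℕ) ≠ p} => pCore (r : ℕ) H)
        ⟨r, hr⟩) le_sup_right
  have hcomm : ⁅pCore p H, N'⁆ = ⊥ := by
    rw [Subgroup.commutator_eq_bot_iff_le_centralizer, Subgroup.le_centralizer_iff]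
    apply iSup_le
    intro r
    haveI : Fact ((r : Nat.Primes) : ℕ).Prime := ⟨r.1.2⟩
    have := commutator_pCore_pCore_eq_bot (H := H) r.2
    exact Subgroup.commutator_eq_bot_iff_le_centralizer.1 this
  obtain ⟨e, he, f, hf, hefg⟩ := mem_sup_of_commutator_eq_bot layer_commutator_fitting hg
  obtain ⟨u, hu, v, hv, huvf⟩ := mem_sup_of_commutator_eq_bot hcomm (hfit hf)
  set m := Nat.card (pCore p H) with hm
  have hum : u ^ m = 1 := by
    have := pow_card_eq_one' (G := pCore p H) (x := ⟨u, hu⟩)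
    exact congrArg Subtype.val this
  have huv : Commute u v := by
    have h1 : pCore p H ≤ Subgroup.centralizer (N' : Set H) :=
      Subgroup.commutator_eq_bot_iff_le_centralizer.1 hcomm
    exact (Subgroup.mem_centralizer_iff.1 (h1 hu) v hv).symm
  have hef : Commute e f := by
    have h1 : layer H ≤ Subgroup.centralizer (fittingSubgroup H : Set H) :=
      Subgroup.commutator_eq_bot_iff_le_centralizer.1 layer_commutator_fitting
    exact (Subgroup.mem_centralizer_iff.1 (h1 he) f hf).symm
  have hgm : g ^ m ∈ C := by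
    rw [← hefg, hef.mul_pow, ← huvf, huv.mul_pow, hum, one_mul]
    exact mul_mem (pow_mem (hlay he) _) (pow_mem (hN'C hv) _)
  have hmp : ∃ k : ℕ, m = p ^ k := IsPGroup.iff_card.1 (Cfsg.Agent.Lib.H1.pCore_isPGroup p H)
  obtain ⟨k, hk⟩ := hmp
  have hco : Nat.Coprime m (orderOf g) := by
    rw [hk]; exact (Nat.Coprime.pow_right k hcop).symm
  exact Cfsg.Agent.Lib.H6.mem_of_pow_mem_of_coprime hco hgm
    (by rw [pow_orderOf_eq_one]; exact one_mem _)

section Bender2

variable {S : Subgroup H}

theorem coreCenter_le_of_bender (hSC : generalizedFittingSubgroup H ⊓ Subgroup.centralizer (S : Set H) ≤ S)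
    (hSF : S ≤ generalizedFittingSubgroup H) (r : ℕ) [Fact r.Prime] : coreCenter r H ≤ S := by
  apply le_trans _ hSC
  apply le_inf
  · exact (coreCenter_le_pCore r).trans
      ((pCore_le_fittingSubgroup r).trans fittingSubgroup_le_generalizedFittingSubgroup)
  · rw [Subgroup.le_centralizer_iff]
    exact hSF.trans (generalizedFittingSubgroup_le_centralizer_coreCenter r)

/-- An `S`-invariant `q`-subgroup is trivial when `q` does not divide `|F(H)|`. -/
theorem bender_eq_bot (hSF : S ≤ generalizedFittingSubgroup H)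
    (hSsn : (S.subgroupOf (generalizedFittingSubgroup H)).IsSubnormal)
    (hSC : generalizedFittingSubgroup H ⊓ Subgroup.centralizer (S : Set H) ≤ S)
    (q : ℕ) [Fact q.Prime] {X : Subgroup H} (hXq : IsPGroup q X)
    (hSX : S ≤ Subgroup.normalizer (X : Set H))
    (hq : ¬ q ∣ Nat.card (fittingSubgroup H)) : X = ⊥ := by
  have hqpr : q.Prime := Fact.out
  -- O_q(H) is trivial
  have hOq : pCore q H = ⊥ := by
    obtain ⟨k, hk⟩ := IsPGroup.iff_card.1 (Cfsg.Agent.Lib.H1.pCore_isPGroup q H)
    have hdvd : Nat.card (pCore q H) ∣ Nat.card (fittingSubgroup H) :=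
      Subgroup.card_dvd_of_le (pCore_le_fittingSubgroup q)
    rcases Nat.eq_zero_or_pos k with h0 | hpos
    · rw [h0, pow_zero] at hk
      exact Subgroup.card_eq_one.1 hk
    · exfalso
      apply hq
      rw [hk] at hdvd
      exact (dvd_pow_self q hpos.ne').trans hdvd
  obtain ⟨j, hj⟩ := IsPGroup.iff_card.1 hXq
  have hXsolv : Group.IsSolvable X := by
    have := hXq.isNilpotent
    infer_instance
  have hlayer := bender_centralizes_layer hSF hSsn hSC hXsolv hSX
  have hF : generalizedFittingSubgroup H ≤ Subgroup.centralizer (X : Set H) := by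
    unfold generalizedFittingSubgroup
    apply sup_le
    · exact Subgroup.le_centralizer_iff.1 hlayer
    · rw [Cfsg.Agent.Lib.H1.fittingSubgroup_eq_iSup_pCore]
      apply iSup_le
      intro r
      haveI : Fact (r : ℕ).Prime := ⟨r.2⟩
      by_cases hr : (r : ℕ) = q
      · rw [hr, hOq]; exact bot_le
      · rw [Subgroup.le_centralizer_iff]
        apply bender_centralizes_core hSF hSsn hSC (r : ℕ) _ hSX
        rw [hj]
        exact Nat.Coprime.pow_left j ((Nat.coprime_primes hqpr r.2).2 (Ne.symm hr))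
  have hX1 : X ≤ Subgroup.centralizer (generalizedFittingSubgroup H : Set H) :=
    Subgroup.le_centralizer_iff.1 hF
  have hX2 : X ≤ generalizedFittingSubgroup H := hX1.trans centralizer_generalizedFittingSubgroup_le
  -- the centre of F* is a normal abelian subgroup, so lies in F(H)
  set Z : Subgroup H := Subgroup.centralizer (generalizedFittingSubgroup H : Set H) with hZ
  have hZn : Z.Normal := inferInstance
  have hZc : ∀ a b : Z, a * b = b * a := by
    intro a b
    apply Subtype.ext
    have hb : (b : H) ∈ generalizedFittingSubgroup H := centralizer_generalizedFittingSubgroup_le b.2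
    exact (Subgroup.mem_centralizer_iff.1 a.2 b hb).symm
  have hZnil : Group.IsNilpotent Z := by
    letI : CommGroup Z := { (inferInstance : Group Z) with mul_comm := hZc }
    exact CommGroup.isNilpotent
  have hXF : X ≤ fittingSubgroup H := hX1.trans (le_fittingSubgroup hZn hZnil)
  have hdvd : Nat.card X ∣ Nat.card (fittingSubgroup H) := Subgroup.card_dvd_of_le hXF
  rcases Nat.eq_zero_or_pos j with h0 | hpos
  · rw [h0, pow_zero] at hj
    exact Subgroup.card_eq_one.1 hj
  · exfalso
    apply hq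
    rw [hj] at hdvd
    exact (dvd_pow_self q hpos.ne').trans hdvd

end Bender2

end Cfsg.Agent.Lib.H7
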