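import Mathlib
import Cfsg.Prelude.Def_Local
import Cfsg.Agent.Lib.H7.BenderMax
import Cfsg.Agent.Lib.H7.CoprimeFactor

/-!
# Bender's lemma on maximal subgroups, invariant form (helper7 library)

Let `A` be a maximal subgroup of the finite simple group `G` and `S ≤ F*(A)` a subnormal subgroup of
`F*(A)` containing its centralizer in `F*(A)`.  Every `S`-invariant `p`-subgroup `Y` of `G` meets `A`
trivially when `p ∤ |F(A)|`, and is centralized by `E(A)` and by every `O_r(A)`, `r ≠ p`, when
`p ∣ |F(A)|`.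
-/

set_option autoImplicit false
open Cfsg

namespace Cfsg.Agent.Lib.H7

/-- Normalizer of a nontrivial subgroup normal in a maximal subgroup of a simple group. -/
theorem normalizer_map_eq_of_isCoatom {G : Type*} [Group G] [IsSimpleGroup G]
    (A : Subgroup G) (hA : IsCoatom A) (N : Subgroup ↥A) [hN : N.Normal] (hne : N ≠ ⊥) :
    Subgroup.normalizer ((N.map A.subtype : Subgroup G) : Set G) = A := by
  have h1 : A ≤ Subgroup.normalizer ((N.map A.subtype : Subgroup G) : Set G) := by
    have := Subgroup.le_normalizer_map (H := N) A.subtype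
    rw [Subgroup.normalizer_eq_top, ← MonoidHom.range_eq_map, Subgroup.range_subtype] at this
    exact this
  rcases eq_or_lt_of_le h1 with h | h
  · exact h.symm
  · exfalso
    have htop := hA.2 _ h
    have hnorm : (N.map A.subtype).Normal := Subgroup.normalizer_eq_top_iff.1 htop
    rcases hnorm.eq_bot_or_eq_top with hb | ht
    · apply hne
      rw [Subgroup.map_eq_bot_iff, Subgroup.ker_subtype] at hb
      exact le_bot_iff.1 hb
    · apply hA.1
      rw [eq_top_iff, ← ht]
      exact Subgroup.map_subtype_le N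

theorem le_normalizer_map_of_normal {G : Type*} [Group G] (A : Subgroup G) (N : Subgroup ↥A)
    [hN : N.Normal] : A ≤ Subgroup.normalizer ((N.map A.subtype : Subgroup G) : Set G) := by
  have := Subgroup.le_normalizer_map (H := N) A.subtype
  rw [Subgroup.normalizer_eq_top, ← MonoidHom.range_eq_map, Subgroup.range_subtype] at this
  exact this

theorem subgroupOf_le_normalizer_subgroupOf {G : Type*} [Group G] {S X A : Subgroup G}
    (h : S ≤ Subgroup.normalizer (X : Set G)) :
    S.subgroupOf A ≤ Subgroup.normalizer ((X.subgroupOf A : Subgroup ↥A) : Set ↥A) := by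
  intro s hs
  have hs' : (s : G) ∈ Subgroup.normalizer (X : Set G) := h (Subgroup.mem_subgroupOf.1 hs)
  rw [Subgroup.mem_normalizer_iff] at hs' ⊢
  intro x
  rw [Subgroup.mem_subgroupOf, Subgroup.mem_subgroupOf]
  exact hs' x

section transport
variable {G : Type*} [Group G] {A : Subgroup G} {Fs : Subgroup ↥A} {S : Subgroup G}

theorem transport_le (hSF : S ≤ Fs.map A.subtype) : S.subgroupOf A ≤ Fs := by
  intro x hx
  obtain ⟨y, hy, hyx⟩ := hSF (Subgroup.mem_subgroupOf.1 hx)
  have : y = x := Subtype.ext hyx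
  rw [← this]; exact hy

theorem transport_subnormal (hSsn : (S.subgroupOf (Fs.map A.subtype)).IsSubnormal) :
    ((S.subgroupOf A).subgroupOf Fs).IsSubnormal := by
  have h := Subgroup.IsSubnormal.comap
    (Fs.equivMapOfInjective A.subtype A.subtype_injective).toMonoidHom hSsn
  have heq : (S.subgroupOf (Fs.map A.subtype)).comap
      (Fs.equivMapOfInjective A.subtype A.subtype_injective).toMonoidHom
      = (S.subgroupOf A).subgroupOf Fs := by
    ext x
    simp only [Subgroup.mem_comap, Subgroup.mem_subgroupOf]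
    rfl
  rw [heq] at h
  exact h

theorem transport_centralizer (hSF : S ≤ Fs.map A.subtype)
    (hSC : Fs.map A.subtype ⊓ Subgroup.centralizer (S : Set G) ≤ S) :
    Fs ⊓ Subgroup.centralizer ((S.subgroupOf A : Subgroup ↥A) : Set ↥A) ≤ S.subgroupOf A := by
  intro x hx
  rw [Subgroup.mem_subgroupOf]
  apply hSC
  refine Subgroup.mem_inf.2 ⟨Subgroup.mem_map_of_mem _ (Subgroup.mem_inf.1 hx).1, ?_⟩
  rw [Subgroup.mem_centralizer_iff]
  intro s hs
  have hsA : s ∈ A := by
    obtain ⟨y, -, hys⟩ := hSF hs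
    rw [← hys]; exact y.2
  have h1 : (⟨s, hsA⟩ : ↥A) ∈ S.subgroupOf A := Subgroup.mem_subgroupOf.2 hs
  have h2 := Subgroup.mem_centralizer_iff.1 (Subgroup.mem_inf.1 hx).2 _ h1
  exact congrArg Subtype.val h2

end transport

section pc
variable {G : Type*} [Group G]

/-- The image of `O_q(B)` in `G` is a `q`-group. -/
theorem isPGroup_map_pCore (q : ℕ) [Fact q.Prime] (B : Subgroup G) :
    IsPGroup q ((pCore q ↥B).map B.subtype) :=
  (Cfsg.Agent.Lib.H1.pCore_isPGroup q ↥B).map B.subtype

theorem le_normalizer_map_pCore (q : ℕ) (B : Subgroup G) :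
    B ≤ Subgroup.normalizer (((pCore q ↥B).map B.subtype : Subgroup G) : Set G) := by
  have hn : (pCore q ↥B).Normal := Cfsg.Agent.Lib.H1.pCore_normal q ↥B
  exact le_normalizer_map_of_normal B (pCore q ↥B)

theorem commutator_map_eq_bot_of_subgroupOf_le {A X : Subgroup G}
    {N : Subgroup ↥A} (hXA : X ≤ A)
    (h : X.subgroupOf A ≤ Subgroup.centralizer (N : Set ↥A)) :
    ⁅N.map A.subtype, X⁆ = ⊥ := by
  rw [Subgroup.commutator_eq_bot_iff_le_centralizer]
  rintro _ ⟨z, hz, rfl⟩
  rw [Subgroup.mem_centralizer_iff]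
  intro x hx
  have hx' : (⟨x, hXA hx⟩ : ↥A) ∈ X.subgroupOf A := Subgroup.mem_subgroupOf.2 hx
  have := Subgroup.mem_centralizer_iff.1 (h hx') z hz
  exact (congrArg Subtype.val this).symm

end pc

/-- If `p ∣ |F(A)|` then `O_p(A) ≠ 1`. -/
theorem pCore_ne_bot_of_dvd_card_fittingSubgroup {H : Type*} [Group H] [Finite H] (p : ℕ)
    [Fact p.Prime] (hpF : p ∣ Nat.card (fittingSubgroup H)) : pCore p H ≠ ⊥ := by
  have hp : p.Prime := Fact.out
  obtain ⟨x, hx⟩ := exists_prime_orderOf_dvd_card' p hpF
  have hxm : (x : H) ∈ pCore p H := by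
    apply mem_pCore_of_mem_fitting_of_pow p x.2
    refine ⟨1, ?_⟩
    rw [pow_one]
    have := pow_orderOf_eq_one x
    rw [hx] at this
    exact congrArg Subtype.val this
  intro hbot
  rw [hbot, Subgroup.mem_bot] at hxm
  have hx1 : x = 1 := Subtype.ext hxm
  rw [hx1, orderOf_one] at hx
  exact hp.one_lt.ne hx

/-- If `p ∤ |F(A)|` then `O_p(A) = 1`. -/
theorem pCore_eq_bot_of_not_dvd_card_fittingSubgroup {H : Type*} [Group H] [Finite H] (q : ℕ)
    [Fact q.Prime] (hq : ¬ q ∣ Nat.card (fittingSubgroup H)) : pCore q H = ⊥ := by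
  obtain ⟨k, hk⟩ := IsPGroup.iff_card.1 (Cfsg.Agent.Lib.H1.pCore_isPGroup q H)
  have hdvd : Nat.card (pCore q H) ∣ Nat.card (fittingSubgroup H) :=
    Subgroup.card_dvd_of_le (pCore_le_fittingSubgroup q)
  rcases Nat.eq_zero_or_pos k with h0 | hpos
  · rw [h0, pow_zero] at hk
    exact Subgroup.card_eq_one.1 hk
  · exfalso
    apply hq
    rw [hk] at hdvd
    exact (dvd_pow_self q hpos.ne').trans hdvd

section main
variable {G : Type*} [Group G] [Finite G]

/-- Invariant form of Bender's lemma, part (a). -/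
theorem bender_invariant_inf_eq_bot (A : Subgroup G) (S : Subgroup G)
    (hSF : S ≤ (generalizedFittingSubgroup ↥A).map A.subtype)
    (hSsn : (S.subgroupOf ((generalizedFittingSubgroup ↥A).map A.subtype)).IsSubnormal)
    (hSC : (generalizedFittingSubgroup ↥A).map A.subtype ⊓ Subgroup.centralizer (S : Set G) ≤ S)
    (q : ℕ) [Fact q.Prime] (Y : Subgroup G) (hYq : IsPGroup q Y)
    (hSY : S ≤ Subgroup.normalizer (Y : Set G))
    (hqF : ¬ q ∣ Nat.card (fittingSubgroup ↥A)) : Y ⊓ A = ⊥ := by
  have hSA : S ≤ A := hSF.trans (Subgroup.map_subtype_le _)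
  have h1 := transport_le hSF
  have h2 := transport_subnormal hSsn
  have h3 := transport_centralizer hSF hSC
  set XG : Subgroup G := Y ⊓ A with hXG
  have hXq : IsPGroup q (XG.subgroupOf A) := by
    have : IsPGroup q XG := hYq.to_le inf_le_left
    exact this.comap_of_injective A.subtype A.subtype_injective
  have hSX : S ≤ Subgroup.normalizer (XG : Set G) := by
    apply le_normalizer_inf hSY
    exact hSA.trans Subgroup.le_normalizer
  have hb := bender_eq_bot h1 h2 h3 q hXq (subgroupOf_le_normalizer_subgroupOf hSX) hqF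
  rw [Subgroup.subgroupOf_eq_bot] at hb
  exact hb.eq_bot_of_le inf_le_right

/-- Invariant form of Bender's lemma, part (b). -/
theorem bender_invariant_centralizes [IsSimpleGroup G] (A : Subgroup G)
    (hA : IsCoatom A) (S : Subgroup G)
    (hSF : S ≤ (generalizedFittingSubgroup ↥A).map A.subtype)
    (hSsn : (S.subgroupOf ((generalizedFittingSubgroup ↥A).map A.subtype)).IsSubnormal)
    (hSC : (generalizedFittingSubgroup ↥A).map A.subtype ⊓ Subgroup.centralizer (S : Set G) ≤ S)
    (p : ℕ) [Fact p.Prime] (Y : Subgroup G) (hYp : IsPGroup p Y)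
    (hSY : S ≤ Subgroup.normalizer (Y : Set G))
    (hpF : p ∣ Nat.card (fittingSubgroup ↥A)) :
    layer ↥A ≤ (Subgroup.centralizer (Y : Set G)).subgroupOf A ∧
      ∀ r : ℕ, r.Prime → r ≠ p →
        pCore r ↥A ≤ (Subgroup.centralizer (Y : Set G)).subgroupOf A := by
  have hp : p.Prime := Fact.out
  have hSA : S ≤ A := hSF.trans (Subgroup.map_subtype_le _)
  have h1 := transport_le hSF
  have h2 := transport_subnormal hSsn
  have h3 := transport_centralizer hSF hSC
  set CY : Subgroup ↥A := (Subgroup.centralizer (Y : Set G)).subgroupOf A with hCYdef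
  have hOp : pCore p ↥A ≠ ⊥ := pCore_ne_bot_of_dvd_card_fittingSubgroup p hpF
  have hZp : coreCenter p ↥A ≠ ⊥ := coreCenter_ne_bot p hOp
  have hZpS : coreCenter p ↥A ≤ S.subgroupOf A := coreCenter_le_of_bender h3 h1 p
  set ZpG : Subgroup G := (coreCenter p ↥A).map A.subtype with hZpG
  have hNZ : Subgroup.normalizer (ZpG : Set G) = A := normalizer_map_eq_of_isCoatom A hA _ hZp
  have hZpGS : ZpG ≤ S := by
    rintro _ ⟨z, hz, rfl⟩
    exact Subgroup.mem_subgroupOf.1 (hZpS hz)
  have hZpGp : IsPGroup p ZpG :=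
    ((Cfsg.Agent.Lib.H1.pCore_isPGroup p ↥A).to_le (coreCenter_le_pCore p)).map A.subtype
  set XG : Subgroup G := Y ⊓ A with hXG
  have hX'p : IsPGroup p (XG.subgroupOf A) := by
    have : IsPGroup p XG := hYp.to_le inf_le_left
    exact this.comap_of_injective A.subtype A.subtype_injective
  have hSX : S ≤ Subgroup.normalizer (XG : Set G) :=
    le_normalizer_inf hSY (hSA.trans Subgroup.le_normalizer)
  have hS'X := subgroupOf_le_normalizer_subgroupOf (A := A) hSX
  have hXcore : ∀ r : ℕ, r.Prime → r ≠ p →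
      XG.subgroupOf A ≤ Subgroup.centralizer (pCore r ↥A : Set ↥A) := by
    intro r hr hrp
    have : Fact r.Prime := ⟨hr⟩
    apply bender_centralizes_core h1 h2 h3 r _ hS'X
    obtain ⟨j, hj⟩ := IsPGroup.iff_card.1 hX'p
    rw [hj]; exact Nat.Coprime.pow_left j ((Nat.coprime_primes hp hr).2 (Ne.symm hrp))
  have hXlay : XG.subgroupOf A ≤ Subgroup.centralizer (layer ↥A : Set ↥A) :=
    bender_centralizes_layer h1 h2 h3 (by have := hX'p.isNilpotent; infer_instance) hS'X
  have hCYX : Y ⊓ Subgroup.centralizer (ZpG : Set G) ≤ XG := by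
    apply le_inf inf_le_left
    calc Y ⊓ Subgroup.centralizer (ZpG : Set G) ≤ Subgroup.centralizer (ZpG : Set G) := inf_le_right
      _ ≤ Subgroup.normalizer (ZpG : Set G) := Subgroup.centralizer_le_normalizer _
      _ = A := hNZ
  -- the general A×B step
  have gen : ∀ D : Subgroup ↥A, (Nat.card D).Coprime p → D ≤ S.subgroupOf A →
      D ≤ Subgroup.centralizer (coreCenter p ↥A : Set ↥A) →
      XG.subgroupOf A ≤ Subgroup.centralizer (D : Set ↥A) → D ≤ CY := by
    intro D hDp hDS hDZ hXD
    have hDGS : D.map A.subtype ≤ S := by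
      rintro _ ⟨z, hz, rfl⟩
      exact Subgroup.mem_subgroupOf.1 (hDS hz)
    have hcard : (Nat.card (D.map A.subtype)).Coprime p := by
      rw [Subgroup.card_map_of_injective A.subtype_injective]; exact hDp
    have hcomm : ⁅D.map A.subtype, ZpG⁆ = ⊥ := by
      rw [hZpG, ← Subgroup.map_commutator,
        Subgroup.commutator_eq_bot_iff_le_centralizer.2 hDZ, Subgroup.map_bot]
    have hC : ⁅D.map A.subtype, Y ⊓ Subgroup.centralizer (ZpG : Set G)⁆ = ⊥ := by
      rw [eq_bot_iff]
      refine (Subgroup.commutator_mono le_rfl hCYX).trans ?_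
      rw [commutator_map_eq_bot_of_subgroupOf_le inf_le_right hXD]
    have hres := thompson_AxB' p hYp hZpGp hcard hcomm (hDGS.trans hSY) (hZpGS.trans hSY) hC
    intro d hd
    rw [hCYdef, Subgroup.mem_subgroupOf]
    exact (Subgroup.commutator_eq_bot_iff_le_centralizer.1 hres) (Subgroup.mem_map_of_mem _ hd)
  -- `Z(O_r(A))` centralizes `Y` for `r ≠ p`
  have hZr : ∀ r : ℕ, r.Prime → r ≠ p → coreCenter r ↥A ≤ CY := by
    intro r hr hrp
    have : Fact r.Prime := ⟨hr⟩
    apply gen
    · obtain ⟨j, hj⟩ := IsPGroup.iff_card.1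
        ((Cfsg.Agent.Lib.H1.pCore_isPGroup r ↥A).to_le (coreCenter_le_pCore r))
      rw [hj]; exact Nat.Coprime.pow_left j ((Nat.coprime_primes hr hp).2 hrp)
    · exact coreCenter_le_of_bender h3 h1 r
    · have := commutator_pCore_pCore_eq_bot (H := ↥A) hrp
      exact (coreCenter_le_pCore r).trans
        ((Subgroup.commutator_eq_bot_iff_le_centralizer.1 this).trans
          (Subgroup.centralizer_le (coreCenter_le_pCore p)))
    · exact (hXcore r hr hrp).trans (Subgroup.centralizer_le (coreCenter_le_pCore r))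
  -- the layer centralizes `Y`
  have hlayS := bender_layer_le h1 h2 h3
  have hlayF : layer ↥A ≤ Subgroup.centralizer (fittingSubgroup ↥A : Set ↥A) :=
    Subgroup.commutator_eq_bot_iff_le_centralizer.1 layer_commutator_fitting
  have hlay : layer ↥A ≤ CY := by
    apply sSup_le
    intro L hL
    have hLperf : Group.IsPerfect L := hL.2.1
    apply le_of_isPerfect_of_coprime_mem p
    intro a haL hacop
    have haLay : a ∈ layer ↥A := component_le_layer hL haL
    have hz : Subgroup.zpowers a ≤ CY := by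
      apply gen
      · rw [Nat.card_zpowers]; exact hacop
      · rw [Subgroup.zpowers_le]; exact hlayS haLay
      · rw [Subgroup.zpowers_le]
        exact (hlayF.trans (Subgroup.centralizer_le
          ((coreCenter_le_pCore p).trans (pCore_le_fittingSubgroup p)))) haLay
      · refine hXlay.trans (Subgroup.centralizer_le ?_)
        rw [SetLike.coe_subset_coe, Subgroup.zpowers_le]
        exact haLay
    exact hz (Subgroup.mem_zpowers a)
  refine ⟨hlay, ?_⟩
  -- the cores `O_r(A)` centralize `Y`
  intro r hr hrp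
  have : Fact r.Prime := ⟨hr⟩
  by_cases hbot : pCore r ↥A = ⊥
  · rw [hbot]; exact bot_le
  · have hZrne : coreCenter r ↥A ≠ ⊥ := coreCenter_ne_bot r hbot
    have hNr := normalizer_map_eq_of_isCoatom A hA (coreCenter r ↥A) hZrne
    have hYA : Y ≤ A := by
      have h4 : (coreCenter r ↥A).map A.subtype ≤ Subgroup.centralizer (Y : Set G) := by
        rintro _ ⟨z, hz, rfl⟩
        exact Subgroup.mem_subgroupOf.1 (hZr r hr hrp hz)
      calc Y ≤ Subgroup.centralizer (((coreCenter r ↥A).map A.subtype : Subgroup G) : Set G) :=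
            Subgroup.le_centralizer_iff.1 h4
        _ ≤ Subgroup.normalizer (((coreCenter r ↥A).map A.subtype : Subgroup G) : Set G) :=
            Subgroup.centralizer_le_normalizer _
        _ = A := hNr
    intro z hz
    rw [hCYdef, Subgroup.mem_subgroupOf, Subgroup.mem_centralizer_iff]
    intro y hy
    have hy' : (⟨y, hYA hy⟩ : ↥A) ∈ XG.subgroupOf A :=
      Subgroup.mem_subgroupOf.2 (Subgroup.mem_inf.2 ⟨hy, hYA hy⟩)
    have := Subgroup.mem_centralizer_iff.1 (hXcore r hr hrp hy') z hz
    exact (congrArg Subtype.val this).symm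

end main

end Cfsg.Agent.Lib.H7
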