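import Mathlib
import Cfsg.Agent.Lib.H7.BG14v
import Cfsg.Agent.Lib.H7.BG11mu
import Cfsg.Agent.Lib.H19.BG13k
import Cfsg.Agent.S1413
import Cfsg.Agent.Lib.H20.SOC1
import Cfsg.Agent.S1425

/-!
# BG Theorem 14.2(d),(e),(f),(g) for a cyclic Hall `κ(M)`-subgroup `K ≠ 1` (helper7)

`K* := C_{M_σ}(K)`.
* `inf_normalizer_eq`, `inf_normalizer_self_eq` : `N_M(X) = N_M(K) = K × K*` for `X ≤ K` of prime
  order.
* `le_sigmaCore_of_normalizer_le` : `N(X) ≤ M*` implies `X ≤ M*_σ` and `M*` not conjugate to `M`.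
* `exists_star_prime` : a subgroup `Y ≤ K*` of prime order `q ∈ σ(M)` with `C(Y) ≤ M`.
* `star_inf_map_conj_eq_bot` : `K* ∩ M^g = 1` for `g ∉ M`.
* `inf_map_conj_eq_bot` : `K ∩ K^g = 1` for `g ∈ M ∖ K K*`.
* `sylow_not_le_star` : 14.2(f).
* `le_sigmaCore_of_inf_star_ne_bot` : 14.2(g).
-/

set_option autoImplicit false
set_option linter.style.haveILetI false
set_option linter.unusedSectionVars false
set_option linter.unusedVariables false
open Cfsg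
open Cfsg.Agent.Lib.H16.BG
open Cfsg.Agent.Lib.H7.BG7
open Cfsg.Agent.Lib.H7.BG10
open Cfsg.Agent.Lib.H19 (IsPiCard)
open Cfsg.Agent.Lib.H1 (CoprimeAction)
open scoped commutatorElement

namespace Cfsg.Agent.Lib.H7.BG14w

universe u
variable {G : Type u} [Group G] [Finite G]

local notation:max "cj(" g ", " X ")" => Subgroup.map (MulEquiv.toMonoidHom (MulAut.conj g)) X

/-- `K ⊔ C_{M_σ}(K) ≤ C(X)` for `X ≤ K`, `K` cyclic. -/
theorem sup_le_centralizer {M K X : Subgroup G} (hKc : IsCyclic ↥K) (hXK : X ≤ K) :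
    K ⊔ (sigmaCore M ⊓ Subgroup.centralizer (K : Set G)) ≤ Subgroup.centralizer (X : Set G) := by
  have hab := Cfsg.Agent.Lib.H7.BG138.isMulCommutative_of_isCyclic hKc
  apply sup_le
  · intro a ha
    rw [Subgroup.mem_centralizer_iff]
    intro z hz
    have := hab.is_comm.comm (⟨z, hXK hz⟩ : K) ⟨a, ha⟩
    exact congrArg Subtype.val this
  · exact inf_le_right.trans (Subgroup.centralizer_le hXK)

/-- **BG 14.2(d)**, first half: `N_M(X) = K × C_{M_σ}(K)` for `X ≤ K` of prime order. -/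
theorem inf_normalizer_eq (hG : IsMinSimpleOddOrder G) {M : Subgroup G}
    (hM : IsCoatom M) {K : Subgroup G} (hKc : IsCyclic ↥K) (hK : IsPiHallOf (kappa M) K M)
    {X : Subgroup G} (hXK : X ≤ K) {p : ℕ} (hp : p.Prime) (hXc : Nat.card X = p) :
    M ⊓ Subgroup.normalizer (X : Set G) =
      K ⊔ (sigmaCore M ⊓ Subgroup.centralizer (K : Set G)) := by
  haveI : Fact p.Prime := ⟨hp⟩
  obtain ⟨E, hE, hKE⟩ := Cfsg.Agent.Lib.H19.BG13.exists_compl_ge hG hM hK.1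
    (fun q hq hd => (hK.2.1 q hq hd).2.2.1)
  have hσn : M ≤ Subgroup.normalizer ((sigmaCore M : Subgroup G) : Set G) :=
    Cfsg.Agent.Lib.H20.BGS.le_normalizer_sigmaCore M
  have hτ : ∀ q : ℕ, q.Prime → q ∣ Nat.card K → q ∈ tau1 M := fun q hq hd =>
    Cfsg.Agent.Lib.H7.BG13t.mem_tau1_of_mem_kappa hG hM hKc hK (hK.2.1 q hq hd)
  have hXτ : ∀ s : ℕ, s.Prime → s ∣ Nat.card X → s ∈ tau1 M := fun s hs hd =>
    hτ s hs (hd.trans (Subgroup.card_dvd_of_le hXK))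
  have hXM' := Cfsg.Agent.Lib.H19.BG13.inf_commutator_eq_bot_of_tau1 hXτ
  obtain ⟨x₀, hX₀, -, hx₀1⟩ := Cfsg.Agent.Lib.H7.BG11mu.exists_generator_of_card_prime hXc
  have hx₀X : x₀ ∈ X := by rw [hX₀]; exact Subgroup.mem_zpowers x₀
  apply le_antisymm
  · intro m hm
    obtain ⟨hmM, hmN⟩ := Subgroup.mem_inf.1 hm
    obtain ⟨e, he, s, hs, rfl⟩ := hE.2.2.2 m hmM
    have hXE : X ≤ E := hXK.trans hKE
    -- for every `x ∈ X`: `e x e⁻¹ ∈ X` and `s x = x s`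
    have key : ∀ x ∈ X, e * x * e⁻¹ ∈ X ∧ s * x = x * s := by
      intro x hx
      have hy : (e * s) * x * (e * s)⁻¹ ∈ X := ((Subgroup.mem_normalizer_iff.1 hmN) x).1 hx
      have hxE : x ∈ E := hXE hx
      have hxM : x ∈ M := hE.1 hxE
      -- c := x⁻¹ s x s⁻¹ ∈ M_σ
      have hc1 : x⁻¹ * s * x * s⁻¹ ∈ sigmaCore M := by
        have h1 : x⁻¹ * s * x⁻¹⁻¹ ∈ sigmaCore M :=
          ((Subgroup.mem_normalizer_iff.1 (hσn (M.inv_mem hxM))) s).1 hs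
        have : x⁻¹ * s * x * s⁻¹ = (x⁻¹ * s * x⁻¹⁻¹) * s⁻¹ := by group
        rw [this]; exact (sigmaCore M).mul_mem h1 ((sigmaCore M).inv_mem hs)
      have hc2 : e * (x⁻¹ * s * x * s⁻¹) * e⁻¹ ∈ sigmaCore M :=
        ((Subgroup.mem_normalizer_iff.1 (hσn (hE.1 he))) _).1 hc1
      have hc3 : e * (x⁻¹ * s * x * s⁻¹) * e⁻¹ = (e * x * e⁻¹)⁻¹ * ((e * s) * x * (e * s)⁻¹) := by
        group
      have hc4 : e * (x⁻¹ * s * x * s⁻¹) * e⁻¹ ∈ E := by
        rw [hc3]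
        exact E.mul_mem (E.inv_mem (E.mul_mem (E.mul_mem he hxE) (E.inv_mem he))) (hXE hy)
      have hc5 : e * (x⁻¹ * s * x * s⁻¹) * e⁻¹ = 1 := by
        have : e * (x⁻¹ * s * x * s⁻¹) * e⁻¹ ∈ E ⊓ sigmaCore M := ⟨hc4, hc2⟩
        rw [hE.2.2.1] at this
        exact Subgroup.mem_bot.1 this
      have hc6 : x⁻¹ * s * x * s⁻¹ = 1 := by
        have : x⁻¹ * s * x * s⁻¹ = e⁻¹ * (e * (x⁻¹ * s * x * s⁻¹) * e⁻¹) * e := by group
        rw [this, hc5]; group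
      constructor
      · have : e * x * e⁻¹ = ((e * s) * x * (e * s)⁻¹) * (e * (x⁻¹ * s * x * s⁻¹) * e⁻¹)⁻¹ := by
          group
        rw [this, hc5, inv_one, mul_one]; exact hy
      · have : s * x = x * (x⁻¹ * s * x * s⁻¹) * s := by group
        rw [this, hc6, mul_one]
    -- `e` centralizes `X`
    have heX : ∀ x ∈ X, e * x = x * e := by
      intro x hx
      have h1 : e * x * e⁻¹ * x⁻¹ ∈ X ⊓ ⁅M, M⁆ := by
        refine ⟨X.mul_mem (key x hx).1 (X.inv_mem hx), ?_⟩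
        have : e * x * e⁻¹ * x⁻¹ = ⁅e, x⁆ := by rw [commutatorElement_def]
        rw [this]
        exact Subgroup.commutator_mem_commutator (hE.1 he) (hE.1 (hXE hx))
      rw [hXM', Subgroup.mem_bot] at h1
      have : e * x = (e * x * e⁻¹ * x⁻¹) * (x * e) := by group
      rw [this, h1, one_mul]
    have heK : e ∈ K := by
      rw [← Cfsg.Agent.Lib.H7.BG14u.compl_inf_centralizer_eq hG hM hKc hK hE hKE (hXK hx₀X) hx₀1]
      refine Subgroup.mem_inf.2 ⟨he, ?_⟩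
      rw [Subgroup.mem_centralizer_iff]
      intro z hz
      rw [Set.mem_singleton_iff] at hz
      rw [hz]; exact (heX x₀ hx₀X).symm
    have hsK : s ∈ sigmaCore M ⊓ Subgroup.centralizer (K : Set G) := by
      refine Subgroup.mem_inf.2 ⟨hs, ?_⟩
      apply Cfsg.Agent.Lib.H7.BG14t.sigmaCore_inf_centralizer_le_of_cyclic_tau1 hG hM hE hKE hKc
        hτ hXK hp hXc
      refine Subgroup.mem_inf.2 ⟨hs, ?_⟩
      rw [Subgroup.mem_centralizer_iff]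
      intro z hz
      exact ((key z hz).2).symm
    exact Subgroup.mul_mem_sup heK hsK
  · refine le_inf (sup_le hK.1 (inf_le_left.trans (Cfsg.Agent.Lib.H20.BGS.sigmaCore_le M))) ?_
    exact (sup_le_centralizer hKc hXK).trans (Subgroup.centralizer_le_normalizer _)

/-- **BG 14.2(d)**: `N_M(K) = K × C_{M_σ}(K)`. -/
theorem inf_normalizer_self_eq (hG : IsMinSimpleOddOrder G) {M : Subgroup G}
    (hM : IsCoatom M) {K : Subgroup G} (hKc : IsCyclic ↥K) (hK : IsPiHallOf (kappa M) K M)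
    (hK1 : K ≠ ⊥) :
    M ⊓ Subgroup.normalizer (K : Set G) =
      K ⊔ (sigmaCore M ⊓ Subgroup.centralizer (K : Set G)) := by
  obtain ⟨p, hp, X, hXK, hXc⟩ := Cfsg.Agent.Lib.H7.BG14u.exists_le_card_prime hK1
  apply le_antisymm
  · rw [← inf_normalizer_eq hG hM hKc hK hXK hp hXc]
    exact inf_le_inf_left _
      (Cfsg.Agent.Lib.H20.BGT.normalizer_le_normalizer_of_le_cyclic hKc hXK)
  · refine le_inf (sup_le hK.1 (inf_le_left.trans (Cfsg.Agent.Lib.H20.BGS.sigmaCore_le M))) ?_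
    exact (sup_le_centralizer hKc le_rfl).trans (Subgroup.centralizer_le_normalizer _)


/-- data for a subgroup `X ≤ K` of prime order `p`: `p ∈ τ₁(M)`, a complement `E ≥ K`, and a
subgroup `Y ≤ C_{M_σ}(K)` of prime order `q ∈ σ(M)` with `𝓜(C(Y)) = {M}`. -/
theorem exists_star_prime (hG : IsMinSimpleOddOrder G) {M : Subgroup G}
    (hM : IsCoatom M) {K : Subgroup G} (hKc : IsCyclic ↥K) (hK : IsPiHallOf (kappa M) K M)
    {X : Subgroup G} (hXK : X ≤ K) {p : ℕ} (hp : p.Prime) (hXc : Nat.card X = p) :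
    ∃ q : ℕ, q.Prime ∧ q ∈ sigma M ∧ ∃ Y : Subgroup G,
      Y ≤ sigmaCore M ⊓ Subgroup.centralizer (K : Set G) ∧ Nat.card Y = q ∧
      Subgroup.centralizer (Y : Set G) ≤ M := by
  haveI : Fact p.Prime := ⟨hp⟩
  obtain ⟨E, hE, hKE⟩ := Cfsg.Agent.Lib.H19.BG13.exists_compl_ge hG hM hK.1
    (fun q hq hd => (hK.2.1 q hq hd).2.2.1)
  have hτ : ∀ q : ℕ, q.Prime → q ∣ Nat.card K → q ∈ tau1 M := fun q hq hd =>
    Cfsg.Agent.Lib.H7.BG13t.mem_tau1_of_mem_kappa hG hM hKc hK (hK.2.1 q hq hd)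
  have hp1 : p ∈ tau1 M := hτ p hp (by rw [← hXc]; exact Subgroup.card_dvd_of_le hXK)
  have hne := Cfsg.Agent.Lib.H7.BG14u.sigmaCore_inf_centralizer_ne_bot hG hM hK hXK hp hXc
  obtain ⟨q, hq, Y, hYle, hYc⟩ := Cfsg.Agent.Lib.H7.BG14u.exists_le_card_prime hne
  haveI : Fact q.Prime := ⟨hq⟩
  have h1 := Cfsg.Agent.Lib.H7.BG14v.centralizer_le_uniq_of_tau1 hG hM hE hp1 (hXK.trans hKE) hXc
    (hYle.trans inf_le_left) hYc (hYle.trans inf_le_right)
  refine ⟨q, hq, h1.1, Y, ?_, hYc, h1.2.1.1⟩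
  refine le_inf (hYle.trans inf_le_left) ?_
  exact hYle.trans (Cfsg.Agent.Lib.H7.BG14t.sigmaCore_inf_centralizer_le_of_cyclic_tau1 hG hM hE
    hKE hKc hτ hXK hp hXc)

/-- **BG 14.2(d)**, second half: if `N(X) ≤ M*` then `X ≤ M*_σ` (and `M*` is not conjugate to
`M`). -/
theorem le_sigmaCore_of_normalizer_le (hG : IsMinSimpleOddOrder G) {M : Subgroup G}
    (hM : IsCoatom M) {K : Subgroup G} (hKc : IsCyclic ↥K) (hK : IsPiHallOf (kappa M) K M)
    {X : Subgroup G} (hXK : X ≤ K) {p : ℕ} (hp : p.Prime) (hXc : Nat.card X = p)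
    {Ms : Subgroup G} (hMs : IsCoatom Ms) (hNX : Subgroup.normalizer (X : Set G) ≤ Ms) :
    (∀ g : G, Ms ≠ cj(g, M)) ∧ p ∈ sigma Ms ∧ X ≤ sigmaCore Ms := by
  haveI : Fact p.Prime := ⟨hp⟩
  have hpκ : p ∈ kappa M := hK.2.1 p hp (by rw [← hXc]; exact Subgroup.card_dvd_of_le hXK)
  have hXp : IsPGroup p X := IsPGroup.of_card (n := 1) (by rw [hXc, pow_one])
  have hX1 : X ≠ ⊥ := by
    intro h; rw [h, Subgroup.card_bot] at hXc; exact hp.one_lt.ne hXc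
  obtain ⟨S, hS, hXS⟩ := SylIn.exists_ge hXp hXK
  have hSM : SylIn p S M := Cfsg.Agent.Lib.H20.BGV.sylIn_of_hall hK hpκ hS
  obtain ⟨P, hP⟩ := hSM.exists_sylow
  have hSc : IsCyclic ↥S := by
    rw [← hP]
    haveI := (hpκ.2.2.2 P).1
    exact isCyclic_of_surjective
      ((P : Subgroup M).equivMapOfInjective _ M.subtype_injective).toMonoidHom
      ((P : Subgroup M).equivMapOfInjective _ M.subtype_injective).surjective
  have hr1 : PRankLE p 1 ↥M := by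
    haveI := hSc
    exact pRankLE_of_sylIn hSM (Cfsg.Agent.Lib.H7.BG13.pRankLE_one_of_isCyclic hp)
  have h1 := Cfsg.Agent.Lib.H19.BG13.type_of_normalizer_ge hG hM hpκ.2.2.1 hSM hSc hXp hX1
    (hXK.trans hK.1) hMs hNX
  have hpσ : p ∈ sigma Ms := by
    rcases h1.2 with h | h
    · exact h
    · exfalso
      obtain ⟨q, hq, hqσ, Y, hYle, hYc, hYM⟩ := exists_star_prime hG hM hKc hK hXK hp hXc
      haveI : Fact q.Prime := ⟨hq⟩
      exact Cfsg.Agent.Lib.H7.BG14v.no_theta' hG hM hMs h hpκ.2.2.1 hr1 (hXK.trans hK.1) hXc hNX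
        hqσ hYc (hYle.trans (inf_le_right.trans (Subgroup.centralizer_le hXK))) hYM
  refine ⟨h1.1, hpσ, ?_⟩
  exact Cfsg.Agent.Lib.H20.BGT.le_sigmaCore_of_isPiCard hG hMs (Subgroup.le_normalizer.trans hNX)
    (isPiCard_of_isPGroup hp hpσ hXp)


/-- a nontrivial proper-normalizer subgroup contained in a unique maximal subgroup `M`
has its normalizer in `M`. -/
theorem normalizer_le_of_uniq (hG : IsMinSimpleOddOrder G) {M : Subgroup G} {q : ℕ}
    [Fact q.Prime] {Y A : Subgroup G} (hYq : IsPGroup q Y) (hY1 : Y ≠ ⊥)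
    (hAY : A ≤ Subgroup.normalizer (Y : Set G))
    (huniq : ∀ L : Subgroup G, IsCoatom L → A ≤ L → L = M) :
    Subgroup.normalizer (Y : Set G) ≤ M := by
  have hne : Subgroup.normalizer (Y : Set G) ≠ ⊤ := normalizer_ne_top_of_isPGroup hG hYq hY1
  obtain ⟨L, hL, hNL⟩ := (eq_top_or_exists_le_coatom _).resolve_left hne
  have := huniq L hL (hAY.trans hNL)
  rw [← this]; exact hNL

/-- **BG 14.2(e)**, first half: `K* ∩ M^g = 1` for `g ∉ M`. -/
theorem star_inf_map_conj_eq_bot (hG : IsMinSimpleOddOrder G) {M : Subgroup G}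
    (hM : IsCoatom M) {K : Subgroup G} (hKc : IsCyclic ↥K) (hK : IsPiHallOf (kappa M) K M)
    (hK1 : K ≠ ⊥) {g : G} (hg : g ∉ M) :
    (sigmaCore M ⊓ Subgroup.centralizer (K : Set G)) ⊓ cj(g, M) = ⊥ := by
  by_contra hne
  have hU := Cfsg.Agent.Lib.H20.BGT.uniq3 hG
  have hσ := (Cfsg.Agent.Lib.H20.BGS.sigma_core_hall hG hU hM).1
  obtain ⟨q, hq, Y, hYle, hYc⟩ := Cfsg.Agent.Lib.H7.BG14u.exists_le_card_prime hne
  obtain ⟨p, hp, X, hXK, hXc⟩ := Cfsg.Agent.Lib.H7.BG14u.exists_le_card_prime hK1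
  haveI : Fact p.Prime := ⟨hp⟩
  haveI : Fact q.Prime := ⟨hq⟩
  obtain ⟨E, hE, hKE⟩ := Cfsg.Agent.Lib.H19.BG13.exists_compl_ge hG hM hK.1
    (fun q hq hd => (hK.2.1 q hq hd).2.2.1)
  have hτ : ∀ q : ℕ, q.Prime → q ∣ Nat.card K → q ∈ tau1 M := fun q hq hd =>
    Cfsg.Agent.Lib.H7.BG13t.mem_tau1_of_mem_kappa hG hM hKc hK (hK.2.1 q hq hd)
  have hp1 : p ∈ tau1 M := hτ p hp (by rw [← hXc]; exact Subgroup.card_dvd_of_le hXK)
  have hYσ : Y ≤ sigmaCore M := hYle.trans (inf_le_left.trans inf_le_left)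
  have hYX : Y ≤ Subgroup.centralizer (X : Set G) :=
    hYle.trans (inf_le_left.trans (inf_le_right.trans (Subgroup.centralizer_le hXK)))
  have hYg : Y ≤ cj(g, M) := hYle.trans inf_le_right
  have hYq : IsPGroup q Y := IsPGroup.of_card (n := 1) (by rw [hYc, pow_one])
  have hY1 : Y ≠ ⊥ := by
    intro h; rw [h, Subgroup.card_bot] at hYc; exact hq.one_lt.ne hYc
  have h1 := Cfsg.Agent.Lib.H7.BG14v.centralizer_le_uniq_of_tau1 hG hM hE hp1 (hXK.trans hKE) hXc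
    hYσ hYc hYX
  have hqσ : q ∈ sigma M := h1.1
  have hNY : Subgroup.normalizer (Y : Set G) ≤ M :=
    normalizer_le_of_uniq hG hYq hY1 (Subgroup.centralizer_le_normalizer _) h1.2.1.2
  -- a Sylow `q`-subgroup `S` of `M_σ` containing `Y`
  obtain ⟨S, hS, hYS⟩ := SylIn.exists_ge hYq hYσ
  obtain ⟨S', hS'⟩ := hS.exists_sylow
  have h2 := h1.2.2 S'
  rw [hS'] at h2
  have hSq : IsPGroup q S := hS.isPGroup
  have hS1 : S ≠ ⊥ := _root_.ne_bot_of_le_ne_bot hY1 hYS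
  have hNS : Subgroup.normalizer (S : Set G) ≤ M := by
    obtain ⟨L, hL, hSL, huniq⟩ := inUniqueMaximal_iff.1 h2.1
    have hLM : L = M := (huniq M hM h2.2).symm
    apply normalizer_le_of_uniq hG hSq hS1 Subgroup.le_normalizer
    intro L' hL' hSL'
    rw [huniq L' hL' hSL', hLM]
  have hSM : SylIn q S M := Cfsg.Agent.Lib.H20.BGV.sylIn_of_hall hσ hqσ hS
  have hStop : SylIn q S ⊤ := sylIn_top_of_normalizer_le hSM hNS
  obtain ⟨Pq, hPq⟩ := hStop.exists_sylow_top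
  -- `W := Y^{g⁻¹} ≤ M_σ`
  have hWM : cj(g⁻¹, Y) ≤ M := by
    have := (map_conj_le_iff g⁻¹ (X := Y) (Y := M)).2
    apply this
    rw [inv_inv]; exact hYg
  have hWq : IsPGroup q cj(g⁻¹, Y) := hYq.map _
  have hWσ : cj(g⁻¹, Y) ≤ sigmaCore M :=
    Cfsg.Agent.Lib.H20.BGT.le_sigmaCore_of_isPiCard hG hM hWM (isPiCard_of_isPGroup hq hqσ hWq)
  obtain ⟨m, hm, hmW⟩ := hS.exists_conj_le hWq hWσ
  rw [Cfsg.Agent.Lib.H10.map_conj_map_conj] at hmW
  have h3 := (Cfsg.Agent.S1413.result hG q Pq).1 Y (m * g⁻¹) (by rw [hPq]; exact hYS)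
    (by rw [hPq]; exact hmW)
  obtain ⟨y, hy, hyeq⟩ := h3
  rw [hPq] at hy
  have hyM : y ∈ M := hNS hy
  have hmM : m ∈ M := Cfsg.Agent.Lib.H20.BGS.sigmaCore_le M hm
  -- `y⁻¹ * (m * g⁻¹) ∈ N(Y)`
  have h4 : y⁻¹ * (m * g⁻¹) ∈ Subgroup.normalizer (Y : Set G) := by
    rw [Cfsg.Agent.Lib.H10.mem_normalizer_iff_map_conj,
      ← Cfsg.Agent.Lib.H10.map_conj_map_conj, hyeq, Cfsg.Agent.Lib.H10.map_conj_map_conj,
      inv_mul_cancel, Cfsg.Agent.Lib.H10.map_conj_one]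
  have h5 : y⁻¹ * (m * g⁻¹) ∈ M := hNY h4
  apply hg
  have h6 : g⁻¹ = m⁻¹ * (y * (y⁻¹ * (m * g⁻¹))) := by group
  have h7 : g⁻¹ ∈ M := by
    rw [h6]; exact M.mul_mem (M.inv_mem hmM) (M.mul_mem hyM h5)
  exact (Subgroup.inv_mem_iff M).1 h7


/-- subgroups of the same order of a cyclic subgroup are equal. -/
theorem eq_of_card_eq_of_le_cyclic {Z A B : Subgroup G} (hZ : IsCyclic ↥Z) (hA : A ≤ Z)
    (hB : B ≤ Z) (h : Nat.card A = Nat.card B) : A = B := by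
  haveI := hZ
  have h1 : Nat.card (A.subgroupOf Z) = Nat.card (B.subgroupOf Z) := by
    rw [Nat.card_congr (Subgroup.subgroupOfEquivOfLe hA).toEquiv,
      Nat.card_congr (Subgroup.subgroupOfEquivOfLe hB).toEquiv, h]
  have h2 := Cfsg.Agent.Lib.H20.SOC.eq_of_card_eq_of_isCyclic _ _ h1
  have h3 : (A.subgroupOf Z).map Z.subtype = (B.subgroupOf Z).map Z.subtype := by rw [h2]
  rwa [Subgroup.map_subgroupOf_eq_of_le hA, Subgroup.map_subgroupOf_eq_of_le hB] at h3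

/-- **BG 14.2(e)**, second half: `K ∩ K^g = 1` for `g ∈ M ∖ N_M(K)`. -/
theorem inf_map_conj_eq_bot (hG : IsMinSimpleOddOrder G) {M : Subgroup G}
    (hM : IsCoatom M) {K : Subgroup G} (hKc : IsCyclic ↥K) (hK : IsPiHallOf (kappa M) K M)
    {g : G} (hgM : g ∈ M)
    (hg : g ∉ K ⊔ (sigmaCore M ⊓ Subgroup.centralizer (K : Set G))) :
    K ⊓ cj(g, K) = ⊥ := by
  by_contra hne
  obtain ⟨r, hr, Y, hYle, hYc⟩ := Cfsg.Agent.Lib.H7.BG14u.exists_le_card_prime hne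
  have hYK : Y ≤ K := hYle.trans inf_le_left
  have hYg : Y ≤ cj(g, K) := hYle.trans inf_le_right
  have hWK : cj(g⁻¹, Y) ≤ K := by
    apply (map_conj_le_iff g⁻¹ (X := Y) (Y := K)).2
    rw [inv_inv]; exact hYg
  have hWY : cj(g⁻¹, Y) = Y :=
    eq_of_card_eq_of_le_cyclic hKc hWK hYK (Cfsg.Agent.Lib.H10.card_map_conj g⁻¹ Y)
  have h1 : g⁻¹ ∈ M ⊓ Subgroup.normalizer (Y : Set G) :=
    ⟨M.inv_mem hgM, Cfsg.Agent.Lib.H10.mem_normalizer_iff_map_conj.2 hWY⟩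
  rw [inf_normalizer_eq hG hM hKc hK hYK hr hYc] at h1
  exact hg ((Subgroup.inv_mem_iff _).1 h1)


/-- **BG 14.2(f)**: for a prime `q` dividing `|K*|`, a Sylow `q`-subgroup `S` of `M_σ` lies in
`M` only, and `S ≰ K*`. -/
theorem sylow_not_le_star (hG : IsMinSimpleOddOrder G) {M : Subgroup G}
    (hM : IsCoatom M) {K : Subgroup G} (hKc : IsCyclic ↥K) (hK : IsPiHallOf (kappa M) K M)
    (hK1 : K ≠ ⊥) {q : ℕ} (hq : q.Prime)
    (hqd : q ∣ Nat.card ↥(sigmaCore M ⊓ Subgroup.centralizer (K : Set G)))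
    (S : Sylow q ↥(sigmaCore M)) :
    InUniqueMaximal ((S : Subgroup ↥(sigmaCore M)).map (sigmaCore M).subtype) ∧
      (S : Subgroup ↥(sigmaCore M)).map (sigmaCore M).subtype ≤ M ∧
      ¬ (S : Subgroup ↥(sigmaCore M)).map (sigmaCore M).subtype ≤
        sigmaCore M ⊓ Subgroup.centralizer (K : Set G) := by
  haveI : Fact q.Prime := ⟨hq⟩
  obtain ⟨p, hp, X, hXK, hXc⟩ := Cfsg.Agent.Lib.H7.BG14u.exists_le_card_prime hK1
  haveI : Fact p.Prime := ⟨hp⟩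
  obtain ⟨E, hE, hKE⟩ := Cfsg.Agent.Lib.H19.BG13.exists_compl_ge hG hM hK.1
    (fun q hq hd => (hK.2.1 q hq hd).2.2.1)
  have hτ : ∀ q : ℕ, q.Prime → q ∣ Nat.card K → q ∈ tau1 M := fun q hq hd =>
    Cfsg.Agent.Lib.H7.BG13t.mem_tau1_of_mem_kappa hG hM hKc hK (hK.2.1 q hq hd)
  have hp1 : p ∈ tau1 M := hτ p hp (by rw [← hXc]; exact Subgroup.card_dvd_of_le hXK)
  obtain ⟨y, hy⟩ := exists_prime_orderOf_dvd_card' q hqd
  have hYc : Nat.card (Subgroup.zpowers (y : G)) = q := by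
    rw [Nat.card_zpowers, Subgroup.orderOf_coe, hy]
  have hYle : Subgroup.zpowers (y : G) ≤ sigmaCore M ⊓ Subgroup.centralizer (K : Set G) := by
    rw [Subgroup.zpowers_le]; exact y.2
  have h1 := Cfsg.Agent.Lib.H7.BG14v.centralizer_le_uniq_of_tau1 hG hM hE hp1 (hXK.trans hKE) hXc
    (hYle.trans inf_le_left) hYc
    (hYle.trans (inf_le_right.trans (Subgroup.centralizer_le hXK)))
  refine ⟨(h1.2.2 S).1, (h1.2.2 S).2, ?_⟩
  intro hle
  have hXp : IsPGroup p X := IsPGroup.of_card (n := 1) (by rw [hXc, pow_one])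
  have hX1 : X ≠ ⊥ := by
    intro h; rw [h, Subgroup.card_bot] at hXc; exact hp.one_lt.ne hXc
  have hne : Subgroup.normalizer (X : Set G) ≠ ⊤ := normalizer_ne_top_of_isPGroup hG hXp hX1
  obtain ⟨L, hL, hNL⟩ := (eq_top_or_exists_le_coatom _).resolve_left hne
  obtain ⟨L', hL', hSL', huniq⟩ := inUniqueMaximal_iff.1 (h1.2.2 S).1
  have hSL : (S : Subgroup ↥(sigmaCore M)).map (sigmaCore M).subtype ≤ L :=
    hle.trans ((inf_le_right.trans (Subgroup.centralizer_le hXK)).trans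
      ((Subgroup.centralizer_le_normalizer _).trans hNL))
  have hLM : L = M := (huniq L hL hSL).trans (huniq M hM (h1.2.2 S).2).symm
  have h2 := (le_sigmaCore_of_normalizer_le hG hM hKc hK hXK hp hXc hL hNL).1 1
  apply h2
  rw [Cfsg.Agent.Lib.H10.map_conj_one, hLM]

/-- **BG 14.2(g)**: a `σ(M)`-subgroup `Y` of `G` with `Y ∩ K* ≠ 1` lies in `M_σ`. -/
theorem le_sigmaCore_of_inf_star_ne_bot (hG : IsMinSimpleOddOrder G) {M : Subgroup G}
    (hM : IsCoatom M) {K : Subgroup G} (hKc : IsCyclic ↥K) (hK : IsPiHallOf (kappa M) K M)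
    (hK1 : K ≠ ⊥) {Y : Subgroup G}
    (hYσ : ∀ p : ℕ, p.Prime → p ∣ Nat.card Y → p ∈ sigma M)
    (hne : Y ⊓ (sigmaCore M ⊓ Subgroup.centralizer (K : Set G)) ≠ ⊥) : Y ≤ sigmaCore M := by
  have hY1 : Y ≠ ⊥ := by
    intro h; apply hne; rw [h, bot_inf_eq]
  obtain ⟨g, hg⟩ := Cfsg.Agent.S1425.result hG M hM Y hY1 hYσ
  have h1 : Y ≤ cj(g⁻¹, sigmaCore M) := (map_conj_le_iff g).1 hg
  have hgM : g⁻¹ ∈ M := by
    by_contra hgM
    apply hne
    rw [eq_bot_iff, ← star_inf_map_conj_eq_bot hG hM hKc hK hK1 hgM]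
    refine le_inf inf_le_right (inf_le_left.trans (h1.trans ?_))
    exact Subgroup.map_mono (Cfsg.Agent.Lib.H20.BGS.sigmaCore_le M)
  have h2 : cj(g⁻¹, sigmaCore M) = sigmaCore M :=
    Cfsg.Agent.Lib.H10.mem_normalizer_iff_map_conj.1
      (Cfsg.Agent.Lib.H20.BGS.le_normalizer_sigmaCore M hgM)
  rw [h2] at h1
  exact h1

end Cfsg.Agent.Lib.H7.BG14w
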