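import Mathlib
import Cfsg.Agent.Lib.H7.BG14w
import Cfsg.Agent.Lib.H7.BG14u
import Cfsg.Agent.Lib.H7.BG14a
import Cfsg.Agent.Lib.H7.FrobNil
import Cfsg.Agent.Lib.H8.BG12b
import Cfsg.Agent.Lib.H20.BGY1
import Cfsg.Agent.Lib.H20.BGZ1
import Cfsg.Agent.S1403
import Cfsg.Agent.S1417

/-!
# BG Theorem 14.2 for a CYCLIC Hall `κ(M)`-subgroup `K ≠ 1` (helper7)

The full conclusions of the frozen statements `S1430` and `S1431` under the extra hypothesis that
`K` is cyclic.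
-/

set_option autoImplicit false
set_option linter.style.haveILetI false
set_option linter.unusedSectionVars false
set_option linter.unusedVariables false
open Cfsg
open Cfsg.Agent.Lib.H16.BG
open Cfsg.Agent.Lib.H7.BG7
open Cfsg.Agent.Lib.H7.BG10
open Cfsg.Agent.Lib.H19 (IsPiCard)

namespace Cfsg.Agent.Lib.H7.BG14x

universe u
variable {G : Type u} [Group G] [Finite G]

/-- the abelian Hall subgroup `U` of 14.2(c), `K` cyclic. -/
theorem exists_U_of_cyclic (hG : IsMinSimpleOddOrder G) {M : Subgroup G}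
    (hM : IsCoatom M) {K : Subgroup G} (hKc : IsCyclic ↥K) (hK : IsPiHallOf (kappa M) K M)
    (hK1 : K ≠ ⊥) :
    ∃ U : Subgroup G, IsMulCommutative U ∧
      IsPiHallOf {q | q.Prime ∧ q ∉ kappa M ∧ q ∉ sigma M} U M ∧
      K ≤ Subgroup.normalizer (U : Set G) ∧
      ∀ k ∈ K, k ≠ 1 → U ⊓ Subgroup.centralizer ({k} : Set G) = ⊥ := by
  have hU3 := Cfsg.Agent.Lib.H7.BG10.uniq3_of_uniqueness
    (fun K hK h1 h2 => Cfsg.Agent.S1403.result hG K hK h1 h2)
  have h17 : Cfsg.Agent.Lib.H7.BG14.HypTau2Abelian G := fun M hM p _ hp A hA P =>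
    ((Cfsg.Agent.S1417.result hG M hM p hp A hA).2.1 P).1
  have hκ := Cfsg.Agent.Lib.H7.BG13t.kappa_subset_tau1 hG hM hKc hK
  obtain ⟨N, hN, hcN, hnorm⟩ := Cfsg.Agent.Lib.H20.BGY.exists_normal_hall_kappa_compl hG hM hκ
  obtain ⟨U, hKU⟩ := Cfsg.Agent.Lib.H20.BGY.exists_isSigmaDecomposition hG hM hKc hK hN hnorm
  have hfix : ∀ k ∈ K, k ≠ 1 → U ⊓ Subgroup.centralizer ({k} : Set G) = ⊥ := fun k hk hk1 =>
    Cfsg.Agent.Lib.H7.BG14u.inf_centralizer_singleton_eq_bot hG hM hKU hk hk1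
  refine ⟨U, ?_, ?_, hKU.normal, hfix⟩
  · -- abelian
    obtain ⟨r, hr, X, hXK, hXc⟩ := Cfsg.Agent.Lib.H7.BG14u.exists_le_card_prime hK1
    obtain ⟨x, hxX, hx1, hxr⟩ : ∃ x ∈ X, x ≠ 1 ∧ x ^ r = 1 := by
      haveI : Fact r.Prime := ⟨hr⟩
      have hd : r ∣ Nat.card ↥X := by rw [hXc]
      obtain ⟨x, hx⟩ := exists_prime_orderOf_dvd_card' r hd
      refine ⟨x, x.2, ?_, ?_⟩
      · intro h
        have h1 : x = 1 := Subtype.ext h
        rw [h1, orderOf_one] at hx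
        exact hr.one_lt.ne hx
      · have := pow_orderOf_eq_one x
        rw [hx] at this
        exact congrArg Subtype.val this
    have hxK : x ∈ K := hXK hxX
    haveI hnil : Group.IsNilpotent ↥U := by
      apply Cfsg.Agent.Lib.H7.FrobNil.isNilpotent_of_fpf hr (hKU.normal hxK) hxr
      intro u hu hxu
      have : u ∈ U ⊓ Subgroup.centralizer ({x} : Set G) := by
        refine Subgroup.mem_inf.2 ⟨hu, ?_⟩
        rw [Subgroup.mem_centralizer_iff]
        intro z hz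
        rw [Set.mem_singleton_iff] at hz
        rw [hz]; exact hxu
      rw [hfix x hxK hx1] at this
      exact Subgroup.mem_bot.1 this
    exact Cfsg.Agent.Lib.H8.BG12.isMulCommutative_of_nilpotent_of_sylow
      (fun p hp P => (Cfsg.Agent.Lib.H7.BG14.sylow_U_abelian hG hU3 h17 hM hKU p hp.out P).1)
  · -- Hall
    refine ⟨hKU.compl.1, ?_, ?_⟩
    · intro q hq hd
      have := Cfsg.Agent.Lib.H7.BG14.not_mem_sigma_kappa_of_isSigmaDecomposition hG hM hKU hq hd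
      exact ⟨hq, this.2, this.1⟩
    · intro q hq hqπ hd
      have h1 := Cfsg.Agent.Lib.H7.isComplIn_card_mul hKU.compl
      have h2 := Cfsg.Agent.Lib.H19.card_mul_relIndex hKU.compl.1
      have h3 : U.relIndex M = Nat.card ↥(K ⊔ sigmaCore M : Subgroup G) := by
        have hpos : 0 < Nat.card ↥U := Nat.card_pos
        exact Nat.eq_of_mul_eq_mul_left hpos (h2.trans h1.symm)
      rw [h3] at hd
      have hKσ : K ≤ Subgroup.normalizer ((sigmaCore M : Subgroup G) : Set G) :=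
        hK.1.trans (Cfsg.Agent.Lib.H20.BGS.le_normalizer_sigmaCore M)
      have h4 : Nat.card ↥(K ⊔ sigmaCore M : Subgroup G) ∣
          Nat.card ↥K * Nat.card ↥(sigmaCore M) :=
        Cfsg.Agent.Lib.H19.card_sup_dvd_mul_of_le_normalizer hKσ
      rcases (Nat.Prime.dvd_mul hq).1 (hd.trans h4) with h5 | h5
      · exact hqπ.2.1 (hK.2.1 q hq h5)
      · exact hqπ.2.2 (Cfsg.Agent.Lib.H20.BGS.sigmaCore_isPiCard M q hq h5)

/-- the conclusion of `S1430` for cyclic `K`. -/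
theorem s1430_of_cyclic (hG : IsMinSimpleOddOrder G) (M : Subgroup G)
    (hM : IsCoatom M) (K : Subgroup G) (hKc : IsCyclic ↥K) (hK : IsPiHallOf (kappa M) K M)
    (hK1 : K ≠ ⊥) :
    (∀ k ∈ K, k ≠ 1 → sigmaCore M ⊓ Subgroup.centralizer ({k} : Set G) =
        (sigmaCore M ⊓ Subgroup.centralizer (K : Set G))) ∧
      (∃ U : Subgroup G, IsMulCommutative U ∧
        IsPiHallOf {q | q.Prime ∧ q ∉ kappa M ∧ q ∉ sigma M} U M ∧
        K ≤ Subgroup.normalizer (U : Set G) ∧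
        ∀ k ∈ K, k ≠ 1 → U ⊓ Subgroup.centralizer ({k} : Set G) = ⊥) ∧
      ∀ X : Subgroup G, X ≤ K → (Nat.card X).Prime →
        M ⊓ Subgroup.normalizer (X : Set G) =
            K ⊔ (sigmaCore M ⊓ Subgroup.centralizer (K : Set G)) ∧
          M ⊓ Subgroup.normalizer (K : Set G) =
            K ⊔ (sigmaCore M ⊓ Subgroup.centralizer (K : Set G)) ∧
          ∀ Mstar : Subgroup G, IsCoatom Mstar → Subgroup.normalizer (X : Set G) ≤ Mstar →
            X ≤ sigmaCore Mstar := by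
  refine ⟨?_, exists_U_of_cyclic hG hM hKc hK hK1, ?_⟩
  · intro k hk hk1
    obtain ⟨E, hE, hKE⟩ := Cfsg.Agent.Lib.H19.BG13.exists_compl_ge hG hM hK.1
      (fun q hq hd => (hK.2.1 q hq hd).2.2.1)
    apply le_antisymm
    · exact le_inf inf_le_left
        (Cfsg.Agent.Lib.H7.BG14u.sigmaCore_inf_centralizer_singleton_le hG hM hKc hK hE hKE hk hk1)
    · refine le_inf inf_le_left (inf_le_right.trans ?_)
      apply Subgroup.centralizer_le
      intro z hz
      rw [Set.mem_singleton_iff] at hz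
      rw [hz]; exact hk
  · intro X hXK hXp
    refine ⟨Cfsg.Agent.Lib.H7.BG14w.inf_normalizer_eq hG hM hKc hK hXK hXp rfl,
      Cfsg.Agent.Lib.H7.BG14w.inf_normalizer_self_eq hG hM hKc hK hK1, ?_⟩
    intro Ms hMs hNX
    exact (Cfsg.Agent.Lib.H7.BG14w.le_sigmaCore_of_normalizer_le hG hM hKc hK hXK hXp rfl
      hMs hNX).2.2

/-- the conclusion of `S1431` for cyclic `K`. -/
theorem s1431_of_cyclic (hG : IsMinSimpleOddOrder G) (M : Subgroup G)
    (hM : IsCoatom M) (K : Subgroup G) (hKc : IsCyclic ↥K) (hK : IsPiHallOf (kappa M) K M)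
    (hK1 : K ≠ ⊥) :
    (∀ g : G, g ∉ M → (sigmaCore M ⊓ Subgroup.centralizer (K : Set G)) ⊓
        M.map (MulAut.conj g).toMonoidHom = ⊥) ∧
      (∀ g ∈ M, g ∉ K ⊔ (sigmaCore M ⊓ Subgroup.centralizer (K : Set G)) →
        K ⊓ K.map (MulAut.conj g).toMonoidHom = ⊥) ∧
      (∀ (p : ℕ), p.Prime →
        p ∣ Nat.card ↥(sigmaCore M ⊓ Subgroup.centralizer (K : Set G)) →
        ∀ S : Sylow p ↥(sigmaCore M),
        InUniqueMaximal ((S : Subgroup ↥(sigmaCore M)).map (sigmaCore M).subtype) ∧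
        (S : Subgroup ↥(sigmaCore M)).map (sigmaCore M).subtype ≤ M ∧
        ¬ (S : Subgroup ↥(sigmaCore M)).map (sigmaCore M).subtype ≤
          (sigmaCore M ⊓ Subgroup.centralizer (K : Set G))) ∧
      ∀ Y : Subgroup G, (∀ p : ℕ, p.Prime → p ∣ Nat.card Y → p ∈ sigma M) →
        Y ⊓ (sigmaCore M ⊓ Subgroup.centralizer (K : Set G)) ≠ ⊥ → Y ≤ sigmaCore M := by
  refine ⟨?_, ?_, ?_, ?_⟩
  · intro g hg
    exact Cfsg.Agent.Lib.H7.BG14w.star_inf_map_conj_eq_bot hG hM hKc hK hK1 hg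
  · intro g hgM hg
    exact Cfsg.Agent.Lib.H7.BG14w.inf_map_conj_eq_bot hG hM hKc hK hgM hg
  · intro p hp hpd S
    exact Cfsg.Agent.Lib.H7.BG14w.sylow_not_le_star hG hM hKc hK hK1 hp hpd S
  · intro Y hYσ hne
    exact Cfsg.Agent.Lib.H7.BG14w.le_sigmaCore_of_inf_star_ne_bot hG hM hKc hK hK1 hYσ hne

end Cfsg.Agent.Lib.H7.BG14x
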