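import Mathlib
import Cfsg.Agent.Lib.H7.BG14x
import Cfsg.Agent.Lib.H20.BGN7
import Cfsg.Agent.S1423

/-!
# BG Theorem 14.2 for a NON-cyclic Hall `κ(M)`-subgroup `K` (helper7)

From helper20's structure theorem `Nonreg M K`.
-/

set_option autoImplicit false
set_option linter.style.haveILetI false
set_option linter.unusedSectionVars false
set_option linter.unusedVariables false
open Cfsg
open Cfsg.Agent.Lib.H16.BG
open Cfsg.Agent.Lib.H7.BG7
open Cfsg.Agent.Lib.H7.BG10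
open Cfsg.Agent.Lib.H19 (IsPiCard)
open Cfsg.Agent.Lib.H20.BGN (Nonreg)

namespace Cfsg.Agent.Lib.H7.BG14y

universe u
variable {G : Type u} [Group G] [Finite G]

local notation:max "cj(" g ", " X ")" => Subgroup.map (MulEquiv.toMonoidHom (MulAut.conj g)) X

/-- general form of BG 14.2(d), second half. -/
theorem le_sigmaCore_of_normalizer_le' (hG : IsMinSimpleOddOrder G) {M : Subgroup G}
    (hM : IsCoatom M) {K : Subgroup G} (hK : IsPiHallOf (kappa M) K M)
    {X : Subgroup G} (hXK : X ≤ K) {p : ℕ} (hp : p.Prime) (hXc : Nat.card X = p)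
    (hstar : ∃ q : ℕ, q.Prime ∧ q ∈ sigma M ∧ ∃ Y : Subgroup G,
      Y ≤ Subgroup.centralizer (X : Set G) ∧ Nat.card Y = q ∧
      Subgroup.centralizer (Y : Set G) ≤ M)
    {Ms : Subgroup G} (hMs : IsCoatom Ms) (hNX : Subgroup.normalizer (X : Set G) ≤ Ms) :
    (∀ g : G, Ms ≠ cj(g, M)) ∧ p ∈ sigma Ms ∧ X ≤ sigmaCore Ms := by
  haveI : Fact p.Prime := ⟨hp⟩
  have hpκ : p ∈ kappa M := hK.2.1 p hp (by rw [← hXc]; exact Subgroup.card_dvd_of_le hXK)
  have hXp : IsPGroup p X := IsPGroup.of_card (n := 1) (by rw [hXc, pow_one])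
  have hX1 : X ≠ ⊥ := by
    intro h; rw [h, Subgroup.card_bot] at hXc; exact hp.one_lt.ne hXc
  obtain ⟨S, hS, hXS⟩ := SylIn.exists_ge hXp hXK
  have hSM : SylIn p S M := Cfsg.Agent.Lib.H20.BGV.sylIn_of_hall hK hpκ hS
  obtain ⟨P, hP⟩ := hSM.exists_sylow
  have hSc : IsCyclic ↥S := by
    rw [← hP]
    haveI := (hpκ.2.2.2 P).1
    exact isCyclic_of_surjective
      ((P : Subgroup M).equivMapOfInjective _ M.subtype_injective).toMonoidHom
      ((P : Subgroup M).equivMapOfInjective _ M.subtype_injective).surjective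
  have hr1 : PRankLE p 1 ↥M := by
    haveI := hSc
    exact pRankLE_of_sylIn hSM (Cfsg.Agent.Lib.H7.BG13.pRankLE_one_of_isCyclic hp)
  have h1 := Cfsg.Agent.Lib.H19.BG13.type_of_normalizer_ge hG hM hpκ.2.2.1 hSM hSc hXp hX1
    (hXK.trans hK.1) hMs hNX
  have hpσ : p ∈ sigma Ms := by
    rcases h1.2 with h | h
    · exact h
    · exfalso
      obtain ⟨q, hq, hqσ, Y, hYle, hYc, hYM⟩ := hstar
      haveI : Fact q.Prime := ⟨hq⟩
      exact Cfsg.Agent.Lib.H7.BG14v.no_theta' hG hM hMs h hpκ.2.2.1 hr1 (hXK.trans hK.1) hXc hNX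
        hqσ hYc hYle hYM
  refine ⟨h1.1, hpσ, ?_⟩
  exact Cfsg.Agent.Lib.H20.BGT.le_sigmaCore_of_isPiCard hG hMs (Subgroup.le_normalizer.trans hNX)
    (isPiCard_of_isPGroup hp hpσ hXp)

section nonreg

variable {M K : Subgroup G}

/-- subgroups of prime order of `K* ` have their centralizer in `M` only, and Sylow subgroups of
`M_σ` are in a unique maximal subgroup. -/
theorem nr_uniq (hG : IsMinSimpleOddOrder G) (hM : IsCoatom M) (n : Nonreg M K)
    {Y : Subgroup G} (hY : Y ≤ sigmaCore M) {q : ℕ} (hq : q.Prime) (hYc : Nat.card Y = q) :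
    q ∈ sigma M ∧ (Subgroup.centralizer (Y : Set G) ≤ M ∧
      ∀ L : Subgroup G, IsCoatom L → Subgroup.centralizer (Y : Set G) ≤ L → L = M) ∧
      ∀ S : Sylow q ↥(sigmaCore M),
        InUniqueMaximal ((S : Subgroup ↥(sigmaCore M)).map (sigmaCore M).subtype) ∧
        (S : Subgroup ↥(sigmaCore M)).map (sigmaCore M).subtype ≤ M := by
  haveI : Fact q.Prime := ⟨hq⟩
  have hqσ : q ∈ sigma M := Cfsg.Agent.Lib.H20.BGS.sigmaCore_isPiCard M q hq
    (by rw [← hYc]; exact Subgroup.card_dvd_of_le hY)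
  have hqβ := n.sigma_beta q hqσ
  have hYM : Y ≤ M := hY.trans (Cfsg.Agent.Lib.H20.BGS.sigmaCore_le M)
  refine ⟨hqσ, ?_, ?_⟩
  · obtain ⟨P⟩ := (inferInstance : Nonempty (Sylow q ↥(sigmaCore M)))
    exact (Cfsg.Agent.S1423.result hG M hM q hqσ Y hYM hYc P (Or.inl hqβ)).1
  · intro S
    exact (Cfsg.Agent.S1423.result hG M hM q hqσ Y hYM hYc S (Or.inl hqβ)).2

/-- an element of `M_σ` normalizing a nontrivial subgroup of `K` lies in `K*`. -/
theorem nr_mem_star (hG : IsMinSimpleOddOrder G) (hM : IsCoatom M) (n : Nonreg M K)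
    {A : Subgroup G} (hAK : A ≤ K) (hA1 : A ≠ ⊥) {s : G} (hs : s ∈ sigmaCore M)
    (hsA : s ∈ Subgroup.normalizer (A : Set G)) :
    s ∈ sigmaCore M ⊓ Subgroup.centralizer (K : Set G) := by
  have hσn : M ≤ Subgroup.normalizer ((sigmaCore M : Subgroup G) : Set G) :=
    Cfsg.Agent.Lib.H20.BGS.le_normalizer_sigmaCore M
  have hcomm : ∀ a ∈ A, a * s = s * a := by
    intro a ha
    have h1 : s * a * s⁻¹ ∈ A := (Subgroup.mem_normalizer_iff.1 hsA a).1 ha
    have h2 : s * a * s⁻¹ * a⁻¹ ∈ K := K.mul_mem (hAK h1) (K.inv_mem (hAK ha))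
    have h3 : a * s⁻¹ * a⁻¹ ∈ sigmaCore M :=
      ((Subgroup.mem_normalizer_iff.1 (hσn (n.compl.1 (hAK ha)))) s⁻¹).1
        ((sigmaCore M).inv_mem hs)
    have h4 : s * a * s⁻¹ * a⁻¹ ∈ sigmaCore M := by
      have : s * a * s⁻¹ * a⁻¹ = s * (a * s⁻¹ * a⁻¹) := by group
      rw [this]; exact (sigmaCore M).mul_mem hs h3
    have h5 : s * a * s⁻¹ * a⁻¹ = 1 := by
      have : s * a * s⁻¹ * a⁻¹ ∈ K ⊓ sigmaCore M := ⟨h2, h4⟩
      rw [n.compl.2.2.1] at this
      exact Subgroup.mem_bot.1 this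
    have : s * a = (s * a * s⁻¹ * a⁻¹) * (a * s) := by group
    rw [this, h5, one_mul]
  obtain ⟨a, ha, ha1⟩ : ∃ a ∈ A, a ≠ 1 := by
    by_contra hcon
    apply hA1
    rw [eq_bot_iff]
    intro a ha
    by_contra ha1
    exact hcon ⟨a, ha, fun h => ha1 (Subgroup.mem_bot.2 h)⟩
  rw [← n.prime_action a (hAK ha) ha1]
  refine Subgroup.mem_inf.2 ⟨hs, ?_⟩
  rw [Subgroup.mem_centralizer_iff]
  intro z hz
  rw [Set.mem_singleton_iff] at hz
  rw [hz]; exact hcomm a ha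

/-- `N_M(A) = K K*` for a nontrivial subgroup `A` of `K` normalized by `K`. -/
theorem nr_inf_normalizer_eq (hG : IsMinSimpleOddOrder G) (hM : IsCoatom M) (n : Nonreg M K)
    {A : Subgroup G} (hAK : A ≤ K) (hA1 : A ≠ ⊥) (hKA : K ≤ Subgroup.normalizer (A : Set G)) :
    M ⊓ Subgroup.normalizer (A : Set G) =
      K ⊔ (sigmaCore M ⊓ Subgroup.centralizer (K : Set G)) := by
  apply le_antisymm
  · intro m hm
    obtain ⟨hmM, hmA⟩ := Subgroup.mem_inf.1 hm
    obtain ⟨e, he, s, hs, rfl⟩ := n.compl.2.2.2 m hmM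
    have hsA : s ∈ Subgroup.normalizer (A : Set G) := by
      have : s = e⁻¹ * (e * s) := by group
      rw [this]
      exact Subgroup.mul_mem _ (Subgroup.inv_mem _ (hKA he)) hmA
    exact Subgroup.mul_mem_sup he (nr_mem_star hG hM n hAK hA1 hs hsA)
  · apply sup_le
    · exact le_inf n.compl.1 hKA
    · refine le_inf (inf_le_left.trans (Cfsg.Agent.Lib.H20.BGS.sigmaCore_le M)) ?_
      exact inf_le_right.trans ((Subgroup.centralizer_le hAK).trans
        (Subgroup.centralizer_le_normalizer _))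

/-- the data `q, Y` of `exists_star_prime` in the non-cyclic case. -/
theorem nr_exists_star_prime (hG : IsMinSimpleOddOrder G) (hM : IsCoatom M) (n : Nonreg M K) :
    ∃ q : ℕ, q.Prime ∧ q ∈ sigma M ∧ ∃ Y : Subgroup G,
      Y ≤ sigmaCore M ⊓ Subgroup.centralizer (K : Set G) ∧ Nat.card Y = q ∧
      Subgroup.centralizer (Y : Set G) ≤ M := by
  obtain ⟨q, hq, Y, hY, hYc⟩ := Cfsg.Agent.Lib.H7.BG14u.exists_le_card_prime n.star_ne
  have h := nr_uniq hG hM n (hY.trans inf_le_left) hq hYc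
  exact ⟨q, hq, h.1, Y, hY, hYc, h.2.1.1⟩

/-- the conclusion of `S1430` in the non-cyclic case. -/
theorem s1430_of_nonreg (hG : IsMinSimpleOddOrder G) (hM : IsCoatom M) (n : Nonreg M K)
    (hK : IsPiHallOf (kappa M) K M) (hK1 : K ≠ ⊥) :
    (∀ k ∈ K, k ≠ 1 → sigmaCore M ⊓ Subgroup.centralizer ({k} : Set G) =
        (sigmaCore M ⊓ Subgroup.centralizer (K : Set G))) ∧
      (∃ U : Subgroup G, IsMulCommutative U ∧
        IsPiHallOf {q | q.Prime ∧ q ∉ kappa M ∧ q ∉ sigma M} U M ∧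
        K ≤ Subgroup.normalizer (U : Set G) ∧
        ∀ k ∈ K, k ≠ 1 → U ⊓ Subgroup.centralizer ({k} : Set G) = ⊥) ∧
      ∀ X : Subgroup G, X ≤ K → (Nat.card X).Prime →
        M ⊓ Subgroup.normalizer (X : Set G) =
            K ⊔ (sigmaCore M ⊓ Subgroup.centralizer (K : Set G)) ∧
          M ⊓ Subgroup.normalizer (K : Set G) =
            K ⊔ (sigmaCore M ⊓ Subgroup.centralizer (K : Set G)) ∧
          ∀ Mstar : Subgroup G, IsCoatom Mstar → Subgroup.normalizer (X : Set G) ≤ Mstar →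
            X ≤ sigmaCore Mstar := by
  refine ⟨n.prime_action, ⟨⊥, ?_, ?_, ?_, ?_⟩, ?_⟩
  · exact ⟨⟨fun a b => Subsingleton.elim _ _⟩⟩
  · refine ⟨bot_le, ?_, ?_⟩
    · intro q hq hd
      rw [Subgroup.card_bot] at hd
      exact absurd (Nat.dvd_one.1 hd) hq.one_lt.ne'
    · intro q hq hqπ hd
      rw [Subgroup.relIndex_bot_left] at hd
      have h1 := Cfsg.Agent.Lib.H7.isComplIn_card_mul n.compl
      rw [← h1] at hd
      rcases (Nat.Prime.dvd_mul hq).1 hd with h5 | h5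
      · exact hqπ.2.1 (n.mem_kappa q hq h5)
      · exact hqπ.2.2 (Cfsg.Agent.Lib.H20.BGS.sigmaCore_isPiCard M q hq h5)
  · intro k _
    rw [Subgroup.mem_normalizer_iff]
    intro h
    simp [Subgroup.mem_bot]
  · intro k _ _
    exact bot_inf_eq _
  · intro X hXK hXp
    have hX1 : X ≠ ⊥ := by
      intro h; rw [h, Subgroup.card_bot] at hXp; exact Nat.not_prime_one hXp
    refine ⟨nr_inf_normalizer_eq hG hM n hXK hX1 (n.prime_normal X hXK hXp),
      nr_inf_normalizer_eq hG hM n le_rfl hK1 Subgroup.le_normalizer, ?_⟩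
    intro Ms hMs hNX
    obtain ⟨q, hq, hqσ, Y, hY, hYc, hYM⟩ := nr_exists_star_prime hG hM n
    exact (le_sigmaCore_of_normalizer_le' hG hM hK hXK hXp rfl
      ⟨q, hq, hqσ, Y, hY.trans (inf_le_right.trans (Subgroup.centralizer_le hXK)), hYc, hYM⟩
      hMs hNX).2.2

/-- two subgroups of the same prime order of `K` are equal. -/
theorem nr_eq_of_card_eq (hG : IsMinSimpleOddOrder G) (hM : IsCoatom M) (n : Nonreg M K)
    {X X' : Subgroup G} (hXK : X ≤ K) (hX'K : X' ≤ K) {p : ℕ} (hp : p.Prime)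
    (hXc : Nat.card X = p) (hX'c : Nat.card X' = p) : X' = X := by
  haveI : Fact p.Prime := ⟨hp⟩
  have hXp : IsPGroup p X := IsPGroup.of_card (n := 1) (by rw [hXc, pow_one])
  have hX'p : IsPGroup p X' := IsPGroup.of_card (n := 1) (by rw [hX'c, pow_one])
  obtain ⟨T, hT, hXT⟩ := SylIn.exists_ge hXp hXK
  obtain ⟨m, hm, hmX'⟩ := hT.exists_conj_le hX'p hX'K
  have h1 : cj(m, X') = X' :=
    Cfsg.Agent.Lib.H10.mem_normalizer_iff_map_conj.1
      (n.prime_normal X' hX'K (by rw [hX'c]; exact hp) hm)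
  rw [h1] at hmX'
  exact Cfsg.Agent.Lib.H7.BG14w.eq_of_card_eq_of_le_cyclic (n.sylow_cyclic p T hT) hmX' hXT
    (hX'c.trans hXc.symm)

/-- the conclusion of `S1431` in the non-cyclic case. -/
theorem s1431_of_nonreg (hG : IsMinSimpleOddOrder G) (hM : IsCoatom M) (n : Nonreg M K)
    (hK : IsPiHallOf (kappa M) K M) (hK1 : K ≠ ⊥) :
    (∀ g : G, g ∉ M → (sigmaCore M ⊓ Subgroup.centralizer (K : Set G)) ⊓
        M.map (MulAut.conj g).toMonoidHom = ⊥) ∧
      (∀ g ∈ M, g ∉ K ⊔ (sigmaCore M ⊓ Subgroup.centralizer (K : Set G)) →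
        K ⊓ K.map (MulAut.conj g).toMonoidHom = ⊥) ∧
      (∀ (p : ℕ), p.Prime →
        p ∣ Nat.card ↥(sigmaCore M ⊓ Subgroup.centralizer (K : Set G)) →
        ∀ S : Sylow p ↥(sigmaCore M),
        InUniqueMaximal ((S : Subgroup ↥(sigmaCore M)).map (sigmaCore M).subtype) ∧
        (S : Subgroup ↥(sigmaCore M)).map (sigmaCore M).subtype ≤ M ∧
        ¬ (S : Subgroup ↥(sigmaCore M)).map (sigmaCore M).subtype ≤
          (sigmaCore M ⊓ Subgroup.centralizer (K : Set G))) ∧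
      ∀ Y : Subgroup G, (∀ p : ℕ, p.Prime → p ∣ Nat.card Y → p ∈ sigma M) →
        Y ⊓ (sigmaCore M ⊓ Subgroup.centralizer (K : Set G)) ≠ ⊥ → Y ≤ sigmaCore M := by
  have hti : ∀ g : G, g ∉ M → (sigmaCore M ⊓ Subgroup.centralizer (K : Set G)) ⊓
      cj(g, M) = ⊥ := by
    intro g hg
    rw [eq_bot_iff, ← n.ti g hg]
    exact inf_le_inf_right _ inf_le_left
  refine ⟨hti, ?_, ?_, ?_⟩
  · intro g hgM hg
    by_contra hne
    obtain ⟨r, hr, Y, hYle, hYc⟩ := Cfsg.Agent.Lib.H7.BG14u.exists_le_card_prime hne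
    have hYK : Y ≤ K := hYle.trans inf_le_left
    have hYg : Y ≤ cj(g, K) := hYle.trans inf_le_right
    have hWK : cj(g⁻¹, Y) ≤ K := by
      apply (map_conj_le_iff g⁻¹ (X := Y) (Y := K)).2
      rw [inv_inv]; exact hYg
    have hWY : cj(g⁻¹, Y) = Y :=
      nr_eq_of_card_eq hG hM n hYK hWK hr hYc
        ((Cfsg.Agent.Lib.H10.card_map_conj g⁻¹ Y).trans hYc)
    have hY1 : Y ≠ ⊥ := by
      intro h; rw [h, Subgroup.card_bot] at hYc; exact hr.one_lt.ne hYc
    have h1 : g⁻¹ ∈ M ⊓ Subgroup.normalizer (Y : Set G) :=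
      ⟨M.inv_mem hgM, Cfsg.Agent.Lib.H10.mem_normalizer_iff_map_conj.2 hWY⟩
    rw [nr_inf_normalizer_eq hG hM n hYK hY1
      (n.prime_normal Y hYK (by rw [hYc]; exact hr))] at h1
    exact hg ((Subgroup.inv_mem_iff _).1 h1)
  · intro q hq hqd S
    haveI : Fact q.Prime := ⟨hq⟩
    obtain ⟨y, hy⟩ := exists_prime_orderOf_dvd_card' q hqd
    have hYc : Nat.card (Subgroup.zpowers (y : G)) = q := by
      rw [Nat.card_zpowers, Subgroup.orderOf_coe, hy]
    have hYle : Subgroup.zpowers (y : G) ≤ sigmaCore M ⊓ Subgroup.centralizer (K : Set G) := by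
      rw [Subgroup.zpowers_le]; exact y.2
    have h1 := nr_uniq hG hM n (hYle.trans inf_le_left) hq hYc
    refine ⟨(h1.2.2 S).1, (h1.2.2 S).2, ?_⟩
    intro hle
    obtain ⟨p, hp, X, hXK, hXc⟩ := Cfsg.Agent.Lib.H7.BG14u.exists_le_card_prime hK1
    haveI : Fact p.Prime := ⟨hp⟩
    have hXp : IsPGroup p X := IsPGroup.of_card (n := 1) (by rw [hXc, pow_one])
    have hX1 : X ≠ ⊥ := by
      intro h; rw [h, Subgroup.card_bot] at hXc; exact hp.one_lt.ne hXc
    have hne : Subgroup.normalizer (X : Set G) ≠ ⊤ := normalizer_ne_top_of_isPGroup hG hXp hX1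
    obtain ⟨L, hL, hNL⟩ := (eq_top_or_exists_le_coatom _).resolve_left hne
    obtain ⟨L', hL', hSL', huniq⟩ := inUniqueMaximal_iff.1 (h1.2.2 S).1
    have hSL : (S : Subgroup ↥(sigmaCore M)).map (sigmaCore M).subtype ≤ L :=
      hle.trans ((inf_le_right.trans (Subgroup.centralizer_le hXK)).trans
        ((Subgroup.centralizer_le_normalizer _).trans hNL))
    have hLM : L = M := (huniq L hL hSL).trans (huniq M hM (h1.2.2 S).2).symm
    obtain ⟨q', hq', hqσ', Y', hY', hYc', hYM'⟩ := nr_exists_star_prime hG hM n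
    have h2 := (le_sigmaCore_of_normalizer_le' hG hM hK hXK hp hXc
      ⟨q', hq', hqσ', Y', hY'.trans (inf_le_right.trans (Subgroup.centralizer_le hXK)),
        hYc', hYM'⟩ hL hNL).1 1
    apply h2
    rw [Cfsg.Agent.Lib.H10.map_conj_one, hLM]
  · intro Y hYσ hne
    have hY1 : Y ≠ ⊥ := by
      intro h; apply hne; rw [h, bot_inf_eq]
    obtain ⟨g, hg⟩ := Cfsg.Agent.S1425.result hG M hM Y hY1 hYσ
    have h1 : Y ≤ cj(g⁻¹, sigmaCore M) := (map_conj_le_iff g).1 hg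
    have hgM : g⁻¹ ∈ M := by
      by_contra hgM
      apply hne
      rw [eq_bot_iff, ← hti g⁻¹ hgM]
      refine le_inf inf_le_right (inf_le_left.trans (h1.trans ?_))
      exact Subgroup.map_mono (Cfsg.Agent.Lib.H20.BGS.sigmaCore_le M)
    have h2 : cj(g⁻¹, sigmaCore M) = sigmaCore M :=
      Cfsg.Agent.Lib.H10.mem_normalizer_iff_map_conj.1
        (Cfsg.Agent.Lib.H20.BGS.le_normalizer_sigmaCore M hgM)
    rw [h2] at h1
    exact h1

end nonreg

end Cfsg.Agent.Lib.H7.BG14y
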