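import Mathlib
import Cfsg.Agent.Lib.H7.FrobNil2
import Cfsg.Agent.Lib.H9.FrattiniAction

/-!
# Frobenius groups acting on `q`-groups with cyclic fixed points (helper7)

`commutator_le_centralizer_of_isCyclic`: if `K⟨x⟩` is a Frobenius-type group (`x` of prime order
acting without fixed points on `K`) normalizing a `q`-group `Q` (with `q ∤ |K⟨x⟩|`) and `C_Q(x)` is
cyclic, then `K'` centralizes `Q`.  (Bender–Glauberman, Theorem 3.x; uses helper19's module theorem
`comm_of_dep` on the Frattini quotient.)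
-/

set_option autoImplicit false
set_option linter.unusedSectionVars false
set_option linter.style.haveILetI false

namespace Cfsg.Agent.Lib.H7.FrobNil

open Cfsg Subgroup Cfsg.Agent.Lib.H1.QuadMul Cfsg.Agent.Lib.H19.ModRep
open scoped commutatorElement TensorProduct

variable {X : Type*} [Group X] [Finite X] {q : ℕ} [Fact q.Prime]

theorem commutator_le_centralizer_of_isCyclic {K Q : Subgroup X} {x : X} {r : ℕ} (hr : r.Prime)
    (hQ : IsPGroup q Q) (hxr : orderOf x = r) (hxK : x ∈ normalizer (K : Set X))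
    (hKQ : K ≤ normalizer (Q : Set X)) (hxQ : x ∈ normalizer (Q : Set X))
    (hfpf : ∀ j, 0 < j → j < r → ∀ k ∈ K, x ^ j * k = k * x ^ j → k = 1)
    (hcop : ¬ q ∣ Nat.card ↥(K ⊔ zpowers x))
    (hcyc : IsCyclic ↥(Q ⊓ centralizer ({x} : Set X))) :
    ⁅K, K⁆ ≤ centralizer (Q : Set X) := by
  classical
  set Γ : Subgroup X := K ⊔ zpowers x with hΓdef
  have hΓ : Γ ≤ normalizer (Q : Set X) := sup_le hKQ (zpowers_le.mpr hxQ)
  have hKΓ : K ≤ Γ := le_sup_left
  have hxΓ : x ∈ Γ := (le_sup_right : zpowers x ≤ Γ) (mem_zpowers x)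
  haveI : IsEA q (↥Q ⧸ frattini ↥Q) := isEA_frattiniQuot hQ
  set ρ := fratRep (q := q) Q Γ hΓ with hρ
  let x' : Γ := ⟨x, hxΓ⟩
  let N : Subgroup Γ := K.subgroupOf Γ
  have hx'pow : ∀ j : ℕ, ((x' ^ j : Γ) : X) = x ^ j := fun j => by simp [x']
  -- `K` is normal in `Γ`
  have hKn : Γ ≤ normalizer (K : Set X) := sup_le le_normalizer (zpowers_le.mpr hxK)
  have hF : FrobData N x' r :=
    { normal := Subgroup.normal_subgroupOf_of_le_normalizer hKn
      pos := hr.pos
      pow := by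
        apply Subtype.ext
        rw [hx'pow, ← hxr]
        simp [pow_orderOf_eq_one]
      fpf := by
        intro j hj0 hjr n hn hcomm
        have h1 : x ^ j * (n : X) = n * x ^ j := by
          have := congrArg Subtype.val hcomm
          simpa [hx'pow] using this
        exact Subtype.ext (hfpf j hj0 hjr n (Subgroup.mem_subgroupOf.mp hn) h1)
      nil := by
        have hKnil : Group.IsNilpotent K := by
          refine isNilpotent_of_fpf hr hxK (by rw [← hxr]; exact pow_orderOf_eq_one x) ?_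
          intro k hk hc
          have h1 := hfpf 1 Nat.one_pos hr.one_lt k hk
          rw [pow_one] at h1
          exact h1 hc
        exact Group.nilpotent_of_mulEquiv (Subgroup.subgroupOfEquivOfLe hKΓ).symm }
  -- the coprime action of `⟨x⟩` on `Q`
  have hxcop : (orderOf x).Coprime q := by
    rw [Nat.coprime_comm, Nat.Prime.coprime_iff_not_dvd (Fact.out : q.Prime)]
    intro hdvd
    apply hcop
    have h1 : orderOf x ∣ Nat.card ↥Γ := by
      rw [← Subgroup.orderOf_mk x hxΓ]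
      exact orderOf_dvd_natCard _
    exact hdvd.trans h1
  have hA : Cfsg.Agent.Lib.H1.CoprimeAction (zpowers x) Q := by
    refine ⟨zpowers_le.mpr hxQ, ?_, Or.inr ?_⟩
    · rw [Nat.card_zpowers]
      obtain ⟨n, hn⟩ := IsPGroup.iff_card.mp hQ
      rw [hn]
      exact Nat.Coprime.pow_right n hxcop
    · have : Group.IsNilpotent Q := hQ.isNilpotent
      infer_instance
  set Φ : Subgroup X := (frattini ↥Q).map Q.subtype with hΦ
  have hΦQ : Φ ≤ Q := Subgroup.map_subtype_le _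
  have hNΦ : normalizer (Q : Set X) ≤ normalizer (Φ : Set X) :=
    Cfsg.Agent.Lib.H1.normalizer_le_normalizer_map_of_characteristic (frattini ↥Q)
  have hQΦ : Q ≤ normalizer (Φ : Set X) := le_normalizer.trans hNΦ
  have hxΦ : zpowers x ≤ normalizer (Φ : Set X) := (zpowers_le.mpr hxQ).trans hNΦ
  -- powers of `x'` fix what `x'` fixes
  have hfixpow : ∀ v, ρ x' v = v → ∀ j : ℕ, ρ (x' ^ j) v = v := by
    intro v hv j
    induction j with
    | zero => rw [pow_zero, map_one]; rfl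
    | succ j ih => rw [pow_succ, map_mul, Module.End.mul_apply, hv, ih]
  -- a generator of `C_Q(x)`
  obtain ⟨g₀, hg₀⟩ := hcyc.exists_generator
  have hg₀Q : (g₀ : X) ∈ Q := (Subgroup.mem_inf.mp g₀.2).1
  let v₀ : EA q (↥Q ⧸ frattini ↥Q) := EA.of q (QuotientGroup.mk ⟨(g₀ : X), hg₀Q⟩)
  have hline : ∀ v, ρ x' v = v → ∃ c : ZMod q, v = c • v₀ := by
    intro v hv
    obtain ⟨w, rfl⟩ := exists_eq_of (q := q) Q v
    -- all powers of `x` fix `w` modulo `Φ`
    have hfix : ∀ a ∈ zpowers x, a * (w : X) * a⁻¹ * (w : X)⁻¹ ∈ Φ := by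
      intro a ha
      obtain ⟨j, rfl⟩ := mem_powers_iff_mem_zpowers.mpr ha
      have h1 := hfixpow _ hv j
      rw [hρ, fratRep_apply_mk, of_mk_eq_iff] at h1
      refine ⟨_, h1, ?_⟩
      simp only [Subgroup.coe_subtype, Subgroup.coe_mul, Subgroup.coe_inv, act_apply, hx'pow]
    obtain ⟨c, hc, hwc⟩ := Cfsg.Agent.Lib.H1.coprime_centralizer_quotient hA hΦQ hQΦ hxΦ w.2 hfix
    have hcQ : c ∈ Q := (Subgroup.mem_inf.mp hc).1
    have hcx : c ∈ centralizer ({x} : Set X) := by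
      have h1 := (Subgroup.mem_inf.mp hc).2
      rw [Subgroup.mem_centralizer_iff] at h1 ⊢
      intro y hy
      rw [Set.mem_singleton_iff] at hy
      rw [hy]
      exact h1 x (mem_zpowers x)
    -- `w ≡ c` modulo `Φ`
    have hwc' : EA.of q (QuotientGroup.mk w : ↥Q ⧸ frattini ↥Q) =
        EA.of q (QuotientGroup.mk ⟨c, hcQ⟩) := by
      apply congrArg (EA.of q)
      rw [QuotientGroup.eq]
      obtain ⟨f, hf, hfe⟩ := hwc
      have : w⁻¹ * ⟨c, hcQ⟩ = f := by
        apply Subtype.ext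
        simpa using hfe.symm
      rw [this]
      exact hf
    -- `c` is a power of `g₀`
    obtain ⟨n, hn⟩ := mem_powers_iff_mem_zpowers.mpr
      (hg₀ ⟨c, Subgroup.mem_inf.mpr ⟨hcQ, hcx⟩⟩)
    have hn' : (g₀ : X) ^ n = c := by
      have := congrArg Subtype.val hn
      simpa using this
    refine ⟨(n : ZMod q), ?_⟩
    rw [hwc', Nat.cast_smul_eq_nsmul]
    apply EA.ext
    rw [EA.val_nsmul, EA.val_of, EA.val_of, ← QuotientGroup.mk_pow]
    congr 1
    apply Subtype.ext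
    simpa using hn'.symm
  -- base change to the algebraic closure
  let k := AlgebraicClosure (ZMod q)
  have hk : (Nat.card ↥Γ : k) ≠ 0 := by
    intro h
    apply hcop
    exact (CharP.cast_eq_zero_iff k q _).mp h
  haveI : Module.Finite (ZMod q) (EA q (↥Q ⧸ frattini ↥Q)) := Module.Finite.of_finite
  have hdep := dep_bc k hk ρ x' v₀ hline
  have hcomm := comm_of_dep hk hF _ (k ⊗[ZMod q] EA q (↥Q ⧸ frattini ↥Q)) (bc k ρ) rfl hdep
  have hcomm' : ∀ n ∈ N, ∀ n' ∈ N, ρ n * ρ n' = ρ n' * ρ n :=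
    fun n hn n' hn' => comm_of_bc_comm k ρ (hcomm n hn n' hn')
  -- conclusion
  rw [Subgroup.commutator_le]
  intro a ha b hb
  let a' : Γ := ⟨a, hKΓ ha⟩
  let b' : Γ := ⟨b, hKΓ hb⟩
  have ha'N : a' ∈ N := Subgroup.mem_subgroupOf.mpr ha
  have hb'N : b' ∈ N := Subgroup.mem_subgroupOf.mpr hb
  have h1 : ρ (a' * b' * a'⁻¹ * b'⁻¹) = 1 := by
    have e1 : ρ (a' * b' * a'⁻¹ * b'⁻¹) = (ρ a' * ρ b') * ρ a'⁻¹ * ρ b'⁻¹ := by
      simp only [map_mul]
    rw [e1, hcomm' a' ha'N b' hb'N]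
    simp only [← map_mul]
    rw [show b' * a' * a'⁻¹ * b'⁻¹ = 1 by group, map_one]
  set y : X := a * b * a⁻¹ * b⁻¹ with hy
  have hyK : y ∈ K := K.mul_mem (K.mul_mem (K.mul_mem ha hb) (K.inv_mem ha)) (K.inv_mem hb)
  have hyΓ : y ∈ Γ := hKΓ hyK
  have hy' : (a' * b' * a'⁻¹ * b'⁻¹ : Γ) = ⟨y, hyΓ⟩ := rfl
  rw [hy'] at h1
  have hpow1 : ∀ j : ℕ, ρ ((⟨y, hyΓ⟩ : Γ) ^ j) = 1 := by
    intro j
    rw [map_pow, h1, one_pow]
  have hycop : (orderOf y).Coprime q := by
    rw [Nat.coprime_comm, Nat.Prime.coprime_iff_not_dvd (Fact.out : q.Prime)]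
    intro hdvd
    apply hcop
    have h2 : orderOf y ∣ Nat.card ↥Γ := by
      rw [← Subgroup.orderOf_mk y hyΓ]
      exact orderOf_dvd_natCard _
    exact hdvd.trans h2
  have hcen := Cfsg.Agent.Lib.H9.commute_of_commutator_mem_frattini hQ (hKQ hyK) hycop (by
    intro c hc v hv
    obtain ⟨j, rfl⟩ := mem_powers_iff_mem_zpowers.mpr hc
    have := commutator_mem_of_fratRep_eq_one (q := q) Q Γ hΓ ((⟨y, hyΓ⟩ : Γ) ^ j) (hpow1 j) v hv
    simpa using this)
  rw [commutatorElement_def, Subgroup.mem_centralizer_iff]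
  intro v hv
  exact (hcen v hv).symm

end Cfsg.Agent.Lib.H7.FrobNil
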