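import Mathlib
import Cfsg.Agent.Lib.H7.BG13a
import Cfsg.Agent.S1409

/-!
# BG Lemma 15.1-type statement (S1439): `F(M) = F(M_σ) × Y` with `Y` a cyclic `τ₂(M)`-group
-/

set_option autoImplicit false
set_option linter.style.haveILetI false
open Cfsg
open Cfsg.Agent.Lib.H16.BG
open Cfsg.Agent.Lib.H7.BG7
open Cfsg.Agent.Lib.H7.BG10
open Cfsg.Agent.Lib.H20.BGS
open Cfsg.Agent.Lib.H20.BGT
open Cfsg.Agent.Lib.H8.BG12
open Cfsg.Agent.Lib.H19 (IsPiCard)

namespace Cfsg.Agent.Lib.H7.BG15

universe u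
variable {G : Type u} [Group G] [Finite G]

/-- For `r ∉ σ(M)`, if `O_r(F(M)) ≠ 1` then `r ∈ τ₂(M)`. -/
theorem mem_tau2_of_piCoreOf_ne_bot (hG : IsMinSimpleOddOrder G) {M : Subgroup G} (hM : IsCoatom M)
    {r : ℕ} [hr : Fact r.Prime] (hrσ : r ∉ sigma M)
    (hV1 : piCoreOf {r} (fittingOf M) ≠ ⊥) : r ∈ tau2 M := by
  have hU := uniq3 hG
  have hVr : IsPGroup r (piCoreOf {r} (fittingOf M)) := isPGroup_piCoreOf_singleton r _
  have hVM : piCoreOf {r} (fittingOf M) ≤ M := (piCoreOf_le _ _).trans (fittingOf_le M)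
  have hMV : M ≤ Subgroup.normalizer ((piCoreOf {r} (fittingOf M) : Subgroup G) : Set G) :=
    (le_normalizer_fittingOf M).trans (normalizer_le_normalizer_piCoreOf _ _)
  have hr2 : PRankLE r 2 ↥M := by
    by_contra h
    exact hrσ (alpha_subset_sigma hG hU hM ⟨hr.out, h⟩)
  by_cases hr1 : PRankLE r 1 ↥M
  · exfalso
    have hVc : IsCyclic ↥(piCoreOf {r} (fittingOf M)) :=
      Cfsg.Agent.Lib.H7.BG14.isCyclic_of_pRankLE_one hG hVM hVr hr1
    have hd : r ∣ Nat.card ↥(piCoreOf {r} (fittingOf M)) :=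
      Cfsg.Agent.Lib.H7.BG13.dvd_card_of_isPGroup_ne_bot hVr hV1
    obtain ⟨x, hx⟩ := exists_prime_orderOf_dvd_card' r hd
    have hXV : Subgroup.zpowers (x : G) ≤ piCoreOf {r} (fittingOf M) := by
      rw [Subgroup.zpowers_le]; exact x.2
    have hXc : Nat.card (Subgroup.zpowers (x : G)) = r := by
      rw [Nat.card_zpowers, Subgroup.orderOf_coe, hx]
    have hX1 : Subgroup.zpowers (x : G) ≠ ⊥ := by
      intro h
      rw [h, Subgroup.card_bot] at hXc
      exact hr.out.one_lt.ne hXc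
    have hNX : M ≤ Subgroup.normalizer ((Subgroup.zpowers (x : G) : Subgroup G) : Set G) :=
      hMV.trans (normalizer_le_normalizer_of_le_cyclic hVc hXV)
    have hNX' := normalizer_eq_of_coatom hG hM (hXV.trans hVM) hX1 hNX
    exact (Cfsg.Agent.S1409.result hG M hM r hrσ _ hXc hNX'.le).1.2 hr1
  · exact ⟨hr.out, hrσ, hr2, hr1⟩

/-- For `r ∈ τ₂(M)`, `O_r(F(M))` is cyclic. -/
theorem isCyclic_piCoreOf_of_tau2 (hG : IsMinSimpleOddOrder G) (hC : HypCent G) (h17 : Hyp1417 G)
    {M : Subgroup G} (hM : IsCoatom M) {r : ℕ} [hr : Fact r.Prime] (hτ : r ∈ tau2 M) :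
    IsCyclic ↥(piCoreOf {r} (fittingOf M)) := by
  have hU := uniq3 hG
  have hσ := (sigma_core_hall hG hU hM).1
  have hVr : IsPGroup r (piCoreOf {r} (fittingOf M)) := isPGroup_piCoreOf_singleton r _
  have hVM : piCoreOf {r} (fittingOf M) ≤ M := (piCoreOf_le _ _).trans (fittingOf_le M)
  have hMV : M ≤ Subgroup.normalizer ((piCoreOf {r} (fittingOf M) : Subgroup G) : Set G) :=
    (le_normalizer_fittingOf M).trans (normalizer_le_normalizer_piCoreOf _ _)
  by_contra hnc
  have hV1 : piCoreOf {r} (fittingOf M) ≠ ⊥ := by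
    intro h
    apply hnc
    rw [h]
    infer_instance
  have hr2 : r ≠ 2 := prime_ne_two' hG hVr hV1
  obtain ⟨A, hAV, hAe, hAc⟩ := Cfsg.Agent.Lib.H20.BGT.exists_elemAb_sq_of_not_cyclic hr2 hVr hnc
  have hAM : A ≤ M := hAV.trans hVM
  obtain ⟨-, -, -, hd, -, -⟩ := h17 M hM r hτ A ⟨hAM, hAe, hAc⟩
  -- `V` centralizes `M_σ`
  have hdisj : piCoreOf {r} (fittingOf M) ⊓ sigmaCore M = ⊥ := by
    apply (Subgroup.disjoint_of_coprime_natCard _).eq_bot
    obtain ⟨k, hk⟩ := IsPGroup.iff_card.1 hVr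
    rw [hk]
    apply Nat.Coprime.pow_left
    rw [Nat.Prime.coprime_iff_not_dvd hr.out]
    intro hdv
    exact hτ.2.1 (sigmaCore_isPiCard M r hr.out hdv)
  have hcent : sigmaCore M ≤ Subgroup.centralizer
      ((piCoreOf {r} (fittingOf M) : Subgroup G) : Set G) := by
    apply le_centralizer_of_inf_eq_bot ((sigmaCore_le M).trans hMV)
      (hVM.trans (le_normalizer_sigmaCore M))
    rw [inf_comm]; exact hdisj
  have hσbot : sigmaCore M = ⊥ := by
    rw [← hd]
    exact le_antisymm (le_inf le_rfl (hcent.trans (Subgroup.centralizer_le (by exact_mod_cast hAV))))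
      inf_le_left
  -- now `M` itself is a complement of `M_σ = 1`
  have hcompl : IsComplIn M (sigmaCore M) M := by
    refine ⟨le_rfl, sigmaCore_le M, ?_, ?_⟩
    · rw [hσbot]; exact inf_bot_eq _
    · intro m hm
      exact ⟨m, hm, 1, Subgroup.one_mem _, (mul_one m).symm⟩
  obtain ⟨-, ⟨-, h2, h3⟩, -⟩ := cor_12_6 hG hU hC h17 M hM M hcompl r hτ A ⟨hAM, hAe, hAc⟩
  have hA1 : A ≠ ⊥ := elemAb_sq_ne_bot hr.out hAc
  have hMA : M ≤ Subgroup.normalizer (A : Set G) := by
    rw [← h2]; exact inf_le_right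
  exact h3 (normalizer_eq_of_coatom hG hM hAM hA1 hMA).le


/-- The frozen statement S1439, modulo S1416(a) and S1417. -/
theorem fitting_structure (hG : IsMinSimpleOddOrder G) (hC : HypCent G) (h17 : Hyp1417 G)
    (M : Subgroup G) (hM : IsCoatom M) :
    IsCyclic ↥(piCoreOf {q | q.Prime ∧ q ∉ sigma M} (fittingOf M)) ∧
      (∀ p : ℕ, p.Prime → p ∣ Nat.card ↥(piCoreOf {q | q.Prime ∧ q ∉ sigma M} (fittingOf M)) →
        p ∈ tau2 M) ∧
      fittingOf M = fittingOf (sigmaCore M) ⊔
        piCoreOf {q | q.Prime ∧ q ∉ sigma M} (fittingOf M) := by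
  have hU := uniq3 hG
  have hσ := (sigma_core_hall hG hU hM).1
  have hF : Group.IsNilpotent ↥(fittingOf M) := fittingOf_isNilpotent M
  have hYF : piCoreOf {q | q.Prime ∧ q ∉ sigma M} (fittingOf M) ≤ fittingOf M := piCoreOf_le _ _
  have hτ : ∀ p : ℕ, p.Prime →
      p ∣ Nat.card ↥(piCoreOf {q | q.Prime ∧ q ∉ sigma M} (fittingOf M)) → p ∈ tau2 M := by
    intro p hp hd
    haveI : Fact p.Prime := ⟨hp⟩
    have hpπ := piCoreOf_isPiCard {q | q.Prime ∧ q ∉ sigma M} (fittingOf M) p hp hd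
    have hdF : p ∣ Nat.card ↥(fittingOf M) := hd.trans (Subgroup.card_dvd_of_le hYF)
    exact mem_tau2_of_piCoreOf_ne_bot hG hM hpπ.2 (piCoreOf_singleton_ne_bot hF hdF)
  refine ⟨?_, hτ, ?_⟩
  · -- `Y` is a nilpotent Z-group
    haveI : Group.IsNilpotent ↥(piCoreOf {q | q.Prime ∧ q ∉ sigma M} (fittingOf M)) :=
      Group.nilpotent_of_mulEquiv
        (Subgroup.subgroupOfEquivOfLe hYF) (G := ↥((piCoreOf {q | q.Prime ∧ q ∉ sigma M}
          (fittingOf M)).subgroupOf (fittingOf M)))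
    haveI : IsZGroup ↥(piCoreOf {q | q.Prime ∧ q ∉ sigma M} (fittingOf M)) := by
      refine ⟨fun p hp P => ?_⟩
      haveI hpf : Fact p.Prime := ⟨hp⟩
      by_cases hd : p ∣ Nat.card ↥(piCoreOf {q | q.Prime ∧ q ∉ sigma M} (fittingOf M))
      · have hVc := isCyclic_piCoreOf_of_tau2 hG hC h17 hM (hτ p hpf.out hd)
        have hPV : (P : Subgroup _).map (Subgroup.subtype _) ≤ piCoreOf {p} (fittingOf M) :=
          le_piCoreOf_of_nilpotent hF ((Subgroup.map_subtype_le _).trans hYF)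
            (isPiCard_card_of_isPGroup (Set.mem_singleton p) (P.2.map _))
        have h1 := isCyclic_of_le' hPV hVc
        haveI := h1
        exact isCyclic_of_surjective
          ((P : Subgroup _).equivMapOfInjective (Subgroup.subtype _)
            (Subgroup.subtype_injective _)).symm
          (MulEquiv.surjective _)
      · haveI := sylow_subsingleton_of_not_dvd P hd
        exact isCyclic_of_subsingleton
    infer_instance
  · -- the decomposition of `F(M)`
    have h1 := piCoreOf_sup_compl hF (sigma M)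
    have h2 : piCoreOf (sigma M)ᶜ (fittingOf M) =
        piCoreOf {q | q.Prime ∧ q ∉ sigma M} (fittingOf M) := by
      apply le_antisymm
      · apply le_piCoreOf_of_nilpotent hF (piCoreOf_le _ _)
        intro q hq hd
        exact ⟨hq, piCoreOf_isPiCard (sigma M)ᶜ (fittingOf M) q hq hd⟩
      · apply piCoreOf_mono_set
        intro q hq
        exact hq.2
    have hMF : M ≤ Subgroup.normalizer ((fittingOf M : Subgroup G) : Set G) :=
      le_normalizer_fittingOf M
    have h3 : piCoreOf (sigma M) (fittingOf M) = fittingOf (sigmaCore M) := by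
      apply le_antisymm
      · have hW : piCoreOf (sigma M) (fittingOf M) ≤ sigmaCore M :=
          le_sigmaCore hσ ((piCoreOf_le _ _).trans (fittingOf_le M))
            (piCoreOf_isPiCard (sigma M) (fittingOf M))
        apply le_fittingOf hW
        · exact (sigmaCore_le M).trans (hMF.trans (normalizer_le_normalizer_piCoreOf _ _))
        · exact Group.nilpotent_of_mulEquiv
            (Subgroup.subgroupOfEquivOfLe (piCoreOf_le (sigma M) (fittingOf M)))
            (G := ↥((piCoreOf (sigma M) (fittingOf M)).subgroupOf (fittingOf M)))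
      · have hW : fittingOf (sigmaCore M) ≤ fittingOf M := by
          apply le_fittingOf ((fittingOf_le _).trans (sigmaCore_le M))
          · exact (le_normalizer_sigmaCore M).trans (normalizer_le_normalizer_fittingOf _)
          · exact fittingOf_isNilpotent _
        apply le_piCoreOf_of_nilpotent hF hW
        exact isPiCard_of_le (fittingOf_le _) (sigmaCore_isPiCard M)
    rw [← h3, ← h2, h1]

end Cfsg.Agent.Lib.H7.BG15
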