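import Mathlib
import Cfsg.Agent.Lib.H7.CoreComp
import Cfsg.Agent.Lib.H7.BenderMax
import Cfsg.Agent.S1270

set_option autoImplicit false

namespace Cfsg.Agent.Lib.H7

open Cfsg
open scoped commutatorElement

universe u
variable {G : Type u} [Group G]

section

variable [Finite G] {p : ℕ} [Fact p.Prime]

/-- When `O_{p'}(G) = 1` the Fitting subgroup is `O_p(G)`. -/
theorem fittingSubgroup_le_pCore (hO : pPrimeCore p G = ⊥) : fittingSubgroup G ≤ pCore p G := by
  have hp : p.Prime := Fact.out
  intro y hy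
  apply mem_pCore_of_mem_fitting_of_pow p hy
  have hpos : orderOf y ≠ 0 := (orderOf_pos y).ne'
  have huniq : ∀ {r : ℕ}, r.Prime → r ∣ orderOf y → r = p := by
    intro r hr hry
    by_contra hne
    have : Fact r.Prime := ⟨hr⟩
    obtain ⟨m, hm⟩ := hry
    set y' := y ^ m with hy'
    have hy'o : orderOf y' = r := by
      have h1 : orderOf y' = orderOf y / Nat.gcd (orderOf y) m := orderOf_pow y
      have h2 : Nat.gcd (orderOf y) m = m := Nat.gcd_eq_right ⟨r, by rw [hm]; ring⟩
      rw [h1, h2, hm]
      have hm0 : m ≠ 0 := by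
        rintro rfl
        rw [mul_zero] at hm
        exact hpos hm
      exact Nat.mul_div_cancel _ (Nat.pos_of_ne_zero hm0)
    have hy'F : y' ∈ fittingSubgroup G := Subgroup.pow_mem _ hy m
    have hy'r : y' ∈ pCore r G := by
      apply mem_pCore_of_mem_fitting_of_pow r hy'F
      refine ⟨1, ?_⟩
      rw [pow_one, ← hy'o]; exact pow_orderOf_eq_one y'
    have hle : pCore r G ≤ pPrimeCore p G := by
      apply Cfsg.Agent.Lib.H22.le_pPrimeCore p _ (Cfsg.Agent.Lib.H1.pCore_normal r G)
      obtain ⟨k, hk⟩ := IsPGroup.iff_card.1 (Cfsg.Agent.Lib.H1.pCore_isPGroup r G)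
      rw [hk]
      apply Nat.Coprime.pow_left
      exact (Nat.coprime_primes hr hp).2 hne
    have := hle hy'r
    rw [hO, Subgroup.mem_bot] at this
    rw [this, orderOf_one] at hy'o
    exact hr.one_lt.ne hy'o
  have := Nat.eq_prime_pow_of_unique_prime_dvd hpos huniq
  refine ⟨(orderOf y).primeFactorsList.length, ?_⟩
  rw [← this]; exact pow_orderOf_eq_one y

/-- A subgroup of `O_{p'}(C_G(x))` centralizing the layer is trivial when `O_{p'}(G) = 1`. -/
theorem eq_bot_of_le_cppc_of_le_centralizer_layer (hO : pPrimeCore p G = ⊥) {x : G}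
    (hxp : x ^ p = 1) {Y : Subgroup G} (hY : Y ≤ centralizerPPrimeCore p x)
    (hYE : Y ≤ Subgroup.centralizer (layer G : Set G)) : Y = ⊥ := by
  have h1 : Y ≤ Subgroup.centralizer (fittingSubgroup G : Set G) :=
    (hY.trans (cppc_le_centralizer_pCore hxp)).trans
      (Subgroup.centralizer_le (fittingSubgroup_le_pCore hO))
  have h2 : Y ≤ Subgroup.centralizer (generalizedFittingSubgroup G : Set G) := by
    unfold generalizedFittingSubgroup
    rw [Subgroup.le_centralizer_iff]
    apply sup_le
    · rw [← Subgroup.le_centralizer_iff]; exact hYE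
    · rw [← Subgroup.le_centralizer_iff]; exact h1
  have h3 : Y ≤ generalizedFittingSubgroup G := h2.trans centralizer_generalizedFittingSubgroup_le
  -- `Z(F*(G))` is an abelian normal subgroup
  set Z : Subgroup G := generalizedFittingSubgroup G ⊓
    Subgroup.centralizer (generalizedFittingSubgroup G : Set G) with hZ
  have hZn : Z.Normal := by
    have : (Subgroup.centralizer (generalizedFittingSubgroup G : Set G)).Normal :=
      Subgroup.normal_centralizer
    exact Subgroup.normal_inf_normal _ _
  have hZc : ∀ a b : ↥Z, a * b = b * a := by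
    intro a b
    apply Subtype.ext
    exact (Subgroup.mem_centralizer_iff.1 b.2.2 a a.2.1)
  have hZnil : Group.IsNilpotent ↥Z := by
    let _ : CommGroup ↥Z := { (inferInstance : Group ↥Z) with mul_comm := hZc }
    exact CommGroup.isNilpotent
  have h4 : Y ≤ pCore p G :=
    ((le_inf h3 h2).trans (le_fittingSubgroup hZn hZnil)).trans (fittingSubgroup_le_pCore hO)
  have h5 : IsPGroup p ↥Y := (Cfsg.Agent.Lib.H1.pCore_isPGroup p G).to_le h4
  have h6 : (Nat.card ↥Y).Coprime p :=
    Nat.Coprime.coprime_dvd_left (Subgroup.card_dvd_of_le hY) (cppc_card_coprime p x)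
  obtain ⟨k, hk⟩ := IsPGroup.iff_card.1 h5
  rw [hk] at h6
  rcases Nat.eq_zero_or_pos k with h0 | hpos
  · rw [h0, pow_zero] at hk
    exact Subgroup.card_eq_one.1 hk
  · exfalso
    have hp : p.Prime := Fact.out
    have : p ∣ Nat.gcd (p ^ k) p := Nat.dvd_gcd (dvd_pow_self p hpos.ne') dvd_rfl
    rw [h6] at this
    exact hp.one_lt.ne' (Nat.dvd_one.1 this)

/-- Let `O_{p'}(G) = 1`, `x` of order `p` and `Y` a nontrivial subgroup of `O_{p'}(C_G(x))`. Then some
component `L` of `G` is normalized by `x` and `Y` and centralized by neither. -/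
theorem exists_component_of_le_cppc (hO : pPrimeCore p G = ⊥) {x : G} (hx : orderOf x = p)
    {Y : Subgroup G} (hY : Y ≤ centralizerPPrimeCore p x) (hY1 : Y ≠ ⊥) :
    ∃ L : Subgroup G, IsComponent L ∧ L.map (MulAut.conj x).toMonoidHom = L ∧
      Y ≤ Subgroup.normalizer (L : Set G) ∧ x ∉ Subgroup.centralizer (L : Set G) ∧
      ¬ Y ≤ Subgroup.centralizer (L : Set G) := by
  have hp : p.Prime := Fact.out
  have hxp : x ^ p = 1 := by rw [← hx]; exact pow_orderOf_eq_one x
  have h1 : ∃ L : Subgroup G, IsComponent L ∧ ¬ Y ≤ Subgroup.centralizer (L : Set G) := by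
    by_contra hcon
    push Not at hcon
    apply hY1
    apply eq_bot_of_le_cppc_of_le_centralizer_layer hO hxp hY
    rw [Subgroup.le_centralizer_iff]
    unfold layer
    apply sSup_le
    intro L hL
    rw [← Subgroup.le_centralizer_iff]
    exact hcon L hL
  obtain ⟨L, hL, hLY⟩ := h1
  have hne : ⁅L, centralizerPPrimeCore p x⁆ ≠ ⊥ := by
    intro h
    apply hLY
    rw [Subgroup.commutator_eq_bot_iff_le_centralizer] at h
    rw [Subgroup.le_centralizer_iff]
    exact h.trans (Subgroup.centralizer_le hY)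
  refine ⟨L, hL, ?_, hY.trans (cppc_le_normalizer_component hO hxp hL), ?_, hLY⟩
  · by_contra hLx
    exact hne (commutator_cppc_eq_bot_of_moved hp hxp hO hL hLx)
  · intro hxL
    apply hne
    apply Cfsg.Agent.S1270.result p hO x hx L hL
    have h2 : ⁅L, Subgroup.zpowers x⁆ = ⊥ := by
      rw [Subgroup.commutator_eq_bot_iff_le_centralizer, Subgroup.le_centralizer_iff,
        Subgroup.zpowers_le]
      exact hxL
    rw [h2]
    exact (component_ne_bot hL).symm

end

end Cfsg.Agent.Lib.H7
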