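import Cfsg.Agent.Lib.H7.S4415B7
import Cfsg.Agent.Lib.H10.S4415BadDefs

/-!
# S4415 (B7) in helper10's frame: `B7Stmt` (an element acting trivially on `X/<z>` induces an
inner automorphism of the `XS`-subgroup `X`).  helper7.
-/

set_option autoImplicit false

namespace Cfsg.Agent.Lib.H7.S4415B7W

open Cfsg.Agent.Lib.H10.S4415

universe u

/-- commutator form -> product form -/
theorem mul_eq_of_comm {S : Type u} [Group S] {z g h : S}
    (hc : g * h * g⁻¹ * h⁻¹ = 1 ∨ g * h * g⁻¹ * h⁻¹ = z) :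
    g * h = h * g ∨ g * h = z * h * g := by
  rcases hc with h1 | h1
  · left
    have : g * h * g⁻¹ * h⁻¹ * (h * g) = 1 * (h * g) := by rw [h1]
    simpa [mul_assoc] using this
  · right
    have : g * h * g⁻¹ * h⁻¹ * (h * g) = z * (h * g) := by rw [h1]
    simpa [mul_assoc] using this

/-- conjugation form of a commutator alternative -/
theorem conj_eq_of_comm {S : Type u} [Group S] {z r g : S}
    (hc : r * g * r⁻¹ * g⁻¹ = 1 ∨ r * g * r⁻¹ * g⁻¹ = z) :
    r * g * r⁻¹ = g ∨ r * g * r⁻¹ = z * g := by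
  rcases hc with h1 | h1
  · left
    have : r * g * r⁻¹ * g⁻¹ * g = 1 * g := by rw [h1]
    simpa [mul_assoc] using this
  · right
    have : r * g * r⁻¹ * g⁻¹ * g = z * g := by rw [h1]
    simpa [mul_assoc] using this

theorem b7 : B7Stmt.{u} := by
  intro S _ _ z X hXS r hr
  obtain ⟨y, hyX, hy⟩ := Cfsg.Agent.Lib.H7.S4415B7.mem_mul_centralizer X z hXS.z_sq hXS.zX
    (fun x hx y hy => mul_eq_of_comm (hXS.comm x hx y hy)) hXS.sq hXS.center r
    (fun x hx => conj_eq_of_comm (hr x hx))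
  refine ⟨y, hyX, fun g hg => ?_⟩
  rw [Subgroup.mem_centralizer_iff] at hy
  exact (hy g hg).symm

end Cfsg.Agent.Lib.H7.S4415B7W
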