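import Mathlib

set_option autoImplicit false

/-!
# S2479, piece P18 (CYC): the fibres of a monomial character of a power of a finite cyclic group (helper7)
-/

namespace Cfsg.Agent.Lib.H7.SLK

/-- the monomial character `a ↦ ∏ j ∈ s, a j ^ w j` -/
def monoChar {A : Type*} [CommGroup A] {J : ℕ} (s : Finset (Fin J)) (w : Fin J → ℕ) :
    (Fin J → A) →* A where
  toFun a := ∏ j ∈ s, a j ^ w j
  map_one' := by simp
  map_mul' a b := by simp [mul_pow, Finset.prod_mul_distrib]

theorem monoChar_apply {A : Type*} [CommGroup A] {J : ℕ} (s : Finset (Fin J)) (w : Fin J → ℕ)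
    (a : Fin J → A) : monoChar s w a = ∏ j ∈ s, a j ^ w j := rfl

/-- Bezout for a finite gcd: a subgroup containing `x ^ w j` for all `j ∈ s` contains
`x ^ s.gcd w` -/
theorem pow_gcd_mem {A : Type*} [Group A] (R : Subgroup A) (x : A) {ι : Type*} [DecidableEq ι]
    (s : Finset ι) (w : ι → ℕ) (h : ∀ j ∈ s, x ^ w j ∈ R) : x ^ s.gcd w ∈ R := by
  induction s using Finset.induction_on with
  | empty => simp
  | insert j s hj ih =>
    rw [Finset.gcd_insert]
    have h1 : x ^ w j ∈ R := h j (Finset.mem_insert_self _ _)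
    have h2 : x ^ s.gcd w ∈ R := ih (fun i hi => h i (Finset.mem_insert_of_mem hi))
    set m := w j
    set n := s.gcd w
    have hb : ((Nat.gcd m n : ℕ) : ℤ) = m * Nat.gcdA m n + n * Nat.gcdB m n :=
      Nat.gcd_eq_gcd_ab m n
    have h3 : x ^ (Nat.gcd m n) = (x ^ m) ^ (Nat.gcdA m n) * (x ^ n) ^ (Nat.gcdB m n) := by
      rw [← zpow_natCast x (Nat.gcd m n), hb, zpow_add, zpow_mul, zpow_mul, zpow_natCast,
        zpow_natCast]
    show x ^ (Nat.gcd m n) ∈ R
    rw [h3]
    exact R.mul_mem (R.zpow_mem h1 _) (R.zpow_mem h2 _)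

theorem range_monoChar {A : Type*} [CommGroup A] {J : ℕ} (s : Finset (Fin J)) (w : Fin J → ℕ) :
    (monoChar (A := A) s w).range = (powMonoidHom (s.gcd w) : A →* A).range := by
  classical
  apply le_antisymm
  · rintro _ ⟨a, rfl⟩
    rw [monoChar_apply]
    apply Subgroup.prod_mem
    intro j hj
    obtain ⟨k, hk⟩ := Finset.gcd_dvd (f := w) hj
    refine ⟨a j ^ k, ?_⟩
    rw [powMonoidHom_apply, ← pow_mul, mul_comm, ← hk]
  · rintro _ ⟨x, rfl⟩
    rw [powMonoidHom_apply]
    apply pow_gcd_mem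
    intro j hj
    refine ⟨Pi.mulSingle j x, ?_⟩
    rw [monoChar_apply, Finset.prod_eq_single j]
    · rw [Pi.mulSingle_eq_same]
    · intro i _ hij
      rw [Pi.mulSingle_eq_of_ne hij, one_pow]
    · intro h; exact absurd hj h

/-- CYC : size of the fibres of a monomial character of a power of a finite cyclic group -/
theorem card_fiber_prod_pow {A : Type*} [CommGroup A] [Fintype A] [IsCyclic A] {J : ℕ}
    (s : Finset (Fin J)) (w : Fin J → ℕ) (c : Fin J → A) :
    Fintype.card A *
        Nat.card {a : Fin J → A // (∏ j ∈ s, c j ^ w j) * (∏ j ∈ s, a j ^ w j) = 1} =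
      Nat.gcd (Fintype.card A) (s.gcd w) * Fintype.card A ^ J := by
  classical
  set ψ : (Fin J → A) →* A := monoChar s w with hψ
  -- the fibre is a coset of the kernel
  have e : {a : Fin J → A // (∏ j ∈ s, c j ^ w j) * (∏ j ∈ s, a j ^ w j) = 1} ≃ ψ.ker :=
    { toFun := fun a => ⟨c * a.1, by
        rw [MonoidHom.mem_ker, map_mul]; exact a.2⟩
      invFun := fun b => ⟨c⁻¹ * b.1, by
        have h := MonoidHom.mem_ker.1 b.2
        show ψ c * ψ (c⁻¹ * b.1) = 1
        rw [← map_mul, mul_inv_cancel_left]; exact h⟩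
      left_inv := fun a => Subtype.ext (by simp)
      right_inv := fun b => Subtype.ext (by simp) }
  rw [Nat.card_congr e]
  have h1 : Nat.card ψ.ker * Nat.card ψ.range = Fintype.card A ^ J := by
    rw [← Subgroup.index_ker, Subgroup.card_mul_index, Nat.card_eq_fintype_card, Fintype.card_pi,
      Finset.prod_const, Finset.card_univ, Fintype.card_fin]
  have h2 : Nat.card ψ.range * Nat.gcd (Fintype.card A) (s.gcd w) = Fintype.card A := by
    rw [hψ, range_monoChar, ← Nat.card_eq_fintype_card, ← IsCyclic.index_powMonoidHom_range,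
      Subgroup.card_mul_index]
  calc Fintype.card A * Nat.card ψ.ker
      = (Nat.card ψ.range * Nat.gcd (Fintype.card A) (s.gcd w)) * Nat.card ψ.ker := by rw [h2]
    _ = Nat.gcd (Fintype.card A) (s.gcd w) * (Nat.card ψ.ker * Nat.card ψ.range) := by ring
    _ = _ := by rw [h1]

end Cfsg.Agent.Lib.H7.SLK
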