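import Mathlib
import Cfsg.Agent.Lib.H4.SLKDefs

set_option autoImplicit false
open Polynomial

/-!
# S2479, piece P21 (INJ): tuples whose block sizes are all divisible by `m` (helper7)

`τ ↦ (k ↦ τ_{m(k+1)-1})` is an injection of `{τ ∈ TSet F n n | m ∣ dg τ}` into `TSet F (n/m) (n/m)`.
-/

namespace Cfsg.Agent.Lib.H7.SLK

open Cfsg.Agent.Lib.H12.Cls Cfsg.Agent.Lib.H4.SLK

universe u
variable {F : Type u} [Field F]

/-- the index `m (k + 1) - 1` -/
def blk (n m : ℕ) (hm : 1 ≤ m) (k : Fin (n / m)) : Fin n :=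
  ⟨m * ((k : ℕ) + 1) - 1, by
    have h1 : (k : ℕ) + 1 ≤ n / m := k.2
    have h2 : m * ((k : ℕ) + 1) ≤ n :=
      (Nat.mul_le_mul_left _ h1).trans (Nat.mul_div_le n m)
    have h3 : 0 < m * ((k : ℕ) + 1) := Nat.mul_pos hm (Nat.succ_pos _)
    omega⟩

theorem blk_val (n m : ℕ) (hm : 1 ≤ m) (k : Fin (n / m)) :
    ((blk n m hm k : Fin n) : ℕ) + 1 = m * ((k : ℕ) + 1) := by
  have h3 : 0 < m * ((k : ℕ) + 1) := Nat.mul_pos hm (Nat.succ_pos _)
  show m * ((k : ℕ) + 1) - 1 + 1 = _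
  omega

theorem blk_injective (n m : ℕ) (hm : 1 ≤ m) : Function.Injective (blk n m hm) := by
  intro k k' h
  have h1 := blk_val n m hm k
  have h2 := blk_val n m hm k'
  rw [h] at h1
  have h3 : m * ((k : ℕ) + 1) = m * ((k' : ℕ) + 1) := h1.symm.trans h2
  have h4 := Nat.eq_of_mul_eq_mul_left hm h3
  exact Fin.ext (by omega)

theorem exists_blk (n m : ℕ) (hm : 1 ≤ m) (j : Fin n) (h : m ∣ (j : ℕ) + 1) :
    ∃ k, blk n m hm k = j := by
  obtain ⟨t, ht⟩ := h
  have ht1 : 1 ≤ t := by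
    rcases Nat.eq_zero_or_pos t with h0 | h0
    · rw [h0, mul_zero] at ht; omega
    · exact h0
  have ht2 : t ≤ n / m := by
    rw [Nat.le_div_iff_mul_le hm, mul_comm, ← ht]
    exact j.2
  refine ⟨⟨t - 1, by omega⟩, ?_⟩
  apply Fin.ext
  have h1 := blk_val n m hm ⟨t - 1, by omega⟩
  have h2 : ((⟨t - 1, by omega⟩ : Fin (n / m)) : ℕ) + 1 = t := by
    show t - 1 + 1 = t
    omega
  rw [h2, ← ht] at h1
  omega

theorem eq_one_of_not_dvd {n m : ℕ} (g : Fin n → F[X]) (h : m ∣ dg g) (j : Fin n)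
    (hj : ¬ m ∣ (j : ℕ) + 1) : g j = 1 := by
  by_contra hne
  have h1 : j ∈ supp g := (mem_supp _ _).2 hne
  exact hj (h.trans (Finset.gcd_dvd (f := fun j : Fin n => (j : ℕ) + 1) h1))

theorem sum_blk {n m : ℕ} (hm : 1 ≤ m) (g : Fin n → F[X]) (h : m ∣ dg g)
    (hn : ∑ j : Fin n, ((j : ℕ) + 1) * (g j).natDegree = n) :
    ∑ k : Fin (n / m), ((k : ℕ) + 1) * (g (blk n m hm k)).natDegree = n / m := by
  classical
  have h1 : ∑ j : Fin n, ((j : ℕ) + 1) * (g j).natDegree =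
      ∑ k : Fin (n / m), ((blk n m hm k : ℕ) + 1) * (g (blk n m hm k)).natDegree := by
    rw [← Finset.sum_image (s := Finset.univ) (g := blk n m hm)
      (f := fun j : Fin n => ((j : ℕ) + 1) * (g j).natDegree)
      (fun a _ b _ hab => blk_injective n m hm hab)]
    symm
    apply Finset.sum_subset (Finset.subset_univ _)
    intro j _ hj
    have h2 : ¬ m ∣ (j : ℕ) + 1 := by
      intro hd
      obtain ⟨k, hk⟩ := exists_blk n m hm j hd
      exact hj (Finset.mem_image.2 ⟨k, Finset.mem_univ _, hk⟩)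
    rw [eq_one_of_not_dvd g h j h2, natDegree_one, mul_zero]
  have h2 : ∑ k : Fin (n / m), ((blk n m hm k : ℕ) + 1) * (g (blk n m hm k)).natDegree =
      m * ∑ k : Fin (n / m), ((k : ℕ) + 1) * (g (blk n m hm k)).natDegree := by
    rw [Finset.mul_sum]
    apply Finset.sum_congr rfl
    intro k _
    rw [blk_val, mul_assoc]
  rw [h1, h2] at hn
  exact (Nat.div_eq_of_eq_mul_right hm hn.symm).symm

/-- the reduced tuple -/
noncomputable def red (n m : ℕ) (hm : 1 ≤ m) (τ : {τ : TSet F n n // m ∣ dg τ.1}) :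
    TSet F (n / m) (n / m) :=
  ⟨fun k => τ.1.1 (blk n m hm k), fun _ => τ.1.2.1 _, sum_blk hm τ.1.1 τ.2 τ.1.2.2⟩

theorem red_injective (n m : ℕ) (hm : 1 ≤ m) : Function.Injective (red (F := F) n m hm) := by
  intro τ τ' h
  apply Subtype.ext
  apply Subtype.ext
  funext j
  by_cases hd : m ∣ (j : ℕ) + 1
  · obtain ⟨k, rfl⟩ := exists_blk n m hm j hd
    have h1 := congrArg (fun σ : TSet F (n / m) (n / m) => σ.1 k) h
    exact h1
  · rw [eq_one_of_not_dvd τ.1.1 τ.2 j hd, eq_one_of_not_dvd τ'.1.1 τ'.2 j hd]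

/-- INJ -/
theorem card_dvd_dg_le [Fintype F] (n m : ℕ) (hm : 1 ≤ m) :
    Nat.card {τ : TSet F n n // m ∣ dg τ.1} ≤ Nat.card (TSet F (n / m) (n / m)) := by
  have : Finite (TSet F (n / m) (n / m)) := (finite_card_TSet (n / m) (n / m)).1
  exact Nat.card_le_card_of_injective (red n m hm) (red_injective n m hm)

end Cfsg.Agent.Lib.H7.SLK
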