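import Cfsg.Agent.Lib.H6.SU32c
import Cfsg.Agent.Lib.H12.UCommE
import Cfsg.Agent.Lib.H26.ThreeTrans

set_option autoImplicit false
set_option linter.style.haveILetI false
set_option linter.unusedSectionVars false

/-!
`SU₃(2)` (helper7): commuting involutions coincide (the Sylow 2-subgroups are quaternion).
Built on helper6's model of the Sylow 2-subgroup and helper12's order formula.
-/

open Matrix
open scoped MatrixGroups

namespace Cfsg.Agent.Lib.H7.SU32Inv

open Cfsg.Agent.Lib.H6.SuzU3 Cfsg.Agent.Lib.H6.SU32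

variable {F : Type*} [Field F] [Fintype F]

theorem card_SU32 (hF4 : Fintype.card F = 4) : Nat.card (Cfsg.SU 3 F 2) = 216 := by
  have hF' : Fintype.card F = 2 ^ 2 := by rw [hF4]; norm_num
  rw [Cfsg.Agent.Lib.H12.UComm.card_SU_eq hF' 3 (by norm_num)]
  decide

/-- Commuting involutions of `SU₃(2)` coincide. -/
theorem commuting_involutions_eq (hF4 : Fintype.card F = 4) {x y : Cfsg.SU 3 F 2}
    (hx : x * x = 1) (hy : y * y = 1) (hx1 : x ≠ 1) (hy1 : y ≠ 1) (hc : Commute x y) : x = y := by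
  classical
  have hF' : Fintype.card F = 2 ^ 2 := by rw [hF4]; norm_num
  haveI : Fact (Fintype.card F = 2 ^ 2) := ⟨hF'⟩
  haveI : CharP F 2 := charP_two_of_card (n := 1) le_rfl (by rw [hF4]; norm_num)
  haveI : Fact (Nat.Prime 2) := ⟨Nat.prime_two⟩
  haveI : Finite (Cfsg.SU 3 F 2) := Nat.finite_of_card_ne_zero (by rw [card_SU32 hF4]; norm_num)
  obtain ⟨l, hl, hl1⟩ := Cfsg.Agent.Lib.H2.Unitary.exists_norm_one_ne_one hF'
  have h1s : (1 : F) + (l : F) ≠ 0 := by
    intro h
    apply hl1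
    have h2 : (l : F) = (l : F) + ((1 : F) + (l : F)) := by rw [h, add_zero]
    rw [h2, add_comm (1 : F), ← add_assoc, CharTwo.add_self_eq_zero, zero_add]
  have hcc : (1 + (l : F))⁻¹ * (1 + (l : F)) = 1 := inv_mul_cancel₀ h1s
  set ρ := rhoSU (q := 2) (l : F) (1 + (l : F))⁻¹ hl hcc with hρ
  have hinj : Function.Injective ρ := rhoSU_injective _ _ hl hcc
  -- the model subgroup is a Sylow 2-subgroup
  have hcardT : Nat.card ρ.range = 8 := by
    rw [← Nat.card_congr (MonoidHom.ofInjective hinj).toEquiv, card_HT]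
    norm_num
  have hfac : (Nat.card (Cfsg.SU 3 F 2)).factorization 2 = 3 := by
    rw [card_SU32 hF4]
    exact factorization_two_of_mul (A := 1) (N := 216) (e := 3) (M := 27) (by norm_num)
      (by decide) (by decide) (by norm_num)
  let T₀ : Sylow 2 (Cfsg.SU 3 F 2) := Sylow.ofCard ρ.range (by rw [hcardT, hfac]; norm_num)
  -- the 2-group generated by `x` and `y`
  have hox : orderOf x = 2 := orderOf_eq_prime (by rw [pow_two]; exact hx) hx1
  have hoy : orderOf y = 2 := orderOf_eq_prime (by rw [pow_two]; exact hy) hy1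
  have h4 : (x * y) ^ 4 = 1 := by
    rw [hc.mul_pow]
    have hx2 : x ^ 2 = 1 := by rw [pow_two]; exact hx
    have hy2 : y ^ 2 = 1 := by rw [pow_two]; exact hy
    have hx4 : x ^ 4 = 1 := by
      rw [show (4 : ℕ) = 2 * 2 from rfl, pow_mul, hx2, one_pow]
    have hy4 : y ^ 4 = 1 := by
      rw [show (4 : ℕ) = 2 * 2 from rfl, pow_mul, hy2, one_pow]
    rw [hx4, hy4, one_mul]
  have hV := Cfsg.Agent.Lib.H26.ThreeTrans.isPGroup_closure_pair hox hoy h4
  obtain ⟨T, hVT⟩ := hV.exists_le_sylow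
  obtain ⟨g, hg⟩ := MulAction.exists_smul_eq (Cfsg.SU 3 F 2) T₀ T
  have hmem : ∀ w ∈ Subgroup.closure ({x, y} : Set (Cfsg.SU 3 F 2)), g⁻¹ * w * g ∈ ρ.range := by
    intro w hw
    have h1 : w ∈ (T : Subgroup (Cfsg.SU 3 F 2)) := hVT hw
    rw [← hg, Sylow.coe_subgroup_smul, Subgroup.mem_pointwise_smul_iff_inv_smul_mem] at h1
    have h2 : (MulAut.conj g)⁻¹ • w = g⁻¹ * w * g := by
      rw [MulAut.smul_def, ← map_inv, MulAut.conj_apply, inv_inv]
    rw [h2] at h1
    exact h1
  obtain ⟨u, hu⟩ := hmem x (Subgroup.subset_closure (by simp))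
  obtain ⟨v, hv⟩ := hmem y (Subgroup.subset_closure (by simp))
  have hu1 : u ≠ 1 := by
    intro h
    rw [h, map_one] at hu
    apply hx1
    have : x = g * (g⁻¹ * x * g) * g⁻¹ := by group
    rw [this, ← hu]; group
  have hv1 : v ≠ 1 := by
    intro h
    rw [h, map_one] at hv
    apply hy1
    have : y = g * (g⁻¹ * y * g) * g⁻¹ := by group
    rw [this, ← hv]; group
  have huu : u * u = 1 := by
    apply hinj
    rw [map_mul, hu, map_one]
    calc g⁻¹ * x * g * (g⁻¹ * x * g) = g⁻¹ * (x * x) * g := by group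
      _ = 1 := by rw [hx]; group
  have hvv : v * v = 1 := by
    apply hinj
    rw [map_mul, hv, map_one]
    calc g⁻¹ * y * g * (g⁻¹ * y * g) = g⁻¹ * (y * y) * g := by group
      _ = 1 := by rw [hy]; group
  have huv : u = v := (eq_zeta_of_sq hu1 huu).trans (eq_zeta_of_sq hv1 hvv).symm
  have : g⁻¹ * x * g = g⁻¹ * y * g := by rw [← hu, ← hv, huv]
  have h3 := congrArg (fun t => g * t * g⁻¹) this
  simpa [mul_assoc] using h3

end Cfsg.Agent.Lib.H7.SU32Inv
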