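import Cfsg.Agent.Lib.H7.TTSyl3
import Cfsg.Agent.Lib.H1.Complement

set_option autoImplicit false
set_option linter.style.haveILetI false
set_option linter.unusedSectionVars false

/-!
3-transposition groups (helper7): when `C_D(d) = V_d`, `O_2(G)` has a complement `P⟨d⟩`.
-/

namespace Cfsg.Agent.Lib.H7.TT

open Cfsg Cfsg.Agent.Lib.H26.ThreeTrans
open scoped commutatorElement

variable {G : Type*} [Group G] [Finite G] {D : Set G}

/-- A member of a class of 3-transpositions with at least two members is not in `O_2(G)`. -/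
theorem not_mem_pCore_two (hD : IsThreeTranspositionClass D) (hD2 : ∃ a ∈ D, ∃ b ∈ D, a ≠ b)
    {d : G} (hd : d ∈ D) : d ∉ pCore 2 G := by
  haveI : Fact (Nat.Prime 2) := ⟨Nat.prime_two⟩
  have hS := hD.1
  have hd2 := sq_eq_one hS hd
  haveI hQn : (pCore 2 G).Normal := Cfsg.Agent.Lib.H1.pCore_normal 2 G
  have hQ2 : IsPGroup 2 (pCore 2 G) := Cfsg.Agent.Lib.H1.pCore_isPGroup 2 G
  intro hdQ
  have hDQ : D ⊆ (pCore 2 G : Set G) := by
    intro e he
    obtain ⟨g, rfl⟩ := exists_conj_eq hD hd he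
    exact hQn.conj_mem d hdQ g
  have htop : pCore 2 G = ⊤ := by
    rw [eq_top_iff, ← hD.2.2, Subgroup.closure_le]
    exact hDQ
  obtain ⟨e, he, hnc⟩ := exists_not_commute hD hD2 hd
  have h3 : (d * e) ^ 3 = 1 := by
    rcases commute_or_cube hS hd he with h | h
    · exact absurd h hnc
    · exact h
  have hmem : d * e ∈ pCore 2 G := by rw [htop]; exact Subgroup.mem_top _
  obtain ⟨k, hk⟩ := hQ2 ⟨d * e, hmem⟩
  have hk' : (d * e) ^ 2 ^ k = 1 := by
    have := congrArg Subtype.val hk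
    simpa using this
  have h1 : orderOf (d * e) ∣ 3 := orderOf_dvd_of_pow_eq_one h3
  have h2 : orderOf (d * e) ∣ 2 ^ k := orderOf_dvd_of_pow_eq_one hk'
  have hco : Nat.Coprime 3 (2 ^ k) := Nat.Coprime.pow_right k (by norm_num)
  have h4 := Nat.dvd_gcd h1 h2
  rw [hco] at h4
  have h5 : d * e = 1 := orderOf_eq_one_iff.1 (Nat.dvd_one.1 h4)
  apply hnc
  have : e = d := by
    calc e = (d * d) * e := by rw [hd2, one_mul]
      _ = d * (d * e) := by group
      _ = d := by rw [h5, mul_one]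
  rw [this]

/-- When `C_D(d) ⊆ V_d`, the normal subgroup `O_2(G)` has a complement. -/
theorem exists_complement_of_veq (hD : IsThreeTranspositionClass D)
    (hD2 : ∃ a ∈ D, ∃ b ∈ D, a ≠ b) {d : G} (hd : d ∈ D)
    (hV : ∀ y ∈ D, Commute d y → Veq D d y) :
    ∃ K : Subgroup G, (pCore 2 G).IsComplement' K := by
  haveI : Fact (Nat.Prime 3) := ⟨Nat.prime_three⟩
  haveI : Fact (Nat.Prime 2) := ⟨Nat.prime_two⟩
  have hS := hD.1
  have hd2 := sq_eq_one hS hd
  haveI hQn : (pCore 2 G).Normal := Cfsg.Agent.Lib.H1.pCore_normal 2 G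
  have hQ2 : IsPGroup 2 (pCore 2 G) := Cfsg.Agent.Lib.H1.pCore_isPGroup 2 G
  have hdQ := not_mem_pCore_two hD hD2 hd
  obtain ⟨P, hP⟩ := exists_invariant_sylow_three hD hD2 hd hV
  have htop := sup_eq_top_of_veq hD hD2 hd hV P
  refine ⟨(P : Subgroup G) ⊔ Subgroup.zpowers d, ?_⟩
  apply Subgroup.isComplement'_of_disjoint_and_mul_eq_univ
  · rw [Subgroup.disjoint_def]
    intro x hxQ hxK
    have hzN : Subgroup.zpowers d ≤ Subgroup.normalizer ((P : Subgroup G) : Set G) := by
      rw [Subgroup.zpowers_le]; exact hP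
    obtain ⟨p, hp, z, hz, rfl⟩ := Cfsg.Agent.Lib.H1.mem_sup_of_le_normalizer hzN hxK
    -- `z = 1` or `z = d`
    have hz' : z = 1 ∨ z = d := by
      rw [Subgroup.mem_zpowers_iff] at hz
      obtain ⟨k, rfl⟩ := hz
      have hord : orderOf d = 2 := hS.1 d hd
      rw [← zpow_mod_orderOf, hord]
      have hcast : ((2 : ℕ) : ℤ) = 2 := rfl
      rw [hcast]
      rcases Int.emod_two_eq_zero_or_one k with h | h
      · left; rw [h, zpow_zero]
      · right; rw [h, zpow_one]
    have hdisj : Disjoint (P : Subgroup G) (pCore 2 G) :=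
      IsPGroup.disjoint_of_ne 3 2 (by norm_num) _ _ P.2 hQ2
    rcases hz' with rfl | rfl
    · rw [mul_one] at hxQ ⊢
      exact (Subgroup.disjoint_def.1 hdisj) hp hxQ
    · exfalso
      -- modulo `O_2(G)`, `d` is the inverse of a 3-element
      have h1 : (QuotientGroup.mk p : G ⧸ pCore 2 G) * QuotientGroup.mk z = 1 := by
        rw [← QuotientGroup.mk_mul]
        exact (QuotientGroup.eq_one_iff _).2 hxQ
      obtain ⟨j, hj⟩ := P.2 ⟨p, hp⟩
      have hj' : p ^ 3 ^ j = 1 := by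
        have := congrArg Subtype.val hj
        simpa using this
      have h2 : (QuotientGroup.mk z : G ⧸ pCore 2 G) = (QuotientGroup.mk p)⁻¹ :=
        (eq_inv_of_mul_eq_one_right h1)
      have h3 : (QuotientGroup.mk z : G ⧸ pCore 2 G) ^ 3 ^ j = 1 := by
        rw [h2, inv_pow, ← QuotientGroup.mk_pow, hj', QuotientGroup.mk_one, inv_one]
      have h4 : (QuotientGroup.mk z : G ⧸ pCore 2 G) ^ 2 = 1 := by
        rw [← QuotientGroup.mk_pow, pow_two, hd2, QuotientGroup.mk_one]
      have h5 : orderOf (QuotientGroup.mk z : G ⧸ pCore 2 G) ∣ 3 ^ j := orderOf_dvd_of_pow_eq_one h3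
      have h6 : orderOf (QuotientGroup.mk z : G ⧸ pCore 2 G) ∣ 2 := orderOf_dvd_of_pow_eq_one h4
      have hco : Nat.Coprime (3 ^ j) 2 := Nat.Coprime.pow_left j (by norm_num)
      have h7 := Nat.dvd_gcd h5 h6
      rw [hco] at h7
      have h8 := orderOf_eq_one_iff.1 (Nat.dvd_one.1 h7)
      exact hdQ ((QuotientGroup.eq_one_iff z).1 h8)
  · rw [← Subgroup.normal_mul, ← Subgroup.coe_top]
    congr 1
    rw [← htop]
    rw [sup_comm (Subgroup.zpowers d) (P : Subgroup G), sup_comm]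

end Cfsg.Agent.Lib.H7.TT
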