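/-
OM4-S of the S5673 farm-out (helper24 architect): two non-degenerate symmetric bilinear forms of the same ODD
dimension over a finite field of odd order are similar.  Proof: S0756 (landed) gives an orthogonal basis with norms
1,…,1,e (e ∈ {1, α}, α a fixed non-square); e is determined by the quadratic character of the determinant of the Gram
matrix; scaling the form by α multiplies the determinant by α^k, k odd, and so changes the class.
-/
import Cfsg.Agent.S0756
import Cfsg.Agent.Lib.H24.AschODefs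

set_option autoImplicit false

namespace Cfsg.Agent.Lib.H7.Asch

open Cfsg Cfsg.Geo
open scoped Matrix

variable {F : Type*} [Field F] [Fintype F]

/-- the bilinear form attached to a bilinear two-argument function. -/
noncomputable def om4sBil {k : ℕ} (f : (Fin k → F) → (Fin k → F) → F) (hf : IsBilinearForm f) :
    LinearMap.BilinForm F (Fin k → F) :=
  LinearMap.mk₂ F f hf.add_left hf.smul_left hf.add_right hf.smul_right

theorem om4sBil_apply {k : ℕ} (f : (Fin k → F) → (Fin k → F) → F) (hf : IsBilinearForm f)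
    (u v : Fin k → F) : om4sBil f hf u v = f u v := rfl

theorem om4s_two_ne_zero (hq : Odd (Fintype.card F)) : (2 : F) ≠ 0 := by
  intro h
  obtain ⟨m, hm⟩ := hq
  have h0 : ((Fintype.card F : ℕ) : F) = 0 := Nat.cast_card_eq_zero F
  rw [hm] at h0
  push_cast at h0
  rw [h, zero_mul, zero_add] at h0
  exact one_ne_zero h0

/-- the diagonal matrix `diag(1,…,1,e)`. -/
def om4sD (n : ℕ) (e : F) : Matrix (Fin (n + 1)) (Fin (n + 1)) F :=
  Matrix.diagonal (fun i => if i = Fin.last n then e else 1)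

theorem om4sD_det (n : ℕ) (e : F) : (om4sD n e).det = e := by
  rw [om4sD, Matrix.det_diagonal, Finset.prod_ite_eq' Finset.univ (Fin.last n) (fun _ => e)]
  simp

/-- **Normal form** (from S0756). -/
theorem om4s_normal_form (h2 : (2 : F) ≠ 0) (α : F) (hα : ¬ IsSquare α) (n : ℕ)
    (f : (Fin (n + 1) → F) → (Fin (n + 1) → F) → F) (hf : IsSymmetricForm f) :
    ∃ (P : GL (Fin (n + 1)) F) (e : F), (e = 1 ∨ e = α) ∧
      (P : Matrix (Fin (n + 1)) (Fin (n + 1)) F)ᵀ * gramMatrix f *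
        (P : Matrix (Fin (n + 1)) (Fin (n + 1)) F) = om4sD n e := by
  classical
  set B := om4sBil f hf.bilinear with hBdef
  have hS : B.IsSymm := ⟨fun x y => hf.symm x y⟩
  have hB : B.Nondegenerate := by
    refine ⟨?_, ?_⟩
    · intro x hx
      by_contra hne
      obtain ⟨y, hy⟩ := (hf.nondegenerate x hne).2
      exact hy (hx y)
    · intro y hy
      by_contra hne
      obtain ⟨x, hx⟩ := (hf.nondegenerate y hne).1
      exact hx (hy x)
  have hfin : Module.finrank F (Fin (n + 1) → F) = n + 1 := by simp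
  obtain ⟨b, hoff, hdiag, hlast⟩ := Cfsg.Agent.S0756.result h2 B hS hB hfin α hα
  set e0 := Pi.basisFun F (Fin (n + 1)) with he0
  have h1 : e0.toMatrix b * b.toMatrix e0 = 1 := Module.Basis.toMatrix_mul_toMatrix_flip e0 b
  have h1' : b.toMatrix e0 * e0.toMatrix b = 1 := Module.Basis.toMatrix_mul_toMatrix_flip b e0
  refine ⟨⟨e0.toMatrix b, b.toMatrix e0, h1, h1'⟩, B (b (Fin.last n)) (b (Fin.last n)), hlast, ?_⟩
  have hG : gramMatrix f = LinearMap.BilinForm.toMatrix e0 B := by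
    rw [he0, LinearMap.BilinForm.toMatrix_basisFun]
    ext i j
    rw [LinearMap.BilinForm.toMatrix'_apply]
    rfl
  show (e0.toMatrix b)ᵀ * gramMatrix f * e0.toMatrix b = _
  rw [hG, LinearMap.BilinForm.toMatrix_mul_basis_toMatrix]
  ext i j
  rw [LinearMap.BilinForm.toMatrix_apply, om4sD, Matrix.diagonal_apply]
  by_cases hij : i = j
  · subst hij
    rw [if_pos rfl]
    by_cases hi : i = Fin.last n
    · subst hi
      rw [if_pos rfl]
    · rw [if_neg hi]
      exact hdiag i hi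
  · rw [if_neg hij]
    exact hoff i j hij

theorem om4s_smul_form {k : ℕ} (a : F) (ha : a ≠ 0) (f : (Fin k → F) → (Fin k → F) → F)
    (hf : IsSymmetricForm f) : IsSymmetricForm (fun u v => a * f u v) := by
  refine ⟨⟨?_, ?_, ?_, ?_⟩, ?_, ?_⟩
  · intro x y v
    show a * f (x + y) v = a * f x v + a * f y v
    rw [hf.bilinear.add_left, mul_add]
  · intro c x v
    show a * f (c • x) v = c * (a * f x v)
    rw [hf.bilinear.smul_left]; ring
  · intro v x y
    show a * f v (x + y) = a * f v x + a * f v y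
    rw [hf.bilinear.add_right, mul_add]
  · intro c v x
    show a * f v (c • x) = c * (a * f v x)
    rw [hf.bilinear.smul_right]; ring
  · intro u v
    show a * f u v = a * f v u
    rw [hf.symm]
  · intro v hv
    obtain ⟨⟨x, hx⟩, ⟨y, hy⟩⟩ := hf.nondegenerate v hv
    exact ⟨⟨x, mul_ne_zero ha hx⟩, ⟨y, mul_ne_zero ha hy⟩⟩

theorem om4s_gram_smul {k : ℕ} (a : F) (f : (Fin k → F) → (Fin k → F) → F) :
    gramMatrix (fun u v => a * f u v) = a • gramMatrix f := by
  ext i j
  rfl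

/-- **OM4-S**: two non-degenerate symmetric bilinear forms of the same ODD dimension over a finite field of odd order
are similar. -/
theorem exists_similar_of_odd_dim (hq : Odd (Fintype.card F)) (k : ℕ) (hk : Odd k)
    (f₁ f₂ : (Fin k → F) → (Fin k → F) → F) (h₁ : IsSymmetricForm f₁) (h₂ : IsSymmetricForm f₂) :
    ∃ (a : F) (g : GL (Fin k) F), a ≠ 0 ∧
      gramMatrix f₂ = a • ((g : Matrix (Fin k) (Fin k) F)ᵀ * gramMatrix f₁ * (g : Matrix (Fin k) (Fin k) F)) := by
  classical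
  obtain ⟨m, rfl⟩ := hk
  have h2 : (2 : F) ≠ 0 := om4s_two_ne_zero hq
  have hchar : ringChar F ≠ 2 := by
    intro h
    apply h2
    have := ringChar.Nat.cast_ringChar (R := F)
    rw [h] at this
    exact_mod_cast this
  obtain ⟨α, hα⟩ := FiniteField.exists_nonsquare hchar
  have hα0 : α ≠ 0 := by
    rintro rfl
    exact hα IsSquare.zero
  have hχα : quadraticChar F α = -1 := quadraticChar_neg_one_iff_not_isSquare.2 hα
  -- normal form of f₂
  obtain ⟨P₂, e₂, he₂, hP₂⟩ := om4s_normal_form h2 α hα (2 * m) f₂ h₂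
  -- a first normal form of f₁, only to know that its determinant is not zero
  obtain ⟨P₀, e₀, he₀, hP₀⟩ := om4s_normal_form h2 α hα (2 * m) f₁ h₁
  have hdet : ∀ (P : GL (Fin (2 * m + 1)) F) (G : Matrix (Fin (2 * m + 1)) (Fin (2 * m + 1)) F) (e : F),
      (P : Matrix (Fin (2 * m + 1)) (Fin (2 * m + 1)) F)ᵀ * G * (P : Matrix (Fin (2 * m + 1)) (Fin (2 * m + 1)) F) = om4sD (2 * m) e →
      e = (P : Matrix (Fin (2 * m + 1)) (Fin (2 * m + 1)) F).det ^ 2 * G.det := by
    intro P G e h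
    have := congrArg Matrix.det h
    rw [om4sD_det, Matrix.det_mul, Matrix.det_mul, Matrix.det_transpose] at this
    rw [← this]; ring
  have hPdet : ∀ P : GL (Fin (2 * m + 1)) F, (P : Matrix (Fin (2 * m + 1)) (Fin (2 * m + 1)) F).det ≠ 0 := by
    intro P
    have : IsUnit (P : Matrix (Fin (2 * m + 1)) (Fin (2 * m + 1)) F).det :=
      (Matrix.isUnit_iff_isUnit_det _).1 ⟨P, rfl⟩
    exact this.ne_zero
  have he_ne : ∀ e : F, (e = 1 ∨ e = α) → e ≠ 0 := by
    rintro e (rfl | rfl)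
    · exact one_ne_zero
    · exact hα0
  have hχe : ∀ e : F, (e = 1 ∨ e = α) → ∀ e' : F, (e' = 1 ∨ e' = α) →
      quadraticChar F e = quadraticChar F e' → e = e' := by
    rintro e (rfl | rfl) e' (rfl | rfl) h
    · rfl
    · rw [map_one, hχα] at h; exact absurd h (by norm_num)
    · rw [map_one, hχα] at h; exact absurd h (by norm_num)
    · rfl
  have hχdet : ∀ (P : GL (Fin (2 * m + 1)) F) (G : Matrix (Fin (2 * m + 1)) (Fin (2 * m + 1)) F) (e : F),
      (P : Matrix (Fin (2 * m + 1)) (Fin (2 * m + 1)) F)ᵀ * G * (P : Matrix (Fin (2 * m + 1)) (Fin (2 * m + 1)) F) = om4sD (2 * m) e →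
      quadraticChar F e = quadraticChar F G.det := by
    intro P G e h
    rw [hdet P G e h, map_mul, quadraticChar_sq_one' (hPdet P), one_mul]
  have hd₁ : (gramMatrix f₁).det ≠ 0 := by
    intro h0
    have := hdet P₀ _ e₀ hP₀
    rw [h0, mul_zero] at this
    exact he_ne e₀ he₀ this
  have hd₂ : (gramMatrix f₂).det ≠ 0 := by
    intro h0
    have := hdet P₂ _ e₂ hP₂
    rw [h0, mul_zero] at this
    exact he_ne e₂ he₂ this
  -- choice of the scalar
  obtain ⟨a, ha0, haχ⟩ : ∃ a : F, a ≠ 0 ∧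
      quadraticChar F a * quadraticChar F (gramMatrix f₁).det = quadraticChar F (gramMatrix f₂).det := by
    by_cases hc : quadraticChar F (gramMatrix f₁).det = quadraticChar F (gramMatrix f₂).det
    · exact ⟨1, one_ne_zero, by rw [map_one, one_mul, hc]⟩
    · refine ⟨α, hα0, ?_⟩
      rw [hχα]
      rcases quadraticChar_dichotomy hd₁ with h1 | h1 <;>
        rcases quadraticChar_dichotomy hd₂ with h2' | h2' <;> rw [h1, h2'] at hc ⊢ <;> simp at hc ⊢
  have hχa : quadraticChar F a ^ (2 * m + 1) = quadraticChar F a := by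
    rcases quadraticChar_dichotomy ha0 with h | h <;> rw [h]
    · simp
    · rw [pow_succ, pow_mul]; simp
  -- normal form of a • f₁
  obtain ⟨P₁, e₁, he₁, hP₁⟩ :=
    om4s_normal_form h2 α hα (2 * m) (fun u v => a * f₁ u v) (om4s_smul_form a ha0 f₁ h₁)
  rw [om4s_gram_smul] at hP₁
  have hee : e₁ = e₂ := by
    apply hχe e₁ he₁ e₂ he₂
    rw [hχdet P₁ _ e₁ hP₁, hχdet P₂ _ e₂ hP₂, Matrix.det_smul, Fintype.card_fin, map_mul, map_pow,
      hχa, haχ]
  rw [hee, ← hP₂] at hP₁
  -- assemble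
  refine ⟨a, P₁ * P₂⁻¹, ha0, ?_⟩
  have hQ : (P₂ : Matrix (Fin (2 * m + 1)) (Fin (2 * m + 1)) F) * ((P₂⁻¹ : GL (Fin (2 * m + 1)) F) : Matrix (Fin (2 * m + 1)) (Fin (2 * m + 1)) F) = 1 := by
    rw [← Matrix.GeneralLinearGroup.coe_mul, mul_inv_cancel]; rfl
  have hQ' : (((P₂⁻¹ : GL (Fin (2 * m + 1)) F) : Matrix (Fin (2 * m + 1)) (Fin (2 * m + 1)) F))ᵀ * (P₂ : Matrix (Fin (2 * m + 1)) (Fin (2 * m + 1)) F)ᵀ = 1 := by
    rw [← Matrix.transpose_mul, hQ, Matrix.transpose_one]
  have key : gramMatrix f₂ =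
      (((P₂⁻¹ : GL (Fin (2 * m + 1)) F) : Matrix (Fin (2 * m + 1)) (Fin (2 * m + 1)) F))ᵀ *
        ((P₂ : Matrix (Fin (2 * m + 1)) (Fin (2 * m + 1)) F)ᵀ * gramMatrix f₂ * (P₂ : Matrix (Fin (2 * m + 1)) (Fin (2 * m + 1)) F)) *
        ((P₂⁻¹ : GL (Fin (2 * m + 1)) F) : Matrix (Fin (2 * m + 1)) (Fin (2 * m + 1)) F) := by
    calc gramMatrix f₂ = 1 * gramMatrix f₂ * 1 := by rw [one_mul, mul_one]
      _ = ((((P₂⁻¹ : GL (Fin (2 * m + 1)) F) : Matrix (Fin (2 * m + 1)) (Fin (2 * m + 1)) F))ᵀ * (P₂ : Matrix (Fin (2 * m + 1)) (Fin (2 * m + 1)) F)ᵀ) * gramMatrix f₂ *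
            ((P₂ : Matrix (Fin (2 * m + 1)) (Fin (2 * m + 1)) F) * ((P₂⁻¹ : GL (Fin (2 * m + 1)) F) : Matrix (Fin (2 * m + 1)) (Fin (2 * m + 1)) F)) := by rw [hQ, hQ']
      _ = _ := by simp only [Matrix.mul_assoc]
  rw [key, ← hP₁, Matrix.GeneralLinearGroup.coe_mul, Matrix.transpose_mul]
  simp only [Matrix.mul_assoc, Matrix.mul_smul, Matrix.smul_mul]

end Cfsg.Agent.Lib.H7.Asch
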