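/-
O33-A of the S5673 OM8.3 sub-farm (helper24 architect): over the field with 3 elements every non-degenerate symmetric
bilinear form in dimension 3 has Gram matrix `ε • 1` in a suitable basis.
-/
import Cfsg.Agent.Lib.H7.AschOM4S

set_option autoImplicit false

namespace Cfsg.Agent.Lib.H7.Asch

open Cfsg Cfsg.Geo
open scoped MatrixGroups Matrix

variable {F : Type*} [Field F] [Fintype F]

theorem o33_three_eq_zero (hF : Fintype.card F = 3) : (3 : F) = 0 := by
  have h0 : ((Fintype.card F : ℕ) : F) = 0 := Nat.cast_card_eq_zero F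
  rw [hF] at h0
  exact_mod_cast h0

theorem o33_two_ne_zero (hF : Fintype.card F = 3) : (2 : F) ≠ 0 :=
  om4s_two_ne_zero (by rw [hF]; decide)

theorem o33_not_isSquare_neg_one (hF : Fintype.card F = 3) : ¬ IsSquare (-1 : F) := by
  rw [FiniteField.isSquare_neg_one_iff, hF]
  decide

/-- the matrix `!![1,1,0; 1,-1,0; 0,0,1]`. -/
def o33M (F : Type*) [Field F] : Matrix (Fin 3) (Fin 3) F := !![1, 1, 0; 1, -1, 0; 0, 0, 1]

theorem o33M_det (hF : Fintype.card F = 3) : (o33M F).det ≠ 0 := by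
  have h3 := o33_three_eq_zero hF
  have h2 := o33_two_ne_zero hF
  rw [o33M, Matrix.det_fin_three]
  intro h
  apply h2
  simp at h
  linear_combination (-1 : F) * h

theorem o33M_conj (hF : Fintype.card F = 3) :
    (o33M F)ᵀ * om4sD 2 (-1 : F) * o33M F = (-1 : F) • (1 : Matrix (Fin 3) (Fin 3) F) := by
  have h3 := o33_three_eq_zero hF
  ext i j
  fin_cases i <;> fin_cases j <;>
    simp [o33M, om4sD, Matrix.mul_apply, Fin.sum_univ_three, Matrix.diagonal_apply, Fin.last] <;>
    linear_combination h3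

/-- **O33-A**. -/
theorem exists_frame_three (hF : Fintype.card F = 3) (f₁ : (Fin 3 → F) → (Fin 3 → F) → F)
    (h₁ : IsSymmetricForm f₁) :
    ∃ (P : GL (Fin 3) F) (ε : F), ε ≠ 0 ∧
      (P : Matrix (Fin 3) (Fin 3) F)ᵀ * gramMatrix f₁ * (P : Matrix (Fin 3) (Fin 3) F) =
        ε • (1 : Matrix (Fin 3) (Fin 3) F) := by
  have h2 := o33_two_ne_zero hF
  obtain ⟨P, e, he, hP⟩ := om4s_normal_form h2 (-1 : F) (o33_not_isSquare_neg_one hF) 2 f₁ h₁
  rcases he with rfl | rfl
  · refine ⟨P, 1, one_ne_zero, ?_⟩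
    rw [hP, one_smul, om4sD]
    ext i j
    by_cases hij : i = j
    · subst hij; simp
    · simp [hij]
  · refine ⟨P * Matrix.GeneralLinearGroup.mkOfDetNeZero (o33M F) (o33M_det hF), -1,
      neg_ne_zero.2 one_ne_zero, ?_⟩
    have hcoe : ((Matrix.GeneralLinearGroup.mkOfDetNeZero (o33M F) (o33M_det hF) : GL (Fin 3) F) :
        Matrix (Fin 3) (Fin 3) F) = o33M F := rfl
    rw [Matrix.GeneralLinearGroup.coe_mul, hcoe, Matrix.transpose_mul, ← o33M_conj hF, ← hP]
    simp only [Matrix.mul_assoc]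

end Cfsg.Agent.Lib.H7.Asch
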