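/-
O33-B of the S5673 OM8.3 sub-farm (helper24 architect): over the field with 3 elements an invertible 3 × 3 matrix with
`aᵀ a = μ • 1` is a signed permutation matrix (and `μ = 1`).
-/
import Cfsg.Agent.Lib.H7.AschO33A

set_option autoImplicit false

namespace Cfsg.Agent.Lib.H7.Asch

open Cfsg Cfsg.Geo
open scoped MatrixGroups Matrix

variable {F : Type*} [Field F] [Fintype F]

theorem o33_sq_eq_one (hF : Fintype.card F = 3) (x : F) (hx : x ≠ 0) : x ^ 2 = 1 := by
  have := FiniteField.pow_card_sub_one_eq_one x hx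
  rwa [hF] at this

/-- three squares with sum one over `F_3`: exactly one of them is not zero. -/
theorem o33_col (hF : Fintype.card F = 3) (x : Fin 3 → F) (hx : ∑ i, x i ^ 2 = 1) :
    ∃ i, x i ≠ 0 ∧ ∀ i', x i' ≠ 0 → i' = i := by
  have h3 := o33_three_eq_zero hF
  have h2 := o33_two_ne_zero hF
  have hsq := o33_sq_eq_one hF
  rw [Fin.sum_univ_three] at hx
  have hall : ∀ P : Fin 3 → Prop, P 0 → P 1 → P 2 → ∀ i, P i := by
    intro P h0 h1 h2 i
    fin_cases i
    · exact h0
    · exact h1
    · exact h2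
  by_cases h0 : x 0 = 0 <;> by_cases h1 : x 1 = 0 <;> by_cases h2' : x 2 = 0
  · exfalso
    rw [h0, h1, h2'] at hx
    simp at hx
  · refine ⟨2, h2', ?_⟩
    apply hall
    · intro h; exact absurd h0 h
    · intro h; exact absurd h1 h
    · intro _; rfl
  · refine ⟨1, h1, ?_⟩
    apply hall
    · intro h; exact absurd h0 h
    · intro _; rfl
    · intro h; exact absurd h2' h
  · exfalso
    rw [h0, hsq _ h1, hsq _ h2'] at hx
    apply one_ne_zero (α := F)
    linear_combination hx
  · refine ⟨0, h0, ?_⟩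
    apply hall
    · intro _; rfl
    · intro h; exact absurd h1 h
    · intro h; exact absurd h2' h
  · exfalso
    rw [h1, hsq _ h0, hsq _ h2'] at hx
    apply one_ne_zero (α := F)
    linear_combination hx
  · exfalso
    rw [h2', hsq _ h0, hsq _ h1] at hx
    apply one_ne_zero (α := F)
    linear_combination hx
  · exfalso
    rw [hsq _ h0, hsq _ h1, hsq _ h2'] at hx
    apply one_ne_zero (α := F)
    linear_combination h3 - hx

/-- **O33-B**. -/
theorem monomial_of_similarity_three (hF : Fintype.card F = 3) (a : GL (Fin 3) F) (μ : F)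
    (h : (a : Matrix (Fin 3) (Fin 3) F)ᵀ * (a : Matrix (Fin 3) (Fin 3) F) = μ • (1 : Matrix (Fin 3) (Fin 3) F)) :
    μ = 1 ∧ ∃ σ : Equiv.Perm (Fin 3), ∀ i j, (a : Matrix (Fin 3) (Fin 3) F) i j ≠ 0 ↔ i = σ j := by
  classical
  have hsq := o33_sq_eq_one hF
  set A : Matrix (Fin 3) (Fin 3) F := (a : Matrix (Fin 3) (Fin 3) F) with hA
  have hdet0 : A.det ≠ 0 := by
    have : IsUnit A.det := (Matrix.isUnit_iff_isUnit_det _).1 ⟨a, rfl⟩
    exact this.ne_zero
  -- μ = 1
  have hμ : μ = 1 := by
    have hd := congrArg Matrix.det h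
    rw [Matrix.det_mul, Matrix.det_transpose, Matrix.det_smul, Matrix.det_one, mul_one,
      Fintype.card_fin, ← pow_two, hsq _ hdet0] at hd
    have hμ0 : μ ≠ 0 := by
      rintro rfl
      simp at hd
    have : μ ^ 3 = μ := by rw [pow_succ, hsq _ hμ0, one_mul]
    rw [← this, ← hd]
  subst hμ
  refine ⟨rfl, ?_⟩
  rw [one_smul] at h
  -- entries of `Aᵀ A`
  have hent : ∀ j j', ∑ i, A i j * A i j' = if j = j' then 1 else 0 := by
    intro j j'
    have := congrFun (congrFun h j) j'
    rw [Matrix.mul_apply] at this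
    simpa [Matrix.transpose_apply, Matrix.one_apply] using this
  have hcol : ∀ j, ∃ i, A i j ≠ 0 ∧ ∀ i', A i' j ≠ 0 → i' = i := by
    intro j
    apply o33_col hF (fun i => A i j)
    have := hent j j
    rw [if_pos rfl] at this
    rw [← this]
    refine Finset.sum_congr rfl fun i _ => ?_
    rw [pow_two]
  choose σ hσ1 hσ2 using hcol
  have hiff : ∀ i j, A i j ≠ 0 ↔ i = σ j := by
    intro i j
    constructor
    · exact hσ2 j i
    · rintro rfl; exact hσ1 j
  have hinj : Function.Injective σ := by
    intro j j' hjj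
    by_contra hne
    have h0 := hent j j'
    rw [if_neg hne] at h0
    -- only the term `i = σ j` survives
    rw [Finset.sum_eq_single (σ j)] at h0
    · rcases mul_eq_zero.1 h0 with h1 | h1
      · exact hσ1 j h1
      · rw [hjj] at h1; exact hσ1 j' h1
    · intro i _ hi
      have : A i j = 0 := by
        by_contra hc
        exact hi ((hiff i j).1 hc)
      rw [this, zero_mul]
    · intro hc; exact absurd (Finset.mem_univ _) hc
  exact ⟨Equiv.ofBijective σ (Finite.injective_iff_bijective.1 hinj), fun i j => by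
    rw [Equiv.ofBijective_apply]; exact hiff i j⟩

end Cfsg.Agent.Lib.H7.Asch
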