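/-
O2-E3 of the orthogonal phase 2 farm-out (helper21 architect): over F_3 the stabiliser (in the isometry group) of an
orthogonal decomposition into 3-dimensional blocks stabilises a decomposition into orthogonal isometric lines.
-/
import Cfsg.Agent.Lib.H29.OrthFrame
import Cfsg.Agent.Lib.H29.QuadOdd
import Cfsg.Agent.Lib.H7.AschO33B

set_option autoImplicit false

namespace Cfsg.Agent.Lib.H7.OP2

open Cfsg Cfsg.Geo QuadraticMap
open scoped MatrixGroups Matrix

variable {ι : Type} [Fintype ι] [DecidableEq ι] {F : Type*} [Field F]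

/-- orthogonal non-singular vectors are linearly independent -/
theorem o2e3_li (Q : QuadraticForm F (ι → F)) (h2 : (2 : F) ≠ 0) {κ : Type*} [Fintype κ] [DecidableEq κ]
    (b : κ → ι → F) (hbo : ∀ j j', j ≠ j' → polar Q (b j) (b j') = 0) (hbQ : ∀ j, Q (b j) ≠ 0) :
    LinearIndependent F b := by
  rw [Fintype.linearIndependent_iff]
  intro g hg j
  have h2' := congrArg (fun y => polar Q (b j) y) hg
  simp only [Cfsg.Agent.Lib.H29.Orth.polar_sum_right', polar_smul_right, polar_zero_right] at h2'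
  rw [Finset.sum_eq_single j] at h2'
  · rw [Cfsg.Agent.Lib.H29.Orth.polar_self', smul_eq_mul] at h2'
    rcases mul_eq_zero.mp h2' with h | h
    · exact h
    · exact absurd h (mul_ne_zero h2 (hbQ j))
  · intro j' _ hne
    rw [hbo j j' (Ne.symm hne)]
    simp
  · simp

/-- the lines spanned by an orthogonal frame of vectors of the same non-zero norm -/
theorem o2e3_lines (Q : QuadraticForm F (ι → F)) (h2 : (2 : F) ≠ 0) {T : ℕ} (hT : 2 ≤ T)
    (hcard : Fintype.card ι = T) (E : Fin T → (ι → F)) (d : F) (hd : d ≠ 0)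
    (hEQ : ∀ k, Q (E k) = d) (hEo : ∀ k k', k ≠ k' → polar Q (E k) (E k') = 0) :
    IsOrthogonalMDecomposition (⇑Q) 1 (fun k => Submodule.span F {E k}) := by
  classical
  have hE0 : ∀ k, E k ≠ 0 := by
    intro k h
    apply hd
    rw [← hEQ k, h, map_zero]
  have hli : LinearIndependent F E := o2e3_li Q h2 E hEo (fun k => by rw [hEQ]; exact hd)
  have hpol : ∀ k, polar Q (E k) (E k) = 2 * d := by
    intro k
    rw [Cfsg.Agent.Lib.H29.Orth.polar_self', hEQ]
  refine ⟨⟨⟨hT, one_pos, ?_, ?_, ?_⟩, ?_, ?_⟩, ?_⟩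
  · intro k
    exact finrank_span_singleton (hE0 k)
  · exact hli.iSupIndep_span_singleton
  · rw [← Submodule.span_range_eq_iSup]
    apply hli.span_eq_top_of_card_eq_finrank'
    rw [Module.finrank_fintype_fun_eq_card, hcard, Fintype.card_fin]
  · -- non-degenerate
    intro k w hw hw0
    obtain ⟨c, rfl⟩ := Submodule.mem_span_singleton.1 hw
    have hc : c ≠ 0 := by
      rintro rfl
      exact hw0 (zero_smul _ _)
    refine ⟨⟨E k, Submodule.mem_span_singleton_self _, ?_⟩, ⟨E k, Submodule.mem_span_singleton_self _, ?_⟩⟩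
    · show polar Q (E k) (c • E k) ≠ 0
      rw [polar_smul_right, hpol, smul_eq_mul]
      exact mul_ne_zero hc (mul_ne_zero h2 hd)
    · show polar Q (c • E k) (E k) ≠ 0
      rw [polar_smul_left, hpol, smul_eq_mul]
      exact mul_ne_zero hc (mul_ne_zero h2 hd)
  · -- orthogonal
    intro k k' hne u hu v hv
    obtain ⟨a, rfl⟩ := Submodule.mem_span_singleton.1 hu
    obtain ⟨b, rfl⟩ := Submodule.mem_span_singleton.1 hv
    show polar Q (a • E k) (b • E k') = 0
    rw [polar_smul_left, polar_smul_right, hEo k k' hne]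
    simp
  · -- isometric
    intro k k'
    refine ⟨(LinearEquiv.toSpanNonzeroSingleton F (ι → F) (E k) (hE0 k)).symm.trans
      (LinearEquiv.toSpanNonzeroSingleton F (ι → F) (E k') (hE0 k')), ?_⟩
    intro w
    set c := (LinearEquiv.toSpanNonzeroSingleton F (ι → F) (E k) (hE0 k)).symm w with hc
    have hw : (w : ι → F) = c • E k :=
      (LinearEquiv.toSpanNonzeroSingleton_symm_apply_smul F (ι → F) (E k) (hE0 k) w).symm
    rw [LinearEquiv.trans_apply, ← hc, LinearEquiv.toSpanNonzeroSingleton_apply, hw]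
    show Q (c • E k') = Q (c • E k)
    rw [QuadraticMap.map_smul, QuadraticMap.map_smul, hEQ, hEQ]


/-- an isometry permuting the blocks permutes the lines of the frame -/
theorem o2e3_stab [Fintype F] (hq : Fintype.card F = 3) (Q : QuadraticForm F (ι → F)) {t : ℕ}
    (D : Fin t → Submodule F (ι → F)) (e : Fin t → Fin 3 → (ι → F)) (d : F) (hd : d ≠ 0)
    (heD : ∀ i j, e i j ∈ D i) (heQ : ∀ i j, Q (e i j) = d)
    (heo : ∀ i j j', j ≠ j' → polar Q (e i j) (e i j') = 0)
    (hEo : ∀ p p' : Fin t × Fin 3, p ≠ p' → polar Q (e p.1 p.2) (e p'.1 p'.2) = 0)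
    (hspan : ∀ i, ∀ x ∈ D i, ∃ c : Fin 3 → F, x = ∑ j, c j • e i j)
    (g : GL ι F) (hgD : g ∈ decompositionStabilizer D) (hgI : g ∈ isometryGroup F (⇑Q)) :
    g ∈ decompositionStabilizer (fun k : Fin (t * 3) =>
      Submodule.span F {e (finProdFinEquiv.symm k).1 (finProdFinEquiv.symm k).2}) := by
  classical
  have h2 := Cfsg.Agent.Lib.H29.Orth.f3_two_ne (F := F) hq
  obtain ⟨σ, hσ⟩ := hgD
  -- the image of a frame vector is, up to sign, a frame vector
  have step1 : ∀ i j, ∃ (j' : Fin 3) (c : F), c ≠ 0 ∧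
      (g : Matrix ι ι F) *ᵥ e i j = c • e (σ i) j' := by
    intro i j
    have hmem : (g : Matrix ι ι F) *ᵥ e i j ∈ D (σ i) := by
      rw [← hσ i]
      exact ⟨e i j, heD i j, by rw [Matrix.toLin'_apply]⟩
    obtain ⟨c, hc⟩ := hspan (σ i) _ hmem
    have hQ : Q ((g : Matrix ι ι F) *ᵥ e i j) = d := by
      rw [(Cfsg.Agent.Lib.H29.Orth.mem_isometryGroup_iff Q g).1 hgI, heQ]
    rw [hc, Cfsg.Agent.Lib.H29.Orth.Q_sum_orth Q (e (σ i)) (heo (σ i)) c] at hQ
    have hsum : ∑ j, c j ^ 2 = 1 := by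
      have h1 : (∑ j, c j ^ 2) * d = d := by
        rw [Finset.sum_mul]
        calc ∑ j, c j ^ 2 * d = ∑ j, c j * c j * Q (e (σ i) j) :=
              Finset.sum_congr rfl (fun j _ => by rw [heQ, pow_two])
          _ = d := hQ
      have h2' : (∑ j, c j ^ 2) * d = 1 * d := by rw [h1, one_mul]
      exact mul_right_cancel₀ hd h2'
    obtain ⟨j', hj', huniq⟩ := Cfsg.Agent.Lib.H7.Asch.o33_col hq c hsum
    refine ⟨j', c j', hj', ?_⟩
    rw [hc]
    apply Finset.sum_eq_single j'
    · intro j'' _ hne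
      have : c j'' = 0 := by
        by_contra hc0
        exact hne (huniq j'' hc0)
      rw [this, zero_smul]
    · intro h
      exact absurd (Finset.mem_univ _) h
  choose J C hC0 hgE using step1
  let E : Fin t × Fin 3 → (ι → F) := fun p => e p.1 p.2
  let ρ : Fin t × Fin 3 → Fin t × Fin 3 := fun p => (σ p.1, J p.1 p.2)
  have hgE' : ∀ p, (g : Matrix ι ι F) *ᵥ E p = C p.1 p.2 • E (ρ p) := fun p => hgE p.1 p.2
  have hpol : ∀ p, polar Q (E p) (E p) = 2 * d := by
    intro p
    rw [Cfsg.Agent.Lib.H29.Orth.polar_self', heQ]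
  have hinj : Function.Injective ρ := by
    intro p p' hpp
    by_contra hne
    have h1 : (g : Matrix ι ι F) *ᵥ (C p'.1 p'.2 • E p - C p.1 p.2 • E p') = 0 := by
      rw [Matrix.mulVec_sub, Matrix.mulVec_smul, Matrix.mulVec_smul, hgE' p, hgE' p', hpp, smul_smul,
        smul_smul, mul_comm, sub_self]
    have h3 : C p'.1 p'.2 • E p - C p.1 p.2 • E p' = 0 := by
      have := congrArg (fun v => ((g⁻¹ : GL ι F) : Matrix ι ι F) *ᵥ v) h1
      simp only [Cfsg.Agent.Lib.H29.Orth.gl_inv_mulVec, Matrix.mulVec_zero] at this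
      exact this
    have h4 := congrArg (fun v => polar Q (E p) v) h3
    have hE0' : polar Q (E p) (E p') = 0 := hEo p p' hne
    simp only [polar_sub_right, polar_smul_right, polar_zero_right, hpol, hE0', smul_eq_mul,
      mul_zero, sub_zero] at h4
    rcases mul_eq_zero.1 h4 with h | h
    · exact hC0 p'.1 p'.2 h
    · exact mul_ne_zero h2 hd h
  let ρe : Equiv.Perm (Fin t × Fin 3) := Equiv.ofBijective ρ (Finite.injective_iff_bijective.1 hinj)
  refine ⟨(finProdFinEquiv.symm.trans (ρe.trans finProdFinEquiv) : Equiv.Perm (Fin (t * 3))), ?_⟩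
  intro k
  have hk : finProdFinEquiv.symm
      ((finProdFinEquiv.symm.trans (ρe.trans finProdFinEquiv) : Equiv.Perm (Fin (t * 3))) k) =
      ρ (finProdFinEquiv.symm k) := by
    simp [ρe]
  beta_reduce
  rw [hk, Submodule.map_span, Set.image_singleton, Matrix.toLin'_apply]
  have := hgE' (finProdFinEquiv.symm k)
  show Submodule.span F {(g : Matrix ι ι F) *ᵥ E (finProdFinEquiv.symm k)} =
    Submodule.span F {E (ρ (finProdFinEquiv.symm k))}
  rw [this]
  exact Submodule.span_singleton_smul_eq (IsUnit.mk0 _ (hC0 _ _)) _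

/-- the generic statement -/
theorem o2e3_gen [Fintype F] (hq : Fintype.card F = 3) (Q : QuadraticForm F (ι → F)) {t : ℕ}
    (D : Fin t → Submodule F (ι → F)) (hD : IsOrthogonalMDecomposition (⇑Q) 3 D) :
    ∃ (t' : ℕ) (D' : Fin t' → Submodule F (ι → F)),
      IsOrthogonalMDecomposition (⇑Q) 1 D' ∧
      decompositionStabilizer D ⊓ isometryGroup F (⇑Q) ≤ decompositionStabilizer D' := by
  classical
  have h2 := Cfsg.Agent.Lib.H29.Orth.f3_two_ne (F := F) hq
  have hdec := hD.decomp.decomp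
  have ht2 := hdec.two_le
  let i0 : Fin t := ⟨0, by omega⟩
  obtain ⟨b, hbD, hbo, hbQ⟩ := Cfsg.Agent.Lib.H29.Orth.exists_orth_basis Q h2 (D i0)
    (hdec.finrank_eq i0) (hD.decomp.nondegenerate i0)
  obtain ⟨b', d, hd, hb'D, hb'o, hb'Q⟩ :=
    Cfsg.Agent.Lib.H29.Orth.equalize_three hq Q (D i0) b hbD hbo hbQ
  have hall : ∀ i, ∃ bi : Fin 3 → (ι → F), (∀ j, bi j ∈ D i) ∧
      (∀ j j', j ≠ j' → polar Q (bi j) (bi j') = 0) ∧ ∀ j, Q (bi j) = d :=
    fun i => Cfsg.Agent.Lib.H29.Orth.transport_frame Q (D i0) (D i) (hD.isometric i0 i) b' hb'D hb'o d hb'Q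
  choose e heD heo heQ using hall
  have hspan : ∀ i, ∀ x ∈ D i, ∃ c : Fin 3 → F, x = ∑ j, c j • e i j := fun i =>
    Cfsg.Agent.Lib.H29.Orth.span_of_orth Q h2 (D i) (hdec.finrank_eq i) (e i) (heD i) (heo i)
      (fun j => by rw [heQ]; exact hd)
  have hEo : ∀ p p' : Fin t × Fin 3, p ≠ p' → polar Q (e p.1 p.2) (e p'.1 p'.2) = 0 := by
    rintro ⟨i, j⟩ ⟨i', j'⟩ hne
    by_cases hi : i = i'
    · subst hi
      exact heo i j j' (fun h => hne (by rw [h]))
    · exact hD.decomp.orthogonal i i' hi _ (heD i j) _ (heD i' j')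
  have hcard : Fintype.card ι = t * 3 :=
    Cfsg.Agent.Lib.H29.Orth.card_eq_of_decomp D hdec.indep hdec.iSup_eq_top hdec.finrank_eq
  refine ⟨t * 3, fun k : Fin (t * 3) =>
      Submodule.span F {e (finProdFinEquiv.symm k).1 (finProdFinEquiv.symm k).2}, ?_, ?_⟩
  · apply o2e3_lines Q h2 (by omega) hcard
      (fun k : Fin (t * 3) => e (finProdFinEquiv.symm k).1 (finProdFinEquiv.symm k).2) d hd
    · intro k
      exact heQ _ _
    · intro k k' hne
      apply hEo
      intro h
      exact hne (finProdFinEquiv.symm.injective h)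
  · rintro g ⟨hgD, hgI⟩
    exact o2e3_stab hq Q D e d hd heD heQ heo hEo hspan g hgD hgI

/-- **O2-E3**. -/
theorem exists_lines_of_three_blocks {F : Type*} [Field F] [Fintype F] (hq : Fintype.card F = 3) (m : ℕ) {t : ℕ}
    (D : Fin t → Submodule F (Unit ⊕ (Fin m ⊕ Fin m) → F))
    (hD : IsOrthogonalMDecomposition (quadFormOdd m F) 3 D) :
    ∃ (t' : ℕ) (D' : Fin t' → Submodule F (Unit ⊕ (Fin m ⊕ Fin m) → F)),
      IsOrthogonalMDecomposition (quadFormOdd m F) 1 D' ∧
      decompositionStabilizer D ⊓ isometryGroup F (quadFormOdd m F) ≤ decompositionStabilizer D' := by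
  have h2 := Cfsg.Agent.Lib.H29.Orth.f3_two_ne (F := F) hq
  have hQ : IsNondegenerateQuadraticForm (quadFormOdd m F) :=
    Cfsg.Agent.Lib.H29.QuadOdd.isNondegenerateQuadraticForm m h2
  exact o2e3_gen hq (Cfsg.Agent.Lib.H29.Orth.toQF (quadFormOdd m F) hQ) D hD

end Cfsg.Agent.Lib.H7.OP2
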