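import Mathlib
import Cfsg.Agent.Lib.H8.TIInd
import Cfsg.Agent.Lib.H8.GenChar
import Cfsg.Agent.Lib.H24.CharOrth
import Cfsg.Agent.Lib.H23.ClassProduct

/-!
# S3702 (helper7 + helper18 blueprint): definitions

`H ≅ 3^3 : S4 = N_{A9}(3^3)`, `J = O_3(H)`, `C_G(j) ≤ H` for `j ∈ J#`, `J` strongly closed in `H`
⇒ `G = H`.  See `tools/blueprints/S3702.md`.

* `HypTI M A G`: the generic datum of a TI-induction: a subgroup `N ≤ G` with an isomorphism
  `e : N ≃* M` such that the set `{d ∈ N | A (e d)}` is a TI set with normaliser `N` in the strong form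
  (`d` in the set, `g d g⁻¹ ∈ N` ⇒ `g ∈ N`).
* `M648`: the model of `H`: the affine monomial maps `(i, c) ↦ (p i, s_i c + v_i)` of `Fin 3 × ZMod 3`
  with `s_0 s_1 s_2 = sign p`, written constraint-free (`s_2` is computed), so that `decide`
  enumerates exactly `648` elements.
-/

set_option autoImplicit false

namespace Cfsg.Agent.Lib.H7.T648

open Cfsg

/-! ## the generic TI datum -/

/-- the generic datum of a TI-induction -/
structure HypTI (M : Type*) [Group M] (A : M → Prop) (G : Type*) [Group G] where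
  /-- the normaliser of the TI set -/
  N : Subgroup G
  /-- its identification with the model `M` -/
  e : ↥N ≃* M
  /-- the elements of type `A` of `N` form a TI set with normaliser `N` (strong form) -/
  ti : ∀ (g d : G) (hd : d ∈ N), A (e ⟨d, hd⟩) → g * d * g⁻¹ ∈ N → g ∈ N

namespace HypTI

variable {M : Type*} [Group M] {A : M → Prop} {G : Type*} [Group G] (h : HypTI M A G)

/-- the element of `G` with coordinates `s` -/
def el (s : M) : G := ((h.e.symm s : ↥h.N) : G)

/-- a function on `M` as a function on `N` -/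
def pull (f : M → ℂ) : ↥h.N → ℂ := fun n => f (h.e n)

theorem el_mem (s : M) : h.el s ∈ h.N := (h.e.symm s).2

theorem e_el (s : M) : h.e ⟨h.el s, h.el_mem s⟩ = s := by
  show h.e (h.e.symm s) = s
  exact h.e.apply_symm_apply s

theorem el_e (n : ↥h.N) : h.el (h.e n) = n := by
  show ((h.e.symm (h.e n) : ↥h.N) : G) = n
  rw [h.e.symm_apply_apply]

theorem el_mul (s t : M) : h.el (s * t) = h.el s * h.el t := by
  show ((h.e.symm (s * t) : ↥h.N) : G) = _
  rw [map_mul]; rfl

theorem el_one : h.el 1 = 1 := by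
  show ((h.e.symm 1 : ↥h.N) : G) = 1
  rw [map_one]; rfl

theorem el_inv (s : M) : h.el s⁻¹ = (h.el s)⁻¹ := by
  show ((h.e.symm s⁻¹ : ↥h.N) : G) = _
  rw [map_inv]; rfl

theorem el_pow (s : M) (k : ℕ) : h.el (s ^ k) = h.el s ^ k := by
  show ((h.e.symm (s ^ k) : ↥h.N) : G) = _
  rw [map_pow]; rfl

theorem el_injective : Function.Injective h.el := by
  intro s t hst
  have : h.e.symm s = h.e.symm t := Subtype.ext hst
  exact h.e.symm.injective this

/-- the TI property in terms of `el` -/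
theorem ti_el (g : G) (s : M) (hs : A s) (hg : g * h.el s * g⁻¹ ∈ h.N) : g ∈ h.N :=
  h.ti g (h.el s) (h.el_mem s) (by rw [h.e_el]; exact hs) hg

/-- the induced class function `Ind_N^G f` -/
noncomputable def Ind [Fintype G] (f : M → ℂ) : G → ℂ :=
  indFun h.N (h.pull f)

end HypTI

/-! ## the model `M648` -/

/-- the model of `3^3 : S4`: `v` the translation part, `a, b` the first two signs, `p` the permutation
of the three blocks -/
@[ext] structure M648 where
  /-- the translation part -/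
  v : Fin 3 → ZMod 3
  /-- the sign on block `0` -/
  a : ℤˣ
  /-- the sign on block `1` -/
  b : ℤˣ
  /-- the permutation of the blocks -/
  p : Equiv.Perm (Fin 3)
deriving DecidableEq, Fintype

/-- the sign vector of the data `(a, b, p)`: the third sign is `sign p * a * b` -/
def sgf (a b : ℤˣ) (p : Equiv.Perm (Fin 3)) : Fin 3 → ℤˣ :=
  ![a, b, Equiv.Perm.sign p * a * b]

namespace M648

/-- the sign vector -/
def sg (x : M648) : Fin 3 → ℤˣ := sgf x.a x.b x.p

/-- the sign vector with values in `ZMod 3` -/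
def sz (x : M648) (i : Fin 3) : ZMod 3 := (((x.sg i : ℤˣ) : ℤ) : ZMod 3)

instance : One M648 := ⟨⟨0, 1, 1, 1⟩⟩

instance : Mul M648 :=
  ⟨fun x y =>
    { v := fun i => x.sz (y.p i) * y.v i + x.v (y.p i)
      a := x.sg (y.p 0) * y.a
      b := x.sg (y.p 1) * y.b
      p := x.p * y.p }⟩

instance : Inv M648 :=
  ⟨fun x =>
    { v := fun j => -(x.sz (x.p⁻¹ j) * x.v (x.p⁻¹ j))
      a := x.sg (x.p⁻¹ 0)
      b := x.sg (x.p⁻¹ 1)
      p := x.p⁻¹ }⟩

@[simp] theorem one_v : (1 : M648).v = 0 := rfl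
@[simp] theorem one_a : (1 : M648).a = 1 := rfl
@[simp] theorem one_b : (1 : M648).b = 1 := rfl
@[simp] theorem one_p : (1 : M648).p = 1 := rfl
@[simp] theorem mul_v (x y : M648) (i : Fin 3) :
    (x * y).v i = x.sz (y.p i) * y.v i + x.v (y.p i) := rfl
@[simp] theorem mul_a (x y : M648) : (x * y).a = x.sg (y.p 0) * y.a := rfl
@[simp] theorem mul_b (x y : M648) : (x * y).b = x.sg (y.p 1) * y.b := rfl
@[simp] theorem mul_p (x y : M648) : (x * y).p = x.p * y.p := rfl
@[simp] theorem inv_v (x : M648) (j : Fin 3) :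
    (x⁻¹).v j = -(x.sz (x.p⁻¹ j) * x.v (x.p⁻¹ j)) := rfl
@[simp] theorem inv_a (x : M648) : (x⁻¹).a = x.sg (x.p⁻¹ 0) := rfl
@[simp] theorem inv_b (x : M648) : (x⁻¹).b = x.sg (x.p⁻¹ 1) := rfl
@[simp] theorem inv_p (x : M648) : (x⁻¹).p = x.p⁻¹ := rfl

end M648

/-- the sign vector is multiplicative (on the sign data alone, `576` cases) -/
theorem sgf_mul : ∀ (a b : ℤˣ) (p : Equiv.Perm (Fin 3)) (a' b' : ℤˣ) (p' : Equiv.Perm (Fin 3))
    (i : Fin 3),
    sgf (sgf a b p (p' 0) * a') (sgf a b p (p' 1) * b') (p * p') i =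
      sgf a b p (p' i) * sgf a' b' p' i := by
  decide

/-- the sign vector of the inverse -/
theorem sgf_inv : ∀ (a b : ℤˣ) (p : Equiv.Perm (Fin 3)) (i : Fin 3),
    sgf (sgf a b p (p⁻¹ 0)) (sgf a b p (p⁻¹ 1)) p⁻¹ i = sgf a b p (p⁻¹ i) := by
  decide

theorem sgf_sq : ∀ (a b : ℤˣ) (p : Equiv.Perm (Fin 3)) (i : Fin 3),
    sgf a b p i * sgf a b p i = 1 := by
  decide

theorem sgf_one (i : Fin 3) : sgf 1 1 1 i = 1 := by
  revert i; decide

namespace M648

theorem sg_mul (x y : M648) (i : Fin 3) : (x * y).sg i = x.sg (y.p i) * y.sg i :=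
  sgf_mul x.a x.b x.p y.a y.b y.p i

theorem sg_inv (x : M648) (i : Fin 3) : (x⁻¹).sg i = x.sg (x.p⁻¹ i) :=
  sgf_inv x.a x.b x.p i

theorem sg_one (i : Fin 3) : (1 : M648).sg i = 1 := sgf_one i

theorem sg_sq (x : M648) (i : Fin 3) : x.sg i * x.sg i = 1 := sgf_sq x.a x.b x.p i

theorem sz_mul (x y : M648) (i : Fin 3) : (x * y).sz i = x.sz (y.p i) * y.sz i := by
  unfold sz
  rw [sg_mul]
  push_cast
  rfl

theorem sz_inv (x : M648) (i : Fin 3) : (x⁻¹).sz i = x.sz (x.p⁻¹ i) := by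
  unfold sz
  rw [sg_inv]

theorem sz_one (i : Fin 3) : (1 : M648).sz i = 1 := by
  unfold sz
  rw [sg_one]
  simp

theorem sz_sq (x : M648) (i : Fin 3) : x.sz i * x.sz i = 1 := by
  unfold sz
  have h := x.sg_sq i
  have h2 : (((x.sg i * x.sg i : ℤˣ) : ℤ) : ZMod 3) = 1 := by rw [h]; simp
  rw [← h2]
  push_cast
  rfl

theorem sg_zero (x : M648) : x.sg 0 = x.a := rfl

theorem sg_one' (x : M648) : x.sg 1 = x.b := rfl

theorem sg_two (x : M648) : x.sg 2 = Equiv.Perm.sign x.p * x.a * x.b := rfl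

theorem pinv_apply (p : Equiv.Perm (Fin 3)) (i : Fin 3) : p⁻¹ (p i) = i := p.symm_apply_apply i

theorem papply_inv (p : Equiv.Perm (Fin 3)) (i : Fin 3) : p (p⁻¹ i) = i := p.apply_symm_apply i

instance : Group M648 where
  mul_assoc x y z := by
    apply M648.ext
    · funext i
      simp only [mul_v, mul_p, sz_mul, Equiv.Perm.coe_mul, Function.comp_apply]
      ring
    · simp only [mul_a, mul_p, sg_mul, Equiv.Perm.coe_mul, Function.comp_apply, mul_assoc]
    · simp only [mul_b, mul_p, sg_mul, Equiv.Perm.coe_mul, Function.comp_apply, mul_assoc]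
    · simp only [mul_p, mul_assoc]
  one := 1
  one_mul x := by
    apply M648.ext
    · funext i
      simp only [mul_v, sz_one, one_v, Pi.zero_apply, one_mul, add_zero]
    · simp only [mul_a, sg_one, one_mul]
    · simp only [mul_b, sg_one, one_mul]
    · simp only [mul_p, one_p, one_mul]
  mul_one x := by
    apply M648.ext
    · funext i
      simp only [mul_v, one_v, one_p, Pi.zero_apply, mul_zero, zero_add, Equiv.Perm.coe_one, id_eq]
    · simp only [mul_a, one_p, one_a, mul_one, Equiv.Perm.coe_one, id_eq, sg_zero]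
    · simp only [mul_b, one_p, one_b, mul_one, Equiv.Perm.coe_one, id_eq, sg_one']
    · simp only [mul_p, one_p, mul_one]
  inv_mul_cancel x := by
    apply M648.ext
    · funext i
      simp only [mul_v, inv_v, sz_inv, pinv_apply, one_v, Pi.zero_apply]
      ring
    · simp only [mul_a, sg_inv, pinv_apply, one_a]
      exact x.sg_sq 0
    · simp only [mul_b, sg_inv, pinv_apply, one_b]
      exact x.sg_sq 1
    · simp only [mul_p, one_p, inv_p, inv_mul_cancel]

/-- the data of an element -/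
def equivProd : M648 ≃ (Fin 3 → ZMod 3) × ℤˣ × ℤˣ × Equiv.Perm (Fin 3) where
  toFun x := (x.v, x.a, x.b, x.p)
  invFun t := ⟨t.1, t.2.1, t.2.2.1, t.2.2.2⟩
  left_inv _ := rfl
  right_inv _ := rfl

theorem card_eq : Nat.card M648 = 648 := by
  rw [Nat.card_congr equivProd, Nat.card_eq_fintype_card]
  simp only [Fintype.card_prod, Fintype.card_pi, ZMod.card, Finset.prod_const, Finset.card_univ,
    Fintype.card_fin, Fintype.card_units_int, Fintype.card_perm]
  rfl

theorem fintype_card_eq : Fintype.card M648 = 648 := by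
  rw [← Nat.card_eq_fintype_card, card_eq]

end M648

/-- `J = O_3(H)`: the translations -/
def J648 : Subgroup M648 where
  carrier := {x | x.a = 1 ∧ x.b = 1 ∧ x.p = 1}
  mul_mem' := by
    rintro x y ⟨hxa, hxb, hxp⟩ ⟨hya, hyb, hyp⟩
    refine ⟨?_, ?_, ?_⟩
    · simp only [M648.mul_a, hyp, hya, Equiv.Perm.coe_one, id_eq, M648.sg_zero, hxa, mul_one]
    · simp only [M648.mul_b, hyp, hyb, Equiv.Perm.coe_one, id_eq, M648.sg_one', hxb, mul_one]
    · simp only [M648.mul_p, hxp, hyp, mul_one]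
  one_mem' := ⟨rfl, rfl, rfl⟩
  inv_mem' := by
    rintro x ⟨hxa, hxb, hxp⟩
    refine ⟨?_, ?_, ?_⟩
    · simp only [M648.inv_a, hxp, inv_one, Equiv.Perm.coe_one, id_eq, M648.sg_zero, hxa]
    · simp only [M648.inv_b, hxp, inv_one, Equiv.Perm.coe_one, id_eq, M648.sg_one', hxb]
    · simp only [M648.inv_p, hxp, inv_one]

theorem mem_J648 {x : M648} : x ∈ J648 ↔ x.a = 1 ∧ x.b = 1 ∧ x.p = 1 := Iff.rfl

instance : DecidablePred (· ∈ J648) := fun x =>
  decidable_of_iff (x.a = 1 ∧ x.b = 1 ∧ x.p = 1) mem_J648.symm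

/-- the translation by `w` -/
def tr (w : Fin 3 → ZMod 3) : M648 := ⟨w, 1, 1, 1⟩

theorem tr_mem (w : Fin 3 → ZMod 3) : tr w ∈ J648 := ⟨rfl, rfl, rfl⟩

/-- the TI set: the elements `x` with `⟨x⟩ ∩ J ≠ 1` -/
def A648 (x : M648) : Prop := x ≠ 1 ∧ (x ∈ J648 ∨ (x ^ 3 ≠ 1 ∧ x ^ 4 ≠ 1))

instance : DecidablePred A648 := fun x => by unfold A648; infer_instance

/-- the datum of S3702 -/
abbrev Hyp648 (G : Type*) [Group G] := HypTI M648 A648 G

/-- the number of solutions of `s₁^g s₂^k = s` in `M648` -/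
def cnt648 (s1 s2 s : M648) : ℕ :=
  ∑ g : M648, ∑ k : M648, if (g * s1 * g⁻¹) * (k * s2 * k⁻¹) = s then 1 else 0

/-! ## the four generators and the action on nine points -/

/-- `(1 2 3)` -/
def gen1 : M648 := ⟨![1, 0, 0], 1, 1, 1⟩

/-- `(1 4 7)(2 5 8)(3 6 9)` -/
def gen2 : M648 := ⟨0, 1, 1, Equiv.swap 0 1 * Equiv.swap 1 2⟩

/-- `(1 2)(4 5)` -/
def gen3 : M648 := ⟨![1, 1, 0], -1, -1, 1⟩

/-- `(1 4)(2 5)(3 6)(7 8)` -/
def gen4 : M648 := ⟨![0, 0, 1], 1, 1, Equiv.swap 0 1⟩

/-- the action of `x` on a point `(i, c)` of `Fin 3 × ZMod 3` -/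
def M648.app (x : M648) (q : Fin 3 × ZMod 3) : Fin 3 × ZMod 3 :=
  (x.p q.1, x.sz q.1 * q.2 + x.v q.1)

theorem M648.app_mul (x y : M648) (q : Fin 3 × ZMod 3) : (x * y).app q = x.app (y.app q) := by
  unfold M648.app
  simp only [M648.mul_p, Equiv.Perm.coe_mul, Function.comp_apply, M648.sz_mul, M648.mul_v]
  refine Prod.ext rfl ?_
  show _ = _
  ring

theorem M648.app_one (q : Fin 3 × ZMod 3) : (1 : M648).app q = q := by
  unfold M648.app
  simp only [M648.one_p, Equiv.Perm.coe_one, id_eq, M648.sz_one, one_mul, M648.one_v,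
    Pi.zero_apply, add_zero]

/-- the action of `M648` on `Fin 3 × ZMod 3` as a homomorphism -/
def toPermProd : M648 →* Equiv.Perm (Fin 3 × ZMod 3) where
  toFun x :=
    { toFun := x.app
      invFun := x⁻¹.app
      left_inv := fun q => by rw [← M648.app_mul, inv_mul_cancel, M648.app_one]
      right_inv := fun q => by rw [← M648.app_mul, mul_inv_cancel, M648.app_one] }
  map_one' := by
    ext q : 1
    exact M648.app_one q
  map_mul' x y := by
    ext q : 1
    exact M648.app_mul x y q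

theorem toPermProd_apply (x : M648) (q : Fin 3 × ZMod 3) : toPermProd x q = x.app q := rfl

/-- the numbering `(i, c) ↦ 3 i + c` of the nine points -/
def pt9 : Fin 3 × ZMod 3 ≃ Fin 9 :=
  (Equiv.prodCongr (Equiv.refl (Fin 3)) (Equiv.refl (Fin 3))).trans finProdFinEquiv

/-- the action of `M648` on nine points -/
def toPerm9 : M648 →* Equiv.Perm (Fin 9) :=
  (pt9.permCongrHom.toMonoidHom).comp toPermProd

end Cfsg.Agent.Lib.H7.T648
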