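import Mathlib
import Cfsg.Agent.Lib.H7.T648Defs

/-!
# S3702: further definitions on the model `M648` (helper7 blueprint, tools/blueprints/S3702.md)
-/

set_option autoImplicit false

namespace Cfsg.Agent.Lib.H7.T648

open Cfsg

/-- the linear part `(a, b, p)` as an element (no translation) -/
def lin (a b : ℤˣ) (p : Equiv.Perm (Fin 3)) : M648 := ⟨0, a, b, p⟩

/-- the linear action of `x` on a translation vector: `x * tr w * x⁻¹ = tr (x.act w)` -/
def M648.act (x : M648) (w : Fin 3 → ZMod 3) : Fin 3 → ZMod 3 :=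
  fun i => x.sz (x.p⁻¹ i) * w (x.p⁻¹ i)

/-- the weight of an element: the number of nonzero coordinates of its translation part -/
def M648.wt (x : M648) : ℕ := (Finset.univ.filter (fun i => x.v i ≠ 0)).card

/-- the good elements of `J#`: weight `1` or `2` (classes `3A`, `3B`); their centralisers in `M648` have
the Sylow `3`-subgroup `J648` -/
def Good (t : M648) : Prop := t ∈ J648 ∧ t ≠ 1 ∧ ∃ i, t.v i = 0

instance : DecidablePred Good := fun t => by unfold Good; infer_instance

/-- `C(t)` contains an involution -/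
def inv2 (t : M648) : Prop := ∃ x : M648, x * t = t * x ∧ x ≠ 1 ∧ x ^ 2 = 1

/-- `C(t)` contains an element of order `4` -/
def inv4 (t : M648) : Prop := ∃ x : M648, x * t = t * x ∧ x ^ 2 ≠ 1 ∧ x ^ 4 = 1

instance : DecidablePred inv2 := fun t => by unfold inv2; infer_instance

instance : DecidablePred inv4 := fun t => by unfold inv4; infer_instance

/-- the local count: the number of pairs of linear parts `(l₁, l₂)` with `l₁ w₁ + l₂ w₂ = w` -/
def lcnt (w1 w2 w : Fin 3 → ZMod 3) : ℕ :=
  ∑ l1 : ℤˣ × ℤˣ × Equiv.Perm (Fin 3), ∑ l2 : ℤˣ × ℤˣ × Equiv.Perm (Fin 3),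
    if (lin l1.1 l1.2.1 l1.2.2).act w1 + (lin l2.1 l2.2.1 l2.2.2).act w2 = w then 1 else 0

end Cfsg.Agent.Lib.H7.T648
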