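import Mathlib
import Cfsg.Prelude.Def_OddOrderLocal
import Cfsg.Prelude.Def_CaseTheorems
import Cfsg.Prelude.Def_PLocal
import Cfsg.Agent.Lib.H19.R2Defs
import Cfsg.Agent.Lib.H22.UniqueOrderP

/-!
# S3888 piece K2A (helper7): `h2_quot_meta`.

Shortcut: either some `g` has `g ^ p ∈ Z ∖ 1` (then `Z ≤ ℧₁(G)`, so `|G : ℧₁(G)| = |G/Z : ℧₁(G/Z)| ≤ p²` and
Huppert applies), or every element of order `p` of `G ⧸ Z` lies in `N / Z` of order `p`, so `G ⧸ Z` has at
most one subgroup of order `p`, is cyclic, and `Z` itself witnesses that `G` is metacyclic.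
-/

set_option autoImplicit false

namespace Cfsg.Agent.Lib.H7.R2

open Cfsg Cfsg.Agent.Lib.H19.R2
open scoped commutatorElement

universe u

variable {p : ℕ} [Fact p.Prime] {G : Type u} [Group G] [Finite G]

/-- K2A. -/
theorem h2_quot_meta (hp2 : p ≠ 2) (hG : IsPGroup p G) {N : Subgroup G} (h : H2 p G N)
    (Z : Subgroup G) [Z.Normal] (hZN : Z ≤ N) (hZc : Z ≤ Subgroup.center G) (hZp : Nat.card Z = p)
    (hq : Cfsg.IsMetacyclic (G ⧸ Z))
    (hup : (agemo p G).index ≤ p ^ 2 → Cfsg.IsMetacyclic G)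
    (hupe : (agemo p (G ⧸ Z)).index ≤ p ^ 2) : Cfsg.IsMetacyclic G := by
  have hp : p.Prime := Fact.out
  by_cases hex : ∃ g : G, g ^ p ∈ Z ∧ g ^ p ≠ 1
  · obtain ⟨g, hgZ, hg1⟩ := hex
    have hZle : Z ≤ agemo p G := by
      intro z hz
      have hne : (⟨g ^ p, hgZ⟩ : ↥Z) ≠ 1 := fun hh => hg1 (congrArg Subtype.val hh)
      have hmem : (⟨z, hz⟩ : ↥Z) ∈ Subgroup.zpowers (⟨g ^ p, hgZ⟩ : ↥Z) :=
        mem_zpowers_of_prime_card hZp hne
      obtain ⟨k, hk⟩ := Subgroup.mem_zpowers_iff.1 hmem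
      have hk' : (g ^ p) ^ k = z := by
        have := congrArg Subtype.val hk
        simpa using this
      rw [← hk']
      exact (agemo p G).zpow_mem (pow_mem_agemo p g) k
    apply hup
    have hidx := Subgroup.index_map_eq (f := QuotientGroup.mk' Z) (H := agemo p G)
      (QuotientGroup.mk'_surjective Z) (by rw [QuotientGroup.ker_mk']; exact hZle)
    rw [map_agemo_of_surjective _ (QuotientGroup.mk'_surjective Z)] at hidx
    rw [← hidx]; exact hupe
  · push Not at hex
    -- the image of `N` in `G ⧸ Z` has order `p`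
    have hNbar : Nat.card ↥(N.map (QuotientGroup.mk' Z)) = p := by
      rw [← Subgroup.relIndex_ker, QuotientGroup.ker_mk']
      have h1 := Subgroup.relIndex_mul_relIndex (H := (⊥ : Subgroup G)) (K := Z) (L := N) bot_le hZN
      rw [Subgroup.relIndex_bot_left, Subgroup.relIndex_bot_left, hZp, h.1.card, pow_two] at h1
      exact Nat.eq_of_mul_eq_mul_left hp.pos h1
    have hmem : ∀ x : G ⧸ Z, x ^ p = 1 → x ∈ N.map (QuotientGroup.mk' Z) := by
      intro x hx
      obtain ⟨g, rfl⟩ := QuotientGroup.mk_surjective x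
      rw [← QuotientGroup.mk_pow, QuotientGroup.eq_one_iff] at hx
      have hg1 : g ^ p = 1 := hex g hx
      exact ⟨g, h.2 g hg1, rfl⟩
    have hle : ∀ H : Subgroup (G ⧸ Z), Nat.card H = p → H = N.map (QuotientGroup.mk' Z) := by
      intro H hH
      apply Subgroup.eq_of_le_of_card_ge
      · intro x hx
        apply hmem
        have : (⟨x, hx⟩ : ↥H) ^ Nat.card ↥H = 1 := pow_card_eq_one'
        rw [hH] at this
        exact congrArg Subtype.val this
      · rw [hNbar, hH]
    have hcyc : IsCyclic (G ⧸ Z) :=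
      Cfsg.Agent.Lib.H22.isCyclic_of_atMostOne_of_odd hp2 (Nat.card (G ⧸ Z)) (G ⧸ Z) rfl
        (hG.to_quotient Z) (fun H K hH hK => (hle H hH).trans (hle K hK).symm)
    exact ⟨Z, inferInstance, isCyclic_of_prime_card hZp, hcyc⟩

end Cfsg.Agent.Lib.H7.R2
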