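import Cfsg.Agent.Lib.H7.S3814Defs

/-!
# S3814 : cut, level 2 (helper7, architect)

Sub-cut of `DichotomyStmt` (frame C) and of `ShapeIStmt` (frames D/E), with compiled assemblies.
-/

namespace Cfsg.Agent.H7.S3814Defs

universe u

/-! ## Frame A/C : (F2), normal subgroups are Sylow, the dichotomy -/

/-- PIECE F2: in a counterexample every prime `t ∈ σ` has a `C_t × C_t`
(Lucido in `C_G(x)` + "unique subgroup of order `t` in a Sylow ⇒ all conjugate"). -/
def F2Stmt : Prop :=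
  ∀ (G : Type u) [Group G] (σ : Finset ℕ), IsCex G σ → ∀ t ∈ σ, Rank2 (⊤ : Subgroup G) t

/-- PIECE R2IDX (tool, Sylow): `C_t × C_t` moves into any subgroup of index prime to `t`. -/
def Rank2IndexStmt : Prop :=
  ∀ (G : Type u) [Group G] [Finite G] (K : Subgroup G) (t : ℕ), t.Prime →
    Rank2 (⊤ : Subgroup G) t → ¬ t ∣ K.index → Rank2 K t

/-- PIECE NSYL (helper25 (1)): in a minimal counterexample every nontrivial normal `a`-subgroup
is a full Sylow `a`-subgroup.  [`H` Hall `a'`-subgroup; `N ⊔ H` has (J): pairs inside `a'` by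
Hall containment + conjugacy, pairs `{a,t}` by coprime generation (S0058) of `N` under a
`C_t × C_t ≤ H`; so `N ⊔ H = ⊤` by `MinSub`.] -/
def NormalSylowStmt : Prop :=
  ∀ (G : Type u) [Group G] (σ : Finset ℕ), IsCex G σ → MinSub G σ →
    ∀ (a : ℕ) (N : Subgroup G), a.Prime → N.Normal → N ≠ ⊥ → IsPGroup a N → ¬ a ∣ N.index

/-- PIECE NSTRUCT: hence such an `N` is elementary abelian and minimal normal
(centre and `Ω₁` are characteristic, nontrivial, hence Sylow as well, hence everything). -/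
def NormalStructStmt : Prop :=
  NormalSylowStmt.{u} →
  ∀ (G : Type u) [Group G] (σ : Finset ℕ), IsCex G σ → MinSub G σ →
    ∀ (a : ℕ) (N : Subgroup G), a.Prime → N.Normal → N ≠ ⊥ → IsPGroup a N →
      ElemAb a N ∧ ∀ N' : Subgroup G, N'.Normal → N' ≤ N → N' = ⊥ ∨ N' = N

/-- PIECE DICH-ASM: the dichotomy from the two facts above
(set of primes `t` with `O_t(G) ≠ 1` has 1 or 2 elements; Hall complements; `C_G(F) ≤ F`). -/
def DichAsmStmt : Prop :=
  NormalSylowStmt.{u} → NormalStructStmt.{u} → DichotomyStmt.{u}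

theorem dichotomy (h1 : NormalSylowStmt.{u}) (h2 : NormalStructStmt.{u})
    (h3 : DichAsmStmt.{u}) : DichotomyStmt.{u} := h3 h1 h2

/-! ## Frames D/E : shape (I) -/

variable {G : Type u} [Group G]

/-- The facts inside `K` shared by Case 1 and Case 2' (board: (N1), (J1), (J2), (F2)). -/
structure KFacts (σ : Finset ℕ) (p : ℕ) (V K : Subgroup G) : Prop where
  /-- the primes of `|K|` lie in `σ \ {p}` -/
  primes : ∀ t : ℕ, t.Prime → t ∣ Nat.card K → t ∈ σ ∧ t ≠ p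
  /-- (N1) elements of mixed order are fixed-point-free on `V` -/
  n1 : ∀ x ∈ K, ∀ t ∈ σ, ∀ t' ∈ σ, t ≠ p → t' ≠ p → t ≠ t' → t * t' ∣ orderOf x → Fpf x V
  /-- (J1) a good element of each prime order -/
  j1 : ∀ t ∈ σ, t ≠ p → ∃ x ∈ K, orderOf x = t ∧ ¬ Fpf x V
  /-- (J2) elements of each mixed order -/
  j2 : ∀ t ∈ σ, ∀ t' ∈ σ, t ≠ p → t' ≠ p → t ≠ t' → ∃ x ∈ K, orderOf x = t * t'
  /-- (F2) `K` contains `C_t × C_t` -/
  f2 : ∀ t ∈ σ, t ≠ p → Rank2 K t

/-- PIECE KFACTS. -/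
def KFactsStmt : Prop :=
  F2Stmt.{u} → Rank2IndexStmt.{u} →
  ∀ (G : Type u) [Group G] (σ : Finset ℕ), IsCex G σ →
    ∀ (p : ℕ) (V K : Subgroup G), ShapeI σ p V K → KFacts σ p V K

/-- PIECE SPLIT (pure group theory): either `K` has a normal elementary abelian subgroup of
rank `≥ 2`, or every normal abelian subgroup of `K` is cyclic.
[`M` normal abelian noncyclic ⇒ some Sylow `c`-subgroup `M_c` noncyclic ⇒ `Ω₁(M_c)`.] -/
def CaseSplitStmt : Prop :=
  ∀ (G : Type u) [Group G] [Finite G] (K : Subgroup G),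
    (∃ (c : ℕ) (M : Subgroup G), c.Prime ∧ M ≤ K ∧ K ≤ Subgroup.normalizer (M : Set G) ∧
      ElemAb c M ∧ c ^ 2 ∣ Nat.card M) ∨
    (∀ M : Subgroup G, M ≤ K → K ≤ Subgroup.normalizer (M : Set G) →
      (∀ x ∈ M, ∀ y ∈ M, x * y = y * x) → IsCyclic M)

/-- BLOCK CASE 1 (helper27 (1.1)-(1.13)). -/
def Case1Stmt : Prop :=
  ∀ (G : Type u) [Group G] (σ : Finset ℕ), IsCex G σ → MinSub G σ →
    ∀ (p : ℕ) (V K : Subgroup G), ShapeI σ p V K → KFacts σ p V K →
    ∀ (c : ℕ) (M : Subgroup G), c.Prime → M ≤ K → K ≤ Subgroup.normalizer (M : Set G) →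
      ElemAb c M → c ^ 2 ∣ Nat.card M → False

/-- BLOCK CASE 2' (helper15 #9912 + #9916 / helper28 #9922). -/
def Case2Stmt : Prop :=
  ∀ (G : Type u) [Group G] (σ : Finset ℕ), IsCex G σ → MinSub G σ →
    ∀ (p : ℕ) (V K : Subgroup G), ShapeI σ p V K → KFacts σ p V K →
    (∀ M : Subgroup G, M ≤ K → K ≤ Subgroup.normalizer (M : Set G) →
      (∀ x ∈ M, ∀ y ∈ M, x * y = y * x) → IsCyclic M) → False

/-- Assembly of shape (I). -/
theorem shapeI (hF2 : F2Stmt.{u}) (hR : Rank2IndexStmt.{u}) (hK : KFactsStmt.{u})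
    (hS : CaseSplitStmt.{u}) (h1 : Case1Stmt.{u}) (h2 : Case2Stmt.{u}) : ShapeIStmt.{u} := by
  intro G _ σ hG hmin p V K hI
  have := hG.fin
  have hKF := hK hF2 hR G σ hG p V K hI
  rcases hS G K with ⟨c, M, hc, hMK, hMn, hMe, hM2⟩ | hcyc
  · exact h1 G σ hG hmin p V K hI hKF c M hc hMK hMn hMe hM2
  · exact h2 G σ hG hmin p V K hI hKF hcyc

end Cfsg.Agent.H7.S3814Defs
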