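import Mathlib
import Cfsg.Agent.Lib.H23.BlockVanish
import Cfsg.Agent.Lib.H23.BlockPrincipal
import Cfsg.Agent.Lib.H23.BurnsidePQ
import Cfsg.Agent.Lib.L0.PRegCongP
import Cfsg.Agent.Lib.L0.CharLinear
import Cfsg.Agent.Lib.H1.IndexBasic
import Cfsg.Agent.Lib.H7.CoprimeFactor
import Cfsg.Agent.Lib.H24.CharBasic
import Cfsg.Agent.S0142

/-!
# Kazarin's theorem (helper7)

An element whose conjugacy class has prime power size has a solvable normal closure.

Proof: minimal counterexample has `G = ⟨x^G⟩`; one may assume `x` has prime power order `q^e`.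
For a prime `r ∉ {p, q}` dividing `|G'|`, weak block orthogonality in the principal `r`-block
between `1` and an element of order `r` of `G'`, together with Burnside's lemma
(`χ(x) = 0` or `x ∈ Z(χ)` when `p ∤ χ(1)`), gives `1 + p α = 0`, a contradiction.  So `G'` is a
`{p, q}`-group, solvable by Burnside.

* `isSolvable_normalClosure`: the theorem in centralizer-index form.
-/

set_option autoImplicit false
set_option linter.style.haveILetI false
set_option linter.unusedSectionVars false

namespace Cfsg.Agent.Lib.H7.Kaz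

open Cfsg Module Cfsg.Agent.Lib.H23
open scoped ComplexConjugate

universe u


open Cfsg Module
open scoped ComplexConjugate

section Scalar

variable {G : Type*} [Group G] {V : Type*} [AddCommGroup V] [Module ℂ V]

/-- If `ρ x` is a scalar then `ρ g` is a scalar for every `g` in the normal closure of `x`. -/
theorem exists_scalar_of_mem_normalClosure (ρ : Representation ℂ G V) (x : G)
    (hx : ∃ c : ℂ, ρ x = c • 1) :
    ∀ g ∈ Subgroup.normalClosure ({x} : Set G), ∃ c : ℂ, ρ g = c • 1 := by
  intro g hg
  unfold Subgroup.normalClosure at hg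
  induction hg using Subgroup.closure_induction with
  | mem y hy =>
    obtain ⟨c, hc⟩ := hx
    rw [Group.mem_conjugatesOfSet_iff] at hy
    obtain ⟨a, ha, hay⟩ := hy
    rw [Set.mem_singleton_iff] at ha
    subst ha
    obtain ⟨u, hu⟩ := isConj_iff.1 hay
    refine ⟨c, ?_⟩
    rw [← hu, map_mul, map_mul, hc, mul_smul_comm, mul_one, smul_mul_assoc, ← map_mul,
      mul_inv_cancel, map_one]
  | one => exact ⟨1, by simp⟩
  | mul a b _ _ ha hb =>
    obtain ⟨c, hc⟩ := ha
    obtain ⟨d, hd⟩ := hb
    exact ⟨c * d, by rw [map_mul, hc, hd, smul_mul_smul_comm, mul_one]⟩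
  | inv a _ ha =>
    obtain ⟨c, hc⟩ := ha
    have key : (1 : V →ₗ[ℂ] V) = c • ρ a⁻¹ := by
      have := map_mul ρ a⁻¹ a
      rw [inv_mul_cancel, map_one, hc, mul_smul_comm, mul_one] at this
      exact this
    by_cases h0 : c = 0
    · refine ⟨0, ?_⟩
      rw [h0, zero_smul] at key
      rw [zero_smul, ← mul_one (ρ a⁻¹), key, mul_zero]
    · refine ⟨c⁻¹, ?_⟩
      rw [key, smul_smul, inv_mul_cancel₀ h0, one_smul]

end Scalar



open Cfsg Module Cfsg.Agent.Lib.H23
open scoped ComplexConjugate

section Roots

variable {r : ℕ} {M : Ideal AlgInt}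

/-- A root of unity of order prime to `r` that is congruent to `1` modulo an `r`-modular ideal
equals `1`. -/
theorem eq_one_of_pow_eq_one_of_memLocalIdeal (hM : IsPModular r M) {ζ : ℂ} {N : ℕ}
    (hN : ζ ^ N = 1) (hrN : ¬ r ∣ N) (hζ : MemLocalIdeal M (1 - ζ)) : ζ = 1 := by
  haveI hP := isPrime_of_isPModular hM
  by_contra hne
  have hN0 : N ≠ 0 := fun h => hrN (h ▸ dvd_zero r)
  have hint : IsIntegral ℤ ζ := by
    refine ⟨Polynomial.X ^ N - 1, Polynomial.monic_X_pow_sub_C 1 hN0, ?_⟩
    simp [hN]
  have hgeom : ∑ j ∈ Finset.range N, ζ ^ j = 0 := by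
    have h := geom_sum_mul ζ N
    rw [hN, sub_self] at h
    rcases mul_eq_zero.1 h with h | h
    · exact h
    · exact absurd (sub_eq_zero.1 h) hne
  have hsum : (N : ℂ) = ∑ j ∈ Finset.range N, (1 - ζ ^ j) := by
    rw [Finset.sum_sub_distrib, hgeom, sub_zero]
    simp
  have hterm : ∀ j : ℕ, MemLocalIdeal M (1 - ζ ^ j) := by
    intro j
    have h := geom_sum_mul ζ j
    have h2 : 1 - ζ ^ j = (1 - ζ) * ∑ i ∈ Finset.range j, ζ ^ i := by
      rw [mul_comm]
      linear_combination h
    rw [h2]
    refine memLocalIdeal_mul_right hζ (isIntegral_mem_localRing ?_)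
    exact IsIntegral.sum _ (fun i _ => hint.pow i)
  have hmem : MemLocalIdeal M (N : ℂ) := by
    rw [hsum]
    exact memLocalIdeal_sum _ _ (fun j _ => hterm j)
  exact hrN ((natCast_memLocalIdeal_iff hM N).1 hmem)

end Roots



open Cfsg Module Cfsg.Agent.Lib.H23
open scoped ComplexConjugate

section Main

variable {G : Type*} [Group G] [Finite G]

/-- A linear irreducible character taking the value `1` at a normal generator is trivial. -/
theorem eq_trivialIrr_of_linear (x : G) (hgen : Subgroup.normalClosure ({x} : Set G) = ⊤)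
    (χ : IrrCharacter G) (h1 : (χ : G → ℂ) 1 = 1) (hx : (χ : G → ℂ) x = 1) :
    χ = Cfsg.Agent.Lib.H24.trivialIrr G := by
  have hχ := Cfsg.Agent.Lib.L0.isCharacter_of_irr χ.2
  set f := Cfsg.Agent.Lib.L0.linearCharHom hχ h1 with hf
  have hxk : x ∈ f.ker := by
    rw [MonoidHom.mem_ker]
    apply Units.ext
    rw [Cfsg.Agent.Lib.L0.linearCharHom_apply, hx]
    rfl
  have hle : Subgroup.normalClosure ({x} : Set G) ≤ f.ker :=
    Subgroup.normalClosure_le_normal (Set.singleton_subset_iff.2 hxk)
  rw [hgen] at hle
  apply Subtype.ext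
  funext g
  have hg : g ∈ f.ker := hle (Subgroup.mem_top g)
  rw [MonoidHom.mem_ker] at hg
  have h2 : ((f g : ℂˣ) : ℂ) = 1 := by rw [hg]; rfl
  have h3 : ((f g : ℂˣ) : ℂ) = (χ : G → ℂ) g := rfl
  rw [← h3, h2]
  rfl

/-- A linear character is trivial on the commutator subgroup. -/
theorem linear_eq_one_of_mem_commutator (χ : IrrCharacter G) (h1 : (χ : G → ℂ) 1 = 1)
    {g : G} (hg : g ∈ commutator G) : (χ : G → ℂ) g = 1 := by
  have hχ := Cfsg.Agent.Lib.L0.isCharacter_of_irr χ.2
  set f := Cfsg.Agent.Lib.L0.linearCharHom hχ h1 with hf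
  have hgk : g ∈ f.ker := Abelianization.commutator_subset_ker f hg
  rw [MonoidHom.mem_ker] at hgk
  have h2 : ((f g : ℂˣ) : ℂ) = 1 := by rw [hgk]; rfl
  have h3 : ((f g : ℂˣ) : ℂ) = (χ : G → ℂ) g := rfl
  rw [← h3, h2]

/-- Core of Kazarin's theorem: if `x` normally generates `G`, has `p`-power class size and
`q`-power order, then no prime other than `p`, `q` divides the order of the derived subgroup. -/
theorem not_dvd_card_commutator (x : G) {p q r : ℕ} (hp : p.Prime) (hr : r.Prime) (k e : ℕ)
    (hcl : (Subgroup.centralizer ({x} : Set G)).index = p ^ k)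
    (hord : orderOf x = q ^ e)
    (hgen : Subgroup.normalClosure ({x} : Set G) = ⊤)
    (hrp : r ≠ p) (hrq : ¬ r ∣ q ^ e) : ¬ r ∣ Nat.card (commutator G) := by
  classical
  intro hdvd
  haveI := Fintype.ofFinite G
  haveI := Fintype.ofFinite (IrrCharacter G)
  haveI : Fact r.Prime := ⟨hr⟩
  obtain ⟨g', hg'⟩ := exists_prime_orderOf_dvd_card' r hdvd
  have hgord : orderOf (g' : G) = r := by rw [Subgroup.orderOf_coe]; exact hg'
  have hgc : (g' : G) ∈ commutator G := g'.2
  generalize (g' : G) = g at hgord hgc
  obtain ⟨M, hM⟩ := Cfsg.Agent.Lib.L0.PRegP.exists_isPModular hr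
  haveI hP := isPrime_of_isPModular hM
  have hp0 : (p : ℂ) ≠ 0 := Nat.cast_ne_zero.2 hp.ne_zero
  have horth := weak_block_orthogonality hM (Cfsg.Agent.Lib.H24.trivialIrr G) (1 : G) g
    (by rw [orderOf_one]; exact fun h => hr.one_lt.ne' (Nat.dvd_one.1 h)) (by rw [hgord])
  have hnotmem : ¬ MemLocalIdeal M ((p : ℂ) ^ k) := by
    intro h
    have h2 : MemLocalIdeal M (((p ^ k : ℕ) : ℂ)) := by push_cast; exact h
    have h3 := (natCast_memLocalIdeal_iff hM (p ^ k)).1 h2
    exact hrp ((Nat.prime_dvd_prime_iff_eq hr hp).1 (hr.dvd_of_dvd_pow h3))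
  -- termwise integrality
  have hterm : ∀ χ : IrrCharacter G, IsIntegral ℤ
      (((if χ ∈ blockOf M ((Cfsg.Agent.Lib.H24.trivialIrr G : IrrCharacter G) : G → ℂ) then
        (χ : G → ℂ) 1 * conj ((χ : G → ℂ) g) else 0) -
        (if χ = Cfsg.Agent.Lib.H24.trivialIrr G then 1 else 0)) / (p : ℂ)) := by
    intro χ
    by_cases hχB : χ ∈ blockOf M ((Cfsg.Agent.Lib.H24.trivialIrr G : IrrCharacter G) : G → ℂ)
    · rw [if_pos hχB]
      obtain ⟨n, ρ, hirr, hρ⟩ := χ.2
      haveI : ρ.IsIrreducible := hirr
      have hdeg : (χ : G → ℂ) 1 = (n : ℂ) := by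
        rw [← hρ, Representation.char_one, Module.finrank_fin_fun]
      have hgint : IsIntegral ℤ (conj ((χ : G → ℂ) g)) := by
        have hint : IsIntegral ℤ ((χ : G → ℂ) g) :=
          Cfsg.Agent.Lib.L0.isCharacter_isIntegral (Cfsg.Agent.Lib.L0.isCharacter_of_irr χ.2) g
        have := hint.map (Complex.conjAe.toAlgHom.restrictScalars ℤ)
        simpa using this
      by_cases hpn : p ∣ n
      · have hne : χ ≠ Cfsg.Agent.Lib.H24.trivialIrr G := by
          intro h
          have h1 : (χ : G → ℂ) 1 = 1 := by rw [h]; rfl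
          rw [hdeg] at h1
          have h2 : n = 1 := by exact_mod_cast h1
          rw [h2] at hpn
          exact hp.one_lt.ne' (Nat.dvd_one.1 hpn)
        rw [if_neg hne, sub_zero, hdeg]
        obtain ⟨m, rfl⟩ := hpn
        have h3 : ((p * m : ℕ) : ℂ) * conj ((χ : G → ℂ) g) / (p : ℂ) =
            (m : ℂ) * conj ((χ : G → ℂ) g) := by
          push_cast
          field_simp
        rw [h3]
        exact (isIntegral_algebraMap (R := ℤ) (x := (m : ℤ))).mul hgint |> fun h => by simpa using h
      · have hcop : Nat.Coprime (finrank ℂ (Fin n → ℂ))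
            (Subgroup.centralizer ({x} : Set G)).index := by
          rw [hcl, Module.finrank_fin_fun]
          exact Nat.Coprime.pow_right k ((Nat.Prime.coprime_iff_not_dvd hp).2 hpn).symm
        have hsb : SameBlock M ((Cfsg.Agent.Lib.H24.trivialIrr G : IrrCharacter G) : G → ℂ)
            (χ : G → ℂ) := hχB
        have hsbx := hsb x
        have hc0 : centralChar ((Cfsg.Agent.Lib.H24.trivialIrr G : IrrCharacter G) : G → ℂ) x =
            (p : ℂ) ^ k := by
          unfold centralChar
          rw [hcl]
          simp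
        rw [hc0] at hsbx
        rcases Cfsg.Agent.S0142.result ρ x hcop with h0 | hn
        · exfalso
          have hcx : centralChar (χ : G → ℂ) x = 0 := by
            unfold centralChar
            rw [← hρ, h0]
            simp
          rw [hcx, sub_zero] at hsbx
          exact hnotmem hsbx
        · obtain ⟨c, hc⟩ := (Cfsg.Agent.Lib.L0.norm_char_eq_finrank_iff ρ x).1 hn
          have hn1 : finrank ℂ (Fin n → ℂ) = 1 := by
            apply finrank_eq_one_of_forall_smul ρ
            intro y
            exact exists_scalar_of_mem_normalClosure ρ x ⟨c, hc⟩ y (hgen ▸ Subgroup.mem_top y)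
          rw [Module.finrank_fin_fun] at hn1
          have hdeg1 : (χ : G → ℂ) 1 = 1 := by rw [hdeg, hn1]; simp
          -- the value at x
          have hcx : centralChar (χ : G → ℂ) x = (p : ℂ) ^ k * (χ : G → ℂ) x := by
            unfold centralChar
            rw [hcl, hdeg1]
            simp
          rw [hcx] at hsbx
          have hmul : MemLocalIdeal M ((p : ℂ) ^ k * (1 - (χ : G → ℂ) x)) := by
            have : (p : ℂ) ^ k * (1 - (χ : G → ℂ) x) = (p : ℂ) ^ k - (p : ℂ) ^ k * (χ : G → ℂ) x := by
              ring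
            rw [this]
            exact hsbx
          have hpk : MemLocalRing M ((p : ℂ) ^ k) := by
            have : MemLocalRing M (((p ^ k : ℕ) : ℂ)) := natCast_mem_localRing _
            simpa using this
          have h1x := memLocalIdeal_of_mul hpk hnotmem hmul
          have hχc := Cfsg.Agent.Lib.L0.isCharacter_of_irr χ.2
          have hpow : (χ : G → ℂ) x ^ (q ^ e) = 1 := by
            have h5 : ∀ m : ℕ, (χ : G → ℂ) (x ^ m) = (χ : G → ℂ) x ^ m := by
              intro m
              induction m with
              | zero => rw [pow_zero, pow_zero, hdeg1]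
              | succ m ih =>
                rw [pow_succ, Cfsg.Agent.Lib.L0.linear_char_mul hχc hdeg1, ih, pow_succ]
            rw [← h5, ← hord, pow_orderOf_eq_one, hdeg1]
          have hx1 := eq_one_of_pow_eq_one_of_memLocalIdeal hM hpow hrq h1x
          have htriv := eq_trivialIrr_of_linear x hgen χ hdeg1 hx1
          rw [if_pos htriv, hdeg1, linear_eq_one_of_mem_commutator χ hdeg1 hgc]
          simp only [map_one, mul_one, sub_self, zero_div]
          exact isIntegral_zero
    · have hne : χ ≠ Cfsg.Agent.Lib.H24.trivialIrr G := by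
        intro h
        apply hχB
        rw [h]
        exact sameBlock_refl (M := M) _
      rw [if_neg hχB, if_neg hne]
      simp only [sub_self, zero_div]
      exact isIntegral_zero
  have hsum : IsIntegral ℤ (∑ χ : IrrCharacter G,
      (((if χ ∈ blockOf M ((Cfsg.Agent.Lib.H24.trivialIrr G : IrrCharacter G) : G → ℂ) then
        (χ : G → ℂ) 1 * conj ((χ : G → ℂ) g) else 0) -
        (if χ = Cfsg.Agent.Lib.H24.trivialIrr G then 1 else 0)) / (p : ℂ))) :=
    IsIntegral.sum _ (fun χ _ => hterm χ)
  rw [← Finset.sum_div, Finset.sum_sub_distrib, horth,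
    Finset.sum_ite_eq' Finset.univ (Cfsg.Agent.Lib.H24.trivialIrr G) (fun _ => (1 : ℂ)),
    if_pos (Finset.mem_univ _)] at hsum
  exact not_isIntegral_neg_one_div_prime hp hsum

end Main



open Cfsg Module Cfsg.Agent.Lib.H23

/-- A natural number all of whose prime divisors are `p` or `q` is of the form `p ^ a * q ^ b`. -/
theorem exists_eq_pow_mul_pow {p q n : ℕ} (hp : p.Prime) (hn : n ≠ 0)
    (h : ∀ r : ℕ, r.Prime → r ∣ n → r = p ∨ r = q) : ∃ a b : ℕ, n = p ^ a * q ^ b := by
  obtain ⟨a, m, hm, rfl⟩ := Nat.exists_eq_pow_mul_and_not_dvd hn p hp.ne_one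
  have hm0 : m ≠ 0 := fun h0 => hn (by rw [h0, mul_zero])
  refine ⟨a, m.primeFactorsList.length, ?_⟩
  congr 1
  apply Nat.eq_prime_pow_of_unique_prime_dvd hm0
  intro d hd hdm
  rcases h d hd (Dvd.dvd.mul_left hdm _) with h1 | h1
  · exact absurd (h1 ▸ hdm) hm
  · exact h1

section Main

variable {G : Type*} [Group G] [Finite G]

/-- Main case of Kazarin's theorem. -/
theorem isSolvable_of_normalClosure_eq_top (x : G) {p q : ℕ} (hp : p.Prime) (hq : q.Prime)
    (k e : ℕ) (hcl : (Subgroup.centralizer ({x} : Set G)).index = p ^ k)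
    (hord : orderOf x = q ^ e) (hgen : Subgroup.normalClosure ({x} : Set G) = ⊤) :
    Group.IsSolvable G := by
  have hcard : ∃ a b : ℕ, Nat.card (commutator G) = p ^ a * q ^ b := by
    apply exists_eq_pow_mul_pow hp Nat.card_pos.ne'
    intro r hr hdvd
    by_contra hne
    push Not at hne
    apply not_dvd_card_commutator x hp hr k e hcl hord hgen hne.1 _ hdvd
    intro h
    exact hne.2 ((Nat.prime_dvd_prime_iff_eq hr hq).1 (hr.dvd_of_dvd_pow h))
  obtain ⟨a, b, hab⟩ := hcard
  have hsol : Group.IsSolvable (commutator G) :=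
    isSolvable_of_card_eq_prime_pow_mul_prime_pow p q a b hp hq hab
  refine Group.isSolvable_of_ker_le_range (commutator G).subtype (Abelianization.of (G := G)) ?_
  rw [Abelianization.ker_of, Subgroup.range_subtype]

end Main



open Cfsg Module Cfsg.Agent.Lib.H23


/-- The centralizer in a normal subgroup `N` of an element of `N` has index dividing the index of
the centralizer in `G`. -/
theorem index_centralizer_subgroup_dvd {G : Type*} [Group G] [Finite G] (N : Subgroup G) [N.Normal]
    (y : N) : (Subgroup.centralizer ({y} : Set N)).index ∣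
      (Subgroup.centralizer ({(y : G)} : Set G)).index := by
  have h1 : Subgroup.centralizer ({y} : Set N) =
      (Subgroup.centralizer ({(y : G)} : Set G)).subgroupOf N := by
    ext z
    rw [Subgroup.mem_subgroupOf, Subgroup.mem_centralizer_iff, Subgroup.mem_centralizer_iff]
    constructor
    · intro h w hw
      rw [Set.mem_singleton_iff] at hw
      subst hw
      have := h y (Set.mem_singleton y)
      exact congrArg Subtype.val this
    · intro h w hw
      rw [Set.mem_singleton_iff] at hw
      subst hw
      apply Subtype.ext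
      exact h (w : G) (Set.mem_singleton _)
  rw [h1]
  exact Cfsg.Agent.Lib.H1.relIndex_dvd_index_of_normal_right _ N

/-- A finite join of solvable subgroups of `N`, each normalized by `N`, is solvable. -/
theorem isSolvable_finset_sup {G : Type*} [Group G] {ι : Type*} (N : Subgroup G)
    (Z : ι → Subgroup G) (hZN : ∀ i, Z i ≤ N) (hnorm : ∀ i, N ≤ Subgroup.normalizer (Z i : Set G))
    (hsol : ∀ i, Group.IsSolvable (Z i)) (s : Finset ι) :
    Group.IsSolvable (s.sup Z : Subgroup G) ∧ (s.sup Z : Subgroup G) ≤ N := by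
  classical
  induction s using Finset.induction_on with
  | empty =>
    rw [Finset.sup_empty]
    exact ⟨inferInstance, bot_le⟩
  | insert i s _ ih =>
    rw [Finset.sup_insert]
    exact ⟨Cfsg.Agent.Lib.H7.isSolvable_sup_of_le_normalizer (ih.2.trans (hnorm i)) (hsol i) ih.1,
      sup_le (hZN i) ih.2⟩

/-- Kazarin's theorem for elements of prime power order, inductive form. -/
theorem isSolvable_normalClosure_aux {p q : ℕ} (hp : p.Prime) (hq : q.Prime) :
    ∀ (n : ℕ) (G : Type u) [Group G] [Finite G], Nat.card G = n → ∀ (x : G) (k e : ℕ),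
      (Subgroup.centralizer ({x} : Set G)).index = p ^ k → orderOf x = q ^ e →
      Group.IsSolvable (Subgroup.normalClosure ({x} : Set G)) := by
  intro n
  induction n using Nat.strong_induction_on with
  | _ n ih =>
    intro G _ _ hn x k e hcl hord
    classical
    haveI := Fintype.ofFinite G
    by_cases htop : Subgroup.normalClosure ({x} : Set G) = ⊤
    · have := isSolvable_of_normalClosure_eq_top x hp hq k e hcl hord htop
      exact Group.isSolvable_of_isSolvable_injective
        (f := (Subgroup.normalClosure ({x} : Set G)).subtype) (Subgroup.subtype_injective _)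
    · set N := Subgroup.normalClosure ({x} : Set G) with hN
      have hlt : Nat.card N < n := by
        have hmul := Subgroup.card_mul_index N
        have h2 : N.index ≠ 1 := fun h => htop (Subgroup.index_eq_one.mp h)
        have h3 : N.index ≠ 0 := Subgroup.index_ne_zero_of_finite
        have h1 : 0 < Nat.card N := Nat.card_pos
        rw [← hn, ← hmul]
        have : 2 ≤ N.index := by omega
        nlinarith
      -- conjugates of x lie in N
      have hconjN : ∀ g : G, g * x * g⁻¹ ∈ N := fun g =>
        (inferInstance : N.Normal).conj_mem x (Subgroup.subset_normalClosure (Set.mem_singleton x)) g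
      -- the normal closure in N of a conjugate
      set Z : G → Subgroup G := fun g =>
        (Subgroup.normalClosure ({(⟨g * x * g⁻¹, hconjN g⟩ : N)} : Set N)).map N.subtype with hZ
      have hZN : ∀ g, Z g ≤ N := fun g => Subgroup.map_subtype_le _
      have hnorm : ∀ g, N ≤ Subgroup.normalizer (Z g : Set G) := by
        intro g a ha
        rw [Subgroup.mem_normalizer_iff]
        intro b
        constructor
        · rintro ⟨b', hb', rfl⟩
          refine ⟨⟨a, ha⟩ * b' * ⟨a, ha⟩⁻¹, ?_, rfl⟩
          exact (inferInstance : (Subgroup.normalClosure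
            ({(⟨g * x * g⁻¹, hconjN g⟩ : N)} : Set N)).Normal).conj_mem b' hb' _
        · rintro ⟨b', hb', hb'eq⟩
          refine ⟨⟨a, ha⟩⁻¹ * b' * ⟨a, ha⟩, ?_, ?_⟩
          · have := (inferInstance : (Subgroup.normalClosure
              ({(⟨g * x * g⁻¹, hconjN g⟩ : N)} : Set N)).Normal).conj_mem b' hb' ⟨a, ha⟩⁻¹
            simpa using this
          · have : (N.subtype b' : G) = a * b * a⁻¹ := hb'eq
            simp only [Subgroup.subtype_apply, Subgroup.coe_mul, Subgroup.coe_inv] at this ⊢
            rw [this]
            group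
      have hsol : ∀ g, Group.IsSolvable (Z g) := by
        intro g
        have hord' : orderOf (⟨g * x * g⁻¹, hconjN g⟩ : N) = q ^ e := by
          rw [← hord, Subgroup.orderOf_mk]
          exact (Cfsg.Agent.Lib.H23.orderOf_eq_of_isConj (isConj_iff.2 ⟨g, rfl⟩)).symm
        have hdvd := index_centralizer_subgroup_dvd N (⟨g * x * g⁻¹, hconjN g⟩ : N)
        have hidx : (Subgroup.centralizer ({g * x * g⁻¹} : Set G)).index = p ^ k := by
          rw [← hcl]
          have h1 := Cfsg.Agent.Lib.H24.index_centralizer_eq_card_conj (g * x * g⁻¹)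
          have h2 := Cfsg.Agent.Lib.H24.index_centralizer_eq_card_conj x
          rw [h1, h2]
          refine Nat.card_congr (Equiv.subtypeEquivRight (fun h => ?_))
          have hc : IsConj x (g * x * g⁻¹) := isConj_iff.2 ⟨g, rfl⟩
          exact ⟨fun h' => hc.trans h', fun h' => hc.symm.trans h'⟩
        have hdvd' : (Subgroup.centralizer ({(⟨g * x * g⁻¹, hconjN g⟩ : N)} : Set N)).index ∣
            p ^ k := by
          rw [← hidx]
          exact hdvd
        obtain ⟨k', _, hk'⟩ := (Nat.dvd_prime_pow hp).1 hdvd'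
        have hY := ih _ hlt N rfl (⟨g * x * g⁻¹, hconjN g⟩ : N) k' e hk' hord'
        exact Group.isSolvable_of_isSolvable_injective
          (f := ((Subgroup.normalClosure ({(⟨g * x * g⁻¹, hconjN g⟩ : N)} : Set N)).equivMapOfInjective
            N.subtype N.subtype_injective).symm.toMonoidHom)
          (MulEquiv.injective _)
      have hfin := isSolvable_finset_sup N Z hZN hnorm hsol Finset.univ
      have hle : N ≤ (Finset.univ.sup Z : Subgroup G) := by
        rw [hN, Subgroup.normalClosure]
        rw [Subgroup.closure_le]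
        intro y hy
        rw [Group.mem_conjugatesOfSet_iff] at hy
        obtain ⟨a, ha, hay⟩ := hy
        rw [Set.mem_singleton_iff] at ha
        subst ha
        obtain ⟨g, hg⟩ := isConj_iff.1 hay
        have h1 : Z g ≤ (Finset.univ.sup Z : Subgroup G) := Finset.le_sup (Finset.mem_univ g)
        apply h1
        refine ⟨⟨g * a * g⁻¹, hconjN g⟩, Subgroup.subset_normalClosure (Set.mem_singleton _), ?_⟩
        exact hg
      have heq : N = (Finset.univ.sup Z : Subgroup G) := le_antisymm hle hfin.2
      rw [heq]
      exact hfin.1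



open Cfsg Module Cfsg.Agent.Lib.H23


section General

variable {G : Type u} [Group G] [Finite G]

theorem index_centralizer_pow_eq (x : G) {p : ℕ} (hp : p.Prime) (k n : ℕ)
    (hcl : (Subgroup.centralizer ({x} : Set G)).index = p ^ k) :
    ∃ k', (Subgroup.centralizer ({x ^ n} : Set G)).index = p ^ k' := by
  have hle : Subgroup.centralizer ({x} : Set G) ≤ Subgroup.centralizer ({x ^ n} : Set G) := by
    intro g hg
    rw [Subgroup.mem_centralizer_iff] at hg ⊢
    intro y hy
    rw [Set.mem_singleton_iff] at hy
    subst hy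
    have h1 : Commute x g := hg x (Set.mem_singleton x)
    exact (h1.pow_left n).eq
  have hdvd := Subgroup.index_dvd_of_le hle
  rw [hcl] at hdvd
  obtain ⟨k', _, hk'⟩ := (Nat.dvd_prime_pow hp).1 hdvd
  exact ⟨k', hk'⟩

/-- **Kazarin's theorem**: an element with conjugacy class of prime power size has a solvable
normal closure. -/
theorem isSolvable_normalClosure {p : ℕ} (hp : p.Prime) :
    ∀ (m : ℕ) (x : G) (k : ℕ), orderOf x = m →
      (Subgroup.centralizer ({x} : Set G)).index = p ^ k →
      Group.IsSolvable (Subgroup.normalClosure ({x} : Set G)) := by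
  intro m
  induction m using Nat.strong_induction_on with
  | _ m ih =>
    intro x k hm hcl
    have hm0 : m ≠ 0 := by rw [← hm]; exact (orderOf_pos x).ne'
    by_cases hm1 : m = 1
    · exact isSolvable_normalClosure_aux hp Nat.prime_two _ G rfl x k 0 hcl (by rw [hm, hm1, pow_zero])
    · set q := m.minFac with hq
      have hqp : q.Prime := Nat.minFac_prime hm1
      set a := ordProj[q] m with ha
      set b := ordCompl[q] m with hb
      have hab : a * b = m := Nat.ordProj_mul_ordCompl_eq_self m q
      have hcop : Nat.Coprime a b := by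
        rw [ha, hb]
        exact Nat.Coprime.pow_left _ (Nat.coprime_ordCompl hqp hm0)
      have hb0 : b ≠ 0 := fun h => hm0 (by rw [← hab, h, mul_zero])
      have ha0 : a ≠ 0 := fun h => hm0 (by rw [← hab, h, zero_mul])
      have ha2 : 2 ≤ a := by
        have hqa : q ∣ a := by
          rw [ha]
          exact dvd_pow_self q ((Nat.Prime.factorization_pos_of_dvd hqp hm0 (Nat.minFac_dvd m)).ne')
        exact le_trans hqp.two_le (Nat.le_of_dvd (Nat.pos_of_ne_zero ha0) hqa)
      have hblt : b < m := by
        rw [← hab]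
        have hbpos : 0 < b := Nat.pos_of_ne_zero hb0
        nlinarith
      -- the two parts
      have hordy : orderOf (x ^ b) = q ^ (m.factorization q) := by
        rw [orderOf_pow_of_dvd hb0 (by rw [hm]; exact Dvd.intro_left a hab), hm]
        exact Nat.div_eq_of_eq_mul_left (Nat.pos_of_ne_zero hb0) hab.symm
      have hordz : orderOf (x ^ a) = b := by
        rw [orderOf_pow_of_dvd ha0 (by rw [hm]; exact Dvd.intro b hab), hm]
      obtain ⟨k1, hk1⟩ := index_centralizer_pow_eq x hp k b hcl
      obtain ⟨k2, hk2⟩ := index_centralizer_pow_eq x hp k a hcl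
      have hY : Group.IsSolvable (Subgroup.normalClosure ({x ^ b} : Set G)) :=
        isSolvable_normalClosure_aux hp hqp _ G rfl (x ^ b) k1 _ hk1 hordy
      have hZ : Group.IsSolvable (Subgroup.normalClosure ({x ^ a} : Set G)) :=
        ih b hblt (x ^ a) k2 hordz hk2
      have hsup : Group.IsSolvable (Subgroup.normalClosure ({x ^ b} : Set G) ⊔
          Subgroup.normalClosure ({x ^ a} : Set G) : Subgroup G) := by
        apply Cfsg.Agent.Lib.H7.isSolvable_sup_of_le_normalizer _ hY hZ
        rw [Subgroup.normalizer_eq_top_iff.2 inferInstance]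
        exact le_top
      have hx : x ∈ (Subgroup.normalClosure ({x ^ b} : Set G) ⊔
          Subgroup.normalClosure ({x ^ a} : Set G) : Subgroup G) := by
        have hgcd := Int.gcd_eq_gcd_ab (a : ℤ) (b : ℤ)
        have hg1 : Int.gcd (a : ℤ) (b : ℤ) = 1 := by
          rw [Int.gcd_natCast_natCast]; exact hcop
        rw [hg1] at hgcd
        have hxe : x = (x ^ a) ^ (Int.gcdA a b) * (x ^ b) ^ (Int.gcdB a b) := by
          rw [← zpow_natCast x a, ← zpow_natCast x b, ← zpow_mul, ← zpow_mul, ← zpow_add, ← hgcd]
          simp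
        have hmem : (x ^ a) ^ (Int.gcdA a b) * (x ^ b) ^ (Int.gcdB a b) ∈
            (Subgroup.normalClosure ({x ^ b} : Set G) ⊔
              Subgroup.normalClosure ({x ^ a} : Set G) : Subgroup G) := by
          refine Subgroup.mul_mem _ (Subgroup.zpow_mem _ ?_ _) (Subgroup.zpow_mem _ ?_ _)
          · exact Subgroup.mem_sup_right (Subgroup.subset_normalClosure (Set.mem_singleton _))
          · exact Subgroup.mem_sup_left (Subgroup.subset_normalClosure (Set.mem_singleton _))
        rw [← hxe] at hmem
        exact hmem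
      have hle : Subgroup.normalClosure ({x} : Set G) ≤
          (Subgroup.normalClosure ({x ^ b} : Set G) ⊔
            Subgroup.normalClosure ({x ^ a} : Set G) : Subgroup G) :=
        Subgroup.normalClosure_le_normal (Set.singleton_subset_iff.2 hx)
      exact Group.isSolvable_of_isSolvable_injective (f := Subgroup.inclusion hle)
        (Subgroup.inclusion_injective hle)

end General


end Cfsg.Agent.Lib.H7.Kaz
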