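import Cfsg.Agent.Lib.H12.ReeT7
import Cfsg.Agent.Lib.H12.ReeT2

/-!
# REE-D3 (helper7, for helper12's Ree tori project): the normaliser of a four-group of a Ree group
induces a group of order three on it: `|N(V)| = 3 |C(V)|`.
-/

set_option autoImplicit false
set_option linter.unusedSectionVars false
set_option linter.unusedSimpArgs false
set_option linter.unusedVariables false

namespace Cfsg.Agent.Lib.H7.Ree

open Cfsg.Agent.Lib.H12.ReeC Cfsg.Agent.Lib.H12.ReeC.RSys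

section Generic

variable {Γ : Type*} [Group Γ]

/-- a group of order four containing the involution `s` and `t ∉ {1, s}` is `{1, s, t, st}` -/
theorem d3_four_mem (V : Subgroup Γ) (hV : Nat.card V = 4) (s t : Γ) (hs : s ∈ V) (ht : t ∈ V)
    (hs1 : s ≠ 1) (ht1 : t ≠ 1) (hts : t ≠ s) (hs2 : s * s = 1) (v : Γ) (hv : v ∈ V) :
    v = 1 ∨ v = s ∨ v = t ∨ v = s * t := by
  have hfin : Finite V := Nat.finite_of_card_ne_zero (by rw [hV]; norm_num)
  have hst1 : s * t ≠ 1 := by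
    intro h
    apply hts
    calc t = s * s * t := by rw [hs2, one_mul]
      _ = s * (s * t) := mul_assoc _ _ _
      _ = s := by rw [h, mul_one]
  have hsts : s * t ≠ s := fun h => ht1 (mul_left_cancel (a := s) (by rw [h, mul_one]))
  have hstt : s * t ≠ t := fun h => hs1 (mul_right_cancel (b := t) (by rw [h, one_mul]))
  have hsub : ({1, s, t, s * t} : Set Γ) ⊆ (V : Set Γ) := by
    intro x hx
    simp only [Set.mem_insert_iff, Set.mem_singleton_iff] at hx
    rcases hx with rfl | rfl | rfl | rfl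
    · exact one_mem V
    · exact hs
    · exact ht
    · exact mul_mem hs ht
  have hcard : ({1, s, t, s * t} : Set Γ).ncard = 4 := by
    rw [Set.ncard_insert_of_notMem, Set.ncard_insert_of_notMem, Set.ncard_insert_of_notMem,
      Set.ncard_singleton]
    · simp only [Set.mem_singleton_iff]
      exact fun h => hstt h.symm
    · simp only [Set.mem_insert_iff, Set.mem_singleton_iff, not_or]
      exact ⟨fun h => hts h.symm, fun h => hsts h.symm⟩
    · simp only [Set.mem_insert_iff, Set.mem_singleton_iff, not_or]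
      exact ⟨fun h => hs1 h.symm, fun h => ht1 h.symm, fun h => hst1 h.symm⟩
  have heq := Set.eq_of_subset_of_ncard_le hsub
    (by rw [hcard, ← Nat.card_coe_set_eq]; exact hV.le) (Set.toFinite _)
  have hv' : v ∈ ({1, s, t, s * t} : Set Γ) := by rw [heq]; exact hv
  simpa only [Set.mem_insert_iff, Set.mem_singleton_iff] using hv'

/-- a group of order four has an element outside `{1, s}` -/
theorem d3_exists_third (V : Subgroup Γ) (hV : Nat.card V = 4) (s : Γ) :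
    ∃ t ∈ V, t ≠ 1 ∧ t ≠ s := by
  have hfin : Finite V := Nat.finite_of_card_ne_zero (by rw [hV]; norm_num)
  by_contra hcon
  push Not at hcon
  have hsub : (V : Set Γ) ⊆ ({1, s} : Set Γ) := by
    intro x hx
    by_cases h1 : x = 1
    · left; exact h1
    · right; exact hcon x hx h1
  have h1 := Set.ncard_le_ncard hsub (Set.toFinite _)
  have h2 : ({1, s} : Set Γ).ncard ≤ 2 := by
    have := Set.ncard_insert_le (1 : Γ) ({s} : Set Γ)
    rw [Set.ncard_singleton] at this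
    exact this
  have h3 : (V : Set Γ).ncard = 4 := by rw [← Nat.card_coe_set_eq]; exact hV
  omega

/-- in a finite subgroup, `c V c⁻¹ ⊆ V` implies `c ∈ N(V)` -/
theorem d3_mem_normalizer (V : Subgroup Γ) [Finite V] (c : Γ) (h : ∀ v ∈ V, c * v * c⁻¹ ∈ V) :
    c ∈ Subgroup.normalizer (V : Set Γ) := by
  rw [Subgroup.mem_normalizer_iff]
  intro x
  refine ⟨h x, fun hx => ?_⟩
  let f : V → V := fun v => ⟨c * v.1 * c⁻¹, h v.1 v.2⟩
  have hinj : Function.Injective f := by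
    intro u v huv
    have := congrArg Subtype.val huv
    apply Subtype.ext
    exact mul_left_cancel (mul_right_cancel this)
  obtain ⟨v, hv⟩ := Finite.surjective_of_injective hinj ⟨c * x * c⁻¹, hx⟩
  have := congrArg Subtype.val hv
  have hxv : v.1 = x := mul_left_cancel (mul_right_cancel this)
  rw [← hxv]
  exact v.2

/-- centraliser of a conjugate subgroup -/
theorem d3_centralizer_map_conj (H : Subgroup Γ) (g : Γ) :
    Subgroup.centralizer ((H.map (MulAut.conj g).toMonoidHom : Subgroup Γ) : Set Γ) =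
      (Subgroup.centralizer (H : Set Γ)).map (MulAut.conj g).toMonoidHom := by
  ext x
  rw [Subgroup.mem_centralizer_iff, Subgroup.mem_map]
  constructor
  · intro hx
    refine ⟨g⁻¹ * x * g, ?_, ?_⟩
    · rw [Subgroup.mem_centralizer_iff]
      intro h hh
      have h1 := hx (g * h * g⁻¹) (Subgroup.mem_map.mpr ⟨h, hh, rfl⟩)
      calc h * (g⁻¹ * x * g) = g⁻¹ * (g * h * g⁻¹ * x) * g := by group
        _ = g⁻¹ * (x * (g * h * g⁻¹)) * g := by rw [h1]
        _ = g⁻¹ * x * g * h := by group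
    · show g * (g⁻¹ * x * g) * g⁻¹ = x
      group
  · rintro ⟨y, hy, rfl⟩ h hh
    obtain ⟨w, hw, rfl⟩ := Subgroup.mem_map.mp hh
    rw [Subgroup.mem_centralizer_iff] at hy
    have h1 := hy w hw
    show g * w * g⁻¹ * (g * y * g⁻¹) = g * y * g⁻¹ * (g * w * g⁻¹)
    calc g * w * g⁻¹ * (g * y * g⁻¹) = g * (w * y) * g⁻¹ := by group
      _ = g * (y * w) * g⁻¹ := by rw [h1]
      _ = _ := by group

theorem d3_card_centralizer_map_conj (H : Subgroup Γ) (g : Γ) :
    Nat.card (Subgroup.centralizer ((H.map (MulAut.conj g).toMonoidHom : Subgroup Γ) : Set Γ)) =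
      Nat.card (Subgroup.centralizer (H : Set Γ)) := by
  rw [d3_centralizer_map_conj]
  exact Subgroup.card_map_of_injective (MulAut.conj g).injective

end Generic

variable {G K : Type*} [Group G] [Field K] (R : RSys G K)

/-- conjugation by an element of `C(a)` never maps `t ∈ C(a)` to `a t` -/
theorem d3_noswap_a (g t : G) (hg : g ∈ Subgroup.centralizer {R.a}) (ht : t ∈ Subgroup.centralizer {R.a}) :
    g * t * g⁻¹ ≠ R.a * t := by
  obtain ⟨e, x, rfl⟩ := R.mem_centralizer_a g hg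
  obtain ⟨e', v, rfl⟩ := R.mem_centralizer_a t ht
  rw [R.Phi_conj, ← R.Phi_a, ← map_mul, Prod.mk_mul_mk]
  intro h
  have h1 := R.Phi_injective h
  rw [Prod.mk.injEq] at h1
  have h2 : 1 * e' = Multiplicative.ofAdd (1 : ZMod 2) * e' := by rw [one_mul]; exact h1.1
  exact ofAdd_one_ne (mul_right_cancel h2).symm

variable [Fintype K] [Finite G]

/-- conjugation by an element of `C(s)`, `s` an involution, never maps `t ∈ C(s)` to `s t` -/
theorem d3_noswap (hq : Fintype.card K % 8 = 3) (k : ℕ) (hN : Nat.card G = 8 * k) (hk : ¬ 2 ∣ k)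
    (hZ : ∃ g : G, g * R.a * g⁻¹ ∈ R.T0 ∧ g * R.a * g⁻¹ ≠ R.a)
    (s g t : G) (hs1 : s ≠ 1) (hs2 : s * s = 1) (hg : g * s = s * g) (ht : t * s = s * t) :
    g * t * g⁻¹ ≠ s * t := by
  obtain ⟨x, hx⟩ := R.involution_conj hq k hN hk hZ s hs1 hs2
  intro h
  have hxa : x⁻¹ * s * x = R.a := by rw [← hx]; group
  have hg' : x⁻¹ * g * x ∈ Subgroup.centralizer {R.a} := by
    rw [Subgroup.mem_centralizer_singleton_iff, ← hxa]
    calc x⁻¹ * g * x * (x⁻¹ * s * x) = x⁻¹ * (g * s) * x := by group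
      _ = x⁻¹ * (s * g) * x := by rw [hg]
      _ = _ := by group
  have ht' : x⁻¹ * t * x ∈ Subgroup.centralizer {R.a} := by
    rw [Subgroup.mem_centralizer_singleton_iff, ← hxa]
    calc x⁻¹ * t * x * (x⁻¹ * s * x) = x⁻¹ * (t * s) * x := by group
      _ = x⁻¹ * (s * t) * x := by rw [ht]
      _ = _ := by group
  apply d3_noswap_a R _ _ hg' ht'
  rw [← hxa]
  calc x⁻¹ * g * x * (x⁻¹ * t * x) * (x⁻¹ * g * x)⁻¹ = x⁻¹ * (g * t * g⁻¹) * x := by group
    _ = x⁻¹ * (s * t) * x := by rw [h]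
    _ = _ := by group

/-- an element of `N(V)` fixing a non-trivial element of the four-group `V` centralises `V` -/
theorem d3_fix_centralizes (hq : Fintype.card K % 8 = 3) (k : ℕ) (hN : Nat.card G = 8 * k) (hk : ¬ 2 ∣ k)
    (hZ : ∃ g : G, g * R.a * g⁻¹ ∈ R.T0 ∧ g * R.a * g⁻¹ ≠ R.a)
    (V : Subgroup G) (hV : Nat.card V = 4) (hV2 : ∀ v ∈ V, v * v = 1)
    (g : G) (hg : g ∈ Subgroup.normalizer (V : Set G)) (s : G) (hs : s ∈ V) (hs1 : s ≠ 1)
    (hgs : g * s * g⁻¹ = s) : g ∈ Subgroup.centralizer (V : Set G) := by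
  obtain ⟨t, ht, ht1, hts⟩ := d3_exists_third V hV s
  have hfour := d3_four_mem V hV s t hs ht hs1 ht1 hts (hV2 s hs)
  have hgs' : g * s = s * g := by
    calc g * s = g * s * g⁻¹ * g := by group
      _ = s * g := by rw [hgs]
  have hts' : t * s = s * t :=
    comm_of_sq t s (hV2 t ht) (hV2 s hs) (hV2 _ (mul_mem ht hs))
  have hgt : g * t * g⁻¹ = t := by
    have hmem : g * t * g⁻¹ ∈ V := (Subgroup.mem_normalizer_iff.mp hg t).mp ht
    rcases hfour _ hmem with h | h | h | h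
    · exfalso; apply ht1
      calc t = g⁻¹ * (g * t * g⁻¹) * g := by group
        _ = 1 := by rw [h]; group
    · exfalso; apply hts
      calc t = g⁻¹ * (g * t * g⁻¹) * g := by group
        _ = g⁻¹ * (g * s * g⁻¹) * g := by rw [h, hgs]
        _ = s := by group
    · exact h
    · exact absurd h (d3_noswap R hq k hN hk hZ s g t hs1 (hV2 s hs) hgs' hts')
  have hgt' : g * t = t * g := by
    calc g * t = g * t * g⁻¹ * g := by group
      _ = t * g := by rw [hgt]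
  rw [Subgroup.mem_centralizer_iff]
  intro h hh
  rcases hfour h hh with rfl | rfl | rfl | rfl
  · rw [one_mul, mul_one]
  · exact hgs'.symm
  · exact hgt'.symm
  · calc s * t * g = s * (t * g) := mul_assoc _ _ _
      _ = s * (g * t) := by rw [hgt']
      _ = s * g * t := (mul_assoc _ _ _).symm
      _ = g * s * t := by rw [hgs']
      _ = g * (s * t) := mul_assoc _ _ _

/-- a four-subgroup `V ≤ T0` containing `a`, `b ∈ V \ {1, a}`: some `c` maps `a` to `b` and `b` into `V` -/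
theorem d3_exists_c (hq : Fintype.card K % 8 = 3) (k : ℕ) (hN : Nat.card G = 8 * k) (hk : ¬ 2 ∣ k)
    (hZ : ∃ g : G, g * R.a * g⁻¹ ∈ R.T0 ∧ g * R.a * g⁻¹ ≠ R.a)
    (V : Subgroup G) (hV : Nat.card V = 4) (hVT : V ≤ R.T0)
    (b : G) (hb : b ∈ V) (hb1 : b ≠ 1) :
    ∃ c : G, c * R.a * c⁻¹ = b ∧ c * b * c⁻¹ ∈ V := by
  have hbT : b ∈ R.T0 := hVT hb
  have hbO : b ∈ R.Orb := by
    rw [R.Orb_eq hq k hN hk hZ]
    exact ⟨hbT, hb1⟩
  obtain ⟨n₁, hn₁, hn₁a⟩ := hbO
  by_cases hy : n₁ * b * n₁⁻¹ ∈ V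
  · exact ⟨n₁, hn₁a, hy⟩
  have hyT : n₁ * b * n₁⁻¹ ∈ R.T0 := (Subgroup.mem_normalizer_iff.mp hn₁ b).mp hbT
  -- the conjugate of `om`
  have hwN : n₁ * R.om * n₁⁻¹ ∈ Subgroup.normalizer (R.T0 : Set G) :=
    mul_mem (mul_mem hn₁ R.om_mem_normalizer) (inv_mem hn₁)
  generalize hwdef : n₁ * R.om * n₁⁻¹ = w at hwN
  generalize hydef : n₁ * b * n₁⁻¹ = y at hy hyT
  have hwb : w * b * w⁻¹ = b := by
    rw [← hwdef, ← hn₁a]
    calc n₁ * R.om * n₁⁻¹ * (n₁ * R.a * n₁⁻¹) * (n₁ * R.om * n₁⁻¹)⁻¹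
        = n₁ * (R.om * R.a * R.om⁻¹) * n₁⁻¹ := by group
      _ = _ := by rw [R.om_comm_a]
  have hw3 : w * w * w = 1 := by
    rw [← hwdef]
    calc n₁ * R.om * n₁⁻¹ * (n₁ * R.om * n₁⁻¹) * (n₁ * R.om * n₁⁻¹)
        = n₁ * (R.om * R.om * R.om) * n₁⁻¹ := by group
      _ = 1 := by rw [R.om_cube]; group
  have hwfix : ∀ s ∈ R.T0, w * s * w⁻¹ = s → s = 1 ∨ s = b := by
    intro s hs h
    have hs' : n₁⁻¹ * s * n₁ ∈ R.T0 := (Subgroup.mem_normalizer_iff''.mp hn₁ s).mp hs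
    have hfix : R.om * (n₁⁻¹ * s * n₁) * R.om⁻¹ = n₁⁻¹ * s * n₁ := by
      calc R.om * (n₁⁻¹ * s * n₁) * R.om⁻¹
          = n₁⁻¹ * ((n₁ * R.om * n₁⁻¹) * s * (n₁ * R.om * n₁⁻¹)⁻¹) * n₁ := by group
        _ = n₁⁻¹ * s * n₁ := by rw [hwdef, h]
    rcases R.om_fixed _ hs' hfix with h1 | h1
    · left
      calc s = n₁ * (n₁⁻¹ * s * n₁) * n₁⁻¹ := by group
        _ = 1 := by rw [h1]; group
    · right
      calc s = n₁ * (n₁⁻¹ * s * n₁) * n₁⁻¹ := by group
        _ = b := by rw [h1, hn₁a]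
  -- the three conjugates of `y`
  have hy1T : w * y * w⁻¹ ∈ R.T0 := (Subgroup.mem_normalizer_iff.mp hwN y).mp hyT
  have hy2T : w * (w * y * w⁻¹) * w⁻¹ ∈ R.T0 := (Subgroup.mem_normalizer_iff.mp hwN _).mp hy1T
  have hw3' : w * (w * (w * y * w⁻¹) * w⁻¹) * w⁻¹ = y := by
    have hwi : w⁻¹ = w * w := by
      apply inv_eq_of_mul_eq_one_right
      rw [← mul_assoc]; exact hw3
    calc w * (w * (w * y * w⁻¹) * w⁻¹) * w⁻¹ = (w * w * w) * y * (w * w * w)⁻¹ := by group
      _ = y := by rw [hw3]; group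
  have hprodT : y * (w * y * w⁻¹) * (w * (w * y * w⁻¹) * w⁻¹) ∈ R.T0 := mul_mem (mul_mem hyT hy1T) hy2T
  have hprodfix : w * (y * (w * y * w⁻¹) * (w * (w * y * w⁻¹) * w⁻¹)) * w⁻¹ =
      y * (w * y * w⁻¹) * (w * (w * y * w⁻¹) * w⁻¹) := by
    calc w * (y * (w * y * w⁻¹) * (w * (w * y * w⁻¹) * w⁻¹)) * w⁻¹
        = (w * y * w⁻¹) * (w * (w * y * w⁻¹) * w⁻¹) * (w * (w * (w * y * w⁻¹) * w⁻¹) * w⁻¹) := by group
      _ = (w * y * w⁻¹) * (w * (w * y * w⁻¹) * w⁻¹) * y := by rw [hw3']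
      _ = y * ((w * y * w⁻¹) * (w * (w * y * w⁻¹) * w⁻¹)) :=
          R.T0_comm hq _ _ (mul_mem hy1T hy2T) hyT
      _ = _ := (mul_assoc _ _ _).symm
  have hprodV : y * (w * y * w⁻¹) * (w * (w * y * w⁻¹) * w⁻¹) ∈ V := by
    rcases hwfix _ hprodT hprodfix with h | h
    · rw [h]; exact one_mem V
    · rw [h]; exact hb
  -- `V` has index two in `T0`
  have hidx : (V.subgroupOf R.T0).index = 2 := by
    have h1 := Subgroup.card_mul_index (V.subgroupOf R.T0)
    have h2 : Nat.card (V.subgroupOf R.T0) = 4 := by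
      rw [Nat.card_congr (Subgroup.subgroupOfEquivOfLe hVT).toEquiv]; exact hV
    rw [h2, R.card_T0 hq] at h1
    omega
  have key : ∀ u v : G, u ∈ R.T0 → v ∈ R.T0 → (u * v ∈ V ↔ (u ∈ V ↔ v ∈ V)) := by
    intro u v hu hv
    have := Subgroup.mul_mem_iff_of_index_two hidx (a := (⟨u, hu⟩ : R.T0)) (b := ⟨v, hv⟩)
    simpa only [Subgroup.mem_subgroupOf, Subgroup.coe_mul] using this
  have h12 : ¬ ((w * y * w⁻¹) * (w * (w * y * w⁻¹) * w⁻¹) ∈ V) := by
    intro h
    have := (key y _ hyT (mul_mem hy1T hy2T)).mp (by rw [← mul_assoc]; exact hprodV)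
    exact hy (this.mpr h)
  have h12' := (key _ _ hy1T hy2T).not.mp h12
  have hca : ∀ c : G, c * b * c⁻¹ = b → (c * n₁) * R.a * (c * n₁)⁻¹ = b := by
    intro c hc
    calc (c * n₁) * R.a * (c * n₁)⁻¹ = c * (n₁ * R.a * n₁⁻¹) * c⁻¹ := by group
      _ = b := by rw [hn₁a, hc]
  by_cases h1 : w * y * w⁻¹ ∈ V
  · refine ⟨w * n₁, hca w hwb, ?_⟩
    have : w * n₁ * b * (w * n₁)⁻¹ = w * y * w⁻¹ := by rw [← hydef]; group
    rw [this]; exact h1
  · have h2 : w * (w * y * w⁻¹) * w⁻¹ ∈ V := by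
      by_contra h2
      exact h12' ⟨fun h => absurd h h1, fun h => absurd h h2⟩
    have hwwb : (w * w) * b * (w * w)⁻¹ = b := by
      calc (w * w) * b * (w * w)⁻¹ = w * (w * b * w⁻¹) * w⁻¹ := by group
        _ = b := by rw [hwb, hwb]
    refine ⟨w * w * n₁, hca (w * w) hwwb, ?_⟩
    have : w * w * n₁ * b * (w * w * n₁)⁻¹ = w * (w * y * w⁻¹) * w⁻¹ := by rw [← hydef]; group
    rw [this]; exact h2

/-- the case `a ∈ V ≤ T0` -/
theorem d3_core (hq : Fintype.card K % 8 = 3) (k : ℕ) (hN : Nat.card G = 8 * k) (hk : ¬ 2 ∣ k)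
    (hZ : ∃ g : G, g * R.a * g⁻¹ ∈ R.T0 ∧ g * R.a * g⁻¹ ≠ R.a)
    (V : Subgroup G) (hV : Nat.card V = 4) (hV2 : ∀ v ∈ V, v * v = 1) (hVT : V ≤ R.T0) (haV : R.a ∈ V) :
    Nat.card (Subgroup.normalizer (V : Set G)) = 3 * Nat.card (Subgroup.centralizer (V : Set G)) := by
  have hfin : Finite V := Nat.finite_of_card_ne_zero (by rw [hV]; norm_num)
  obtain ⟨b, hb, hb1, hba⟩ := d3_exists_third V hV R.a
  have hfour := d3_four_mem V hV R.a b haV hb R.a_ne_one hb1 hba R.a_sq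
  obtain ⟨c, hca, hcb⟩ := d3_exists_c R hq k hN hk hZ V hV hVT b hb hb1
  have hab : R.a * b = b * R.a := comm_of_sq _ _ R.a_sq (hV2 b hb) (hV2 _ (mul_mem haV hb))
  have hcab : c * (R.a * b) * c⁻¹ = b * (c * b * c⁻¹) := by
    calc c * (R.a * b) * c⁻¹ = (c * R.a * c⁻¹) * (c * b * c⁻¹) := by group
      _ = _ := by rw [hca]
  have hcN : c ∈ Subgroup.normalizer (V : Set G) := by
    apply d3_mem_normalizer V c
    intro v hv
    rcases hfour v hv with rfl | rfl | rfl | rfl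
    · rw [mul_one, mul_inv_cancel]; exact one_mem V
    · rw [hca]; exact hb
    · exact hcb
    · rw [hcab]; exact mul_mem hb hcb
  have hab1 : R.a * b ≠ 1 := by
    intro h
    apply hba
    calc b = R.a * R.a * b := by rw [R.a_sq, one_mul]
      _ = R.a * (R.a * b) := mul_assoc _ _ _
      _ = R.a := by rw [h, mul_one]
  have hcb' : c * b * c⁻¹ = R.a * b := by
    rcases hfour _ hcb with h | h | h | h
    · exfalso; apply hb1
      calc b = c⁻¹ * (c * b * c⁻¹) * c := by group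
        _ = 1 := by rw [h]; group
    · exfalso
      have hfixab : c * (R.a * b) * c⁻¹ = R.a * b := by rw [hcab, h, hab]
      have hcC := d3_fix_centralizes R hq k hN hk hZ V hV hV2 c hcN (R.a * b) (mul_mem haV hb) hab1 hfixab
      rw [Subgroup.mem_centralizer_iff] at hcC
      have h1 := hcC R.a haV
      apply hba
      rw [← hca, ← h1]; group
    · exfalso; apply hba
      have : c * b * c⁻¹ = c * R.a * c⁻¹ := by rw [h, hca]
      exact mul_left_cancel (mul_right_cancel this)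
    · exact h
  -- orbit-stabiliser
  have h1 := card_eq_orbit_mul (Subgroup.normalizer (V : Set G)) R.a
  have hinf : (Subgroup.normalizer (V : Set G) ⊓ Subgroup.centralizer {R.a} : Subgroup G) =
      Subgroup.centralizer (V : Set G) := by
    apply le_antisymm
    · intro g hg
      obtain ⟨hg1, hg2⟩ := Subgroup.mem_inf.mp hg
      rw [Subgroup.mem_centralizer_singleton_iff] at hg2
      apply d3_fix_centralizes R hq k hN hk hZ V hV hV2 g hg1 R.a haV R.a_ne_one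
      rw [hg2]; group
    · apply le_inf (Subgroup.centralizer_le_normalizer _)
      apply Subgroup.centralizer_le
      intro x hx
      rw [Set.mem_singleton_iff] at hx
      rw [hx]; exact haV
  have hset : {s : G | ∃ n ∈ Subgroup.normalizer (V : Set G), n * R.a * n⁻¹ = s} = {R.a, b, R.a * b} := by
    ext s
    simp only [Set.mem_ofPred_eq, Set.mem_insert_iff, Set.mem_singleton_iff]
    constructor
    · rintro ⟨n, hn, rfl⟩
      have hmem : n * R.a * n⁻¹ ∈ V := (Subgroup.mem_normalizer_iff.mp hn _).mp haV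
      rcases hfour _ hmem with h | h | h | h
      · exfalso; apply R.a_ne_one
        calc R.a = n⁻¹ * (n * R.a * n⁻¹) * n := by group
          _ = 1 := by rw [h]; group
      · left; exact h
      · right; left; exact h
      · right; right; exact h
    · rintro (rfl | rfl | rfl)
      · exact ⟨1, one_mem _, by group⟩
      · exact ⟨c, hcN, hca⟩
      · refine ⟨c * c, mul_mem hcN hcN, ?_⟩
        calc c * c * R.a * (c * c)⁻¹ = c * (c * R.a * c⁻¹) * c⁻¹ := by group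
          _ = R.a * b := by rw [hca, hcb']
  have horb : Nat.card {s : G // ∃ n ∈ Subgroup.normalizer (V : Set G), n * R.a * n⁻¹ = s} = 3 := by
    have h0 : Nat.card {s : G // ∃ n ∈ Subgroup.normalizer (V : Set G), n * R.a * n⁻¹ = s} =
        ({s : G | ∃ n ∈ Subgroup.normalizer (V : Set G), n * R.a * n⁻¹ = s}).ncard :=
      Nat.card_coe_set_eq _
    rw [h0, hset, Set.ncard_eq_three]
    refine ⟨R.a, b, R.a * b, fun h => hba h.symm, ?_, ?_, rfl⟩
    · intro h
      apply hb1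
      have : R.a * 1 = R.a * b := by rw [mul_one]; exact h
      exact (mul_left_cancel this).symm
    · intro h
      apply R.a_ne_one
      have : 1 * b = R.a * b := by rw [one_mul]; exact h
      exact (mul_right_cancel this).symm
  rw [h1, hinf, horb]

/-- **REE-D3** the normaliser of a four-group induces a group of order 3 on it -/
theorem card_normalizer_four (hq : Fintype.card K % 8 = 3) (k : ℕ) (hN : Nat.card G = 8 * k) (hk : ¬ 2 ∣ k)
    (hZ : ∃ g : G, g * R.a * g⁻¹ ∈ R.T0 ∧ g * R.a * g⁻¹ ≠ R.a)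
    (V : Subgroup G) (hV : Nat.card V = 4) (hV2 : ∀ v ∈ V, v * v = 1) :
    Nat.card (Subgroup.normalizer (V : Set G)) = 3 * Nat.card (Subgroup.centralizer (V : Set G)) := by
  have : Fact (Nat.Prime 2) := ⟨Nat.prime_two⟩
  have hp : IsPGroup 2 V := IsPGroup.of_card (n := 2) (by rw [hV]; norm_num)
  obtain ⟨S, hS⟩ := hp.exists_le_sylow
  obtain ⟨P, hP⟩ := R.exists_sylow_eq_T0 hq k hN hk
  obtain ⟨g, hg⟩ := MulAction.exists_smul_eq G P S
  have hVg : ∀ v ∈ V, g⁻¹ * v * g ∈ R.T0 := by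
    intro v hv
    have hvS : v ∈ (S : Subgroup G) := hS hv
    rw [← hg, Sylow.coe_subgroup_smul, Subgroup.mem_pointwise_smul_iff_inv_smul_mem, hP,
      MulAut.smul_def, ← map_inv, MulAut.conj_apply, inv_inv] at hvS
    exact hvS
  obtain ⟨s, hs, hs1, -⟩ := d3_exists_third V hV 1
  have hsO : g⁻¹ * s * g ∈ R.Orb := by
    rw [R.Orb_eq hq k hN hk hZ]
    refine ⟨hVg s hs, ?_⟩
    intro h
    rw [Set.mem_singleton_iff] at h
    apply hs1
    calc s = g * (g⁻¹ * s * g) * g⁻¹ := by group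
      _ = 1 := by rw [h]; group
  obtain ⟨n, hn, hna⟩ := hsO
  have hxT : V.map (MulAut.conj (n⁻¹ * g⁻¹)).toMonoidHom ≤ R.T0 := by
    rintro _ ⟨v, hv, rfl⟩
    show n⁻¹ * g⁻¹ * v * (n⁻¹ * g⁻¹)⁻¹ ∈ R.T0
    have h1 := (Subgroup.mem_normalizer_iff''.mp hn _).mp (hVg v hv)
    have h2 : n⁻¹ * g⁻¹ * v * (n⁻¹ * g⁻¹)⁻¹ = n⁻¹ * (g⁻¹ * v * g) * n := by group
    rw [h2]; exact h1
  have hxa : R.a ∈ V.map (MulAut.conj (n⁻¹ * g⁻¹)).toMonoidHom := by
    refine ⟨s, hs, ?_⟩
    show n⁻¹ * g⁻¹ * s * (n⁻¹ * g⁻¹)⁻¹ = R.a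
    calc n⁻¹ * g⁻¹ * s * (n⁻¹ * g⁻¹)⁻¹ = n⁻¹ * (g⁻¹ * s * g) * n := by group
      _ = n⁻¹ * (n * R.a * n⁻¹) * n := by rw [hna]
      _ = R.a := by group
  have hcore := d3_core R hq k hN hk hZ (V.map (MulAut.conj (n⁻¹ * g⁻¹)).toMonoidHom)
    (by rw [Subgroup.card_map_of_injective (MulAut.conj (n⁻¹ * g⁻¹)).injective]; exact hV)
    (by
      rintro _ ⟨v, hv, rfl⟩
      show n⁻¹ * g⁻¹ * v * (n⁻¹ * g⁻¹)⁻¹ * (n⁻¹ * g⁻¹ * v * (n⁻¹ * g⁻¹)⁻¹) = 1
      calc n⁻¹ * g⁻¹ * v * (n⁻¹ * g⁻¹)⁻¹ * (n⁻¹ * g⁻¹ * v * (n⁻¹ * g⁻¹)⁻¹)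
          = n⁻¹ * g⁻¹ * (v * v) * (n⁻¹ * g⁻¹)⁻¹ := by group
        _ = 1 := by rw [hV2 v hv]; group)
    hxT hxa
  rw [card_normalizer_map_conj, d3_card_centralizer_map_conj] at hcore
  exact hcore

end Cfsg.Agent.Lib.H7.Ree
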