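import Cfsg.Agent.Lib.H7.ReeD3
import Cfsg.Agent.Lib.H17.ReeC2

/-!
# REE-D3 add-on (helper7, for helper12's Ree tori project): the centraliser of a four-group of a
Ree group has order `2 (q + 1)`.
-/

set_option autoImplicit false
set_option linter.unusedSectionVars false
set_option linter.unusedSimpArgs false
set_option linter.unusedVariables false

namespace Cfsg.Agent.Lib.H7.Ree

open Cfsg.Agent.Lib.H12.ReeC Cfsg.Agent.Lib.H12.ReeC.RSys

variable {G K : Type*} [Group G] [Field K] (R : RSys G K) [Fintype K] [Finite G]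

/-- the case `a ∈ V` -/
theorem d3_card_centralizer_core (hq : Fintype.card K % 8 = 3)
    (V : Subgroup G) (hV : Nat.card V = 4) (hV2 : ∀ v ∈ V, v * v = 1) (haV : R.a ∈ V) :
    Nat.card (Subgroup.centralizer (V : Set G)) = 2 * (Fintype.card K + 1) := by
  obtain ⟨t, ht, ht1, hta⟩ := d3_exists_third V hV R.a
  have hfour := d3_four_mem V hV R.a t haV ht R.a_ne_one ht1 hta R.a_sq
  have hta' : t * R.a = R.a * t := comm_of_sq t R.a (hV2 t ht) R.a_sq (hV2 _ (mul_mem ht haV))
  have htC : t ∈ Subgroup.centralizer {R.a} := Subgroup.mem_centralizer_singleton_iff.mpr hta'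
  obtain ⟨e, tb, hte⟩ := R.mem_centralizer_a t htC
  -- `tb` is an involution
  have htb1 : tb ≠ 1 := by
    intro h
    rw [h, R.Phi_apply, map_one, mul_one] at hte
    rcases R.eps_cases e with ⟨-, h1⟩ | ⟨-, h1⟩
    · exact ht1 (hte.trans h1)
    · exact hta (hte.trans h1)
  have htb2 : tb * tb = 1 := by
    have h := hV2 t ht
    rw [hte, ← map_mul, Prod.mk_mul_mk] at h
    have h1 : R.Phi (e * e, tb * tb) = R.Phi 1 := by rw [h, map_one]
    have h2 := R.Phi_injective h1
    rw [Prod.ext_iff] at h2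
    exact h2.2
  -- `t = eps e * Phi (1, tb)`
  have hsplit : t = R.eps e * R.Phi (1, tb) := by
    rw [hte, R.Phi_apply, R.Phi_one_left]
  have heps : ∀ g : G, g ∈ Subgroup.centralizer {R.a} → g * R.eps e = R.eps e * g := by
    intro g hg
    rcases R.eps_cases e with ⟨-, h1⟩ | ⟨-, h1⟩
    · rw [h1, mul_one, one_mul]
    · rw [h1]; exact Subgroup.mem_centralizer_singleton_iff.mp hg
  have hcent : Subgroup.centralizer (V : Set G) =
      (Subgroup.centralizer {R.a} ⊓ Subgroup.centralizer {R.Phi (1, tb)} : Subgroup G) := by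
    ext g
    rw [Subgroup.mem_inf, Subgroup.mem_centralizer_iff]
    constructor
    · intro h
      have h1 : g ∈ Subgroup.centralizer {R.a} :=
        Subgroup.mem_centralizer_singleton_iff.mpr (h R.a haV).symm
      refine ⟨h1, ?_⟩
      rw [Subgroup.mem_centralizer_singleton_iff]
      have h2 := h t ht
      rw [hsplit] at h2
      -- eps e * y * g = g * (eps e * y) = eps e * g * y
      have h3 : R.eps e * (R.Phi (1, tb) * g) = R.eps e * (g * R.Phi (1, tb)) := by
        calc R.eps e * (R.Phi (1, tb) * g) = R.eps e * R.Phi (1, tb) * g := (mul_assoc _ _ _).symm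
          _ = g * (R.eps e * R.Phi (1, tb)) := h2
          _ = g * R.eps e * R.Phi (1, tb) := (mul_assoc _ _ _).symm
          _ = R.eps e * g * R.Phi (1, tb) := by rw [heps g h1]
          _ = R.eps e * (g * R.Phi (1, tb)) := mul_assoc _ _ _
      exact (mul_left_cancel h3).symm
    · rintro ⟨h1, h2⟩ v hv
      have ha : R.a * g = g * R.a := (Subgroup.mem_centralizer_singleton_iff.mp h1).symm
      have hy : R.Phi (1, tb) * g = g * R.Phi (1, tb) := (Subgroup.mem_centralizer_singleton_iff.mp h2).symm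
      have htg : t * g = g * t := by
        rw [hsplit]
        calc R.eps e * R.Phi (1, tb) * g = R.eps e * (R.Phi (1, tb) * g) := mul_assoc _ _ _
          _ = R.eps e * (g * R.Phi (1, tb)) := by rw [hy]
          _ = R.eps e * g * R.Phi (1, tb) := (mul_assoc _ _ _).symm
          _ = g * R.eps e * R.Phi (1, tb) := by rw [heps g h1]
          _ = g * (R.eps e * R.Phi (1, tb)) := mul_assoc _ _ _
      rcases hfour v hv with rfl | rfl | rfl | rfl
      · rw [one_mul, mul_one]
      · exact ha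
      · exact htg
      · calc R.a * t * g = R.a * (t * g) := mul_assoc _ _ _
          _ = R.a * (g * t) := by rw [htg]
          _ = R.a * g * t := (mul_assoc _ _ _).symm
          _ = g * R.a * t := by rw [ha]
          _ = g * (R.a * t) := mul_assoc _ _ _
  rw [hcent, R.centralizer_inf_eq_S0, R.card_S0,
    Cfsg.Agent.Lib.H17.Ree.card_centralizer_involution_PSL2 (by omega) tb htb1 htb2]

/-- **REE-D3 add-on** the centraliser of a four-group has order `2 (q + 1)` -/
theorem card_centralizer_four (hq : Fintype.card K % 8 = 3) (k : ℕ) (hN : Nat.card G = 8 * k) (hk : ¬ 2 ∣ k)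
    (hZ : ∃ g : G, g * R.a * g⁻¹ ∈ R.T0 ∧ g * R.a * g⁻¹ ≠ R.a)
    (V : Subgroup G) (hV : Nat.card V = 4) (hV2 : ∀ v ∈ V, v * v = 1) :
    Nat.card (Subgroup.centralizer (V : Set G)) = 2 * (Fintype.card K + 1) := by
  obtain ⟨s, hs, hs1, -⟩ := d3_exists_third V hV 1
  obtain ⟨g, hg⟩ := R.involution_conj hq k hN hk hZ s hs1 (hV2 s hs)
  have hxa : R.a ∈ V.map (MulAut.conj g⁻¹).toMonoidHom := by
    refine ⟨s, hs, ?_⟩
    show g⁻¹ * s * g⁻¹⁻¹ = R.a
    rw [← hg]; group
  have hcore := d3_card_centralizer_core R hq (V.map (MulAut.conj g⁻¹).toMonoidHom)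
    (by rw [Subgroup.card_map_of_injective (MulAut.conj g⁻¹).injective]; exact hV)
    (by
      rintro _ ⟨v, hv, rfl⟩
      show g⁻¹ * v * g⁻¹⁻¹ * (g⁻¹ * v * g⁻¹⁻¹) = 1
      calc g⁻¹ * v * g⁻¹⁻¹ * (g⁻¹ * v * g⁻¹⁻¹) = g⁻¹ * (v * v) * g := by group
        _ = 1 := by rw [hV2 v hv]; group)
    hxa
  rw [d3_card_centralizer_map_conj] at hcore
  exact hcore

end Cfsg.Agent.Lib.H7.Ree
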