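import Cfsg.Agent.Lib.H12.ReeT7

/-!
# REE-K7 (helper7, for helper12's Ree batch 5): a non-trivial element of order dividing `(q+1)/4` of `²G₂(q)` commutes with
exactly three involutions.
-/

set_option autoImplicit false
set_option linter.unusedSectionVars false
set_option linter.unusedVariables false

namespace Cfsg.Agent.Lib.H7.Ree

open Cfsg.Agent.Lib.H12.ReeC Cfsg.Agent.Lib.H12.ReeC.RSys

variable {G K : Type*} [Group G] [Field K] {R : RSys G K} [Fintype K] [Finite G]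

/-- the elements of square one of a commutative subgroup form a subgroup -/
def k7Sq (C₀ : Subgroup G) (hcomm : ∀ u ∈ C₀, ∀ v ∈ C₀, u * v = v * u) : Subgroup G :=
  { carrier := {u | u ∈ C₀ ∧ u * u = 1}
    mul_mem' := by
      rintro u v ⟨hu, hu2⟩ ⟨hv, hv2⟩
      refine ⟨mul_mem hu hv, ?_⟩
      calc u * v * (u * v) = u * (v * u) * v := by group
        _ = u * (u * v) * v := by rw [hcomm v hv u hu]
        _ = (u * u) * (v * v) := by group
        _ = 1 := by rw [hu2, hv2, one_mul]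
    one_mem' := ⟨one_mem _, one_mul 1⟩
    inv_mem' := by
      rintro u ⟨hu, hu2⟩
      refine ⟨inv_mem hu, ?_⟩
      rw [← mul_inv_rev, hu2, inv_one] }

theorem k7Sq_mem (C₀ : Subgroup G) (hcomm : ∀ u ∈ C₀, ∀ v ∈ C₀, u * v = v * u) (u : G) :
    u ∈ k7Sq C₀ hcomm ↔ u ∈ C₀ ∧ u * u = 1 := Iff.rfl

/-- the four-group of a commutative subgroup of order `q + 1` -/
theorem ReeData.k7_card_sq {q : ℕ} (D : R.ReeData q) (C₀ : Subgroup G) (hcard : Nat.card C₀ = q + 1)
    (hcomm : ∀ u ∈ C₀, ∀ v ∈ C₀, u * v = v * u) : Nat.card (k7Sq C₀ hcomm) = 4 := by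
  obtain ⟨k, hN, hk⟩ := D.two_part
  have he := D.odd_e
  have hq1 : q + 1 = 4 * ((q + 1) / 4) := D.e4
  set V := k7Sq C₀ hcomm with hVdef
  have hVle : V ≤ C₀ := fun u hu => hu.1
  have : Fact (Nat.Prime 2) := ⟨Nat.prime_two⟩
  apply le_antisymm
  · have hpg : IsPGroup 2 V := by
      rintro ⟨v, hv⟩
      refine ⟨1, ?_⟩
      apply Subtype.ext
      rw [pow_one, Subgroup.coe_pow, Subgroup.coe_one, pow_two]
      exact hv.2
    obtain ⟨j, hj⟩ := (IsPGroup.iff_card (p := 2)).mp hpg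
    have h1 : Nat.card V ∣ 4 * ((q + 1) / 4) := by
      rw [← hq1, ← hcard]; exact Subgroup.card_dvd_of_le hVle
    rw [hj] at h1 ⊢
    have h2 : Nat.Coprime (2 ^ j) ((q + 1) / 4) :=
      Nat.Coprime.pow_left j (Nat.coprime_two_left.mpr he)
    exact Nat.le_of_dvd (by norm_num) (Nat.Coprime.dvd_of_dvd_mul_right h2 h1)
  · have hdvd : 2 ^ 2 ∣ Nat.card C₀ := by
      rw [hcard, hq1]; exact Dvd.intro _ rfl
    obtain ⟨V', hV'⟩ := Sylow.exists_subgroup_card_pow_prime 2 hdvd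
    have hV'' : Nat.card (V'.map C₀.subtype) = 4 := by
      rw [Subgroup.card_map_of_injective C₀.subtype_injective, hV']; norm_num
    have hpg : IsPGroup 2 (V'.map C₀.subtype) := IsPGroup.of_card (n := 2) (by rw [hV'']; norm_num)
    have hle : V'.map C₀.subtype ≤ V := by
      intro u hu
      refine ⟨?_, R.two_group_sq D.hq8' k hN hk _ hpg u hu⟩
      obtain ⟨w, -, rfl⟩ := hu
      exact w.2
    rw [← hV'']
    exact Subgroup.card_le_of_le hle

/-- **REE-K7**: a non-trivial `w` with `w^((q+1)/4) = 1` commutes with exactly three involutions. -/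
theorem ReeData.card_involutions_centralizer {q : ℕ} (D : R.ReeData q) (w : G) (hw1 : w ≠ 1)
    (hw : w ^ ((q + 1) / 4) = 1) :
    Nat.card {v : G // v ≠ 1 ∧ v * v = 1 ∧ v * w = w * v} = 3 := by
  obtain ⟨hcard, hcomm⟩ := D.tor_centralizer w hw1 hw
  have hV := ReeData.k7_card_sq D (Subgroup.centralizer {w}) hcard hcomm
  set V := k7Sq (Subgroup.centralizer {w}) hcomm with hVdef
  have hS : {v : G | v ≠ 1 ∧ v * v = 1 ∧ v * w = w * v} = (V : Set G) \ {1} := by
    ext v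
    simp only [Set.mem_ofPred_eq, Set.mem_sdiff, SetLike.mem_coe, Set.mem_singleton_iff]
    rw [hVdef, k7Sq_mem, Subgroup.mem_centralizer_iff]
    constructor
    · rintro ⟨h1, h2, h3⟩
      refine ⟨⟨?_, h2⟩, h1⟩
      intro h hh
      rw [Set.mem_singleton_iff] at hh
      rw [hh]; exact h3.symm
    · rintro ⟨⟨h3, h2⟩, h1⟩
      exact ⟨h1, h2, (h3 w rfl).symm⟩
  show Nat.card ({v : G | v ≠ 1 ∧ v * v = 1 ∧ v * w = w * v} : Set G) = 3
  rw [Nat.card_coe_set_eq, hS, Set.ncard_sdiff_singleton_of_mem (one_mem V), ← Nat.card_coe_set_eq]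
  show Nat.card V - 1 = 3
  rw [hV]

end Cfsg.Agent.Lib.H7.Ree
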