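import Mathlib

/-!
# S3814 : cut, level 1 (helper7, architect)

Definitions and `Prop`-valued piece statements for S3814.  Nothing here is proved except the
(trivial) assembly `core`.  All pieces live in ONE universe `u`.

Notation of the board: (J) = `Pairs`, (N) = `NoTriple`, "x fixed-point-free on V" = `Fpf x V`,
"H contains C_t x C_t" = `Rank2 H t`.
-/

namespace Cfsg.Agent.H7.S3814Defs

universe u

/-- (J): every product of two distinct primes of `σ` is an element order. -/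
def Pairs (G : Type u) [Group G] (σ : Finset ℕ) : Prop :=
  ∀ p ∈ σ, ∀ q ∈ σ, p ≠ q → ∃ g : G, orderOf g = p * q

/-- (N): no product of three distinct primes of `σ` is an element order. -/
def NoTriple (G : Type u) [Group G] (σ : Finset ℕ) : Prop :=
  ∀ p ∈ σ, ∀ q ∈ σ, ∀ r ∈ σ, p ≠ q → q ≠ r → p ≠ r → ∀ g : G, orderOf g ≠ p * q * r

/-- A counterexample to the core statement: a finite solvable `σ`-group, `|σ| = 4`,
with (J) and (N). -/
structure IsCex (G : Type u) [Group G] (σ : Finset ℕ) : Prop where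
  fin : Finite G
  sol : Group.IsSolvable G
  card4 : σ.card = 4
  prime : ∀ p ∈ σ, p.Prime
  sgrp : ∀ p : ℕ, p.Prime → p ∣ Nat.card G → p ∈ σ
  pairs : Pairs G σ
  notriple : NoTriple G σ

/-- Minimality in the usable form: no proper subgroup has (J). -/
def MinSub (G : Type u) [Group G] (σ : Finset ℕ) : Prop :=
  ∀ H : Subgroup G, Pairs ↥H σ → H = ⊤

variable {G : Type u} [Group G]

/-- `x` has no nontrivial fixed point on `V` (conjugation action): `C_V(x) = 1`. -/
def Fpf (x : G) (V : Subgroup G) : Prop := ∀ v ∈ V, x * v = v * x → v = 1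

/-- `H` contains a subgroup `C_t x C_t`. -/
def Rank2 (H : Subgroup G) (t : ℕ) : Prop :=
  ∃ e₁ ∈ H, ∃ e₂ ∈ H, orderOf e₁ = t ∧ orderOf e₂ = t ∧ e₁ * e₂ = e₂ * e₁ ∧
    e₂ ∉ Subgroup.zpowers e₁

/-- `V` is elementary abelian of exponent dividing `p` (spelled out, no instances). -/
def ElemAb (p : ℕ) (V : Subgroup G) : Prop :=
  (∀ v ∈ V, ∀ w ∈ V, v * w = w * v) ∧ ∀ v ∈ V, v ^ p = 1

/-- Shape (I): `G = V ⋊ K`, `V` a normal elementary abelian `p`-subgroup, `K` a `p'`-complement,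
faithful and irreducible on `V`. -/
structure ShapeI (σ : Finset ℕ) (p : ℕ) (V K : Subgroup G) : Prop where
  hp : p ∈ σ
  normal : V.Normal
  elem : ElemAb p V
  ne_bot : V ≠ ⊥
  compl_inf : V ⊓ K = ⊥
  compl_sup : V ⊔ K = ⊤
  coprime : (Nat.card K).Coprime p
  faithful : ∀ k ∈ K, (∀ v ∈ V, k * v = v * k) → k = 1
  irred : ∀ U : Subgroup G, U ≤ V → K ≤ Subgroup.normalizer (U : Set G) → U = ⊥ ∨ U = V

/-- Shape (II): `G = (V × W) ⋊ X`, `V`, `W` normal elementary abelian `p`- resp. `q`-subgroups,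
`X` a `{p,q}'`-complement. -/
structure ShapeII (σ : Finset ℕ) (p q : ℕ) (V W X : Subgroup G) : Prop where
  hp : p ∈ σ
  hq : q ∈ σ
  hpq : p ≠ q
  normalV : V.Normal
  normalW : W.Normal
  elemV : ElemAb p V
  elemW : ElemAb q W
  neV : V ≠ ⊥
  neW : W ≠ ⊥
  compl_inf : (V ⊔ W) ⊓ X = ⊥
  compl_sup : (V ⊔ W) ⊔ X = ⊤
  coprimeP : (Nat.card X).Coprime p
  coprimeQ : (Nat.card X).Coprime q

/-! ## Level 1 pieces -/

/-- The core statement (same proposition as helper2's `CoreStmt`, in `IsCex` form). -/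
def CoreStmt : Prop :=
  ∀ (G : Type u) [Group G] (σ : Finset ℕ), IsCex G σ → False

/-- PIECE MIN: a counterexample of minimal order. -/
def ExistsMinStmt : Prop :=
  ∀ (H : Type u) [Group H] (τ : Finset ℕ), IsCex H τ →
    ∃ (G : Type u) (_ : Group G) (σ : Finset ℕ), IsCex G σ ∧ MinSub G σ

/-- PIECE DICH (frame C): a minimal counterexample has shape (I) or shape (II). -/
def DichotomyStmt : Prop :=
  ∀ (G : Type u) [Group G] (σ : Finset ℕ), IsCex G σ → MinSub G σ →
    (∃ (p : ℕ) (V K : Subgroup G), ShapeI σ p V K) ∨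
    (∃ (p q : ℕ) (V W X : Subgroup G), ShapeII σ p q V W X)

/-- PIECE SHAPE-I (frames D, E): shape (I) is impossible. -/
def ShapeIStmt : Prop :=
  ∀ (G : Type u) [Group G] (σ : Finset ℕ), IsCex G σ → MinSub G σ →
    ∀ (p : ℕ) (V K : Subgroup G), ShapeI σ p V K → False

/-- PIECE SHAPE-II (frame B = lemma (MP)): shape (II) is impossible. -/
def ShapeIIStmt : Prop :=
  ∀ (G : Type u) [Group G] (σ : Finset ℕ), IsCex G σ → MinSub G σ →
    ∀ (p q : ℕ) (V W X : Subgroup G), ShapeII σ p q V W X → False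

/-- Level-1 assembly. -/
theorem core (hMin : ExistsMinStmt.{u}) (hD : DichotomyStmt.{u}) (hI : ShapeIStmt.{u})
    (hII : ShapeIIStmt.{u}) : CoreStmt.{u} := by
  intro H _ τ hH
  obtain ⟨G, _, σ, hG, hmin⟩ := hMin H τ hH
  rcases hD G σ hG hmin with ⟨p, V, K, h⟩ | ⟨p, q, V, W, X, h⟩
  · exact hI G σ hG hmin p V K h
  · exact hII G σ hG hmin p q V W X h

end Cfsg.Agent.H7.S3814Defs
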