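import Mathlib
import Cfsg.Prelude.Def_Local
import Cfsg.Agent.Lib.H7.PLocal
import Cfsg.Agent.Lib.H7.Coprime
import Cfsg.Agent.Lib.H1.PCore

set_option autoImplicit false
open Cfsg

namespace Cfsg.Agent.Lib.H7

universe u

/-- A subgroup all of whose `p'`-elements are trivial is a `p`-group. -/
theorem isPGroup_of_forall_coprime_eq_one {N : Type u} [Group N] [Finite N] (p : ℕ)
    [hp : Fact p.Prime] {K : Subgroup N} (h : ∀ k ∈ K, (orderOf k).Coprime p → k = 1) :
    IsPGroup p K := by
  intro g
  obtain ⟨a, m, hm, hom⟩ :=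
    Nat.exists_eq_pow_mul_and_not_dvd (orderOf_pos (g : N)).ne' p hp.out.ne_one
  refine ⟨a, ?_⟩
  apply Subtype.ext
  rw [Subgroup.coe_pow, Subgroup.coe_one]
  apply h _ (K.pow_mem g.2 _)
  rw [orderOf_pow, hom, Nat.gcd_eq_right (Dvd.intro _ rfl)]
  rw [Nat.mul_div_cancel_left _ (pow_pos hp.out.pos a)]
  exact ((Nat.Prime.coprime_iff_not_dvd hp.out).2 hm).symm

/-- If `x ∈ O_p(N)` and `C_N(x)` has characteristic `p`, then `N` has characteristic `p`. -/
theorem centralizer_pCore_le_of_centralizer_singleton {N : Type u} [Group N] [Finite N] (p : ℕ)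
    [hp : Fact p.Prime] {x : N} (hx : x ∈ pCore p N)
    (hD : Subgroup.centralizer (pCore p ↥(Subgroup.centralizer ({x} : Set N)) :
        Set ↥(Subgroup.centralizer ({x} : Set N))) ≤ pCore p ↥(Subgroup.centralizer ({x} : Set N))) :
    Subgroup.centralizer (pCore p N : Set N) ≤ pCore p N := by
  have hQn : (pCore p N).Normal := Cfsg.Agent.Lib.H1.pCore_normal p N
  have hQp : IsPGroup p (pCore p N) := Cfsg.Agent.Lib.H1.pCore_isPGroup p N
  have hKn : (Subgroup.centralizer (pCore p N : Set N)).Normal := inferInstance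
  apply Cfsg.Agent.Lib.H1.le_pCore hKn
  apply isPGroup_of_forall_coprime_eq_one p
  intro k hk hkc
  have hKD : Subgroup.centralizer (pCore p N : Set N) ≤ Subgroup.centralizer ({x} : Set N) :=
    Subgroup.centralizer_le (Set.singleton_subset_iff.2 hx)
  have hDn : (pCore p ↥(Subgroup.centralizer ({x} : Set N))).Normal :=
    Cfsg.Agent.Lib.H1.pCore_normal p _
  have hDp : IsPGroup p (pCore p ↥(Subgroup.centralizer ({x} : Set N))) :=
    Cfsg.Agent.Lib.H1.pCore_isPGroup p _
  -- R = O_p(D) inside N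
  have hRp : IsPGroup p ((pCore p ↥(Subgroup.centralizer ({x} : Set N))).map
      (Subgroup.centralizer ({x} : Set N)).subtype) := hDp.map _
  have hDR : Subgroup.centralizer ({x} : Set N) ≤ Subgroup.normalizer
      (((pCore p ↥(Subgroup.centralizer ({x} : Set N))).map
        (Subgroup.centralizer ({x} : Set N)).subtype : Subgroup N) : Set N) := by
    intro d hd
    rw [Subgroup.mem_normalizer_iff]
    intro y
    constructor
    · rintro ⟨z, hz, rfl⟩
      exact ⟨⟨d, hd⟩ * z * ⟨d, hd⟩⁻¹, hDn.conj_mem z hz _, rfl⟩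
    · rintro ⟨z, hz, hzy⟩
      refine ⟨⟨d, hd⟩⁻¹ * z * ⟨d, hd⟩, ?_, ?_⟩
      · have := hDn.conj_mem z hz ⟨d, hd⟩⁻¹
        simpa using this
      · simp only [Subgroup.coe_subtype, Subgroup.coe_mul, InvMemClass.coe_inv] at hzy ⊢
        rw [hzy]; group
  have hRD : (pCore p ↥(Subgroup.centralizer ({x} : Set N))).map
      (Subgroup.centralizer ({x} : Set N)).subtype ≤ Subgroup.centralizer ({x} : Set N) :=
    Subgroup.map_subtype_le _
  -- R ⊓ K ≤ Q
  have hRK : (pCore p ↥(Subgroup.centralizer ({x} : Set N))).map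
      (Subgroup.centralizer ({x} : Set N)).subtype ⊓ Subgroup.centralizer (pCore p N : Set N) ≤
      pCore p N := by
    have h1 : (((pCore p ↥(Subgroup.centralizer ({x} : Set N))).map
        (Subgroup.centralizer ({x} : Set N)).subtype).subgroupOf
          (Subgroup.centralizer (pCore p N : Set N))).Normal := by
      exact Subgroup.normal_subgroupOf_of_le_normalizer (hKD.trans hDR)
    have h2 : ((pCore p ↥(Subgroup.centralizer ({x} : Set N))).map
        (Subgroup.centralizer ({x} : Set N)).subtype).subgroupOf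
          (Subgroup.centralizer (pCore p N : Set N)) ≤
        pCore p ↥(Subgroup.centralizer (pCore p N : Set N)) :=
      Cfsg.Agent.Lib.H1.le_pCore h1 hRp.comap_subtype
    have hchar : (pCore p ↥(Subgroup.centralizer (pCore p N : Set N))).Characteristic :=
      Cfsg.Agent.Lib.H1.pCore_characteristic p _
    have h3 : ((pCore p ↥(Subgroup.centralizer (pCore p N : Set N))).map
        (Subgroup.centralizer (pCore p N : Set N)).subtype).Normal := inferInstance
    have h4 : (pCore p ↥(Subgroup.centralizer (pCore p N : Set N))).map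
        (Subgroup.centralizer (pCore p N : Set N)).subtype ≤ pCore p N :=
      Cfsg.Agent.Lib.H1.le_pCore h3 ((Cfsg.Agent.Lib.H1.pCore_isPGroup p _).map _)
    intro y hy
    obtain ⟨hyR, hyK⟩ := Subgroup.mem_inf.1 hy
    exact h4 ⟨⟨y, hyK⟩, h2 (Subgroup.mem_subgroupOf.2 hyR), rfl⟩
  -- A = ⟨k⟩
  have hAK : Subgroup.zpowers k ≤ Subgroup.centralizer (pCore p N : Set N) :=
    (Subgroup.zpowers_le).2 hk
  have hAR : Subgroup.zpowers k ≤ Subgroup.normalizer
      (((pCore p ↥(Subgroup.centralizer ({x} : Set N))).map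
        (Subgroup.centralizer ({x} : Set N)).subtype : Subgroup N) : Set N) :=
    hAK.trans (hKD.trans hDR)
  have hcop : (Nat.card (Subgroup.zpowers k)).Coprime (Nat.card
      ((pCore p ↥(Subgroup.centralizer ({x} : Set N))).map
        (Subgroup.centralizer ({x} : Set N)).subtype : Subgroup N)) := by
    obtain ⟨m, hm⟩ := IsPGroup.iff_card.1 hRp
    rw [hm, Nat.card_zpowers]
    exact Nat.Coprime.pow_right m hkc
  have hcomm1 : ⁅(pCore p ↥(Subgroup.centralizer ({x} : Set N))).map
      (Subgroup.centralizer ({x} : Set N)).subtype, Subgroup.zpowers k⁆ ≤ pCore p N := by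
    refine le_trans (le_inf ?_ ?_) hRK
    · exact Subgroup.le_normalizer_iff_commutator_le_left.1 hAR
    · exact (Subgroup.commutator_mono le_rfl hAK).trans (Subgroup.commutator_le_right _ _)
  have hcomm2 : ⁅⁅(pCore p ↥(Subgroup.centralizer ({x} : Set N))).map
      (Subgroup.centralizer ({x} : Set N)).subtype, Subgroup.zpowers k⁆, Subgroup.zpowers k⁆ = ⊥ := by
    rw [eq_bot_iff]
    refine (Subgroup.commutator_mono hcomm1 hAK).trans ?_
    rw [Subgroup.commutator_comm]
    exact (Subgroup.commutator_eq_bot_iff_le_centralizer.2 le_rfl).le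
  have hcomm3 := commutator_eq_bot_of_commutator_commutator_eq_bot hcop hAR hcomm2
  -- k centralizes O_p(D)
  have hkD : k ∈ Subgroup.centralizer ({x} : Set N) := hKD hk
  have hk' : (⟨k, hkD⟩ : ↥(Subgroup.centralizer ({x} : Set N))) ∈
      pCore p ↥(Subgroup.centralizer ({x} : Set N)) := by
    apply hD
    rw [Subgroup.mem_centralizer_iff]
    intro r hr
    apply Subtype.ext
    have h5 := Subgroup.commutator_eq_bot_iff_le_centralizer.1 hcomm3
    have h6 := h5 (Subgroup.mem_map_of_mem _ hr)
    rw [Subgroup.mem_centralizer_iff] at h6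
    exact (h6 k (Subgroup.mem_zpowers k)).symm
  have h7 := eq_one_of_mem_of_isPGroup_of_coprime hDp hk' (by
    rw [Subgroup.orderOf_mk]; exact hkc)
  exact congrArg Subtype.val h7

theorem pCore_map_equiv_le {X : Type u} {Y : Type*} [Group X] [Group Y] (p : ℕ) [Fact p.Prime]
    (e : X ≃* Y) : (pCore p X).map e.toMonoidHom ≤ pCore p Y := by
  have hn : (pCore p X).Normal := Cfsg.Agent.Lib.H1.pCore_normal p X
  exact Cfsg.Agent.Lib.H1.le_pCore (hn.map _ e.surjective)
    ((Cfsg.Agent.Lib.H1.pCore_isPGroup p X).map _)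

theorem pCore_map_equiv {X : Type u} {Y : Type*} [Group X] [Group Y] (p : ℕ) [Fact p.Prime]
    (e : X ≃* Y) : (pCore p X).map e.toMonoidHom = pCore p Y := by
  apply le_antisymm (pCore_map_equiv_le p e)
  have h := pCore_map_equiv_le p e.symm
  have h2 := Subgroup.map_mono (f := e.toMonoidHom) h
  rw [Subgroup.map_map] at h2
  have h3 : e.toMonoidHom.comp e.symm.toMonoidHom = MonoidHom.id Y := by
    ext x; simp
  rwa [h3, Subgroup.map_id] at h2

/-- Characteristic `p` (`C(O_p) ≤ O_p`) is invariant under isomorphism. -/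
theorem centralizer_pCore_le_of_mulEquiv {X : Type u} {Y : Type*} [Group X] [Group Y] (p : ℕ)
    [Fact p.Prime] (e : X ≃* Y)
    (h : Subgroup.centralizer (pCore p X : Set X) ≤ pCore p X) :
    Subgroup.centralizer (pCore p Y : Set Y) ≤ pCore p Y := by
  intro y hy
  rw [← pCore_map_equiv p e]
  refine ⟨e.symm y, h ?_, by simp⟩
  rw [Subgroup.mem_centralizer_iff]
  intro q hq
  apply e.injective
  rw [map_mul, map_mul, MulEquiv.apply_symm_apply]
  have hq' : e q ∈ pCore p Y := by
    rw [← pCore_map_equiv p e]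
    exact Subgroup.mem_map_of_mem _ hq
  exact Subgroup.mem_centralizer_iff.1 hy _ hq'

end Cfsg.Agent.Lib.H7
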