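import Cfsg.Agent.Lib.H7.SuzMM3Data

set_option autoImplicit false
set_option maxRecDepth 100000

/-!
# S2048, piece M3: the monomial model of `3.Suz` shows `z3 ≠ 1` (helper7)

The seven tables of `SuzM/Tab3.lean` are involutions of `Fin 5346` satisfying the 41 relator words of
the presented triple cover `PC3`; this gives a homomorphism `PC3 →* Perm (Fin 5346)` under which
`z3 = (bfg)^5` moves the point `0`.
-/

namespace Cfsg.Agent.Lib.H7.SuzM

open Cfsg.Agent.Lib.H14.SuzM Cfsg.Agent.Lib.H17.CosetCert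
open Cfsg.Agent.Lib.H17.SuzGlue (gen idx Gen)

theorem good_tabs3 : ∀ t ∈ M3.tabs, Good 13 8192 5346 t := by
  intro t ht
  have h := List.all_eq_true.mp tabs3_ok t ht
  rw [Bool.and_eq_true] at h
  exact good_of_checks _ _ _ t h.1 h.2

theorem tabOf_mem3 (x : ℕ) : M3.tabOf x ∈ M3.tabs := by
  unfold M3.tabOf M3.tabs
  split <;> simp

theorem good_word3 (w : List ℕ) : ∀ t ∈ w.map M3.tabOf, Good 13 8192 5346 t := by
  intro t ht
  obtain ⟨x, -, rfl⟩ := List.mem_map.mp ht
  exact good_tabs3 _ (tabOf_mem3 x)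

theorem cov3_ok : ∀ w ∈ covW3, checkWord 13 8192 (w.map M3.tabOf) 5346 = true := by
  intro w hw
  have h1 : covW3 = covW3.take 21 ++ ((covW3.drop 21).take 4 ++
      ((covW3.drop 25).take 8 ++ covW3.drop 33)) := by
    have e1 : (covW3.drop 25) = (covW3.drop 21).drop 4 := by rw [List.drop_drop]
    have e2 : (covW3.drop 33) = (covW3.drop 25).drop 8 := by rw [List.drop_drop]
    rw [e2, List.take_append_drop, e1, List.take_append_drop, List.take_append_drop]
  rw [h1] at hw
  rcases List.mem_append.mp hw with h | h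
  · exact List.all_eq_true.mp cov3_ok_a w h
  rcases List.mem_append.mp h with h | h
  · exact List.all_eq_true.mp cov3_ok_b w h
  rcases List.mem_append.mp h with h | h
  · exact List.all_eq_true.mp cov3_ok_c w h
  · exact List.all_eq_true.mp cov3_ok_d w h

theorem tabOf_idx_gen (x : ℕ) : M3.tabOf (idx (gen x)) = M3.tabOf x := by
  match x with
  | 0 => rfl
  | 1 => rfl
  | 2 => rfl
  | 3 => rfl
  | 4 => rfl
  | 5 => rfl
  | 6 => rfl
  | _ + 7 => rfl

/-- the permutation of a generator -/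
noncomputable def σ3 (u : Gen) : Equiv.Perm (Fin 5346) := σ 13 8192 5346 (M3.tabOf (idx u))

theorem σ3_gen (x : ℕ) : σ3 (gen x) = σ 13 8192 5346 (M3.tabOf x) := by
  unfold σ3
  rw [tabOf_idx_gen]

theorem lift_mk_pos {K : Type*} [Group K] (f : Gen → K) (w : List ℕ) :
    FreeGroup.lift f (FreeGroup.mk (w.map fun x => (gen x, true))) =
      (w.map fun x => f (gen x)).prod := by
  rw [FreeGroup.lift_mk, List.map_map]
  rfl

theorem σ3_rels : ∀ r ∈ covRels3, FreeGroup.lift σ3 r = 1 := by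
  rintro r ⟨w, hw, rfl⟩
  rw [lift_mk_pos]
  have h := prod_eq_one_of_check 13 8192 5346 _ (good_word3 w) (cov3_ok w hw)
  rw [List.map_map] at h
  rw [← h]
  congr 1
  apply List.map_congr_left
  intro x _
  exact σ3_gen x

/-- the monomial representation of the triple cover -/
noncomputable def φ3 : PC3 →* Equiv.Perm (Fin 5346) :=
  PresentedGroup.toGroup (f := σ3) σ3_rels

theorem φ3_pc3 (x : ℕ) : φ3 (pc3 x) = σ 13 8192 5346 (M3.tabOf x) := by
  unfold φ3 pc3
  rw [PresentedGroup.toGroup.of, σ3_gen]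

theorem φ3_wv (w : List ℕ) :
    φ3 (wv pc3 w) = ((w.map M3.tabOf).map (σ 13 8192 5346)).prod := by
  induction w with
  | nil => rw [wv_nil, map_one]; rfl
  | cons x w ih =>
    rw [wv_cons, map_mul, ih, φ3_pc3, List.map_cons, List.map_cons, List.prod_cons]

theorem φ3_z3 : φ3 z3 = ((zw.map M3.tabOf).map (σ 13 8192 5346)).prod := φ3_wv zw

theorem z3_ne_one : z3 ≠ 1 := by
  intro h
  have h1 : φ3 z3 = 1 := by rw [h, map_one]
  rw [φ3_z3] at h1
  have h2 := prod_apply 13 8192 5346 (zw.map M3.tabOf) (good_word3 zw) ⟨0, by decide⟩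
  rw [h1] at h2
  have h3 : applyT 13 8192 (zw.map M3.tabOf).reverse 0 = 0 := h2.symm
  have h4 := z3_moves
  rw [h3] at h4
  exact absurd h4 (by decide)

end Cfsg.Agent.Lib.H7.SuzM
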