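import Mathlib
import Cfsg.Agent.Lib.H7.K4Defs
import Cfsg.Agent.Lib.H3.H108Model

/-!
# S3701 (helper7 blueprint): definitions

`H = T : K ≤ G`, `T = 3^3`, `K` the even sign changes, `N_G(T) = H`, `C_G(t) ≤ H` for `t ∈ T#` ⇒ `G = H`.
See `tools/blueprints/S3701.md`.  The model of `H` is helper3's `M3 = ker (sign product) ≤ S3 × S3 × S3`
(`Lib/H3/H108Model`).  The dual group of `T` is `V = (ZMod 3)^3`, `K` acts through the four even sign
vectors `Ksgn` (`2 = -1`).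
-/

set_option autoImplicit false

namespace Cfsg.Agent.Lib.H7.T27

open Cfsg Cfsg.Agent.Lib.H7.K4 Cfsg.Agent.Lib.H3.H108

/-- the dual group of `T` (and `T` itself, written additively) -/
abbrev V := ZMod 3 × ZMod 3 × ZMod 3

/-- the four even sign vectors (`2 = -1` in `ZMod 3`) -/
def Ksgn : Finset V := {(1, 1, 1), (1, 2, 2), (2, 1, 2), (2, 2, 1)}

/-- coordinatewise product: the action of a sign vector -/
def act (κ a : V) : V := (κ.1 * a.1, κ.2.1 * a.2.1, κ.2.2 * a.2.2)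

/-- the pairing `T^ × T → ZMod 3` -/
def dot (a t : V) : ZMod 3 := a.1 * t.1 + a.2.1 * t.2.1 + a.2.2 * t.2.2

/-- `n(a,b) = #{κ ∈ K | κ a = b}` -/
def nn (a b : V) : ℕ := (Ksgn.filter (fun κ => act κ a = b)).card

/-- discrete logarithm on `A3 = ⟨c3⟩` (junk `0` off `A3`) -/
def lg (a : S3) : ZMod 3 := if a = c3 then 1 else if a = c3⁻¹ then 2 else 0

/-- discrete logarithm on the `T`-part of `S3 × S3 × S3` -/
def lg3 (s : S333) : V := (lg s.1, lg s.2.1, lg s.2.2)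

/-- the primitive cube root of unity -/
noncomputable def ζ : ℂ := Complex.exp (2 * Real.pi * Complex.I / 3)

/-- `S_a = Ind_T^{M3} λ_a`, `λ_a(t) = ζ^(a·t)`, as an explicit function on `M3` -/
noncomputable def Sfun (a : V) (s : ↥M3) : ℂ :=
  if (s : S333) ^ 3 = 1 then ∑ κ ∈ Ksgn, ζ ^ (dot (act κ a) (lg3 (s : S333))).val else 0

/-- representatives of the five regular `K`-orbits on `V` -/
def r : Fin 5 → V := ![(0, 1, 1), (1, 0, 1), (1, 1, 0), (1, 1, 1), (1, 1, 2)]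

/-- `e₂` -/
def e2 : V := (0, 1, 0)

/-- `e₃` -/
def e3 : V := (0, 0, 1)

/-- `2` at `0`, `-1` elsewhere: `ζ^s + ζ^(-s)` -/
def cc (s : ZMod 3) : ℤ := if s = 0 then 2 else -1

/-- the weight of `108 ⟨I(r 0) - I(r 1), ·⟩` -/
def u0 (t : V) : ℤ := cc t.2.2 * (cc t.2.1 - cc t.1)

/-- the weight of `6 ⟨I 0 + 2 I e₃ - I e₂ - 2 I (r 0), ·⟩`: the indicator of `t₂ ≠ 0, t₃ = 0` -/
def v0 (t : V) : ℤ := if t.2.1 ≠ 0 ∧ t.2.2 = 0 then 1 else 0

/-- the weight of `6 ⟨I 0 + 2 I e₂ - I e₃ - 2 I (r 0), ·⟩`: the indicator of `t₃ ≠ 0, t₂ = 0` -/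
def w0 (t : V) : ℤ := if t.2.2 ≠ 0 ∧ t.2.1 = 0 then 1 else 0

/-- the number of solutions of `s₁^g s₂^k = s` in `M3` -/
def cnt3 (s1 s2 s : ↥M3) : ℕ :=
  ∑ g : ↥M3, ∑ k : ↥M3, if (g * s1 * g⁻¹) * (k * s2 * k⁻¹) = s then 1 else 0

/-- the abstract datum -/
structure Hyp3 (G : Type*) [Group G] where
  /-- the normaliser of `T` -/
  N : Subgroup G
  /-- its identification with `M3` -/
  e : ↥N ≃* ↥M3
  /-- the 3-singular elements of `N` form a TI set with normaliser `N` -/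
  ti : ∀ g d : G, d ∈ N → d ^ 4 ≠ 1 → g * d * g⁻¹ ∈ N → g ∈ N

namespace Hyp3

variable {G : Type*} [Group G] (h : Hyp3 G)

/-- the element of `G` with coordinates `s` -/
def el (s : ↥M3) : G := ((h.e.symm s : ↥h.N) : G)

/-- a function on `M3` as a function on `N` -/
def pull (f : ↥M3 → ℂ) : ↥h.N → ℂ := fun n => f (h.e n)

/-- the linear form `F ↦ Σ_{t ∈ T} wt(t) F(t)` -/
noncomputable def Lf (wt : V → ℤ) (F : G → ℂ) : ℂ :=
  ∑ s : ↥M3, if (s : S333) ^ 3 = 1 then ((wt (lg3 (s : S333)) : ℤ) : ℂ) * F (h.el s) else 0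

theorem el_mem (s : ↥M3) : h.el s ∈ h.N := (h.e.symm s).2

theorem e_el (s : ↥M3) : h.e ⟨h.el s, h.el_mem s⟩ = s := by
  show h.e (h.e.symm s) = s
  exact h.e.apply_symm_apply s

theorem el_e (n : ↥h.N) : h.el (h.e n) = n := by
  show ((h.e.symm (h.e n) : ↥h.N) : G) = n
  rw [h.e.symm_apply_apply]

theorem el_mul (s t : ↥M3) : h.el (s * t) = h.el s * h.el t := by
  show ((h.e.symm (s * t) : ↥h.N) : G) = _
  rw [map_mul]; rfl

theorem el_one : h.el 1 = 1 := by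
  show ((h.e.symm 1 : ↥h.N) : G) = 1
  rw [map_one]; rfl

theorem el_inv (s : ↥M3) : h.el s⁻¹ = (h.el s)⁻¹ := by
  show ((h.e.symm s⁻¹ : ↥h.N) : G) = _
  rw [map_inv]; rfl

theorem el_pow (s : ↥M3) (k : ℕ) : h.el (s ^ k) = h.el s ^ k := by
  show ((h.e.symm (s ^ k) : ↥h.N) : G) = _
  rw [map_pow]; rfl

theorem el_injective : Function.Injective h.el := by
  intro s t hst
  have : h.e.symm s = h.e.symm t := Subtype.ext hst
  exact h.e.symm.injective this

theorem card_N : Nat.card ↥h.N = 108 := by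
  rw [Nat.card_congr h.e.toEquiv, card_M3]

end Hyp3

/-- the induced characters `I(a) = Ind_T^G λ_a = Ind_N^G S_a` -/
noncomputable def Ind {G : Type*} [Group G] [Fintype G] (h : Hyp3 G) (a : V) : G → ℂ :=
  indFun h.N (h.pull (Sfun a))

end Cfsg.Agent.Lib.H7.T27
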