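import Mathlib
import Cfsg.Prelude.Def_Local
import Cfsg.Agent.Lib.H7.Quasisimple

set_option autoImplicit false

namespace Cfsg.Agent.Lib.H7.AltStd

open Cfsg Equiv Equiv.Perm
open scoped Pointwise commutatorElement

universe u

/-- A nonabelian simple group is quasisimple. -/
theorem quasisimple_of_simple {X : Type u} [Group X] [hs : IsSimpleGroup X]
    (hna : ¬ IsMulCommutative X) : IsQuasisimple X := by
  have hc : Subgroup.center X = ⊥ := by
    rcases (inferInstance : (Subgroup.center X).Normal).eq_bot_or_eq_top with h | h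
    · exact h
    · exact absurd (Subgroup.center_eq_top_iff.1 h) hna
  refine ⟨?_, ?_⟩
  · rw [Group.isPerfect_def]
    rcases (inferInstance : (commutator X).Normal).eq_bot_or_eq_top with h | h
    · exfalso
      apply hna
      refine ⟨⟨fun a b => ?_⟩⟩
      have : ⁅a, b⁆ ∈ commutator X := Subgroup.commutator_mem_commutator (Subgroup.mem_top a) (Subgroup.mem_top b)
      rw [h, Subgroup.mem_bot] at this
      exact commutatorElement_eq_one_iff_mul_comm.1 this
    · exact h
  · let e : X ⧸ Subgroup.center X ≃* X :=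
      (QuotientGroup.quotientMulEquivOfEq hc).trans QuotientGroup.quotientBot
    have : Nontrivial (X ⧸ Subgroup.center X) := e.toEquiv.nontrivial
    exact IsSimpleGroup.isSimpleGroup_of_surjective e.symm.toMonoidHom e.symm.surjective

variable {α : Type*} [Fintype α] [DecidableEq α]

/-- The even permutations with support inside `s`. -/
abbrev R (s : Finset α) : Subgroup (alternatingGroup α) := (alternatingGroup.ofSubtype s).range

theorem mem_R_iff (s : Finset α) (k : alternatingGroup α) :
    k ∈ R s ↔ (k : Perm α).support ⊆ s :=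
  alternatingGroup.mem_range_ofSubtype_iff s k

theorem R_inf (s t : Finset α) : R s ⊓ R t = R (s ∩ t) := by
  ext k
  rw [Subgroup.mem_inf, mem_R_iff, mem_R_iff, mem_R_iff, Finset.subset_inter_iff]

theorem R_mono {s t : Finset α} (h : s ⊆ t) : R s ≤ R t := by
  intro k hk
  rw [mem_R_iff] at hk ⊢
  exact hk.trans h

theorem map_conj_R (s : Finset α) (g : alternatingGroup α) :
    (R s).map (MulAut.conj g).toMonoidHom = R (g • s) := by
  exact alternatingGroup.conj_smul_range_ofSubtype s g

/-- `R s ≃* Alt(s)`. -/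
noncomputable def equivR (s : Finset α) : alternatingGroup s ≃* R s :=
  MonoidHom.ofInjective (alternatingGroup.ofSubtype_injective (s := s))

theorem card_R (s : Finset α) (hs : 2 ≤ s.card) : Nat.card (R s) = (s.card).factorial / 2 := by
  rw [← Nat.card_congr (equivR s).toEquiv]
  have : Nontrivial s := by
    rw [← Fintype.one_lt_card_iff_nontrivial, Fintype.card_coe]
    omega
  rw [nat_card_alternatingGroup, Nat.card_eq_fintype_card, Fintype.card_coe]

theorem card_R_odd (s : Finset α) (hs : s.card ≤ 3) : Odd (Nat.card (R s)) := by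
  rw [← Nat.card_congr (equivR s).toEquiv]
  by_cases h2 : s.card ≤ 2
  · have : alternatingGroup s = ⊥ := alternatingGroup.eq_bot_of_card_le_two (by
      rw [Nat.card_eq_fintype_card, Fintype.card_coe]; exact h2)
    rw [this]
    simp
  · have h3 : s.card = 3 := by omega
    have : Nontrivial s := by
      rw [← Fintype.one_lt_card_iff_nontrivial, Fintype.card_coe]
      omega
    rw [nat_card_alternatingGroup, Nat.card_eq_fintype_card, Fintype.card_coe, h3]
    decide

theorem quasisimple_R (s : Finset α) (hs : 5 ≤ s.card) : IsQuasisimple (R s) := by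
  have h5 : 5 ≤ Nat.card s := by
    rw [Nat.card_eq_fintype_card, Fintype.card_coe]; exact hs
  have : IsSimpleGroup (alternatingGroup s) := alternatingGroup.isSimpleGroup h5
  have hna : ¬ IsMulCommutative (alternatingGroup s) := by
    rw [alternatingGroup.isMulCommutative_iff_card_le_three]
    omega
  exact quasisimple_of_mulEquiv (equivR s) (quasisimple_of_simple hna)

omit [Fintype α] in
/-- picking two further points -/
theorem exists_two (s : Finset α) (hs : 4 ≤ s.card) (x y : α) :
    ∃ a ∈ s, ∃ b ∈ s, a ≠ b ∧ a ≠ x ∧ a ≠ y ∧ b ≠ x ∧ b ≠ y := by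
  have h1 : 1 < ((s.erase x).erase y).card := by
    have h1 := Finset.pred_card_le_card_erase (s := s) (a := x)
    have h2 := Finset.pred_card_le_card_erase (s := s.erase x) (a := y)
    omega
  obtain ⟨a, ha, b, hb, hab⟩ := Finset.one_lt_card.1 h1
  rw [Finset.mem_erase, Finset.mem_erase] at ha hb
  exact ⟨a, ha.2.2, b, hb.2.2, hab, ha.2.1, ha.1, hb.2.1, hb.1⟩

/-- a 3-cycle `x ↦ a ↦ b ↦ x` as element of the alternating group -/
def cyc3 (x a b : α) (hxa : x ≠ a) (hab : a ≠ b) : alternatingGroup α :=
  ⟨swap x a * swap a b, mul_mem_alternatingGroup_of_isSwap ⟨x, a, hxa, rfl⟩ ⟨a, b, hab, rfl⟩⟩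

theorem cyc3_mem_R {s : Finset α} {x a b : α} (hxa : x ≠ a) (hab : a ≠ b) (hx : x ∈ s) (ha : a ∈ s)
    (hb : b ∈ s) : cyc3 x a b hxa hab ∈ R s := by
  rw [mem_R_iff]
  intro y hy
  rw [Perm.mem_support] at hy
  by_contra hys
  apply hy
  have h1 : y ≠ x := fun h => hys (h ▸ hx)
  have h2 : y ≠ a := fun h => hys (h ▸ ha)
  have h3 : y ≠ b := fun h => hys (h ▸ hb)
  show (swap x a * swap a b) y = y
  rw [Perm.mul_apply, swap_apply_of_ne_of_ne h2 h3, swap_apply_of_ne_of_ne h1 h2]

theorem cyc3_apply (x a b : α) (hxa : x ≠ a) (hab : a ≠ b) (hxb : x ≠ b) :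
    (cyc3 x a b hxa hab : Perm α) x = a := by
  show (swap x a * swap a b) x = a
  rw [Perm.mul_apply, swap_apply_of_ne_of_ne hxa hxb, swap_apply_left]

theorem cyc3_apply_of_ne (x a b y : α) (hxa : x ≠ a) (hab : a ≠ b) (h1 : y ≠ x) (h2 : y ≠ a)
    (h3 : y ≠ b) : (cyc3 x a b hxa hab : Perm α) y = y := by
  show (swap x a * swap a b) y = y
  rw [Perm.mul_apply, swap_apply_of_ne_of_ne h2 h3, swap_apply_of_ne_of_ne h1 h2]

theorem centralizer_R (s : Finset α) (hs : 4 ≤ s.card) :
    Subgroup.centralizer (R s : Set (alternatingGroup α)) = R sᶜ := by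
  ext σ
  rw [Subgroup.mem_centralizer_iff, mem_R_iff]
  constructor
  · intro h x hx
    rw [Perm.mem_support] at hx
    rw [Finset.mem_compl]
    intro hxs
    obtain ⟨a, ha, b, hb, hab, hax, hay, hbx, hby⟩ := exists_two s hs x ((σ : Perm α) x)
    have hc := h (cyc3 x a b hax.symm hab) (SetLike.mem_coe.2 (cyc3_mem_R hax.symm hab hxs ha hb))
    have hc' := congrArg (fun k : alternatingGroup α => (k : Perm α) x) hc
    simp only [Subgroup.coe_mul, Perm.mul_apply] at hc'
    rw [cyc3_apply x a b hax.symm hab hbx.symm,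
      cyc3_apply_of_ne x a b _ hax.symm hab hx hay.symm hby.symm] at hc'
    exact hax ((σ : Perm α).injective hc').symm
  · intro h τ hτ
    rw [SetLike.mem_coe, mem_R_iff] at hτ
    have hd : Perm.Disjoint (τ : Perm α) (σ : Perm α) := by
      rw [Perm.disjoint_iff_disjoint_support]
      refine Finset.disjoint_of_subset_left hτ (Finset.disjoint_of_subset_right h ?_)
      exact disjoint_compl_right
    exact Subtype.ext hd.commute

theorem normalizer_le_normalizer_centralizer' {G : Type*} [Group G] (H : Subgroup G) :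
    Subgroup.normalizer (H : Set G) ≤
      Subgroup.normalizer (Subgroup.centralizer (H : Set G) : Set G) := by
  intro g hg
  rw [Subgroup.mem_normalizer_iff] at hg ⊢
  intro c
  constructor
  · intro hc
    rw [Subgroup.mem_centralizer_iff] at hc ⊢
    intro h hh
    have h1 : g⁻¹ * h * g ∈ H := (hg _).2 (by simpa [mul_assoc] using hh)
    have h2 := hc _ (SetLike.mem_coe.2 h1)
    calc h * (g * c * g⁻¹) = g * (g⁻¹ * h * g * c) * g⁻¹ := by group
      _ = g * (c * (g⁻¹ * h * g)) * g⁻¹ := by rw [h2]
      _ = g * c * g⁻¹ * h := by group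
  · intro hc
    rw [Subgroup.mem_centralizer_iff] at hc ⊢
    intro h hh
    have h1 : g * h * g⁻¹ ∈ H := (hg _).1 hh
    have h2 := hc _ (SetLike.mem_coe.2 h1)
    have h3 : g * (h * c) * g⁻¹ = g * (c * h) * g⁻¹ := by
      calc g * (h * c) * g⁻¹ = g * h * g⁻¹ * (g * c * g⁻¹) := by group
        _ = g * c * g⁻¹ * (g * h * g⁻¹) := h2
        _ = g * (c * h) * g⁻¹ := by group
    exact mul_left_cancel (mul_right_cancel h3)

theorem mem_normalizer_of_map_conj_eq {G : Type*} [Group G] {K : Subgroup G} {g : G}
    (h : K.map (MulAut.conj g).toMonoidHom = K) : g ∈ Subgroup.normalizer (K : Set G) := by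
  rw [Subgroup.mem_normalizer_iff]
  intro k
  constructor
  · intro hk
    rw [← h]
    exact ⟨k, hk, rfl⟩
  · intro hk
    rw [← h] at hk
    obtain ⟨k', hk', he⟩ := hk
    have : k' = k := by
      have he' : g * k' * g⁻¹ = g * k * g⁻¹ := he
      exact mul_left_cancel (mul_right_cancel he')
    exact this ▸ hk'

/-- `Alt(s)` inside `Alt(α)` is a standard subgroup when `|s| ≥ 5` and `|sᶜ| = 4`. -/
theorem standard_R (s : Finset α) (hs : 5 ≤ s.card) (hc : sᶜ.card = 4) :
    IsStandardSubgroup (R s) := by
  have hcent : Subgroup.centralizer (R s : Set (alternatingGroup α)) = R sᶜ :=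
    centralizer_R s (by omega)
  have hcent' : Subgroup.centralizer (R sᶜ : Set (alternatingGroup α)) = R s := by
    rw [centralizer_R sᶜ (by omega), compl_compl]
  have hcardC : Nat.card (R sᶜ) = 12 := by
    rw [card_R sᶜ (by omega), hc]; decide
  refine ⟨quasisimple_R s hs, ?_, ?_, ?_⟩
  · rw [hcent]
    refine ⟨by rw [hcardC]; decide, ?_⟩
    intro g hg
    rw [map_conj_R, R_inf]
    apply card_R_odd
    by_contra hcon
    apply hg
    apply mem_normalizer_of_map_conj_eq
    rw [map_conj_R]
    have h1 : sᶜ ∩ g • sᶜ = sᶜ :=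
      Finset.eq_of_subset_of_card_le Finset.inter_subset_left (by omega)
    have h2 : sᶜ ⊆ g • sᶜ := Finset.inter_eq_left.1 h1
    have h3 : sᶜ = g • sᶜ :=
      Finset.eq_of_subset_of_card_le h2 (by rw [Finset.card_smul_finset])
    rw [← h3]
  · intro g _ hcomm
    rw [Subgroup.commutator_comm, Subgroup.commutator_eq_bot_iff_le_centralizer, hcent,
      map_conj_R] at hcomm
    have h1 := Subgroup.card_le_of_le hcomm
    rw [hcardC, card_R _ (by rw [Finset.card_smul_finset]; omega), Finset.card_smul_finset] at h1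
    have h2 : Nat.factorial 5 ≤ Nat.factorial s.card := Nat.factorial_le hs
    have h3 : Nat.factorial 5 / 2 ≤ Nat.factorial s.card / 2 := Nat.div_le_div_right h2
    have h4 : Nat.factorial 5 / 2 = 60 := by decide
    omega
  · apply le_antisymm
    · exact normalizer_le_normalizer_centralizer' (R s)
    · have := normalizer_le_normalizer_centralizer' (Subgroup.centralizer (R s : Set (alternatingGroup α)))
      rw [hcent] at this ⊢
      rw [hcent'] at this
      exact this

end Cfsg.Agent.Lib.H7.AltStd
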