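import Cfsg.Agent.Lib.H7.TTPrim2
import Cfsg.Agent.Lib.H7.AltStd

set_option autoImplicit false
set_option linter.style.haveILetI false
set_option linter.unusedSectionVars false

/-!
3-transposition groups (helper7): consequences of primitivity; the derived subgroup.
-/

namespace Cfsg.Agent.Lib.H7.TT

open Cfsg Cfsg.Agent.Lib.H26.ThreeTrans
open scoped commutatorElement

variable {G : Type*} [Group G] {D : Set G}

/-- Under primitivity, every invariant equivalence relation is trivial or universal. -/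
theorem InvRel.trivial_or_univ_of_primitive (hprim : IsPrimitiveUnderConj D) {R : G → G → Prop}
    (hR : InvRel D R) : (∀ x y, R x y → x = y) ∨ (∀ x ∈ D, ∀ y ∈ D, R x y) := by
  by_contra hcon
  push Not at hcon
  obtain ⟨⟨a, b, hab, hne⟩, ⟨x, hx, y, hy, hxy⟩⟩ := hcon
  have ha : a ∈ D := hR.mem _ _ hab
  set B : Set G := {y | R a y} with hB
  have hBD : B ⊆ D := fun y hy => hR.mem' hy
  have hblock : ∀ g : G, (fun x => g * x * g⁻¹) '' B = B ∨
      Disjoint ((fun x => g * x * g⁻¹) '' B) B := by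
    intro g
    by_cases hdis : Disjoint ((fun x => g * x * g⁻¹) '' B) B
    · exact Or.inr hdis
    · left
      rw [Set.not_disjoint_iff] at hdis
      obtain ⟨z, ⟨u, hu, rfl⟩, hz⟩ := hdis
      -- `R a (g a g⁻¹)`
      have h1 : R (g * a * g⁻¹) (g * u * g⁻¹) := hR.conj g _ _ hu
      have h2 : R a (g * a * g⁻¹) := hR.trans _ _ _ hz (hR.symm _ _ h1)
      apply Set.Subset.antisymm
      · rintro _ ⟨v, hv, rfl⟩
        exact hR.trans _ _ _ h2 (hR.conj g _ _ hv)
      · intro v hv
        have h3 : R (g * a * g⁻¹) v := hR.trans _ _ _ (hR.symm _ _ h2) hv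
        have h4 := hR.conj g⁻¹ _ _ h3
        have e : g⁻¹ * (g * a * g⁻¹) * g⁻¹⁻¹ = a := by group
        rw [e] at h4
        refine ⟨_, h4, ?_⟩
        show g * (g⁻¹ * v * g⁻¹⁻¹) * g⁻¹ = v
        group
  rcases hprim.2.2 B hBD hblock with h | h
  · exact hne (h (hR.refl a ha) hab)
  · apply hxy
    have h1 : R a x := by
      have : x ∈ B := by rw [h]; exact hx
      exact this
    have h2 : R a y := by
      have : y ∈ B := by rw [h]; exact hy
      exact this
    exact hR.trans _ _ _ (hR.symm _ _ h1) h2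

theorem veqRel_invRel (hconj : ∀ g : G, ∀ d ∈ D, g * d * g⁻¹ ∈ D) :
    InvRel D (fun x y => x ∈ D ∧ Veq D x y) := by
  refine ⟨fun x y h => h.1, fun x hx => ⟨hx, Veq.refl hx⟩, ?_, ?_, ?_⟩
  · rintro x y ⟨hx, h⟩
    exact ⟨h.1, h.symm hx⟩
  · rintro x y z ⟨hx, h1⟩ ⟨_, h2⟩
    exact ⟨hx, h1.trans h2⟩
  · rintro g x y ⟨hx, h⟩
    exact ⟨hconj g x hx, h.conj hconj g⟩

theorem weqRel_invRel (hconj : ∀ g : G, ∀ d ∈ D, g * d * g⁻¹ ∈ D) :
    InvRel D (fun x y => x ∈ D ∧ Weq D x y) := by
  refine ⟨fun x y h => h.1, fun x hx => ⟨hx, Weq.refl hx⟩, ?_, ?_, ?_⟩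
  · rintro x y ⟨hx, h⟩
    exact ⟨h.1, h.symm hx⟩
  · rintro x y z ⟨hx, h1⟩ ⟨_, h2⟩
    exact ⟨hx, h1.trans h2⟩
  · rintro g x y ⟨hx, h⟩
    exact ⟨hconj g x hx, h.conj hconj g⟩

/-- Reachability in the commuting graph, as a relation on `G`. -/
def reachRel (D : Set G) (x y : G) : Prop :=
  ∃ (hx : x ∈ D) (hy : y ∈ D), (commutingGraph D).Reachable ⟨x, hx⟩ ⟨y, hy⟩

theorem reachRel_invRel (hconj : ∀ g : G, ∀ d ∈ D, g * d * g⁻¹ ∈ D) :
    InvRel D (reachRel D) := by
  refine ⟨fun x y h => h.1, fun x hx => ⟨hx, hx, SimpleGraph.Reachable.refl _⟩, ?_, ?_, ?_⟩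
  · rintro x y ⟨hx, hy, h⟩
    exact ⟨hy, hx, h.symm⟩
  · rintro x y z ⟨hx, hy, h1⟩ ⟨hy', hz, h2⟩
    exact ⟨hx, hz, h1.trans h2⟩
  · rintro g x y ⟨hx, hy, h⟩
    refine ⟨hconj g x hx, hconj g y hy, ?_⟩
    rw [SimpleGraph.reachable_iff_reflTransGen] at h ⊢
    have := Relation.ReflTransGen.lift (p := (commutingGraph D).Adj)
      (fun u : D => (⟨g * u.1 * g⁻¹, hconj g u.1 u.2⟩ : D)) ?_ _ _ h
    · exact this
    · intro u v huv
      show (commutingGraph D).Adj (⟨g * u.1 * g⁻¹, hconj g u.1 u.2⟩ : D)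
        (⟨g * v.1 * g⁻¹, hconj g v.1 v.2⟩ : D)
      rw [commutingGraph_adj] at huv ⊢
      refine ⟨?_, ?_⟩
      · intro heq
        apply huv.1
        have h1 := congrArg Subtype.val heq
        simp only at h1
        apply Subtype.ext
        have := congrArg (fun t => g⁻¹ * t * g) h1
        simpa [mul_assoc] using this
      · exact (Commute.conj_iff g).2 huv.2

section fin

variable [Finite G]

theorem pCore_two_le_center_of_primitive (hD : IsThreeTranspositionClass D)
    (hprim : IsPrimitiveUnderConj D) : pCore 2 G ≤ Subgroup.center G := by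
  by_contra hcon
  have hconj := class_conj hD
  obtain ⟨d, hd, v, hv, hne⟩ := exists_veq_ne hD hcon
  rcases (veqRel_invRel hconj).trivial_or_univ_of_primitive hprim with h | h
  · exact hne (h d v ⟨hd, hv⟩).symm
  · obtain ⟨e, he, hnc⟩ := exists_not_commute hD hprim.2.1 hd
    exact hnc (Veq.commute hd (h d hd e he).2)

theorem pCore_three_le_center_of_primitive (hD : IsThreeTranspositionClass D)
    (hprim : IsPrimitiveUnderConj D) (hw : ∃ a ∈ D, ∃ b ∈ D, a ≠ b ∧ Commute a b) :
    pCore 3 G ≤ Subgroup.center G := by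
  by_contra hcon
  have hconj := class_conj hD
  obtain ⟨d, hd, w, hw', hne⟩ := exists_weq_ne hD hcon
  rcases (weqRel_invRel hconj).trivial_or_univ_of_primitive hprim with h | h
  · exact hne (h d w ⟨hd, hw'⟩).symm
  · obtain ⟨a, ha, b, hb, hab, hc⟩ := hw
    exact (h a ha b hb).2.not_commute (Ne.symm hab) hc

omit [Finite G] in
theorem connected_of_primitive (hconj : ∀ g : G, ∀ d ∈ D, g * d * g⁻¹ ∈ D)
    (hprim : IsPrimitiveUnderConj D) (hw : ∃ a ∈ D, ∃ b ∈ D, a ≠ b ∧ Commute a b) :
    (commutingGraph D).Connected := by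
  obtain ⟨a, ha, b, hb, hab, hc⟩ := hw
  rcases (reachRel_invRel hconj).trivial_or_univ_of_primitive hprim with h | h
  · exfalso
    apply hab
    apply h a b
    refine ⟨ha, hb, SimpleGraph.Adj.reachable ?_⟩
    rw [commutingGraph_adj]
    exact ⟨fun heq => hab (congrArg Subtype.val heq), hc⟩
  · haveI : Nonempty D := ⟨⟨a, ha⟩⟩
    rw [SimpleGraph.connected_iff]
    refine ⟨?_, inferInstance⟩
    intro u v
    obtain ⟨_, _, h1⟩ := h u.1 u.2 v.1 v.2
    exact h1

/-- If all members of `D` are congruent modulo the normal subgroup `L`, its index is at most 2. -/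
theorem index_le_two_of_mk_eq (hD : IsThreeTranspositionClass D) {L : Subgroup G} [hLn : L.Normal]
    (hall : ∀ a ∈ D, ∀ b ∈ D, (QuotientGroup.mk a : G ⧸ L) = QuotientGroup.mk b) :
    L.index ≤ 2 := by
  have hS := hD.1
  obtain ⟨d₀, hd₀, -⟩ := hD.2.1
  have hx2 : (QuotientGroup.mk d₀ : G ⧸ L) * QuotientGroup.mk d₀ = 1 := by
    rw [← QuotientGroup.mk_mul, sq_eq_one hS hd₀, QuotientGroup.mk_one]
  have hxinv : (QuotientGroup.mk d₀ : G ⧸ L)⁻¹ = QuotientGroup.mk d₀ :=
    inv_eq_of_mul_eq_one_right hx2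
  have hcases : ∀ g : G, (QuotientGroup.mk g : G ⧸ L) = 1 ∨
      (QuotientGroup.mk g : G ⧸ L) = QuotientGroup.mk d₀ := by
    intro g
    have hg : g ∈ Subgroup.closure D := by rw [hD.2.2]; exact Subgroup.mem_top _
    induction hg using Subgroup.closure_induction with
    | mem x hx => exact Or.inr (hall x hx d₀ hd₀)
    | one => exact Or.inl (QuotientGroup.mk_one L)
    | mul x y _ _ hx hy =>
      rw [QuotientGroup.mk_mul]
      rcases hx with hx | hx <;> rcases hy with hy | hy <;> rw [hx, hy]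
      · left; rw [one_mul]
      · right; rw [one_mul]
      · right; rw [mul_one]
      · left; exact hx2
    | inv x _ hx =>
      rw [QuotientGroup.mk_inv]
      rcases hx with hx | hx <;> rw [hx]
      · left; rw [inv_one]
      · right; exact hxinv
  have hsurj : Function.Surjective
      (fun b : Bool => if b then (QuotientGroup.mk d₀ : G ⧸ L) else 1) := by
    intro q
    obtain ⟨g, rfl⟩ := QuotientGroup.mk_surjective q
    rcases hcases g with h | h
    · exact ⟨false, by simp [h]⟩
    · exact ⟨true, by simp [h]⟩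
  have := Nat.card_le_card_of_surjective _ hsurj
  have h2 : Nat.card Bool = 2 := by simp
  rw [h2] at this
  exact this

/-- The derived subgroup has index at most two. -/
theorem index_commutator_le_two (hD : IsThreeTranspositionClass D) : (commutator G).index ≤ 2 := by
  have hS := hD.1
  apply index_le_two_of_mk_eq hD
  intro a ha b hb
  obtain ⟨g, rfl⟩ := exists_conj_eq hD ha hb
  rw [QuotientGroup.eq]
  have : a⁻¹ * (g * a * g⁻¹) = ⁅a⁻¹, g⁆ := by
    rw [commutatorElement_def]; group
  rw [this, commutator_def]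
  exact Subgroup.commutator_mem_commutator (Subgroup.mem_top _) (Subgroup.mem_top _)

/-- When the component has index at most two it is the derived subgroup. -/
theorem commutator_eq_component (hD : IsThreeTranspositionClass D) {L : Subgroup G}
    (hL : IsComponent L) (hidx : L.index ≤ 2) : commutator G = L := by
  haveI hLn : L.Normal := component_normal hD hL
  apply le_antisymm
  · rw [commutator_def, Subgroup.commutator_le]
    intro g _ h _
    have h0 : L.index ≠ 0 := Subgroup.index_ne_zero_of_finite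
    have h12 : L.index = 1 ∨ L.index = 2 := by omega
    rcases h12 with h1 | h1
    · rw [Subgroup.index_eq_one] at h1
      rw [h1]; exact Subgroup.mem_top _
    · have e : ⁅g, h⁆ = (g * h) * (h * g)⁻¹ := by
        rw [commutatorElement_def]; group
      rw [e, Subgroup.mul_mem_iff_of_index_two h1, Subgroup.inv_mem_iff,
        Subgroup.mul_mem_iff_of_index_two h1, Subgroup.mul_mem_iff_of_index_two h1]
      tauto
  · have h1 := Cfsg.Agent.Lib.H7.component_commutator_self hL
    rw [← h1, commutator_def]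
    exact Subgroup.commutator_mono le_top le_top

end fin

end Cfsg.Agent.Lib.H7.TT
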