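import Mathlib
import Cfsg.Agent.Lib.H7.Kazarin
import Cfsg.Agent.Lib.H7.DihedralLemma2
import Cfsg.Agent.Lib.H1.Fitting

/-!
# Consequences of Kazarin's theorem (helper7)

* `commute_of_mem_normalClosure`: if `O_p(H) = 1` and `x` has `p`-power class size then the normal
  closure of `x` is abelian;
* `commutator_conj_mem_pCore`: in general, commutators of conjugates of `x` lie in `O_p(G)`.
-/

set_option autoImplicit false
set_option linter.style.haveILetI false
set_option linter.unusedSectionVars false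

namespace Cfsg.Agent.Lib.H7.Kaz

open Cfsg

universe u

section Abelian

variable {H : Type u} [Group H] [Finite H]

/-- If `O_p(H) = 1` and `x` has `p`-power class size then the normal closure of `x` is abelian. -/
theorem commute_of_mem_normalClosure {p : ℕ} (hp : p.Prime) (hO : pCore p H = ⊥) (x : H) (k : ℕ)
    (hcl : (Subgroup.centralizer ({x} : Set H)).index = p ^ k) :
    ∀ a ∈ Subgroup.normalClosure ({x} : Set H), ∀ b ∈ Subgroup.normalClosure ({x} : Set H),
      a * b = b * a := by
  set N := Subgroup.normalClosure ({x} : Set H) with hN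
  set C := Subgroup.centralizer ({x} : Set H) with hC
  have hNs : Group.IsSolvable N := isSolvable_normalClosure hp _ x k rfl hcl
  -- Step 1
  have h1 : ∀ q : Nat.Primes, pCore (q : ℕ) H ≤ C := by
    intro q
    by_cases hqp : (q : ℕ) = p
    · rw [hqp, hO]; exact bot_le
    · haveI : Fact (q : ℕ).Prime := ⟨q.2⟩
      haveI hQn : (pCore (q : ℕ) H).Normal := Cfsg.Agent.Lib.H1.pCore_normal (q : ℕ) H
      have hQp : IsPGroup (q : ℕ) (pCore (q : ℕ) H) := Cfsg.Agent.Lib.H1.pCore_isPGroup (q : ℕ) H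
      have hd1 : C.relIndex (pCore (q : ℕ) H) ∣ p ^ k := by
        rw [← hcl]
        exact Cfsg.Agent.Lib.H1.relIndex_dvd_index_of_normal_right C (pCore (q : ℕ) H)
      have hd2 : C.relIndex (pCore (q : ℕ) H) ∣ Nat.card (pCore (q : ℕ) H) :=
        Subgroup.relIndex_dvd_card _ _
      obtain ⟨j, hj⟩ := hQp.exists_card_eq
      rw [hj] at hd2
      have hcop : Nat.Coprime (p ^ k) ((q : ℕ) ^ j) :=
        Nat.Coprime.pow _ _ ((Nat.coprime_primes hp q.2).2 (Ne.symm hqp))
      have h1' : C.relIndex (pCore (q : ℕ) H) = 1 :=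
        Nat.eq_one_of_dvd_coprimes hcop hd1 hd2
      exact Subgroup.relIndex_eq_one.1 h1'
  have h2 : fittingSubgroup H ≤ C := by
    rw [Cfsg.Agent.Lib.H1.fittingSubgroup_eq_iSup_pCore]
    exact iSup_le h1
  -- Step 3
  have hxc : x ∈ Subgroup.centralizer ((fittingSubgroup H : Subgroup H) : Set H) := by
    rw [Subgroup.mem_centralizer_iff]
    intro f hf
    have := h2 hf
    rw [hC, Subgroup.mem_centralizer_iff] at this
    exact (this x (Set.mem_singleton x)).symm
  have h3 : N ≤ Subgroup.centralizer ((fittingSubgroup H : Subgroup H) : Set H) :=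
    Subgroup.normalClosure_le_normal (Set.singleton_subset_iff.2 hxc)
  -- Step 4
  have hsub : (fittingSubgroup ↥N).map N.subtype ≤ fittingSubgroup H :=
    Cfsg.Agent.Lib.H7.fittingSubgroup_subnormal_le
      (Subgroup.Normal.isSubnormal (inferInstance : N.Normal))
  have h4 : N ≤ fittingSubgroup H := by
    intro a ha
    apply hsub
    apply Cfsg.Agent.Lib.H7.inf_centralizer_fittingG_le N hNs
    refine Subgroup.mem_inf.2 ⟨ha, ?_⟩
    exact Subgroup.centralizer_le (by exact_mod_cast hsub) (h3 ha)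
  intro a ha b hb
  have := h3 ha
  rw [Subgroup.mem_centralizer_iff] at this
  exact (this b (h4 hb)).symm

end Abelian


section PCore

variable {G : Type u} [Group G] [Finite G]

/-- `O_p(G / O_p(G)) = 1`. -/
theorem pCore_quotient_pCore_eq_bot (p : ℕ) [Fact p.Prime] :
    pCore p (G ⧸ pCore p G) = ⊥ := by
  haveI : (pCore p G).Normal := Cfsg.Agent.Lib.H1.pCore_normal p G
  rw [eq_bot_iff]
  apply sSup_le
  rintro Nb ⟨hNn, hNp⟩
  have h1 : (Nb.comap (QuotientGroup.mk' (pCore p G))).Normal := hNn.comap _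
  have h2 : IsPGroup p (Nb.comap (QuotientGroup.mk' (pCore p G))) :=
    hNp.comap_of_ker_isPGroup _ (by
      rw [QuotientGroup.ker_mk']; exact Cfsg.Agent.Lib.H1.pCore_isPGroup p G)
  have h3 := Cfsg.Agent.Lib.H1.le_pCore h1 h2
  intro y hy
  obtain ⟨g, rfl⟩ := QuotientGroup.mk'_surjective (pCore p G) y
  have hg : g ∈ pCore p G := h3 (Subgroup.mem_comap.mpr hy)
  rw [Subgroup.mem_bot]
  exact (QuotientGroup.eq_one_iff g).mpr hg

/-- Commutators of conjugates of an element of `p`-power class size lie in `O_p(G)`. -/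
theorem commutator_conj_mem_pCore (p : ℕ) [hp : Fact p.Prime] (x : G) (k : ℕ)
    (hcl : (Subgroup.centralizer ({x} : Set G)).index = p ^ k) (g h : G) :
    (g * x * g⁻¹) * (h * x * h⁻¹) * (g * x * g⁻¹)⁻¹ * (h * x * h⁻¹)⁻¹ ∈ pCore p G := by
  haveI hPn : (pCore p G).Normal := Cfsg.Agent.Lib.H1.pCore_normal p G
  set π := QuotientGroup.mk' (pCore p G) with hπ
  have hsurj : Function.Surjective π := QuotientGroup.mk'_surjective _
  -- class size of the image
  have hle : (Subgroup.centralizer ({x} : Set G)).map π ≤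
      Subgroup.centralizer ({π x} : Set (G ⧸ pCore p G)) := by
    rintro _ ⟨c, hc, rfl⟩
    have hc : c ∈ Subgroup.centralizer ({x} : Set G) := hc
    rw [Subgroup.mem_centralizer_iff] at hc ⊢
    intro y hy
    rw [Set.mem_singleton_iff] at hy
    subst hy
    rw [← map_mul, ← map_mul, hc x (Set.mem_singleton x)]
  have hdvd : (Subgroup.centralizer ({π x} : Set (G ⧸ pCore p G))).index ∣ p ^ k := by
    rw [← hcl]
    exact (Subgroup.index_dvd_of_le hle).trans (Subgroup.index_map_dvd _ hsurj)
  obtain ⟨k', _, hk'⟩ := (Nat.dvd_prime_pow hp.out).1 hdvd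
  have hcomm := commute_of_mem_normalClosure hp.out (pCore_quotient_pCore_eq_bot p) (π x) k' hk'
  have hmem : ∀ u : G, π (u * x * u⁻¹) ∈ Subgroup.normalClosure ({π x} : Set (G ⧸ pCore p G)) := by
    intro u
    rw [map_mul, map_mul, map_inv]
    exact (inferInstance : (Subgroup.normalClosure ({π x} : Set (G ⧸ pCore p G))).Normal).conj_mem
      _ (Subgroup.subset_normalClosure (Set.mem_singleton _)) _
  have h1 := hcomm _ (hmem g) _ (hmem h)
  have h2 : π ((g * x * g⁻¹) * (h * x * h⁻¹) * (g * x * g⁻¹)⁻¹ * (h * x * h⁻¹)⁻¹) = 1 := by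
    rw [map_mul, map_mul, map_mul, h1, map_inv, map_inv]
    group
  rw [← QuotientGroup.ker_mk' (pCore p G)]
  exact MonoidHom.mem_ker.2 h2

end PCore

end Cfsg.Agent.Lib.H7.Kaz
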