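import Cfsg.Agent.Lib.H15.S3814C2Defs
import Cfsg.Agent.S0058
import Cfsg.Agent.S0126

/-!
# S3814, Case 2', piece (9) CyclicSide (helper7)

`O_b(K)` or `O_c(K)` is cyclic.  Proof: if both `Q_b`, `Q_c` (normal, odd order) are non-cyclic, each contains an
abelian non-cyclic subgroup (`S0126`); coprime generation (`S0058`) on `V` gives `e ∈ A_b`, `e ≠ 1`, with
`W = C_V(e) ≠ 1`; `A_c` centralises `e`, so it acts on `W`, and coprime generation again gives `f ∈ A_c`,
`f ≠ 1`, with a common fixed point of `e` and `f`: the element `e f` of order `b c` is not fixed-point-free.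
-/

namespace Cfsg.Agent.H7.S3814C2CyclicSide

open Cfsg.Agent.H7.S3814Defs Cfsg.Agent.H15.S3814C2

universe u

theorem exists_fixed {G : Type u} [Group G] [Finite G] (A U : Subgroup G) [IsMulCommutative A]
    (hA : ¬ IsCyclic A) (hAU : A ≤ Subgroup.normalizer (U : Set G))
    (hcop : (Nat.card A).Coprime (Nat.card U)) (hU : U ≠ ⊥) :
    ∃ a ∈ A, a ≠ 1 ∧ ∃ v ∈ U, v ≠ 1 ∧ a * v = v * a := by
  by_contra hcon
  push Not at hcon
  have h := Cfsg.Agent.S0058.result A U hA hAU hcop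
  apply hU
  rw [← h, eq_bot_iff]
  refine iSup₂_le ?_
  intro a ha v hv
  obtain ⟨hvU, hvC⟩ := Subgroup.mem_inf.1 hv
  rw [Subgroup.mem_bot]
  by_contra hv1
  have := Subgroup.mem_centralizer_iff.1 hvC a (Set.mem_singleton a)
  exact hcon a ha.1 ha.2 v hvU hv1 this

theorem exists_abelian_noncyclic {G : Type u} [Group G] [Finite G] {t : ℕ} (ht : t.Prime)
    (ht2 : t ≠ 2) (Q : Subgroup G) (hQ : IsPGroup t Q) (hnc : ¬ IsCyclic Q) :
    ∃ A : Subgroup G, A ≤ Q ∧ (∀ x ∈ A, ∀ y ∈ A, x * y = y * x) ∧ ¬ IsCyclic A ∧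
      (∀ x ∈ A, x ^ t = 1) ∧ Nat.card A = t ^ 2 := by
  have : Fact t.Prime := ⟨ht⟩
  obtain ⟨A0, -, hAe, hAc⟩ := Cfsg.Agent.S0126.result (R := ↥Q) ht2 hQ hnc
  have hexp : ∀ x ∈ A0.map Q.subtype, x ^ t = 1 := by
    rintro x ⟨x0, hx0, rfl⟩
    have := hAe.2 x0 hx0
    simpa using congrArg (Q.subtype) this
  have hcard : Nat.card (A0.map Q.subtype) = t ^ 2 := by
    rw [Subgroup.card_map_of_injective Q.subtype_injective, hAc]
  refine ⟨A0.map Q.subtype, Subgroup.map_subtype_le A0, ?_, ?_, hexp, hcard⟩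
  · rintro x ⟨x0, hx0, rfl⟩ y ⟨y0, hy0, rfl⟩
    have : (⟨x0, hx0⟩ : A0) * ⟨y0, hy0⟩ = ⟨y0, hy0⟩ * ⟨x0, hx0⟩ :=
      (hAe.1).is_comm.comm ⟨x0, hx0⟩ ⟨y0, hy0⟩
    have h2 : x0 * y0 = y0 * x0 := congrArg Subtype.val this
    simpa using congrArg (Q.subtype) h2
  · intro hcyc
    obtain ⟨g0, hg0⟩ := IsCyclic.exists_generator (α := ↥(A0.map Q.subtype))
    have hord : orderOf g0 = Nat.card ↥(A0.map Q.subtype) :=
      orderOf_eq_card_of_forall_mem_zpowers hg0
    have hg0t : g0 ^ t = 1 := Subtype.ext (by simpa using hexp g0 g0.2)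
    have hdvd : orderOf g0 ∣ t := orderOf_dvd_of_pow_eq_one hg0t
    have hle : t ^ 2 ≤ t := by
      rw [← hcard, ← hord]; exact Nat.le_of_dvd ht.pos hdvd
    have h2 : 2 ≤ t := ht.two_le
    nlinarith


theorem mem_normalizer_of_normal {G : Type u} [Group G] (V : Subgroup G) (hV : V.Normal) (g : G) :
    g ∈ Subgroup.normalizer (V : Set G) := by
  rw [Subgroup.mem_normalizer_iff]
  intro h
  constructor
  · intro hh; exact hV.conj_mem h hh g
  · intro hh
    have := hV.conj_mem _ hh g⁻¹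
    simpa [mul_assoc] using this

theorem cyclicSide : CyclicSideStmt.{u} := by
  intro G _ σ p V K hctx a b c mb mc hT
  have hfin := hctx.cex.fin
  by_contra hcon
  push Not at hcon
  obtain ⟨hc', hb'⟩ := hcon
  simp only [SideCyc] at hc' hb'
  push Not at hc' hb'
  obtain ⟨Qc, hQcK, hQcn, hQcp, hQcnc⟩ := hc'
  obtain ⟨Qb, hQbK, hQbn, hQbp, hQbnc⟩ := hb'
  have hbP : b.Prime := hctx.cex.prime b hT.hb.1
  have hcP : c.Prime := hctx.cex.prime c hT.hc.1
  have hpP : p.Prime := hctx.cex.prime p hctx.shape.hp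
  have : Fact b.Prime := ⟨hbP⟩
  have : Fact c.Prime := ⟨hcP⟩
  have : Fact p.Prime := ⟨hpP⟩
  obtain ⟨Ab, hAbQ, hAbc, hAbnc, hAbe, hAbcard⟩ :=
    exists_abelian_noncyclic hbP hT.oddb Qb hQbp hQbnc
  obtain ⟨Ac, hAcQ, hAcc, hAcnc, hAce, hAccard⟩ :=
    exists_abelian_noncyclic hcP hT.oddc Qc hQcp hQcnc
  -- `[Qb, Qc] = 1`
  have hdisj : Disjoint Qb Qc := IsPGroup.disjoint_of_ne b c hT.hbc Qb Qc hQbp hQcp
  have hcomm : ∀ x ∈ Qb, ∀ y ∈ Qc, x * y = y * x := by
    intro x hx y hy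
    have h1 : x * y * x⁻¹ * y⁻¹ ∈ Qb := by
      have hyn := hQbn (hQcK hy)
      have : y * x⁻¹ * y⁻¹ ∈ Qb :=
        (Subgroup.mem_normalizer_iff.1 hyn x⁻¹).1 (Qb.inv_mem hx)
      have h2 := Qb.mul_mem hx this
      simpa [mul_assoc] using h2
    have h2 : x * y * x⁻¹ * y⁻¹ ∈ Qc := by
      have hxn := hQcn (hQbK hx)
      have : x * y * x⁻¹ ∈ Qc := (Subgroup.mem_normalizer_iff.1 hxn y).1 hy
      exact Qc.mul_mem this (Qc.inv_mem hy)
    have h3 : x * y * x⁻¹ * y⁻¹ = 1 := by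
      have := hdisj.le_bot (Subgroup.mem_inf.2 ⟨h1, h2⟩)
      simpa using this
    have : x * y = y * x := by
      calc x * y = (x * y * x⁻¹ * y⁻¹) * (y * x) := by group
        _ = y * x := by rw [h3, one_mul]
    exact this
  -- `V` is a `p`-group
  have hVp : IsPGroup p V := by
    intro v
    refine ⟨1, ?_⟩
    have := hctx.shape.elem.2 v v.2
    exact Subtype.ext (by simpa using this)
  obtain ⟨k, hk⟩ := IsPGroup.iff_card.1 hVp
  have hbp : b ≠ p := hT.hb.2
  have hcp : c ≠ p := hT.hc.2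
  have : IsMulCommutative Ab := ⟨⟨fun x y => Subtype.ext (hAbc x x.2 y y.2)⟩⟩
  have : IsMulCommutative Ac := ⟨⟨fun x y => Subtype.ext (hAcc x x.2 y y.2)⟩⟩
  have hVn := hctx.shape.normal
  have hcop1 : (Nat.card Ab).Coprime (Nat.card V) := by
    rw [hAbcard, hk]
    exact Nat.Coprime.pow _ _ ((Nat.coprime_primes hbP hpP).2 hbp)
  obtain ⟨e, heA, he1, v, hvV, hv1, hev⟩ :=
    exists_fixed Ab V hAbnc (fun g _ => mem_normalizer_of_normal V hVn g) hcop1 hctx.shape.ne_bot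
  -- `W = C_V(e)`
  have hWne : V ⊓ Subgroup.centralizer {e} ≠ ⊥ := by
    intro hbot
    have : v ∈ V ⊓ Subgroup.centralizer {e} := by
      refine Subgroup.mem_inf.2 ⟨hvV, ?_⟩
      rw [Subgroup.mem_centralizer_iff]
      intro h hh
      rw [Set.mem_singleton_iff] at hh
      subst hh
      exact hev
    rw [hbot, Subgroup.mem_bot] at this
    exact hv1 this
  have hWle : V ⊓ Subgroup.centralizer {e} ≤ V := inf_le_left
  have hcop2 : (Nat.card Ac).Coprime (Nat.card ↥(V ⊓ Subgroup.centralizer {e})) := by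
    have hdvd : Nat.card ↥(V ⊓ Subgroup.centralizer {e}) ∣ Nat.card V :=
      Subgroup.card_dvd_of_le hWle
    rw [hAccard]
    refine Nat.Coprime.coprime_dvd_right hdvd ?_
    rw [hk]
    exact Nat.Coprime.pow _ _ ((Nat.coprime_primes hcP hpP).2 hcp)
  have heQ : e ∈ Qb := hAbQ heA
  have hAcW : Ac ≤ Subgroup.normalizer ((V ⊓ Subgroup.centralizer {e} : Subgroup G) : Set G) := by
    intro f hf
    have hfe : e * f = f * e := hcomm e heQ f (hAcQ hf)
    rw [Subgroup.mem_normalizer_iff]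
    intro h
    constructor
    · intro hh
      obtain ⟨hhV, hhC⟩ := Subgroup.mem_inf.1 hh
      refine Subgroup.mem_inf.2 ⟨hVn.conj_mem h hhV f, ?_⟩
      rw [Subgroup.mem_centralizer_iff] at hhC ⊢
      intro x hx
      rw [Set.mem_singleton_iff] at hx
      subst hx
      have h1 : x * h = h * x := hhC x (Set.mem_singleton x)
      have hfe' : x * f⁻¹ = f⁻¹ * x := by
        calc x * f⁻¹ = f⁻¹ * (f * x) * f⁻¹ := by group
          _ = f⁻¹ * (x * f) * f⁻¹ := by rw [hfe]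
          _ = f⁻¹ * x := by group
      calc x * (f * h * f⁻¹) = (x * f) * h * f⁻¹ := by group
        _ = (f * x) * h * f⁻¹ := by rw [hfe]
        _ = f * (x * h) * f⁻¹ := by group
        _ = f * (h * x) * f⁻¹ := by rw [h1]
        _ = f * h * (x * f⁻¹) := by group
        _ = f * h * (f⁻¹ * x) := by rw [hfe']
        _ = f * h * f⁻¹ * x := by group
    · intro hh
      obtain ⟨hhV, hhC⟩ := Subgroup.mem_inf.1 hh
      have hhV' : h ∈ V := by
        have := hVn.conj_mem _ hhV f⁻¹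
        simpa [mul_assoc] using this
      refine Subgroup.mem_inf.2 ⟨hhV', ?_⟩
      rw [Subgroup.mem_centralizer_iff] at hhC ⊢
      intro x hx
      rw [Set.mem_singleton_iff] at hx
      subst hx
      have h1 : x * (f * h * f⁻¹) = (f * h * f⁻¹) * x := hhC x (Set.mem_singleton x)
      have hfe' : f⁻¹ * x = x * f⁻¹ := by
        calc f⁻¹ * x = f⁻¹ * (x * f) * f⁻¹ := by group
          _ = f⁻¹ * (f * x) * f⁻¹ := by rw [hfe]
          _ = x * f⁻¹ := by group
      calc x * h = f⁻¹ * (f * x) * h := by group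
        _ = f⁻¹ * (x * f) * h := by rw [hfe]
        _ = f⁻¹ * (x * (f * h * f⁻¹)) * f := by group
        _ = f⁻¹ * ((f * h * f⁻¹) * x) * f := by rw [h1]
        _ = h * (f⁻¹ * x) * f := by group
        _ = h * (x * f⁻¹) * f := by rw [hfe']
        _ = h * x := by group
  obtain ⟨f, hfA, hf1, w, hwW, hw1, hfw⟩ :=
    exists_fixed Ac (V ⊓ Subgroup.centralizer {e}) hAcnc hAcW hcop2 hWne
  obtain ⟨hwV, hwC⟩ := Subgroup.mem_inf.1 hwW
  have hew : e * w = w * e := Subgroup.mem_centralizer_iff.1 hwC e (Set.mem_singleton e)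
  have hef : e * f = f * e := hcomm e heQ f (hAcQ hfA)
  have hoe : orderOf e = b := orderOf_eq_prime (hAbe e heA) he1
  have hof : orderOf f = c := orderOf_eq_prime (hAce f hfA) hf1
  have hoef : orderOf (e * f) = b * c := by
    have hc : Commute e f := hef
    rw [hc.orderOf_mul_eq_mul_orderOf_of_coprime (by
      rw [hoe, hof]; exact (Nat.coprime_primes hbP hcP).2 hT.hbc), hoe, hof]
  have hfpf : Fpf (e * f) V :=
    hctx.facts.n1 (e * f) (K.mul_mem (hQbK heQ) (hQcK (hAcQ hfA))) b hT.hb.1 c hT.hc.1 hbp hcp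
      hT.hbc (by rw [hoef])
  apply hw1
  apply hfpf w hwV
  calc e * f * w = e * (f * w) := by group
    _ = e * (w * f) := by rw [hfw]
    _ = (e * w) * f := by group
    _ = (w * e) * f := by rw [hew]
    _ = w * (e * f) := by group

example : CyclicSideStmt.{0} := cyclicSide

end Cfsg.Agent.H7.S3814C2CyclicSide
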