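import Mathlib
import Cfsg.Prelude.Def_Local
import Cfsg.Agent.Lib.H7.PComponent2

set_option autoImplicit false
open Cfsg

namespace Cfsg.Agent.Lib.H7

/-- If `K` is a quasisimple `p`-component then `O_{p'}(K)` is central in `K`. -/
theorem commutator_pPrimeCore_eq_bot_of_quasisimple {X : Type*} [Group X] [Finite X] (p : ℕ)
    [Fact p.Prime] {K : Subgroup X} (hK : IsPComponent p K) (hq : IsQuasisimple ↥K) :
    ⁅K, (pPrimeCore p ↥K).map K.subtype⁆ = ⊥ := by
  rcases quasisimple_normal hq (pPrimeCore p ↥K) with h1 | h1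
  · exfalso
    have h2 : Nat.card (pPrimeCore p ↥K) = Nat.card K := by
      rw [h1]; exact Nat.card_congr (Subgroup.topEquiv (G := ↥K)).toEquiv
    have h3 := Cfsg.Agent.Lib.H22.not_dvd_card_pPrimeCore (G := ↥K) (Fact.out : p.Prime)
    rw [h2] at h3
    exact h3 (dvd_card_of_isPComponent p hK)
  · rw [Subgroup.commutator_eq_bot_iff_le_centralizer]
    intro k hk
    rw [Subgroup.mem_centralizer_iff]
    rintro _ ⟨n, hn, rfl⟩
    have := Subgroup.mem_center_iff.1 (h1 hn) ⟨k, hk⟩
    exact (congrArg Subtype.val this).symm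

/-- If `O_{p'}(K)` is central in the `p`-component `K` then `K` is quasisimple. -/
theorem quasisimple_of_commutator_pPrimeCore_eq_bot {X : Type*} [Group X] [Finite X] (p : ℕ)
    [Fact p.Prime] {K : Subgroup X} (hK : IsPComponent p K)
    (hc : ⁅K, (pPrimeCore p ↥K).map K.subtype⁆ = ⊥) : IsQuasisimple ↥K := by
  set π := QuotientGroup.mk' (pPrimeCore p X) with hπ
  have hperf : Group.IsPerfect ↥K := Subgroup.isPerfect_iff.2 (isPComponent_commutator_self p hK)
  have hnt : Nontrivial ↥K := by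
    rw [Subgroup.nontrivial_iff_ne_bot]
    intro h0
    apply component_ne_bot hK.2.1
    rw [h0, Subgroup.map_bot]
  apply isQuasisimple_of_forall_normal hperf hnt
  intro N hN
  set N' : Subgroup X := N.map K.subtype with hN'
  have hN'K : N' ≤ K := Subgroup.map_subtype_le _
  have hKN' : K ≤ Subgroup.normalizer (N' : Set X) := by
    intro k hk
    rw [Subgroup.mem_normalizer_iff]
    intro x
    constructor
    · rintro ⟨n, hn, rfl⟩
      exact ⟨⟨k, hk⟩ * n * ⟨k, hk⟩⁻¹, hN.conj_mem n hn _, rfl⟩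
    · rintro ⟨n, hn, hnx⟩
      refine ⟨⟨k, hk⟩⁻¹ * n * ⟨k, hk⟩, ?_, ?_⟩
      · have := hN.conj_mem n hn ⟨k, hk⟩⁻¹
        simpa using this
      · simp only [Subgroup.coe_subtype, Subgroup.coe_mul, InvMemClass.coe_inv] at hnx ⊢
        rw [hnx]; group
  have hN's : N'.IsSubnormal :=
    Subgroup.IsSubnormal.step _ _ hN'K hK.1 (Subgroup.normal_subgroupOf_of_le_normalizer hKN')
  have hnorm : ((N'.map π).subgroupOf (K.map π)).Normal := by
    apply Subgroup.normal_subgroupOf_of_le_normalizer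
    exact (Subgroup.map_mono hKN').trans (Subgroup.le_normalizer_map π)
  rcases quasisimple_normal hK.2.1.2 ((N'.map π).subgroupOf (K.map π)) with h1 | h1
  · left
    have h2 : N'.map π = K.map π :=
      le_antisymm (Subgroup.map_mono hN'K) (Subgroup.subgroupOf_eq_top.1 h1)
    have h3 : N' = K := hK.2.2 N' hN's hN'K h2
    rw [eq_top_iff]
    intro y _
    have hy : (y : X) ∈ N' := by rw [h3]; exact y.2
    obtain ⟨z, hz, hzy⟩ := hy
    have : z = y := Subtype.ext hzy
    rw [← this]; exact hz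
  · right
    -- `⁅N', K⁆ ≤ O_{p'}(K)`
    have hOK : (pPrimeCore p ↥K).map K.subtype = pPrimeCore p X ⊓ K :=
      map_pPrimeCore_of_isSubnormal p hK.1
    have h2 : ⁅N', K⁆ ≤ (pPrimeCore p ↥K).map K.subtype := by
      rw [hOK]
      apply le_inf
      · rw [← QuotientGroup.ker_mk' (pPrimeCore p X), ← MonoidHom.comap_bot,
          ← Subgroup.map_le_iff_le_comap, Subgroup.map_commutator, le_bot_iff,
          Subgroup.commutator_eq_bot_iff_le_centralizer]
        intro a ha
        rw [Subgroup.mem_centralizer_iff]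
        intro b hb
        have haK : a ∈ K.map π := Subgroup.map_mono hN'K ha
        have h3 : (⟨a, haK⟩ : K.map π) ∈ Subgroup.center (K.map π) :=
          h1 (Subgroup.mem_subgroupOf.2 ha)
        have h4 := Subgroup.mem_center_iff.1 h3 ⟨b, hb⟩
        exact congrArg Subtype.val h4
      · exact (Subgroup.commutator_mono hN'K le_rfl).trans (Subgroup.commutator_le_self K)
    have h3 : ⁅⁅N', K⁆, K⁆ = ⊥ := by
      rw [← le_bot_iff, ← hc, Subgroup.commutator_comm K]
      exact Subgroup.commutator_mono h2 le_rfl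
    have h4 : ⁅⁅K, N'⁆, K⁆ = ⊥ := by rw [Subgroup.commutator_comm K N']; exact h3
    have h5 : ⁅⁅K, K⁆, N'⁆ = ⊥ := Subgroup.commutator_commutator_eq_bot_of_rotate h4 h3
    rw [isPComponent_commutator_self p hK, Subgroup.commutator_eq_bot_iff_le_centralizer] at h5
    intro n hn
    rw [Subgroup.mem_center_iff]
    intro g
    have h6 := Subgroup.mem_centralizer_iff.1 (h5 g.2) (n : X) ⟨n, hn, rfl⟩
    exact Subtype.ext h6.symm


/-- Distinct `p`-components `K ≠ L`: `⁅K, L⁆ ≤ O_{p'}(K) ⊓ O_{p'}(L)`. -/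
theorem commutator_isPComponent_le {X : Type*} [Group X] [Finite X] (p : ℕ) [Fact p.Prime]
    {K L : Subgroup X} (hK : IsPComponent p K) (hL : IsPComponent p L) (hne : K ≠ L) :
    ⁅K, L⁆ ≤ (pPrimeCore p ↥K).map K.subtype ⊓ (pPrimeCore p ↥L).map L.subtype := by
  rw [map_pPrimeCore_of_isSubnormal p hK.1, map_pPrimeCore_of_isSubnormal p hL.1]
  have hO : ⁅K, L⁆ ≤ pPrimeCore p X := by
    rw [← QuotientGroup.ker_mk' (pPrimeCore p X), ← MonoidHom.comap_bot,
      ← Subgroup.map_le_iff_le_comap, Subgroup.map_commutator, le_bot_iff]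
    exact components_commute hK.2.1 hL.2.1 (map_ne_of_isPComponent_ne p hK hL hne)
  have hKn : ⁅K, L⁆ ≤ K := by
    rw [Subgroup.commutator_comm]
    exact Subgroup.le_normalizer_iff_commutator_le_right.1 (isPComponent_le_normalizer p hK hL)
  have hLn : ⁅K, L⁆ ≤ L :=
    Subgroup.le_normalizer_iff_commutator_le_right.1 (isPComponent_le_normalizer p hL hK)
  exact le_inf (le_inf hO hKn) (le_inf hO hLn)

/-- A quasisimple `p`-component commutes with every other `p`-component. -/
theorem commutator_isPComponent_eq_bot_of_quasisimple {X : Type*} [Group X] [Finite X] (p : ℕ)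
    [Fact p.Prime] {K L : Subgroup X} (hK : IsPComponent p K) (hL : IsPComponent p L)
    (hne : K ≠ L) (hq : IsQuasisimple ↥K) : ⁅K, L⁆ = ⊥ := by
  have hc := commutator_pPrimeCore_eq_bot_of_quasisimple p hK hq
  have h2 : ⁅K, L⁆ ≤ (pPrimeCore p ↥K).map K.subtype :=
    (commutator_isPComponent_le p hK hL hne).trans inf_le_left
  have h3 : ⁅⁅K, L⁆, K⁆ = ⊥ := by
    rw [← le_bot_iff, ← hc, Subgroup.commutator_comm K ((pPrimeCore p ↥K).map K.subtype)]
    exact Subgroup.commutator_mono h2 le_rfl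
  have h4 : ⁅⁅L, K⁆, K⁆ = ⊥ := by rw [Subgroup.commutator_comm L K]; exact h3
  have h5 : ⁅⁅K, K⁆, L⁆ = ⊥ := Subgroup.commutator_commutator_eq_bot_of_rotate h3 h4
  rwa [isPComponent_commutator_self p hK] at h5

end Cfsg.Agent.Lib.H7
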