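import Mathlib
import Cfsg.Prelude.Def_Local
import Cfsg.Prelude.Def_CaseTheorems
import Cfsg.Agent.Lib.H7.Quasisimple
import Cfsg.Agent.Lib.H15.SymF1

/-!
# S3153 pieces CENT and FIN (helper7)
-/

set_option autoImplicit false
open Cfsg
open scoped commutatorElement

namespace Cfsg.Agent.Lib.H7.STD

/-- if `⁅A, P⁆` is central in the perfect subgroup `P` then `A` centralizes `P`
(three subgroups lemma). -/
theorem std_le_centralizer_of_commutator_central {X : Type*} [Group X] (P A : Subgroup X)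
    (hperf : ⁅P, P⁆ = P) (h : ∀ a ∈ A, ∀ p ∈ P, ∀ x ∈ P, x * ⁅a, p⁆ = ⁅a, p⁆ * x) :
    A ≤ Subgroup.centralizer (P : Set X) := by
  have h1 : ⁅A, P⁆ ≤ Subgroup.centralizer (P : Set X) := by
    rw [Subgroup.commutator_le]
    intro a ha p hp
    rw [Subgroup.mem_centralizer_iff]
    intro x hx
    exact h a ha p hp x hx
  have h2 : ⁅⁅A, P⁆, P⁆ = ⊥ := Subgroup.commutator_eq_bot_iff_le_centralizer.2 h1
  have h3 : ⁅⁅P, A⁆, P⁆ = ⊥ := by rw [Subgroup.commutator_comm P A]; exact h2
  have h4 : ⁅⁅P, P⁆, A⁆ = ⊥ := Subgroup.commutator_commutator_eq_bot_of_rotate h3 h2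
  rw [hperf, Subgroup.commutator_comm] at h4
  exact Subgroup.commutator_eq_bot_iff_le_centralizer.1 h4

/-- CENT: a subgroup `A` of a normal subgroup `W` not containing the quasisimple subgroup `P`,
normalizing `P`, centralizes `P`. -/
theorem le_centralizer_of_le_normalizer {X : Type*} [Group X] [Finite X] (P W A : Subgroup X)
    [W.Normal] (hP : Cfsg.IsQuasisimple ↥P) (hPW : ¬ P ≤ W) (hAW : A ≤ W)
    (hAN : A ≤ Subgroup.normalizer (P : Set X)) : A ≤ Subgroup.centralizer (P : Set X) := by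
  have hWn : W.Normal := inferInstance
  have hperf : ⁅P, P⁆ = P := Subgroup.isPerfect_iff.1 hP.1
  rcases Cfsg.Agent.Lib.H15.SymF.eq_or_central_of_quasisimple P hP (W ⊓ P) inf_le_right (by
      intro x hx y hy
      exact ⟨hWn.conj_mem y hy.1 x, P.mul_mem (P.mul_mem hx hy.2) (P.inv_mem hx)⟩) with h | h
  · exfalso
    apply hPW
    rw [← h]
    exact inf_le_left
  · apply std_le_centralizer_of_commutator_central P A hperf
    intro a ha p hp x hx
    apply h _ ?_ x hx
    rw [commutatorElement_def]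
    constructor
    · have h1 : p * a⁻¹ * p⁻¹ ∈ W := hWn.conj_mem a⁻¹ (W.inv_mem (hAW ha)) p
      have h2 : a * p * a⁻¹ * p⁻¹ = a * (p * a⁻¹ * p⁻¹) := by group
      rw [h2]
      exact W.mul_mem (hAW ha) h1
    · have h1 : a * p * a⁻¹ ∈ P := (Subgroup.mem_normalizer_iff.1 (hAN ha) p).1 hp
      exact P.mul_mem h1 (P.inv_mem hp)

/-- FIN: if `k * r` centralizes the normal subgroup `W`, with `r ∈ P` an involution and
`k ∈ C(P)`, `P` quasisimple with centre of odd order, then `[P, W] = 1`. -/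
theorem commutator_eq_bot_of_mul_mem_centralizer {X : Type*} [Group X] [Finite X]
    (P W : Subgroup X) [W.Normal] (hP : Cfsg.IsQuasisimple ↥P)
    (hZ : Odd (Nat.card ↥(Subgroup.center ↥P)))
    (r k : X) (hr : r ∈ P) (hr2 : orderOf r = 2) (hk : k ∈ Subgroup.centralizer (P : Set X))
    (hu : k * r ∈ Subgroup.centralizer (W : Set X)) : ⁅P, W⁆ = ⊥ := by
  have hWn : W.Normal := inferInstance
  have hCn : (Subgroup.centralizer (W : Set X)).Normal := inferInstance
  have hperf : ⁅P, P⁆ = P := Subgroup.isPerfect_iff.1 hP.1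
  have hrr : r * r = 1 := by
    have := pow_orderOf_eq_one r
    rwa [hr2, pow_two] at this
  have hrinv : r⁻¹ = r := inv_eq_of_mul_eq_one_right hrr
  rcases Cfsg.Agent.Lib.H15.SymF.eq_or_central_of_quasisimple P hP
      (P ⊓ Subgroup.centralizer (W : Set X)) inf_le_left (by
      intro x hx y hy
      exact ⟨P.mul_mem (P.mul_mem hx hy.1) (P.inv_mem hx), hCn.conj_mem y hy.2 x⟩) with h | h
  · rw [Subgroup.commutator_eq_bot_iff_le_centralizer, ← h]
    exact inf_le_right
  · exfalso
    -- `r` is central in `P`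
    have hcomm : ∀ p ∈ P, ⁅r, p⁆ ∈ P ⊓ Subgroup.centralizer (W : Set X) := by
      intro p hp
      refine ⟨?_, ?_⟩
      · rw [commutatorElement_def]
        exact P.mul_mem (P.mul_mem (P.mul_mem hr hp) (P.inv_mem hr)) (P.inv_mem hp)
      · have h1 : p * (k * r) * p⁻¹ ∈ Subgroup.centralizer (W : Set X) := hCn.conj_mem _ hu p
        have hkp : p * k = k * p := (Subgroup.mem_centralizer_iff.1 hk p hp)
        have h2 : p * (k * r) * p⁻¹ = k * (p * r * p⁻¹) := by
          calc p * (k * r) * p⁻¹ = (p * k) * r * p⁻¹ := by group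
            _ = (k * p) * r * p⁻¹ := by rw [hkp]
            _ = k * (p * r * p⁻¹) := by group
        rw [h2] at h1
        have h3 : (k * r)⁻¹ * (k * (p * r * p⁻¹)) ∈ Subgroup.centralizer (W : Set X) :=
          Subgroup.mul_mem _ (Subgroup.inv_mem _ hu) h1
        have h4 : (k * r)⁻¹ * (k * (p * r * p⁻¹)) = r⁻¹ * p * r * p⁻¹ := by group
        rw [h4] at h3
        -- `⁅r, p⁆ = r p r⁻¹ p⁻¹ = r⁻¹ p r p⁻¹` as `r⁻¹ = r`
        have h5 : ⁅r, p⁆ = r⁻¹ * p * r * p⁻¹ := by
          rw [commutatorElement_def]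
          nth_rewrite 2 [← hrinv]
          rw [inv_inv]
          nth_rewrite 1 [← hrinv]
          rfl
        rw [h5]
        exact h3
    have hRle : Subgroup.zpowers r ≤ Subgroup.centralizer (P : Set X) := by
      apply std_le_centralizer_of_commutator_central P (Subgroup.zpowers r) hperf
      intro a ha p hp x hx
      obtain ⟨i, rfl⟩ := Subgroup.mem_zpowers_iff.1 ha
      have hi : r ^ i = 1 ∨ r ^ i = r := by
        rw [← zpow_mod_orderOf, hr2]
        rcases Int.emod_two_eq_zero_or_one i with h0 | h0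
        · left; rw [show i % ((2 : ℕ) : ℤ) = 0 from h0, zpow_zero]
        · right; rw [show i % ((2 : ℕ) : ℤ) = 1 from h0, zpow_one]
      rcases hi with hi | hi
      · rw [hi, commutatorElement_one_left, mul_one, one_mul]
      · rw [hi]
        exact h _ (hcomm p hp) x hx
    have hrc : ∀ p ∈ P, p * r = r * p := by
      intro p hp
      exact Subgroup.mem_centralizer_iff.1 (hRle (Subgroup.mem_zpowers r)) p hp
    have hmem : (⟨r, hr⟩ : ↥P) ∈ Subgroup.center ↥P := by
      rw [Subgroup.mem_center_iff]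
      intro p
      exact Subtype.ext (hrc p p.2)
    have hord : orderOf (⟨⟨r, hr⟩, hmem⟩ : ↥(Subgroup.center ↥P)) = 2 := by
      rw [← hr2]
      rw [← Subgroup.orderOf_coe (⟨⟨r, hr⟩, hmem⟩ : ↥(Subgroup.center ↥P)),
        ← Subgroup.orderOf_coe (⟨r, hr⟩ : ↥P)]
    have hdvd : 2 ∣ Nat.card ↥(Subgroup.center ↥P) := by
      rw [← hord]
      exact orderOf_dvd_natCard _
    rw [Nat.odd_iff] at hZ
    omega

end Cfsg.Agent.Lib.H7.STD
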