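import Mathlib
import Cfsg.Agent.S1430
import Cfsg.Agent.S1431

/-!
# BG Theorem 14.7(e): the TI-property of `Ẑ = K K* ∖ (K ∪ K*)` (helper7)

`M` a maximal subgroup, `K ≠ 1` a Hall `κ(M)`-subgroup, `K* = C_{M_σ}(K)`, `Z = K K*`.
Everything here follows from BG 14.2 (`S1430`, `S1431`) for `(M, K)` alone.
-/

set_option autoImplicit false
set_option linter.style.haveILetI false
set_option linter.unusedSectionVars false
set_option linter.unusedVariables false
open Cfsg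
open Cfsg.Agent.Lib.H16.BG
open Cfsg.Agent.Lib.H7.BG7
open Cfsg.Agent.Lib.H7.BG10

namespace Cfsg.Agent.Lib.H7.BG147

universe u
variable {G : Type u} [Group G] [Finite G]

local notation:max "cj(" g ", " X ")" => Subgroup.map (MulEquiv.toMonoidHom (MulAut.conj g)) X

/-- a non-identity element of a subgroup `B` has non-identity `a`-th power for `a` coprime to
`|B|`. -/
theorem pow_ne_one_of_coprime {B : Subgroup G} {s : G} (hs : s ∈ B) (hs1 : s ≠ 1) {a : ℕ}
    (hab : a.Coprime (Nat.card B)) : s ^ a ≠ 1 := by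
  intro h
  apply hs1
  have h1 : orderOf s ∣ a := orderOf_dvd_of_pow_eq_one h
  have h2 : orderOf s ∣ Nat.card B := by
    have := Subgroup.orderOf_dvd_natCard B hs
    exact this
  have h3 : orderOf s ∣ 1 := by
    have := Nat.dvd_gcd h1 h2
    rwa [hab] at this
  exact orderOf_eq_one_iff.1 (Nat.dvd_one.1 h3)

section

variable {M K : Subgroup G}

/-- `K* ≠ 1`. -/
theorem star_ne_bot (hG : IsMinSimpleOddOrder G) (hM : IsCoatom M)
    (hK : IsPiHallOf (kappa M) K M) (hK1 : K ≠ ⊥) :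
    sigmaCore M ⊓ Subgroup.centralizer (K : Set G) ≠ ⊥ := by
  obtain ⟨p, hp, X, hXK, hXc⟩ := Cfsg.Agent.Lib.H7.BG14u.exists_le_card_prime hK1
  haveI : Fact p.Prime := ⟨hp⟩
  have h1 := Cfsg.Agent.Lib.H7.BG14u.sigmaCore_inf_centralizer_ne_bot hG hM hK hXK hp hXc
  obtain ⟨x, hXx, hxp, hx1⟩ := Cfsg.Agent.Lib.H7.BG11mu.exists_generator_of_card_prime hXc
  have hxK : x ∈ K := hXK (by rw [hXx]; exact Subgroup.mem_zpowers x)
  have h2 := (Cfsg.Agent.S1430.result hG M hM K hK hK1).1 x hxK hx1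
  rw [← h2, Cfsg.Agent.Lib.H7.centralizer_singleton_eq_centralizer_zpowers, ← hXx]
  exact h1

/-- `|K|` and `|K*|` are coprime. -/
theorem card_coprime (hK : IsPiHallOf (kappa M) K M) :
    (Nat.card ↥K).Coprime (Nat.card ↥(sigmaCore M ⊓ Subgroup.centralizer (K : Set G))) := by
  apply Nat.coprime_of_dvd
  intro r hr h1 h2
  have hκ := hK.2.1 r hr h1
  exact hκ.2.2.1 (Cfsg.Agent.Lib.H20.BGS.sigmaCore_isPiCard M r hr
    (h2.trans (Subgroup.card_dvd_of_le inf_le_left)))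

theorem inf_star_eq_bot (hK : IsPiHallOf (kappa M) K M) :
    K ⊓ (sigmaCore M ⊓ Subgroup.centralizer (K : Set G)) = ⊥ :=
  (Subgroup.disjoint_of_coprime_natCard (card_coprime hK)).eq_bot

theorem commute_of_mem {k s : G} (hk : k ∈ K)
    (hs : s ∈ sigmaCore M ⊓ Subgroup.centralizer (K : Set G)) : k * s = s * k :=
  Subgroup.mem_centralizer_iff.1 hs.2 k hk

theorem star_le_normalizer :
    sigmaCore M ⊓ Subgroup.centralizer (K : Set G) ≤ Subgroup.normalizer (K : Set G) :=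
  inf_le_right.trans (Subgroup.centralizer_le_normalizer _)

/-- elements of `Z = K K*` are products. -/
theorem exists_mul_of_mem_sup {z : G}
    (hz : z ∈ K ⊔ (sigmaCore M ⊓ Subgroup.centralizer (K : Set G))) :
    ∃ k ∈ K, ∃ s ∈ sigmaCore M ⊓ Subgroup.centralizer (K : Set G), z = k * s :=
  Cfsg.Agent.Lib.H1.mem_sup_of_le_normalizer star_le_normalizer hz

/-- the set `Ẑ`. -/
def zhat (M K : Subgroup G) : Set G :=
  (↑(K ⊔ (sigmaCore M ⊓ Subgroup.centralizer (K : Set G))) : Set G) \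
    ((K : Set G) ∪ ↑(sigmaCore M ⊓ Subgroup.centralizer (K : Set G)))

/-- elements of `Ẑ` are products `k s` with `k ∈ K^#`, `s ∈ K*^#`. -/
theorem exists_mul_of_mem_zhat {z : G} (hz : z ∈ zhat M K) :
    ∃ k ∈ K, ∃ s ∈ sigmaCore M ⊓ Subgroup.centralizer (K : Set G),
      k ≠ 1 ∧ s ≠ 1 ∧ z = k * s := by
  obtain ⟨k, hk, s, hs, rfl⟩ := exists_mul_of_mem_sup hz.1
  refine ⟨k, hk, s, hs, ?_, ?_, rfl⟩
  · rintro rfl
    apply hz.2
    right
    simpa using hs
  · rintro rfl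
    apply hz.2
    left
    simpa using hk

theorem mul_mem_zhat (hK : IsPiHallOf (kappa M) K M) {k s : G} (hk : k ∈ K)
    (hs : s ∈ sigmaCore M ⊓ Subgroup.centralizer (K : Set G)) (hk1 : k ≠ 1) (hs1 : s ≠ 1) :
    k * s ∈ zhat M K := by
  refine ⟨Subgroup.mul_mem_sup hk hs, ?_⟩
  rintro (h | h)
  · have h1 : s ∈ K := by
      have : s = k⁻¹ * (k * s) := by group
      rw [this]; exact K.mul_mem (K.inv_mem hk) h
    have : s ∈ K ⊓ (sigmaCore M ⊓ Subgroup.centralizer (K : Set G)) := ⟨h1, hs⟩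
    rw [inf_star_eq_bot hK] at this
    exact hs1 (Subgroup.mem_bot.1 this)
  · have h1 : k ∈ sigmaCore M ⊓ Subgroup.centralizer (K : Set G) := by
      have : k = (k * s) * s⁻¹ := by group
      rw [this]; exact Subgroup.mul_mem _ h (Subgroup.inv_mem _ hs)
    have : k ∈ K ⊓ (sigmaCore M ⊓ Subgroup.centralizer (K : Set G)) := ⟨hk, h1⟩
    rw [inf_star_eq_bot hK] at this
    exact hk1 (Subgroup.mem_bot.1 this)

/-- **key lemma**: if `z` and `g z g⁻¹` both lie in `Ẑ` then `g ∈ Z`. -/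
theorem mem_sup_of_conj_mem_zhat (hG : IsMinSimpleOddOrder G) (hM : IsCoatom M)
    (hK : IsPiHallOf (kappa M) K M) (hK1 : K ≠ ⊥) {z g : G} (hz : z ∈ zhat M K)
    (hgz : g * z * g⁻¹ ∈ zhat M K) :
    g ∈ K ⊔ (sigmaCore M ⊓ Subgroup.centralizer (K : Set G)) := by
  obtain ⟨k, hk, s, hs, hk1, hs1, rfl⟩ := exists_mul_of_mem_zhat hz
  obtain ⟨k', hk', s', hs', hk1', hs1', hgz'⟩ := exists_mul_of_mem_zhat hgz
  have h31 := Cfsg.Agent.S1431.result hG M hM K hK hK1
  have hcop := card_coprime hK (M := M)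
  have hks : Commute k s := commute_of_mem hk hs
  have hks' : Commute k' s' := commute_of_mem hk' hs'
  -- the `σ(M)`-parts
  have hA : g * s ^ Nat.card ↥K * g⁻¹ = s' ^ Nat.card ↥K := by
    have h1 : (g * (k * s) * g⁻¹) ^ Nat.card ↥K = (k' * s') ^ Nat.card ↥K := by rw [hgz']
    rw [conj_pow, hks.mul_pow, hks'.mul_pow] at h1
    have h2 : k ^ Nat.card ↥K = 1 := by
      have := pow_card_eq_one' (G := ↥K) (x := ⟨k, hk⟩)
      exact congrArg Subtype.val this
    have h3 : k' ^ Nat.card ↥K = 1 := by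
      have := pow_card_eq_one' (G := ↥K) (x := ⟨k', hk'⟩)
      exact congrArg Subtype.val this
    rwa [h2, h3, one_mul, one_mul] at h1
  have hsa1 : s ^ Nat.card ↥K ≠ 1 := pow_ne_one_of_coprime hs hs1 hcop
  have hgM : g ∈ M := by
    by_contra hgM
    have h1 := h31.1 g hgM
    have h2 : s' ^ Nat.card ↥K ∈ (sigmaCore M ⊓ Subgroup.centralizer (K : Set G)) ⊓
        cj(g, M) := by
      refine ⟨Subgroup.pow_mem _ hs' _, ?_⟩
      rw [← hA]
      refine ⟨s ^ Nat.card ↥K, ?_, by simp [MulAut.conj_apply]⟩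
      exact Cfsg.Agent.Lib.H20.BGS.sigmaCore_le M (Subgroup.pow_mem _ hs.1 _)
    rw [h1] at h2
    have h3 : s' ^ Nat.card ↥K = 1 := Subgroup.mem_bot.1 h2
    rw [← hA] at h3
    apply hsa1
    have : s ^ Nat.card ↥K = g⁻¹ * (g * s ^ Nat.card ↥K * g⁻¹) * g := by group
    rw [this, h3]; group
  -- the `κ(M)`-parts
  set b := Nat.card ↥(sigmaCore M ⊓ Subgroup.centralizer (K : Set G)) with hb
  have hB : g * k ^ b * g⁻¹ = k' ^ b := by
    have h1 : (g * (k * s) * g⁻¹) ^ b = (k' * s') ^ b := by rw [hgz']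
    rw [conj_pow, hks.mul_pow, hks'.mul_pow] at h1
    have h2 : s ^ b = 1 := by
      have := pow_card_eq_one' (G := ↥(sigmaCore M ⊓ Subgroup.centralizer (K : Set G)))
        (x := ⟨s, hs⟩)
      exact congrArg Subtype.val this
    have h3 : s' ^ b = 1 := by
      have := pow_card_eq_one' (G := ↥(sigmaCore M ⊓ Subgroup.centralizer (K : Set G)))
        (x := ⟨s', hs'⟩)
      exact congrArg Subtype.val this
    rwa [h2, h3, mul_one, mul_one] at h1
  have hkb1 : k ^ b ≠ 1 := pow_ne_one_of_coprime hk hk1 hcop.symm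
  by_contra hgZ
  have h1 := h31.2.1 g hgM hgZ
  have h2 : k' ^ b ∈ K ⊓ cj(g, K) := by
    refine ⟨K.pow_mem hk' _, ?_⟩
    rw [← hB]
    exact ⟨k ^ b, K.pow_mem hk _, by simp [MulAut.conj_apply]⟩
  rw [h1] at h2
  have h3 : k' ^ b = 1 := Subgroup.mem_bot.1 h2
  rw [← hB] at h3
  apply hkb1
  have : k ^ b = g⁻¹ * (g * k ^ b * g⁻¹) * g := by group
  rw [this, h3]; group

/-- `Z` normalizes `Ẑ`. -/
theorem sup_le_normalizer_zhat :
    K ⊔ (sigmaCore M ⊓ Subgroup.centralizer (K : Set G)) ≤ Subgroup.normalizer (zhat M K) := by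
  have hKn : K ⊔ (sigmaCore M ⊓ Subgroup.centralizer (K : Set G)) ≤
      Subgroup.normalizer (K : Set G) := sup_le Subgroup.le_normalizer star_le_normalizer
  have hSn : K ⊔ (sigmaCore M ⊓ Subgroup.centralizer (K : Set G)) ≤
      Subgroup.normalizer ((sigmaCore M ⊓ Subgroup.centralizer (K : Set G) : Subgroup G) : Set G) := by
    apply sup_le _ Subgroup.le_normalizer
    refine le_trans ?_ (Subgroup.centralizer_le_normalizer _)
    intro k hk
    rw [Subgroup.mem_centralizer_iff]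
    intro s hs
    exact (commute_of_mem hk hs).symm
  intro g hg
  rw [Subgroup.mem_set_normalizer_iff]
  intro n
  have e1 : n ∈ K ⊔ (sigmaCore M ⊓ Subgroup.centralizer (K : Set G)) ↔
      g * n * g⁻¹ ∈ K ⊔ (sigmaCore M ⊓ Subgroup.centralizer (K : Set G)) :=
    Subgroup.mem_normalizer_iff.1 (Subgroup.le_normalizer hg) n
  have e2 : n ∈ K ↔ g * n * g⁻¹ ∈ K := Subgroup.mem_normalizer_iff.1 (hKn hg) n
  have e3 : n ∈ sigmaCore M ⊓ Subgroup.centralizer (K : Set G) ↔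
      g * n * g⁻¹ ∈ sigmaCore M ⊓ Subgroup.centralizer (K : Set G) :=
    Subgroup.mem_normalizer_iff.1 (hSn hg) n
  unfold zhat
  simp only [Set.mem_sdiff, Set.mem_union, SetLike.mem_coe]
  rw [e1, e2, e3]

/-- `Ẑ` is nonempty. -/
theorem zhat_nonempty (hG : IsMinSimpleOddOrder G) (hM : IsCoatom M)
    (hK : IsPiHallOf (kappa M) K M) (hK1 : K ≠ ⊥) : ∃ z, z ∈ zhat M K := by
  obtain ⟨k, hk, hk1⟩ : ∃ k ∈ K, k ≠ 1 := by
    by_contra hcon
    apply hK1
    rw [eq_bot_iff]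
    intro a ha
    by_contra ha1
    exact hcon ⟨a, ha, fun h => ha1 (Subgroup.mem_bot.2 h)⟩
  obtain ⟨s, hs, hs1⟩ : ∃ s ∈ sigmaCore M ⊓ Subgroup.centralizer (K : Set G), s ≠ 1 := by
    by_contra hcon
    apply star_ne_bot hG hM hK hK1
    rw [eq_bot_iff]
    intro a ha
    by_contra ha1
    exact hcon ⟨a, ha, fun h => ha1 (Subgroup.mem_bot.2 h)⟩
  exact ⟨k * s, mul_mem_zhat hK hk hs hk1 hs1⟩

/-- `N_G(Ẑ) = Z`. -/
theorem normalizer_zhat (hG : IsMinSimpleOddOrder G) (hM : IsCoatom M)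
    (hK : IsPiHallOf (kappa M) K M) (hK1 : K ≠ ⊥) :
    Subgroup.normalizer (zhat M K) = K ⊔ (sigmaCore M ⊓ Subgroup.centralizer (K : Set G)) := by
  apply le_antisymm _ sup_le_normalizer_zhat
  intro g hg
  obtain ⟨z, hz⟩ := zhat_nonempty hG hM hK hK1
  exact mem_sup_of_conj_mem_zhat hG hM hK hK1 hz ((Subgroup.mem_set_normalizer_iff.1 hg z).1 hz)

/-- `Ẑ` is a TI-subset. -/
theorem isTISubset_zhat (hG : IsMinSimpleOddOrder G) (hM : IsCoatom M)
    (hK : IsPiHallOf (kappa M) K M) (hK1 : K ≠ ⊥) : IsTISubset (zhat M K) := by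
  intro g hg x hx hgx
  exfalso
  apply hg
  rw [normalizer_zhat hG hM hK hK1]
  exact mem_sup_of_conj_mem_zhat hG hM hK hK1 hx hgx

end

end Cfsg.Agent.Lib.H7.BG147
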