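import Mathlib
import Cfsg.Agent.Lib.H7.BG147a
import Cfsg.Agent.Lib.H20.BGN8

/-!
# BG Theorem 14.7, local part I (helper7): `𝓜(C_G(Y)) = {M}` for `Y ≤ K*` of prime order
-/

set_option autoImplicit false
set_option linter.style.haveILetI false
set_option linter.unusedSectionVars false
set_option linter.unusedVariables false
open Cfsg
open Cfsg.Agent.Lib.H16.BG
open Cfsg.Agent.Lib.H7.BG7
open Cfsg.Agent.Lib.H7.BG10

namespace Cfsg.Agent.Lib.H7.BG147

universe u
variable {G : Type u} [Group G] [Finite G]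

local notation:max "cj(" g ", " X ")" => Subgroup.map (MulEquiv.toMonoidHom (MulAut.conj g)) X

variable {M K : Subgroup G}

/-- **BG 14.2(f)/13.4**: `𝓜(C_G(Y)) = {M}` for every subgroup `Y` of prime order of `K*`. -/
theorem uniq_star (hG : IsMinSimpleOddOrder G) (hM : IsCoatom M)
    (hK : IsPiHallOf (kappa M) K M) (hK1 : K ≠ ⊥) {Y : Subgroup G}
    (hY : Y ≤ sigmaCore M ⊓ Subgroup.centralizer (K : Set G)) (hYc : (Nat.card Y).Prime) :
    Subgroup.centralizer (Y : Set G) ≤ M ∧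
      ∀ L : Subgroup G, IsCoatom L → Subgroup.centralizer (Y : Set G) ≤ L → L = M := by
  by_cases hKc : IsCyclic ↥K
  · obtain ⟨p, hp, X, hXK, hXc⟩ := Cfsg.Agent.Lib.H7.BG14u.exists_le_card_prime hK1
    haveI : Fact p.Prime := ⟨hp⟩
    haveI : Fact (Nat.card Y).Prime := ⟨hYc⟩
    obtain ⟨E, hE, hKE⟩ := Cfsg.Agent.Lib.H19.BG13.exists_compl_ge hG hM hK.1
      (fun q hq hd => (hK.2.1 q hq hd).2.2.1)
    have hp1 : p ∈ tau1 M := Cfsg.Agent.Lib.H7.BG13t.mem_tau1_of_mem_kappa hG hM hKc hK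
      (hK.2.1 p hp (by rw [← hXc]; exact Subgroup.card_dvd_of_le hXK))
    exact (Cfsg.Agent.Lib.H7.BG14v.centralizer_le_uniq_of_tau1 hG hM hE hp1 (hXK.trans hKE) hXc
      (hY.trans inf_le_left) rfl
      (hY.trans (inf_le_right.trans (Subgroup.centralizer_le hXK)))).2.1
  · exact (Cfsg.Agent.Lib.H20.BGN.nonreg_of_not_cyclic hG hM hK hKc).uniq hG hM
      (hY.trans inf_le_left) hYc

/-- `N_G(Y) ≤ M` for every subgroup `Y` of prime order of `K*`. -/
theorem normalizer_le_star (hG : IsMinSimpleOddOrder G) (hM : IsCoatom M)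
    (hK : IsPiHallOf (kappa M) K M) (hK1 : K ≠ ⊥) {Y : Subgroup G}
    (hY : Y ≤ sigmaCore M ⊓ Subgroup.centralizer (K : Set G)) (hYc : (Nat.card Y).Prime) :
    Subgroup.normalizer (Y : Set G) ≤ M := by
  haveI : Fact (Nat.card Y).Prime := ⟨hYc⟩
  have hYq : IsPGroup (Nat.card Y) Y := IsPGroup.of_card (n := 1) (by rw [pow_one])
  have hY1 : Y ≠ ⊥ := by
    intro h; rw [h, Subgroup.card_bot] at hYc; exact Nat.not_prime_one hYc
  exact Cfsg.Agent.Lib.H7.BG14w.normalizer_le_of_uniq hG hYq hY1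
    (Subgroup.centralizer_le_normalizer _) (uniq_star hG hM hK hK1 hY hYc).2

end Cfsg.Agent.Lib.H7.BG147
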