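import Mathlib
import Cfsg.Agent.Lib.H7.BG147b

/-!
# BG Theorem 14.7(e), the count: `|𝒞_G(Ẑ)| = (1 - 1/k)(1 - 1/k*) |G| > |G|/2` (helper7)
-/

set_option autoImplicit false
set_option linter.style.haveILetI false
set_option linter.unusedSectionVars false
set_option linter.unusedVariables false
open Cfsg
open Cfsg.Agent.Lib.H16.BG
open Cfsg.Agent.Lib.H7.BG7
open Cfsg.Agent.Lib.H7.BG10

namespace Cfsg.Agent.Lib.H7.BG147

universe u
variable {G : Type u} [Group G] [Finite G]

/-- the union of the conjugates of a set. -/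
def conjUnion (T : Set G) : Set G := {a | ∃ g : G, ∃ z ∈ T, a = g * z * g⁻¹}

/-- the counting principle for a set `T` controlled by a subgroup `Z`. -/
theorem card_mul_ncard_conjUnion {Z : Subgroup G} {T : Set G}
    (hkey : ∀ z ∈ T, ∀ g : G, g * z * g⁻¹ ∈ T → g ∈ Z)
    (hnorm : ∀ w ∈ Z, ∀ z ∈ T, w * z * w⁻¹ ∈ T) :
    Nat.card ↥Z * Set.ncard (conjUnion T) = Set.ncard T * Nat.card G := by
  classical
  have hex : ∀ a : conjUnion T, ∃ p : G × T, (a : G) = p.1 * (p.2 : G) * p.1⁻¹ := by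
    rintro ⟨a, g, z, hz, rfl⟩
    exact ⟨(g, ⟨z, hz⟩), rfl⟩
  choose rep hrep using hex
  let f : (conjUnion T) × Z → G × T := fun aw =>
    ((rep aw.1).1 * (aw.2 : G)⁻¹,
      ⟨(aw.2 : G) * ((rep aw.1).2 : G) * (aw.2 : G)⁻¹, hnorm _ aw.2.2 _ (rep aw.1).2.2⟩)
  have hf : Function.Bijective f := by
    constructor
    · rintro ⟨a, w⟩ ⟨a', w'⟩ h
      have h1 : (rep a).1 * (w : G)⁻¹ = (rep a').1 * (w' : G)⁻¹ := congrArg Prod.fst h
      have h2 : (w : G) * ((rep a).2 : G) * (w : G)⁻¹ = (w' : G) * ((rep a').2 : G) * (w' : G)⁻¹ :=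
        congrArg (fun p : G × T => ((p.2 : T) : G)) h
      have ha : (a : G) = (a' : G) := by
        have e1 : (a : G) = ((rep a).1 * (w : G)⁻¹) * ((w : G) * ((rep a).2 : G) * (w : G)⁻¹) *
            ((rep a).1 * (w : G)⁻¹)⁻¹ := by
          rw [hrep a]; group
        have e2 : (a' : G) = ((rep a').1 * (w' : G)⁻¹) *
            ((w' : G) * ((rep a').2 : G) * (w' : G)⁻¹) * ((rep a').1 * (w' : G)⁻¹)⁻¹ := by
          rw [hrep a']; group
        rw [e1, e2, h1, h2]
      have ha' : a = a' := Subtype.ext ha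
      subst ha'
      have hw : (w : G) = (w' : G) := by
        have := mul_left_cancel h1
        exact inv_injective this
      have hw' : w = w' := Subtype.ext hw
      rw [hw']
    · rintro ⟨g, z⟩
      have haC : g * (z : G) * g⁻¹ ∈ conjUnion T := ⟨g, z, z.2, rfl⟩
      set a : conjUnion T := ⟨g * (z : G) * g⁻¹, haC⟩ with ha
      have h1 : g * (z : G) * g⁻¹ = (rep a).1 * ((rep a).2 : G) * (rep a).1⁻¹ := hrep a
      have h2 : (g⁻¹ * (rep a).1) * ((rep a).2 : G) * (g⁻¹ * (rep a).1)⁻¹ = (z : G) := by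
        have : (g⁻¹ * (rep a).1) * ((rep a).2 : G) * (g⁻¹ * (rep a).1)⁻¹ =
            g⁻¹ * ((rep a).1 * ((rep a).2 : G) * (rep a).1⁻¹) * g := by group
        rw [this, ← h1]; group
      have hwZ : g⁻¹ * (rep a).1 ∈ Z := hkey _ (rep a).2.2 _ (by rw [h2]; exact z.2)
      refine ⟨(a, ⟨g⁻¹ * (rep a).1, hwZ⟩), ?_⟩
      apply Prod.ext
      · show (rep a).1 * (g⁻¹ * (rep a).1)⁻¹ = g
        group
      · apply Subtype.ext
        exact h2
  have h1 := Nat.card_congr (Equiv.ofBijective f hf)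
  rw [Nat.card_prod, Nat.card_prod] at h1
  rw [Nat.card_coe_set_eq, Nat.card_coe_set_eq] at h1
  rw [mul_comm, h1, mul_comm]

section

variable {M K : Subgroup G}

theorem ncard_coe (H : Subgroup G) : (H : Set G).ncard = Nat.card ↥H :=
  (Nat.card_coe_set_eq (H : Set G)).symm

/-- `|Z| = |K| |K*|`. -/
theorem card_sup_star (hK : IsPiHallOf (kappa M) K M) :
    Nat.card ↥(K ⊔ (sigmaCore M ⊓ Subgroup.centralizer (K : Set G))) =
      Nat.card ↥K * Nat.card ↥(sigmaCore M ⊓ Subgroup.centralizer (K : Set G)) := by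
  have h : IsComplIn K (sigmaCore M ⊓ Subgroup.centralizer (K : Set G))
      (K ⊔ (sigmaCore M ⊓ Subgroup.centralizer (K : Set G))) :=
    ⟨le_sup_left, le_sup_right, inf_star_eq_bot hK, fun m hm => exists_mul_of_mem_sup hm⟩
  exact (Cfsg.Agent.Lib.H7.isComplIn_card_mul h).symm

/-- `|Ẑ| + k + k* = k k* + 1`. -/
theorem ncard_zhat_add (hK : IsPiHallOf (kappa M) K M) :
    (zhat M K).ncard + Nat.card ↥K +
        Nat.card ↥(sigmaCore M ⊓ Subgroup.centralizer (K : Set G)) =
      Nat.card ↥K * Nat.card ↥(sigmaCore M ⊓ Subgroup.centralizer (K : Set G)) + 1 := by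
  set Ks := sigmaCore M ⊓ Subgroup.centralizer (K : Set G) with hKs
  have hsub : ((K : Set G) ∪ (Ks : Set G)) ⊆ ((K ⊔ Ks : Subgroup G) : Set G) := by
    intro x hx
    rcases hx with hx | hx
    · exact (le_sup_left : K ≤ K ⊔ Ks) hx
    · exact (le_sup_right : Ks ≤ K ⊔ Ks) hx
  have h1 : (zhat M K).ncard = ((K ⊔ Ks : Subgroup G) : Set G).ncard -
      ((K : Set G) ∪ (Ks : Set G)).ncard := by
    unfold zhat
    exact Set.ncard_sdiff hsub (Set.toFinite _)
  have hint : ((K : Set G) ∩ (Ks : Set G)) = {1} := by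
    ext x
    simp only [Set.mem_inter_iff, SetLike.mem_coe, Set.mem_singleton_iff]
    constructor
    · intro hx
      have : x ∈ K ⊓ Ks := hx
      rw [inf_star_eq_bot hK] at this
      exact Subgroup.mem_bot.1 this
    · rintro rfl
      exact ⟨K.one_mem, Ks.one_mem⟩
  have h2 : ((K : Set G) ∪ (Ks : Set G)).ncard + 1 = Nat.card ↥K + Nat.card ↥Ks := by
    have := Set.ncard_union_add_ncard_inter (K : Set G) (Ks : Set G) (Set.toFinite _)
      (Set.toFinite _)
    rw [hint, Set.ncard_singleton, ncard_coe, ncard_coe] at this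
    exact this
  have h3 : ((K ⊔ Ks : Subgroup G) : Set G).ncard = Nat.card ↥K * Nat.card ↥Ks := by
    rw [ncard_coe, card_sup_star hK]
  have h4 : ((K : Set G) ∪ (Ks : Set G)).ncard ≤ ((K ⊔ Ks : Subgroup G) : Set G).ncard :=
    Set.ncard_le_ncard hsub (Set.toFinite _)
  rw [h1]
  omega

theorem three_le_card (hG : IsMinSimpleOddOrder G) {H : Subgroup G} (hH : H ≠ ⊥) :
    3 ≤ Nat.card ↥H ∧ Odd (Nat.card ↥H) := by
  have hodd : Odd (Nat.card ↥H) := by
    have h1 : Nat.card ↥H ∣ Nat.card G := Subgroup.card_subgroup_dvd_card H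
    exact Odd.of_dvd_nat hG.1 h1
  have h1 : Nat.card ↥H ≠ 1 := fun h => hH (Subgroup.card_eq_one.1 h)
  have h0 : 0 < Nat.card ↥H := Nat.card_pos
  refine ⟨?_, hodd⟩
  obtain ⟨m, hm⟩ := hodd
  omega

/-- the two counting clauses of `S1434`. -/
theorem count_zhat (hG : IsMinSimpleOddOrder G) (hM : IsCoatom M)
    (hK : IsPiHallOf (kappa M) K M) (hK1 : K ≠ ⊥) :
    Nat.card ↥K * Nat.card ↥(sigmaCore M ⊓ Subgroup.centralizer (K : Set G)) *
        Set.ncard (conjUnion (zhat M K)) =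
      (Nat.card ↥K * Nat.card ↥(sigmaCore M ⊓ Subgroup.centralizer (K : Set G)) - Nat.card ↥K -
        Nat.card ↥(sigmaCore M ⊓ Subgroup.centralizer (K : Set G)) + 1) * Nat.card G ∧
    Nat.card G < 2 * Set.ncard (conjUnion (zhat M K)) := by
  have hKs1 := star_ne_bot hG hM hK hK1
  have hcop := card_coprime hK (M := M)
  have hadd := ncard_zhat_add hK (M := M)
  have hZ := card_sup_star hK (M := M)
  have hcount := card_mul_ncard_conjUnion
    (Z := K ⊔ (sigmaCore M ⊓ Subgroup.centralizer (K : Set G))) (T := zhat M K)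
    (fun z hz g hgz => mem_sup_of_conj_mem_zhat hG hM hK hK1 hz hgz)
    (fun w hw z hz => (Subgroup.mem_set_normalizer_iff.1 (sup_le_normalizer_zhat hw) z).1 hz)
  rw [hZ] at hcount
  obtain ⟨ha3, haodd⟩ := three_le_card hG hK1
  obtain ⟨hb3, hbodd⟩ := three_le_card hG hKs1
  set a := Nat.card ↥K with ha
  set b := Nat.card ↥(sigmaCore M ⊓ Subgroup.centralizer (K : Set G)) with hb
  set n := (zhat M K).ncard with hn
  set N := (conjUnion (zhat M K)).ncard with hN
  have hgpos : 0 < Nat.card G := Nat.card_pos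
  -- `a b + 2 > 2 a + 2 b`
  have hineq : 2 * a + 2 * b < a * b + 2 := by
    have h5 : 5 ≤ a ∨ 5 ≤ b := by
      by_contra hcon
      have ha' : a = 3 := by
        obtain ⟨m, hm⟩ := haodd
        omega
      have hb' : b = 3 := by
        obtain ⟨m, hm⟩ := hbodd
        omega
      rw [ha', hb'] at hcop
      exact absurd hcop (by decide)
    rcases h5 with h5 | h5
    · nlinarith [Nat.mul_le_mul (Nat.sub_le_sub_right h5 5) (Nat.sub_le_sub_right hb3 3)]
    · nlinarith [Nat.mul_le_mul (Nat.sub_le_sub_right ha3 3) (Nat.sub_le_sub_right h5 5)]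
  have hab : a + b ≤ a * b := by nlinarith
  constructor
  · have h1 : a * b - a - b + 1 = n := by omega
    rw [h1, hcount]
  · by_contra hcon
    have hcon' : 2 * N ≤ Nat.card G := Nat.le_of_not_lt hcon
    have h2 : a * b * (2 * N) ≤ a * b * Nat.card G := Nat.mul_le_mul_left _ hcon'
    have h3 : a * b * (2 * N) = 2 * n * Nat.card G := by
      calc a * b * (2 * N) = 2 * (a * b * N) := by ring
        _ = 2 * (n * Nat.card G) := by rw [hcount]
        _ = 2 * n * Nat.card G := by ring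
    rw [h3] at h2
    have h4 : 2 * n ≤ a * b := Nat.le_of_mul_le_mul_right h2 hgpos
    omega

end

end Cfsg.Agent.Lib.H7.BG147
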