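import Mathlib
import Cfsg.Agent.Lib.H7.BG147c

/-!
# BG Theorem 14.7, local part II (helper7): the pair `(M, M*)`

`M` maximal, `K ≠ 1` a Hall `κ(M)`-subgroup, `K* = C_{M_σ}(K)`; `M*` maximal with
`K = C_{M*_σ}(K*)` and `K*` a Hall `κ(M*)`-subgroup of `M*`.
-/

set_option autoImplicit false
set_option linter.style.haveILetI false
set_option linter.unusedSectionVars false
set_option linter.unusedVariables false
open Cfsg
open Cfsg.Agent.Lib.H16.BG
open Cfsg.Agent.Lib.H7.BG7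
open Cfsg.Agent.Lib.H7.BG10
open Cfsg.Agent.Lib.H19 (IsPiCard)

namespace Cfsg.Agent.Lib.H7.BG147

universe u
variable {G : Type u} [Group G] [Finite G]

local notation:max "cj(" g ", " X ")" => Subgroup.map (MulEquiv.toMonoidHom (MulAut.conj g)) X

/-- the standing hypotheses on the pair `(M, M*)`. -/
structure Pair (M K Ms : Subgroup G) : Prop where
  hG : IsMinSimpleOddOrder G
  hM : IsCoatom M
  hK : IsPiHallOf (kappa M) K M
  hK1 : K ≠ ⊥
  hMs : IsCoatom Ms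
  hKst : K = sigmaCore Ms ⊓ Subgroup.centralizer
    ((sigmaCore M ⊓ Subgroup.centralizer (K : Set G) : Subgroup G) : Set G)
  hKstH : IsPiHallOf (kappa Ms) (sigmaCore M ⊓ Subgroup.centralizer (K : Set G)) Ms

namespace Pair

variable {M K Ms : Subgroup G}

theorem star_ne (c : Pair M K Ms) : sigmaCore M ⊓ Subgroup.centralizer (K : Set G) ≠ ⊥ :=
  star_ne_bot c.hG c.hM c.hK c.hK1

/-- the symmetric pair. -/
theorem symm (c : Pair M K Ms) :
    Pair Ms (sigmaCore M ⊓ Subgroup.centralizer (K : Set G)) M := by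
  refine ⟨c.hG, c.hMs, c.hKstH, c.star_ne, c.hM, ?_, ?_⟩
  · rw [← c.hKst]
  · rw [← c.hKst]; exact c.hK

theorem K_le_sigmaCore (c : Pair M K Ms) : K ≤ sigmaCore Ms := by
  have h := c.hKst
  exact h ▸ inf_le_left

theorem K_le (c : Pair M K Ms) : K ≤ Ms :=
  c.K_le_sigmaCore.trans (Cfsg.Agent.Lib.H20.BGS.sigmaCore_le Ms)

theorem star_le (c : Pair M K Ms) : sigmaCore M ⊓ Subgroup.centralizer (K : Set G) ≤ Ms :=
  c.hKstH.1

/-- `M*` is not conjugate to `M`. -/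
theorem not_conj (c : Pair M K Ms) (g : G) : Ms ≠ cj(g, M) := by
  intro h
  obtain ⟨q, hq, Y, hY, hYc⟩ := Cfsg.Agent.Lib.H7.BG14u.exists_le_card_prime c.star_ne
  have hd : q ∣ Nat.card ↥(sigmaCore M ⊓ Subgroup.centralizer (K : Set G)) := by
    rw [← hYc]; exact Subgroup.card_dvd_of_le hY
  have hqκ := c.hKstH.2.1 q hq hd
  have hqσ : q ∈ sigma M := Cfsg.Agent.Lib.H20.BGS.sigmaCore_isPiCard M q hq
    (hd.trans (Subgroup.card_dvd_of_le inf_le_left))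
  apply hqκ.2.2.1
  rw [h]
  exact Cfsg.Agent.Lib.H19.BG13.mem_sigma_map_conj c.hG hqσ g

/-- `σ(M) ∩ σ(M*) = ∅`. -/
theorem sigma_disjoint (c : Pair M K Ms) {q : ℕ} (hq : q ∈ sigma M) : q ∉ sigma Ms := by
  intro hq'
  obtain ⟨g, hg⟩ := Cfsg.Agent.Lib.H7.BG14v.sigma_partition' c.hG c.hM c.hMs hq hq'
  exact c.not_conj g hg

theorem sigmaCore_inf_sigmaCore (c : Pair M K Ms) : sigmaCore M ⊓ sigmaCore Ms = ⊥ := by
  apply (Subgroup.disjoint_of_coprime_natCard ?_).eq_bot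
  apply Nat.coprime_of_dvd
  intro r hr h1 h2
  exact c.sigma_disjoint (Cfsg.Agent.Lib.H20.BGS.sigmaCore_isPiCard M r hr h1)
    (Cfsg.Agent.Lib.H20.BGS.sigmaCore_isPiCard Ms r hr h2)

/-- elements of `M_σ ∩ M*` and `M*_σ ∩ M` commute. -/
theorem commute_cross (c : Pair M K Ms) {a b : G} (ha : a ∈ sigmaCore M) (ha' : a ∈ Ms)
    (hb : b ∈ sigmaCore Ms) (hb' : b ∈ M) : a * b = b * a := by
  have hσn : M ≤ Subgroup.normalizer ((sigmaCore M : Subgroup G) : Set G) :=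
    Cfsg.Agent.Lib.H20.BGS.le_normalizer_sigmaCore M
  have hσn' : Ms ≤ Subgroup.normalizer ((sigmaCore Ms : Subgroup G) : Set G) :=
    Cfsg.Agent.Lib.H20.BGS.le_normalizer_sigmaCore Ms
  have h1 : a * b * a⁻¹ ∈ sigmaCore Ms := (Subgroup.mem_normalizer_iff.1 (hσn' ha') b).1 hb
  have h2 : b * a⁻¹ * b⁻¹ ∈ sigmaCore M :=
    (Subgroup.mem_normalizer_iff.1 (hσn hb') a⁻¹).1 ((sigmaCore M).inv_mem ha)
  have h3 : a * b * a⁻¹ * b⁻¹ ∈ sigmaCore M ⊓ sigmaCore Ms := by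
    refine ⟨?_, (sigmaCore Ms).mul_mem h1 ((sigmaCore Ms).inv_mem hb)⟩
    have : a * b * a⁻¹ * b⁻¹ = a * (b * a⁻¹ * b⁻¹) := by group
    rw [this]; exact (sigmaCore M).mul_mem ha h2
  rw [c.sigmaCore_inf_sigmaCore] at h3
  have h4 : a * b * a⁻¹ * b⁻¹ = 1 := Subgroup.mem_bot.1 h3
  have : a * b = (a * b * a⁻¹ * b⁻¹) * (b * a) := by group
  rw [this, h4, one_mul]

/-- `M_σ ∩ M* = K*`. -/
theorem sigmaCore_inf_eq (c : Pair M K Ms) :
    sigmaCore M ⊓ Ms = sigmaCore M ⊓ Subgroup.centralizer (K : Set G) := by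
  apply le_antisymm
  · intro a ha
    refine Subgroup.mem_inf.2 ⟨ha.1, ?_⟩
    rw [Subgroup.mem_centralizer_iff]
    intro k hk
    exact (c.commute_cross ha.1 ha.2 (c.K_le_sigmaCore hk) (c.hK.1 hk)).symm
  · exact le_inf inf_le_left c.star_le

/-- `M*_σ ∩ M = K`. -/
theorem sigmaCore_inf_eq' (c : Pair M K Ms) : sigmaCore Ms ⊓ M = K := by
  have h := c.symm.sigmaCore_inf_eq
  rw [← c.hKst] at h
  exact h

/-- **`M ∩ M* = K K*`**. -/
theorem inf_eq (c : Pair M K Ms) :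
    M ⊓ Ms = K ⊔ (sigmaCore M ⊓ Subgroup.centralizer (K : Set G)) := by
  apply le_antisymm
  · obtain ⟨p, hp, X, hXK, hXc⟩ := Cfsg.Agent.Lib.H7.BG14u.exists_le_card_prime c.hK1
    have h30 := ((Cfsg.Agent.S1430.result c.hG M c.hM K c.hK c.hK1).2.2 X hXK
      (by rw [hXc]; exact hp)).2.1
    rw [← h30]
    refine le_inf inf_le_left ?_
    intro d hd
    rw [Subgroup.mem_normalizer_iff]
    have hσn' : Ms ≤ Subgroup.normalizer ((sigmaCore Ms : Subgroup G) : Set G) :=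
      Cfsg.Agent.Lib.H20.BGS.le_normalizer_sigmaCore Ms
    intro h
    rw [← c.sigmaCore_inf_eq']
    constructor
    · intro hh
      exact ⟨(Subgroup.mem_normalizer_iff.1 (hσn' hd.2) h).1 hh.1,
        M.mul_mem (M.mul_mem hd.1 hh.2) (M.inv_mem hd.1)⟩
    · intro hh
      refine ⟨(Subgroup.mem_normalizer_iff.1 (hσn' hd.2) h).2 hh.1, ?_⟩
      have : h = d⁻¹ * (d * h * d⁻¹) * d := by group
      rw [this]
      exact M.mul_mem (M.mul_mem (M.inv_mem hd.1) hh.2) hd.1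
  · exact sup_le (le_inf c.hK.1 c.K_le)
      (le_inf (inf_le_left.trans (Cfsg.Agent.Lib.H20.BGS.sigmaCore_le M)) c.star_le)

/-- **`K*` is a Hall `σ(M)`-subgroup of `M*`**. -/
theorem star_hall_sigma (c : Pair M K Ms) :
    IsPiHallOf (sigma M) (sigmaCore M ⊓ Subgroup.centralizer (K : Set G)) Ms := by
  haveI : Group.IsSolvable ↥Ms := solvable_of_le_ne_top c.hG c.hMs.1 le_rfl
  have hπ : IsPiCard (sigma M)
      (Nat.card ↥(sigmaCore M ⊓ Subgroup.centralizer (K : Set G))) := by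
    intro r hr hd
    exact Cfsg.Agent.Lib.H20.BGS.sigmaCore_isPiCard M r hr
      (hd.trans (Subgroup.card_dvd_of_le inf_le_left))
  obtain ⟨H, hH, hle⟩ := Cfsg.Agent.Lib.H19.exists_isPiHallOf_ge c.star_le hπ
  have h31 := (Cfsg.Agent.S1431.result c.hG M c.hM K c.hK c.hK1).2.2.2 H hH.2.1 (by
    rw [inf_eq_right.2 hle]; exact c.star_ne)
  have h1 : H ≤ sigmaCore M ⊓ Subgroup.centralizer (K : Set G) := by
    rw [← c.sigmaCore_inf_eq]
    exact le_inf h31 hH.1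
  have h2 : H = sigmaCore M ⊓ Subgroup.centralizer (K : Set G) := le_antisymm h1 hle
  rw [← h2]; exact hH

/-- `Ẑ ∩ M^g = ∅` for `g ∉ M`. -/
theorem zhat_not_mem_conj (hG : IsMinSimpleOddOrder G) (hM : IsCoatom M)
    (hK : IsPiHallOf (kappa M) K M) (hK1 : K ≠ ⊥) {g : G} (hg : g ∉ M) {z : G}
    (hz : z ∈ zhat M K) : z ∉ cj(g, M) := by
  intro hzg
  obtain ⟨k, hk, s, hs, hk1, hs1, rfl⟩ := exists_mul_of_mem_zhat hz
  have hcop := card_coprime hK (M := M)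
  have hks : Commute k s := commute_of_mem hk hs
  have h1 : (k * s) ^ Nat.card ↥K = s ^ Nat.card ↥K := by
    rw [hks.mul_pow]
    have h2 : k ^ Nat.card ↥K = 1 := by
      have := pow_card_eq_one' (G := ↥K) (x := ⟨k, hk⟩)
      exact congrArg Subtype.val this
    rw [h2, one_mul]
  have h3 : s ^ Nat.card ↥K ∈ (sigmaCore M ⊓ Subgroup.centralizer (K : Set G)) ⊓ cj(g, M) := by
    refine ⟨Subgroup.pow_mem _ hs _, ?_⟩
    rw [← h1]
    exact Subgroup.pow_mem _ hzg _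
  rw [(Cfsg.Agent.S1431.result hG M hM K hK hK1).1 g hg] at h3
  exact pow_ne_one_of_coprime hs hs1 hcop (Subgroup.mem_bot.1 h3)

end Pair

end Cfsg.Agent.Lib.H7.BG147
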