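import Mathlib
import Cfsg.Agent.Lib.H7.BG147d
import Cfsg.Agent.S1365

/-!
# BG Theorem 14.7, local part III (helper7): `K` cyclic; consequences of `K*` cyclic
-/

set_option autoImplicit false
set_option linter.style.haveILetI false
set_option linter.unusedSectionVars false
set_option linter.unusedVariables false
open Cfsg
open Cfsg.Agent.Lib.H16.BG
open Cfsg.Agent.Lib.H7.BG7
open Cfsg.Agent.Lib.H7.BG10
open Cfsg.Agent.Lib.H19 (IsPiCard)

namespace Cfsg.Agent.Lib.H7.BG147

universe u
variable {G : Type u} [Group G] [Finite G]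

local notation:max "cj(" g ", " X ")" => Subgroup.map (MulEquiv.toMonoidHom (MulAut.conj g)) X

/-- two commuting cyclic subgroups of coprime orders generate a cyclic subgroup. -/
theorem isCyclic_sup_of_coprime {A B : Subgroup G} (hA : IsCyclic ↥A) (hB : IsCyclic ↥B)
    (hAB : B ≤ Subgroup.centralizer (A : Set G))
    (hcop : (Nat.card ↥A).Coprime (Nat.card ↥B)) : IsCyclic ↥(A ⊔ B : Subgroup G) := by
  obtain ⟨a, ha⟩ := hA.exists_generator
  obtain ⟨b, hb⟩ := hB.exists_generator
  have hoa : orderOf (a : G) = Nat.card ↥A := by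
    rw [Subgroup.orderOf_coe]; exact orderOf_eq_card_of_forall_mem_zpowers ha
  have hob : orderOf (b : G) = Nat.card ↥B := by
    rw [Subgroup.orderOf_coe]; exact orderOf_eq_card_of_forall_mem_zpowers hb
  have hcomm : Commute (a : G) (b : G) :=
    Subgroup.mem_centralizer_iff.1 (hAB b.2) a a.2
  have ho : orderOf ((a : G) * (b : G)) = Nat.card ↥A * Nat.card ↥B := by
    rw [hcomm.orderOf_mul_eq_mul_orderOf_of_coprime (by rw [hoa, hob]; exact hcop), hoa, hob]
  have hmem : (a : G) * (b : G) ∈ A ⊔ B := Subgroup.mul_mem_sup a.2 b.2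
  have hdvd : Nat.card ↥(A ⊔ B : Subgroup G) ∣ Nat.card ↥A * Nat.card ↥B := by
    rw [sup_comm, mul_comm]
    exact Cfsg.Agent.Lib.H19.card_sup_dvd_mul_of_le_normalizer
      (hAB.trans (Subgroup.centralizer_le_normalizer _))
  have hle : Nat.card ↥(A ⊔ B : Subgroup G) ≤ Nat.card ↥A * Nat.card ↥B :=
    Nat.le_of_dvd (Nat.mul_pos Nat.card_pos Nat.card_pos) hdvd
  have hge : Nat.card ↥A * Nat.card ↥B ≤ Nat.card ↥(A ⊔ B : Subgroup G) := by
    rw [← ho]
    have := Subgroup.orderOf_dvd_natCard (A ⊔ B) hmem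
    exact Nat.le_of_dvd Nat.card_pos this
  apply isCyclic_of_orderOf_eq_card (⟨(a : G) * (b : G), hmem⟩ : ↥(A ⊔ B : Subgroup G))
  rw [← Subgroup.orderOf_coe]
  show orderOf ((a : G) * (b : G)) = _
  rw [ho]
  exact le_antisymm hge hle

section

variable {M K U Ms : Subgroup G}

/-- **`κ(M) = τ₁(M)`** for a maximal subgroup `M` with `K ≠ 1`. -/
theorem kappa_eq_tau1 (hG : IsMinSimpleOddOrder G) (hM : IsCoatom M)
    (hKU : IsSigmaDecomposition M K U) (hK1 : K ≠ ⊥) : kappa M = tau1 M := by
  apply Set.Subset.antisymm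
    (Cfsg.Agent.Lib.H7.BG13t.kappa_subset_tau1 hG hM hKU.cyclic hKU.hall)
  intro p hp1
  by_contra hκ
  have hp : p.Prime := hp1.1
  have h65 := (Cfsg.Agent.S1365.result hG M hM K U hKU hK1).1
  have hcard := Cfsg.Agent.Lib.H7.isComplIn_card_mul hKU.compl
  have hKσ : K ≤ Subgroup.normalizer ((sigmaCore M : Subgroup G) : Set G) :=
    hKU.hall.1.trans (Cfsg.Agent.Lib.H20.BGS.le_normalizer_sigmaCore M)
  have h4 : Nat.card ↥(K ⊔ sigmaCore M : Subgroup G) ∣
      Nat.card ↥K * Nat.card ↥(sigmaCore M) :=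
    Cfsg.Agent.Lib.H19.card_sup_dvd_mul_of_le_normalizer hKσ
  have hpM : p ∣ Nat.card ↥U * Nat.card ↥(K ⊔ sigmaCore M : Subgroup G) := by
    rw [hcard]; exact hp1.2.2.1
  have hpU : p ∣ Nat.card ↥U := by
    rcases (Nat.Prime.dvd_mul hp).1 hpM with h | h
    · exact h
    · exfalso
      rcases (Nat.Prime.dvd_mul hp).1 (h.trans h4) with h5 | h5
      · exact hκ (hKU.hall.2.1 p hp h5)
      · exact hp1.2.1 (Cfsg.Agent.Lib.H20.BGS.sigmaCore_isPiCard M p hp h5)
  apply hp1.2.2.2.1
  refine hpU.trans (Subgroup.card_dvd_of_le ?_)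
  rw [h65]; exact le_sup_left

namespace Pair

/-- `C_G(x y) = K K*` for `x ∈ K^#`, `y ∈ K*^#`, when `K` and `K*` are cyclic. -/
theorem centralizer_mul_eq (c : Pair M K Ms) (hKc : IsCyclic ↥K)
    (hKsc : IsCyclic ↥(sigmaCore M ⊓ Subgroup.centralizer (K : Set G))) {x y : G}
    (hx : x ∈ K) (hx1 : x ≠ 1) (hy : y ∈ sigmaCore M ⊓ Subgroup.centralizer (K : Set G))
    (hy1 : y ≠ 1) :
    Subgroup.centralizer ({x * y} : Set G) =
      K ⊔ (sigmaCore M ⊓ Subgroup.centralizer (K : Set G)) := by
  have hcop := card_coprime c.hK (M := M)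
  have hxy : Commute x y := commute_of_mem hx hy
  have habK := Cfsg.Agent.Lib.H7.BG138.isMulCommutative_of_isCyclic hKc
  have habKs := Cfsg.Agent.Lib.H7.BG138.isMulCommutative_of_isCyclic hKsc
  apply le_antisymm
  · intro g hg
    have hgz : g * (x * y) = (x * y) * g :=
      (Subgroup.mem_centralizer_iff.1 hg (x * y) (Set.mem_singleton _)).symm
    have hcz : Commute g (x * y) := hgz
    set a := Nat.card ↥K with ha
    set b := Nat.card ↥(sigmaCore M ⊓ Subgroup.centralizer (K : Set G)) with hb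
    have hxa : x ^ a = 1 := by
      have := pow_card_eq_one' (G := ↥K) (x := ⟨x, hx⟩)
      exact congrArg Subtype.val this
    have hyb : y ^ b = 1 := by
      have := pow_card_eq_one' (G := ↥(sigmaCore M ⊓ Subgroup.centralizer (K : Set G)))
        (x := ⟨y, hy⟩)
      exact congrArg Subtype.val this
    have hza : (x * y) ^ a = y ^ a := by rw [hxy.mul_pow, hxa, one_mul]
    have hzb : (x * y) ^ b = x ^ b := by rw [hxy.mul_pow, hyb, mul_one]
    have hgya : Commute g (y ^ a) := by rw [← hza]; exact hcz.pow_right a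
    have hgxb : Commute g (x ^ b) := by rw [← hzb]; exact hcz.pow_right b
    have hya1 : y ^ a ≠ 1 := pow_ne_one_of_coprime hy hy1 hcop
    have hxb1 : x ^ b ≠ 1 := pow_ne_one_of_coprime hx hx1 hcop.symm
    -- `g ∈ M`
    have hZ1 : Subgroup.zpowers (y ^ a) ≠ ⊥ := by
      intro h
      apply hya1
      have : y ^ a ∈ Subgroup.zpowers (y ^ a) := Subgroup.mem_zpowers _
      rw [h] at this
      exact Subgroup.mem_bot.1 this
    obtain ⟨q, hq, Y, hYZ, hYc⟩ := Cfsg.Agent.Lib.H7.BG14u.exists_le_card_prime hZ1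
    have hZle : Subgroup.zpowers (y ^ a) ≤ sigmaCore M ⊓ Subgroup.centralizer (K : Set G) := by
      rw [Subgroup.zpowers_le]; exact Subgroup.pow_mem _ hy _
    have hu := uniq_star c.hG c.hM c.hK c.hK1 (hYZ.trans hZle) (by rw [hYc]; exact hq)
    have hgM : g ∈ M := by
      apply hu.1
      apply Subgroup.centralizer_le hYZ
      rw [← Cfsg.Agent.Lib.H7.centralizer_singleton_eq_centralizer_zpowers]
      rw [Subgroup.mem_centralizer_iff]
      intro w hw
      rw [Set.mem_singleton_iff] at hw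
      rw [hw]; exact hgya.symm
    rw [← Cfsg.Agent.Lib.H7.BG14u.inf_centralizer_singleton_eq c.hG c.hM hKc c.hK
      (K.pow_mem hx b) hxb1]
    refine Subgroup.mem_inf.2 ⟨hgM, ?_⟩
    rw [Subgroup.mem_centralizer_iff]
    intro w hw
    rw [Set.mem_singleton_iff] at hw
    rw [hw]; exact hgxb.symm
  · apply sup_le
    · intro k hk
      rw [Subgroup.mem_centralizer_iff]
      intro w hw
      rw [Set.mem_singleton_iff] at hw
      rw [hw]
      have h1 : x * k = k * x := by
        have := habK.is_comm.comm (⟨x, hx⟩ : K) ⟨k, hk⟩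
        exact congrArg Subtype.val this
      have h2 : k * y = y * k := commute_of_mem hk hy
      calc x * y * k = x * (y * k) := by group
        _ = x * (k * y) := by rw [h2]
        _ = (x * k) * y := by group
        _ = (k * x) * y := by rw [h1]
        _ = k * (x * y) := by group
    · intro s hs
      rw [Subgroup.mem_centralizer_iff]
      intro w hw
      rw [Set.mem_singleton_iff] at hw
      rw [hw]
      have h1 : x * s = s * x := commute_of_mem hx hs
      have h2 : y * s = s * y := by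
        have := habKs.is_comm.comm
          (⟨y, hy⟩ : ↥(sigmaCore M ⊓ Subgroup.centralizer (K : Set G))) ⟨s, hs⟩
        exact congrArg Subtype.val this
      calc x * y * s = x * (y * s) := by group
        _ = x * (s * y) := by rw [h2]
        _ = (x * s) * y := by group
        _ = (s * x) * y := by rw [h1]
        _ = s * (x * y) := by group

end Pair

end

end Cfsg.Agent.Lib.H7.BG147
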