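import Mathlib
import Cfsg.Agent.Lib.H7.BG147e

/-!
# BG Theorem 14.7 (helper7): `S1434` and `S1368` from "`K*` is cyclic"
-/

set_option autoImplicit false
set_option linter.style.haveILetI false
set_option linter.unusedSectionVars false
set_option linter.unusedVariables false
open Cfsg

namespace Cfsg.Agent.Lib.H7.BG147

universe u
variable {G : Type u} [Group G] [Finite G]

/-- the conclusion of `S1434`, assuming `K*` cyclic. -/
theorem s1434_of_cyclic_star (hG : IsMinSimpleOddOrder G)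
    (M : Subgroup G) (hM : IsCoatom M) (K U : Subgroup G) (hKU : IsSigmaDecomposition M K U)
    (hK1 : K ≠ ⊥) (Mstar : Subgroup G) (hMstar : IsCoatom Mstar)
    (hKst : K = sigmaCore Mstar ⊓ Subgroup.centralizer
      ((sigmaCore M ⊓ Subgroup.centralizer (K : Set G)) : Set G))
    (hKstH : IsPiHallOf (kappa Mstar) (sigmaCore M ⊓ Subgroup.centralizer (K : Set G)) Mstar)
    (hKsc : IsCyclic ↥(sigmaCore M ⊓ Subgroup.centralizer (K : Set G))) :
    kappa M = tau1 M ∧
      IsPiHallOf (sigma M) (sigmaCore M ⊓ Subgroup.centralizer (K : Set G)) Mstar ∧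
      (∀ x ∈ K, x ≠ 1 → ∀ y ∈ (sigmaCore M ⊓ Subgroup.centralizer (K : Set G)), y ≠ 1 →
        M ⊓ Subgroup.centralizer ({x} : Set G) =
            K ⊔ (sigmaCore M ⊓ Subgroup.centralizer (K : Set G)) ∧
          Mstar ⊓ Subgroup.centralizer ({y} : Set G) =
            K ⊔ (sigmaCore M ⊓ Subgroup.centralizer (K : Set G)) ∧
          Subgroup.centralizer ({x * y} : Set G) =
            K ⊔ (sigmaCore M ⊓ Subgroup.centralizer (K : Set G))) ∧
      (∀ g : G, g ∉ M → ∀ z ∈ ((↑(K ⊔ (sigmaCore M ⊓ Subgroup.centralizer (K : Set G))) : Set G) \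
          ((K : Set G) ∪ ↑(sigmaCore M ⊓ Subgroup.centralizer (K : Set G)))),
        z ∉ M.map (MulAut.conj g).toMonoidHom) ∧
      Nat.card K * Nat.card ↥(sigmaCore M ⊓ Subgroup.centralizer (K : Set G)) *
          Set.ncard {a : G | ∃ g : G, ∃ z ∈
            ((↑(K ⊔ (sigmaCore M ⊓ Subgroup.centralizer (K : Set G))) : Set G) \
              ((K : Set G) ∪ ↑(sigmaCore M ⊓ Subgroup.centralizer (K : Set G)))),
            a = g * z * g⁻¹} =
        (Nat.card K * Nat.card ↥(sigmaCore M ⊓ Subgroup.centralizer (K : Set G)) - Nat.card K -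
          Nat.card ↥(sigmaCore M ⊓ Subgroup.centralizer (K : Set G)) + 1) * Nat.card G ∧
      Nat.card G < 2 * Set.ncard {a : G | ∃ g : G, ∃ z ∈
        ((↑(K ⊔ (sigmaCore M ⊓ Subgroup.centralizer (K : Set G))) : Set G) \
          ((K : Set G) ∪ ↑(sigmaCore M ⊓ Subgroup.centralizer (K : Set G)))),
        a = g * z * g⁻¹} := by
  have c : Pair M K Mstar := ⟨hG, hM, hKU.hall, hK1, hMstar, hKst, hKstH⟩
  have hcount := count_zhat hG hM hKU.hall hK1
  refine ⟨kappa_eq_tau1 hG hM hKU hK1, c.star_hall_sigma, ?_, ?_, hcount.1, hcount.2⟩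
  · intro x hx hx1 y hy hy1
    refine ⟨Cfsg.Agent.Lib.H7.BG14u.inf_centralizer_singleton_eq hG hM hKU.cyclic hKU.hall hx hx1,
      ?_, c.centralizer_mul_eq hKU.cyclic hKsc hx hx1 hy hy1⟩
    have h := Cfsg.Agent.Lib.H7.BG14u.inf_centralizer_singleton_eq hG hMstar hKsc hKstH hy hy1
    rw [← c.hKst, sup_comm] at h
    exact h
  · intro g hg z hz
    exact Pair.zhat_not_mem_conj hG hM hKU.hall hK1 hg hz

/-- the conclusion of `S1368`, assuming `K*` cyclic. -/
theorem s1368_of_cyclic_star (hG : IsMinSimpleOddOrder G)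
    (M : Subgroup G) (hM : IsCoatom M) (K U : Subgroup G) (hKU : IsSigmaDecomposition M K U)
    (hK1 : K ≠ ⊥) (Mstar : Subgroup G) (hMstar : IsCoatom Mstar)
    (hKst : K = sigmaCore Mstar ⊓ Subgroup.centralizer
      ((sigmaCore M ⊓ Subgroup.centralizer (K : Set G)) : Set G))
    (hKstH : IsPiHallOf (kappa Mstar) (sigmaCore M ⊓ Subgroup.centralizer (K : Set G)) Mstar)
    (hKsc : IsCyclic ↥(sigmaCore M ⊓ Subgroup.centralizer (K : Set G))) :
    M ⊓ Mstar = K ⊔ (sigmaCore M ⊓ Subgroup.centralizer (K : Set G)) ∧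
      IsCyclic ↥(K ⊔ (sigmaCore M ⊓ Subgroup.centralizer (K : Set G))) := by
  have c : Pair M K Mstar := ⟨hG, hM, hKU.hall, hK1, hMstar, hKst, hKstH⟩
  exact ⟨c.inf_eq, isCyclic_sup_of_coprime hKU.cyclic hKsc inf_le_right (card_coprime hKU.hall)⟩

end Cfsg.Agent.Lib.H7.BG147
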