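import Mathlib
import Cfsg.Agent.Lib.H7.BG147f
import Cfsg.Agent.Lib.H21.BGTildeE

/-!
# BG Theorem 14.7(f), the count (helper7): `M` and `M*` are not both of type `𝒫₁`

Black boxes: `S1375` (as `Hyp1375`), `S1377`, `S1433` in their frozen shapes.
-/

set_option autoImplicit false
set_option linter.style.haveILetI false
set_option linter.unusedSectionVars false
set_option linter.unusedVariables false
open Cfsg
open Cfsg.Agent.Lib.H16.BG
open Cfsg.Agent.Lib.H21.BGTilde (Hyp1375)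

namespace Cfsg.Agent.Lib.H7.BG147

universe u
variable {G : Type u} [Group G] [Finite G]

local notation:max "cj(" g ", " X ")" => Subgroup.map (MulEquiv.toMonoidHom (MulAut.conj g)) X
local notation:max "Cx(" a ")" => Subgroup.centralizer ({a} : Set G)

/-- the frozen statement `S1377` as a hypothesis. -/
def Hyp1377 (G : Type u) [Group G] : Prop :=
  ∀ (M : Subgroup G), IsCoatom M →
    Set.ncard (tildeOf M ((sigmaCore M : Set G) \ {1})) = (Nat.card (sigmaCore M) - 1) * M.index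

/-- the frozen statement `S1433` as a hypothesis. -/
def Hyp1433 (G : Type u) [Group G] : Prop :=
  ∀ (M N : Subgroup G), IsCoatom M → IsCoatom N → ∀ (x y : G), x ∈ sigmaCore M → y ∈ sigmaCore N →
    x ≠ 1 → y ≠ 1 → x ≠ y → ∀ r ∈ supportR M x, ∀ s ∈ supportR N y, x * r ≠ y * s

theorem conj_ne_one {x : G} (hx1 : x ≠ 1) (w : G) : w * x * w⁻¹ ≠ 1 := by
  intro h
  apply hx1
  have : x = w⁻¹ * (w * x * w⁻¹) * w := by group
  rw [this, h]; group

theorem orderOf_conj_eq (w r : G) : orderOf (w * r * w⁻¹) = orderOf r := by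
  have := orderOf_injective (MulAut.conj w).toMonoidHom (MulAut.conj w).injective r
  simpa [MulAut.conj_apply] using this

/-- `R(x)` is compatible with conjugation of the pair `(M, x)`. -/
theorem supportR_conj_eq (hG : IsMinSimpleOddOrder G) (h75 : Hyp1375 G) {M : Subgroup G}
    (hM : IsCoatom M) {x : G} (hx : x ∈ sigmaCore M) (hx1 : x ≠ 1) (w : G) :
    supportR cj(w, M) (w * x * w⁻¹) = cj(w, supportR M x) := by
  have hM' : IsCoatom cj(w, M) := isCoatom_map_conj hM w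
  have hx' : w * x * w⁻¹ ∈ sigmaCore cj(w, M) := by
    rw [sigmaCore_cj hG hM w]; exact conj_mem_cj hx
  have hx1' : w * x * w⁻¹ ≠ 1 := conj_ne_one hx1 w
  have hC : Cx(w * x * w⁻¹) = cj(w, Cx(x)) :=
    Cfsg.Agent.Lib.H21.BGTilde.centralizer_singleton_conj w x
  by_cases h : Cx(x) ≤ M
  · rw [Cfsg.Agent.Lib.H21.BGTilde.supportR_eq_bot_of_le h,
      Cfsg.Agent.Lib.H21.BGTilde.supportR_eq_bot_of_le (by rw [hC]; exact cj_mono w h), cj_bot]
  · obtain ⟨N, ⟨hN, hxN⟩, hu, hσF, -⟩ := h75 M hM x hx hx1 h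
    have h' : ¬ Cx(w * x * w⁻¹) ≤ cj(w, M) := by
      intro hle
      apply h
      rw [hC] at hle
      have := cj_mono w⁻¹ hle
      rwa [cj_inv_cj, cj_inv_cj] at this
    obtain ⟨N', ⟨hN', hxN'⟩, hu', hσF', -⟩ := h75 cj(w, M) hM' (w * x * w⁻¹) hx' hx1' h'
    have hNN' : cj(w, N) = N' :=
      hu' cj(w, N) (isCoatom_map_conj hN w) (by rw [hC]; exact cj_mono w hxN)
    rw [Cfsg.Agent.Lib.H21.BGTilde.supportR_eq_of_uniq h hN hxN hu,
      Cfsg.Agent.Lib.H21.BGTilde.supportR_eq_of_uniq h' hN' hxN' hu', ← hσF, ← hσF', ← hNN',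
      sigmaCore_cj hG hN w, hC, cj_inf]

section

variable {M K Ms : Subgroup G}

/-- the centralizer of a non-identity element of `K*` lies in `M`. -/
theorem centralizer_le_of_mem_star (hG : IsMinSimpleOddOrder G) (hM : IsCoatom M)
    (hK : IsPiHallOf (kappa M) K M) (hK1 : K ≠ ⊥) {s : G}
    (hs : s ∈ sigmaCore M ⊓ Subgroup.centralizer (K : Set G)) (hs1 : s ≠ 1) : Cx(s) ≤ M := by
  have hZ1 : Subgroup.zpowers s ≠ ⊥ := by
    intro h
    apply hs1
    have : s ∈ Subgroup.zpowers s := Subgroup.mem_zpowers _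
    rw [h] at this
    exact Subgroup.mem_bot.1 this
  obtain ⟨q, hq, Y, hYZ, hYc⟩ := Cfsg.Agent.Lib.H7.BG14u.exists_le_card_prime hZ1
  have hZle : Subgroup.zpowers s ≤ sigmaCore M ⊓ Subgroup.centralizer (K : Set G) := by
    rw [Subgroup.zpowers_le]; exact hs
  have hu := uniq_star hG hM hK hK1 (hYZ.trans hZle) (by rw [hYc]; exact hq)
  refine le_trans ?_ hu.1
  rw [Cfsg.Agent.Lib.H7.centralizer_singleton_eq_centralizer_zpowers]
  exact Subgroup.centralizer_le hYZ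

/-- `𝒞_G(Ẑ)` and `M̃` are disjoint. -/
theorem conjUnion_zhat_disjoint_tilde (hG : IsMinSimpleOddOrder G) (h75 : Hyp1375 G)
    (hM : IsCoatom M) (hK : IsPiHallOf (kappa M) K M) (hK1 : K ≠ ⊥) {t : G}
    (ht : t ∈ conjUnion (zhat M K)) (ht' : t ∈ tildeOf M ((sigmaCore M : Set G) \ {1})) :
    False := by
  obtain ⟨g, z, hz, rfl⟩ := ht
  obtain ⟨a, ⟨ha, ha1⟩, r, hr, y, hy⟩ := ht'
  have ha1' : a ≠ 1 := ha1
  obtain ⟨k, hk, s, hs, hk1, hs1, rfl⟩ := exists_mul_of_mem_zhat hz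
  obtain ⟨hrC, -, hrcop⟩ := Cfsg.Agent.Lib.H21.BGTilde.supportR_structure hG h75 hM ha ha1'
  set w := g⁻¹ * y with hw
  have hz' : s * k = (w * a * w⁻¹) * (w * r * w⁻¹) := by
    have h1 : k * s = g⁻¹ * (g * (k * s) * g⁻¹) * g := by group
    rw [← commute_of_mem hk hs, h1, hy, hw]; group
  have hm0 : 0 < Nat.card ↥(sigmaCore M) := Nat.card_pos
  have hsm : s ^ Nat.card ↥(sigmaCore M) = 1 := by
    have := pow_card_eq_one' (G := ↥(sigmaCore M)) (x := ⟨s, hs.1⟩)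
    exact congrArg Subtype.val this
  have ham : (w * a * w⁻¹) ^ Nat.card ↥(sigmaCore M) = 1 := by
    rw [conj_pow]
    have := pow_card_eq_one' (G := ↥(sigmaCore M)) (x := ⟨a, ha⟩)
    have h2 : a ^ Nat.card ↥(sigmaCore M) = 1 := congrArg Subtype.val this
    rw [h2]; group
  have hcomm1 : Commute s k := (commute_of_mem hk hs).symm
  have har : Commute a r :=
    (Subgroup.mem_centralizer_iff.1 (hrC hr) a (Set.mem_singleton a))
  have hcomm2 : Commute (w * a * w⁻¹) (w * r * w⁻¹) := by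
    show (w * a * w⁻¹) * (w * r * w⁻¹) = (w * r * w⁻¹) * (w * a * w⁻¹)
    have h1 : (w * a * w⁻¹) * (w * r * w⁻¹) = w * (a * r) * w⁻¹ := by group
    have h2 : (w * r * w⁻¹) * (w * a * w⁻¹) = w * (r * a) * w⁻¹ := by group
    rw [h1, h2, har.eq]
  have hok : (orderOf k).Coprime (Nat.card ↥(sigmaCore M)) := by
    apply Nat.Coprime.coprime_dvd_left (Subgroup.orderOf_dvd_natCard K hk)
    apply Nat.coprime_of_dvd
    intro p hp h1 h2
    exact (hK.2.1 p hp h1).2.2.1 (Cfsg.Agent.Lib.H20.BGS.sigmaCore_isPiCard M p hp h2)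
  have hor : (orderOf (w * r * w⁻¹)).Coprime (Nat.card ↥(sigmaCore M)) := by
    have h1 : orderOf (w * r * w⁻¹) = orderOf r := orderOf_conj_eq w r
    rw [h1]
    exact Nat.Coprime.coprime_dvd_left (Subgroup.orderOf_dvd_natCard _ hr) hrcop
  obtain ⟨e1, e2⟩ := Cfsg.Agent.Lib.H21.BGTilde.eq_of_mul_eq_of_coprime hm0 hsm ham hcomm1 hcomm2
    hok hor hz'
  -- `w ∈ M`
  have hwM : w ∈ M := by
    by_contra hwM
    have h1 := (Cfsg.Agent.S1431.result hG M hM K hK hK1).1 w hwM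
    have h2 : s ∈ (sigmaCore M ⊓ Subgroup.centralizer (K : Set G)) ⊓ cj(w, M) := by
      refine ⟨hs, ?_⟩
      rw [e1]
      exact conj_mem_cj (Cfsg.Agent.Lib.H20.BGS.sigmaCore_le M ha)
    rw [h1] at h2
    exact hs1 (Subgroup.mem_bot.1 h2)
  -- `C(a) ≤ M`, so `r = 1`
  have hCs := centralizer_le_of_mem_star hG hM hK hK1 hs hs1
  have hCa : Cx(a) ≤ M := by
    have h1 : a = w⁻¹ * s * w⁻¹⁻¹ := by rw [e1]; group
    rw [h1, Cfsg.Agent.Lib.H21.BGTilde.centralizer_singleton_conj]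
    have h2 := cj_mono w⁻¹ hCs
    rwa [cj_eq_self_of_mem (M.inv_mem hwM)] at h2
  rw [Cfsg.Agent.Lib.H21.BGTilde.supportR_eq_bot_of_le hCa] at hr
  have hr1 : r = 1 := Subgroup.mem_bot.1 hr
  apply hk1
  rw [e2, hr1]; group

end

end Cfsg.Agent.Lib.H7.BG147
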