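import Mathlib
import Cfsg.Agent.Lib.H7.BG147g

/-!
# BG Theorem 14.7(f), the count (helper7), part 2: `M` and `M*` are not both of type `𝒫₁`
-/

set_option autoImplicit false
set_option linter.style.haveILetI false
set_option linter.unusedSectionVars false
set_option linter.unusedVariables false
open Cfsg
open Cfsg.Agent.Lib.H16.BG
open Cfsg.Agent.Lib.H21.BGTilde (Hyp1375)

namespace Cfsg.Agent.Lib.H7.BG147

universe u
variable {G : Type u} [Group G] [Finite G]

local notation:max "cj(" g ", " X ")" => Subgroup.map (MulEquiv.toMonoidHom (MulAut.conj g)) X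
local notation:max "Cx(" a ")" => Subgroup.centralizer ({a} : Set G)

/-- arithmetic core of the count. -/
theorem count_arith (g k ks m m' n1 n2 n3 nz : ℤ) (hg : 0 < g) (hk : 0 < k) (hks : 0 < ks)
    (hm : 0 < m) (hm' : 0 < m')
    (h1 : k * m * n1 = m * g - g) (h2 : ks * m' * n2 = m' * g - g)
    (h3 : k * ks * n3 = nz * g) (h4 : nz = k * ks + 1 - k - ks)
    (h7 : 3 * ks ≤ m) (h8 : 3 * k ≤ m') (h9 : n1 + n2 + n3 + 1 ≤ g) : False := by
  have hP : 0 < k * ks * m * m' := by positivity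
  have e1 : (k * ks * m * m') * n1 = ks * m' * (m * g - g) := by rw [← h1]; ring
  have e2 : (k * ks * m * m') * n2 = k * m * (m' * g - g) := by rw [← h2]; ring
  have e3 : (k * ks * m * m') * n3 = m * m' * (nz * g) := by rw [← h3]; ring
  have h10 : (k * ks * m * m') * (n1 + n2 + n3 + 1) ≤ (k * ks * m * m') * g :=
    mul_le_mul_of_nonneg_left h9 hP.le
  have h11 : (k * ks * m * m') * (n1 + n2 + n3 + 1) =
      ks * m' * (m * g - g) + k * m * (m' * g - g) + m * m' * (nz * g) + k * ks * m * m' := by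
    rw [← e1, ← e2, ← e3]; ring
  rw [h11, h4] at h10
  have h12 : 3 * (ks * m') ≤ m * m' := by nlinarith
  have h13 : 3 * (k * m) ≤ m * m' := by nlinarith
  have h14 : (m * m' - ks * m' - k * m) * g + k * ks * m * m' ≤ 0 := by nlinarith
  have h15 : 0 ≤ (m * m' - ks * m' - k * m) := by nlinarith
  nlinarith

/-- `1 ∉ M̃`. -/
theorem one_not_mem_tilde (hG : IsMinSimpleOddOrder G) (h75 : Hyp1375 G) {M : Subgroup G}
    (hM : IsCoatom M) : (1 : G) ∉ tildeOf M ((sigmaCore M : Set G) \ {1}) := by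
  rintro ⟨a, ⟨ha, ha1⟩, r, hr, y, hy⟩
  have ha1' : a ≠ 1 := ha1
  obtain ⟨hrC, -, hrcop⟩ := Cfsg.Agent.Lib.H21.BGTilde.supportR_structure hG h75 hM ha ha1'
  have har : Commute a r :=
    (Subgroup.mem_centralizer_iff.1 (hrC hr) a (Set.mem_singleton a))
  have h1 : a * r = 1 * 1 := by
    have : a * r = y⁻¹ * (y * (a * r) * y⁻¹) * y := by group
    rw [this, ← hy]; group
  have hm0 : 0 < Nat.card ↥(sigmaCore M) := Nat.card_pos
  have ham : a ^ Nat.card ↥(sigmaCore M) = 1 := by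
    have := pow_card_eq_one' (G := ↥(sigmaCore M)) (x := ⟨a, ha⟩)
    exact congrArg Subtype.val this
  have hor : (orderOf r).Coprime (Nat.card ↥(sigmaCore M)) :=
    Nat.Coprime.coprime_dvd_left (Subgroup.orderOf_dvd_natCard _ hr) hrcop
  have := Cfsg.Agent.Lib.H21.BGTilde.eq_of_mul_eq_of_coprime hm0 ham (one_pow _) har
    (Commute.one_right 1) hor (by rw [orderOf_one]; exact Nat.coprime_one_left _) h1
  exact ha1' this.1

section

variable {M K Ms : Subgroup G}

/-- `1 ∉ 𝒞_G(Ẑ)`. -/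
theorem one_not_mem_conjUnion_zhat : (1 : G) ∉ conjUnion (zhat M K) := by
  rintro ⟨g, z, hz, h⟩
  have hz1 : z = 1 := by
    have : z = g⁻¹ * (g * z * g⁻¹) * g := by group
    rw [this, ← h]; group
  apply hz.2
  left
  rw [hz1]
  exact K.one_mem

/-- `M̃` and `M̃*` are disjoint. -/
theorem Pair.tilde_disjoint (c : Pair M K Ms) (h75 : Hyp1375 G) (h33 : Hyp1433 G) {t : G}
    (ht : t ∈ tildeOf M ((sigmaCore M : Set G) \ {1}))
    (ht' : t ∈ tildeOf Ms ((sigmaCore Ms : Set G) \ {1})) : False := by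
  obtain ⟨a, ⟨ha, ha1⟩, r, hr, y, hy⟩ := ht
  obtain ⟨a', ⟨ha', ha1'⟩, r', hr', y', hy'⟩ := ht'
  have ha1x : a ≠ 1 := ha1
  have ha1x' : a' ≠ 1 := ha1'
  set w := y⁻¹ * y' with hw
  have hN : IsCoatom cj(w, Ms) := isCoatom_map_conj c.hMs w
  have haN : w * a' * w⁻¹ ∈ sigmaCore cj(w, Ms) := by
    rw [sigmaCore_cj c.hG c.hMs w]; exact conj_mem_cj ha'
  have hrN : w * r' * w⁻¹ ∈ supportR cj(w, Ms) (w * a' * w⁻¹) := by
    rw [supportR_conj_eq c.hG h75 c.hMs ha' ha1x' w]; exact conj_mem_cj hr'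
  have heq : a * r = (w * a' * w⁻¹) * (w * r' * w⁻¹) := by
    have h1 : a * r = y⁻¹ * (y * (a * r) * y⁻¹) * y := by group
    rw [h1, ← hy, hy', hw]; group
  have hne : a ≠ w * a' * w⁻¹ := by
    intro h
    apply ha1x'
    have h1 : a' ^ Nat.card ↥(sigmaCore Ms) = 1 := by
      have := pow_card_eq_one' (G := ↥(sigmaCore Ms)) (x := ⟨a', ha'⟩)
      exact congrArg Subtype.val this
    have h2 : a' ^ Nat.card ↥(sigmaCore M) = 1 := by
      have h3 : a ^ Nat.card ↥(sigmaCore M) = 1 := by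
        have := pow_card_eq_one' (G := ↥(sigmaCore M)) (x := ⟨a, ha⟩)
        exact congrArg Subtype.val this
      rw [h, conj_pow] at h3
      have : a' ^ Nat.card ↥(sigmaCore M) =
          w⁻¹ * (w * a' ^ Nat.card ↥(sigmaCore M) * w⁻¹) * w := by group
      rw [this, h3]; group
    have hcop : (Nat.card ↥(sigmaCore M)).Coprime (Nat.card ↥(sigmaCore Ms)) := by
      apply Nat.coprime_of_dvd
      intro p hp h3 h4
      exact c.sigma_disjoint (Cfsg.Agent.Lib.H20.BGS.sigmaCore_isPiCard M p hp h3)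
        (Cfsg.Agent.Lib.H20.BGS.sigmaCore_isPiCard Ms p hp h4)
    have h5 : orderOf a' ∣ 1 := by
      have := Nat.dvd_gcd (orderOf_dvd_of_pow_eq_one h2) (orderOf_dvd_of_pow_eq_one h1)
      rwa [hcop] at this
    exact orderOf_eq_one_iff.1 (Nat.dvd_one.1 h5)
  exact h33 M cj(w, Ms) c.hM hN a (w * a' * w⁻¹) ha haN ha1x (conj_ne_one ha1x' w) hne r hr
    (w * r' * w⁻¹) hrN heq

/-- the set `Ẑ` of the symmetric pair. -/
theorem Pair.zhat_symm (c : Pair M K Ms) :
    zhat Ms (sigmaCore M ⊓ Subgroup.centralizer (K : Set G)) = zhat M K := by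
  unfold zhat
  rw [← c.hKst, sup_comm, Set.union_comm]

end

end Cfsg.Agent.Lib.H7.BG147
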