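import Mathlib
import Cfsg.Agent.Lib.H7.BG147h

/-!
# BG Theorem 14.7(f) (helper7), part 3: `M` and `M*` are not both of type `𝒫₁`
-/

set_option autoImplicit false
set_option linter.style.haveILetI false
set_option linter.unusedSectionVars false
set_option linter.unusedVariables false
open Cfsg
open Cfsg.Agent.Lib.H16.BG
open Cfsg.Agent.Lib.H21.BGTilde (Hyp1375)

namespace Cfsg.Agent.Lib.H7.BG147

universe u
variable {G : Type u} [Group G] [Finite G]

local notation:max "cj(" g ", " X ")" => Subgroup.map (MulEquiv.toMonoidHom (MulAut.conj g)) X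

variable {M K Ms : Subgroup G}

/-- `3 |K*| ≤ |M_σ|`. -/
theorem three_mul_card_star_le (hG : IsMinSimpleOddOrder G) (hM : IsCoatom M)
    (hK : IsPiHallOf (kappa M) K M) (hK1 : K ≠ ⊥) :
    3 * Nat.card ↥(sigmaCore M ⊓ Subgroup.centralizer (K : Set G)) ≤
      Nat.card ↥(sigmaCore M) := by
  have hKs1 := star_ne_bot hG hM hK hK1
  have hne : sigmaCore M ⊓ Subgroup.centralizer (K : Set G) ≠ sigmaCore M := by
    intro h
    obtain ⟨q, hq, hqd⟩ := Nat.exists_prime_and_dvd
      (fun h' => hKs1 (Subgroup.card_eq_one.1 h'))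
    haveI : Fact q.Prime := ⟨hq⟩
    obtain ⟨S⟩ : Nonempty (Sylow q ↥(sigmaCore M)) := inferInstance
    apply ((Cfsg.Agent.S1431.result hG M hM K hK hK1).2.2.1 q hq hqd S).2.2
    rw [h]
    exact Subgroup.map_subtype_le _
  have hdvd : Nat.card ↥(sigmaCore M ⊓ Subgroup.centralizer (K : Set G)) ∣
      Nat.card ↥(sigmaCore M) := Subgroup.card_dvd_of_le inf_le_left
  obtain ⟨j, hj⟩ := hdvd
  have hj1 : j ≠ 1 := by
    intro h
    rw [h, mul_one] at hj
    apply hne
    exact Subgroup.eq_of_le_of_card_ge inf_le_left hj.le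
  have hjodd : Odd j := by
    have h1 : j ∣ Nat.card G :=
      (Dvd.intro_left _ hj.symm).trans (Subgroup.card_subgroup_dvd_card (sigmaCore M))
    exact Odd.of_dvd_nat hG.1 h1
  have hj0 : j ≠ 0 := by
    intro h
    rw [h, mul_zero] at hj
    exact (Nat.card_pos (α := ↥(sigmaCore M))).ne' hj
  have hj3 : 3 ≤ j := by
    obtain ⟨m, hm⟩ := hjodd
    omega
  rw [hj]
  nlinarith [Nat.card_pos (α := ↥(sigmaCore M ⊓ Subgroup.centralizer (K : Set G)))]

/-- **BG 14.7(f)**: `M` and `M*` are not both of type `𝒫₁`. -/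
theorem Pair.not_both_P1 (c : Pair M K Ms) (h75 : Hyp1375 G) (h77 : Hyp1377 G)
    (h33 : Hyp1433 G)
    (hM1 : Nat.card ↥M = Nat.card ↥K * Nat.card ↥(sigmaCore M))
    (hMs1 : Nat.card ↥Ms = Nat.card ↥(sigmaCore M ⊓ Subgroup.centralizer (K : Set G)) *
      Nat.card ↥(sigmaCore Ms)) : False := by
  set S₁ := tildeOf M ((sigmaCore M : Set G) \ {1}) with hS₁
  set S₂ := tildeOf Ms ((sigmaCore Ms : Set G) \ {1}) with hS₂
  set S₃ := conjUnion (zhat M K) with hS₃
  have d12 : Disjoint S₁ S₂ := by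
    rw [Set.disjoint_left]
    intro t h1 h2
    exact c.tilde_disjoint h75 h33 h1 h2
  have d13 : Disjoint S₁ S₃ := by
    rw [Set.disjoint_left]
    intro t h1 h3
    exact conjUnion_zhat_disjoint_tilde c.hG h75 c.hM c.hK c.hK1 h3 h1
  have d23 : Disjoint S₂ S₃ := by
    rw [Set.disjoint_left]
    intro t h2 h3
    have h3' : t ∈ conjUnion (zhat Ms (sigmaCore M ⊓ Subgroup.centralizer (K : Set G))) := by
      rw [c.zhat_symm]; exact h3
    exact conjUnion_zhat_disjoint_tilde c.hG h75 c.hMs c.hKstH c.star_ne h3' h2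
  have hsub : S₁ ∪ S₂ ∪ S₃ ⊆ ({1} : Set G)ᶜ := by
    intro t ht h1
    rw [Set.mem_singleton_iff] at h1
    subst h1
    rcases ht with (ht | ht) | ht
    · exact one_not_mem_tilde c.hG h75 c.hM ht
    · exact one_not_mem_tilde c.hG h75 c.hMs ht
    · exact one_not_mem_conjUnion_zhat ht
  have hcard : S₁.ncard + S₂.ncard + S₃.ncard + 1 ≤ Nat.card G := by
    have h1 : (S₁ ∪ S₂ ∪ S₃).ncard = S₁.ncard + S₂.ncard + S₃.ncard := by
      rw [Set.ncard_union_eq (Set.disjoint_union_left.2 ⟨d13, d23⟩) (Set.toFinite _)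
        (Set.toFinite _), Set.ncard_union_eq d12 (Set.toFinite _) (Set.toFinite _)]
    have h2 := Set.ncard_le_ncard hsub (Set.toFinite _)
    have h3 := Set.ncard_add_ncard_compl ({1} : Set G) (Set.toFinite _) (Set.toFinite _)
    rw [Set.ncard_singleton] at h3
    omega
  -- the sizes
  have hn1 := h77 M c.hM
  have hn2 := h77 Ms c.hMs
  have hn3 := card_mul_ncard_conjUnion
    (Z := K ⊔ (sigmaCore M ⊓ Subgroup.centralizer (K : Set G))) (T := zhat M K)
    (fun z hz g hgz => mem_sup_of_conj_mem_zhat c.hG c.hM c.hK c.hK1 hz hgz)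
    (fun w hw z hz => (Subgroup.mem_set_normalizer_iff.1 (sup_le_normalizer_zhat hw) z).1 hz)
  rw [card_sup_star c.hK] at hn3
  have hnz := ncard_zhat_add c.hK (M := M)
  have hiM := Subgroup.card_mul_index M
  have hiMs := Subgroup.card_mul_index Ms
  have h7 := three_mul_card_star_le c.hG c.hM c.hK c.hK1
  have h8 := three_mul_card_star_le c.hG c.hMs c.hKstH c.star_ne
  rw [← c.hKst] at h8
  have hm0 : 0 < Nat.card ↥(sigmaCore M) := Nat.card_pos
  have hm0' : 0 < Nat.card ↥(sigmaCore Ms) := Nat.card_pos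
  have hk0 : 0 < Nat.card ↥K := Nat.card_pos
  have hks0 : 0 < Nat.card ↥(sigmaCore M ⊓ Subgroup.centralizer (K : Set G)) := Nat.card_pos
  have hg0 : 0 < Nat.card G := Nat.card_pos
  rw [← hS₁] at hn1
  rw [← hS₂] at hn2
  rw [← hS₃] at hn3
  set g := Nat.card G with hg
  set k := Nat.card ↥K with hk
  set ks := Nat.card ↥(sigmaCore M ⊓ Subgroup.centralizer (K : Set G)) with hks
  set m := Nat.card ↥(sigmaCore M) with hm
  set m' := Nat.card ↥(sigmaCore Ms) with hm'
  set nz := (zhat M K).ncard with hnzd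
  rw [hM1] at hiM
  rw [hMs1] at hiMs
  -- cast to `ℤ`
  have e1 : (k : ℤ) * m * S₁.ncard = m * g - g := by
    have : (S₁.ncard : ℤ) = ((m : ℤ) - 1) * (M.index : ℤ) := by
      rw [hn1]; push_cast [Nat.cast_sub hm0]; ring
    rw [this]
    have h : ((k * m * M.index : ℕ) : ℤ) = (g : ℤ) := by exact_mod_cast hiM
    push_cast at h
    linear_combination ((m : ℤ) - 1) * h
  have e2 : (ks : ℤ) * m' * S₂.ncard = m' * g - g := by
    have : (S₂.ncard : ℤ) = ((m' : ℤ) - 1) * (Ms.index : ℤ) := by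
      rw [hn2]; push_cast [Nat.cast_sub hm0']; ring
    rw [this]
    have h : ((ks * m' * Ms.index : ℕ) : ℤ) = (g : ℤ) := by exact_mod_cast hiMs
    push_cast at h
    linear_combination ((m' : ℤ) - 1) * h
  have e3 : (k : ℤ) * ks * S₃.ncard = nz * g := by exact_mod_cast hn3
  have e4 : (nz : ℤ) = k * ks + 1 - k - ks := by
    have : ((nz + k + ks : ℕ) : ℤ) = ((k * ks + 1 : ℕ) : ℤ) := by exact_mod_cast hnz
    push_cast at this
    linarith
  exact count_arith g k ks m m' S₁.ncard S₂.ncard S₃.ncard nz (by exact_mod_cast hg0)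
    (by exact_mod_cast hk0) (by exact_mod_cast hks0) (by exact_mod_cast hm0)
    (by exact_mod_cast hm0') e1 e2 e3 e4 (by exact_mod_cast h7) (by exact_mod_cast h8)
    (by exact_mod_cast hcard)

end Cfsg.Agent.Lib.H7.BG147
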