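import Mathlib
import Cfsg.Agent.Lib.H7.BG147i
import Cfsg.Agent.S1429

/-!
# BG Theorem 14.7(d),(f) (helper7): `K*` is cyclic; `M` or `M*` is of type `𝒫₂`
-/

set_option autoImplicit false
set_option linter.style.haveILetI false
set_option linter.unusedSectionVars false
set_option linter.unusedVariables false
open Cfsg
open Cfsg.Agent.Lib.H16.BG
open Cfsg.Agent.Lib.H21.BGTilde (Hyp1375)

namespace Cfsg.Agent.Lib.H7.BG147

universe u

/-- a finite nilpotent group with cyclic Sylow subgroups is cyclic. -/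
theorem isCyclic_of_nilpotent_of_sylow_cyclic {N : Type*} [Group N] [Finite N]
    [Group.IsNilpotent N]
    (h : ∀ (p : ℕ) [Fact p.Prime] (P : Sylow p N), IsCyclic ↥(P : Subgroup N)) : IsCyclic N := by
  have hab : IsMulCommutative N :=
    Cfsg.Agent.Lib.H8.BG12.isMulCommutative_of_nilpotent_of_sylow (fun p _ P => by
      haveI := h p P
      exact ⟨⟨fun a b => IsCyclic.commGroup.mul_comm a b⟩⟩)
  letI : CommGroup N := { ‹Group N› with mul_comm := hab.is_comm.comm }
  rw [IsCyclic.iff_exponent_eq_card]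
  have hexp0 : Monoid.exponent N ≠ 0 := Monoid.exponent_ne_zero_of_finite
  have hcard0 : Nat.card N ≠ 0 := Nat.card_pos.ne'
  apply Nat.dvd_antisymm (Monoid.exponent_dvd_of_forall_pow_eq_one (fun g => pow_card_eq_one'))
  rw [← Nat.factorization_le_iff_dvd hcard0 hexp0]
  intro p
  by_cases hp : p.Prime
  · haveI : Fact p.Prime := ⟨hp⟩
    obtain ⟨P⟩ : Nonempty (Sylow p N) := inferInstance
    haveI := h p P
    obtain ⟨x, hx⟩ := IsCyclic.exists_generator (α := ↥(P : Subgroup N))
    have ho : orderOf (x : N) = p ^ (Nat.card N).factorization p := by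
      rw [Subgroup.orderOf_coe, orderOf_eq_card_of_forall_mem_zpowers hx,
        Sylow.card_eq_multiplicity]
    have hd : p ^ (Nat.card N).factorization p ∣ Monoid.exponent N := by
      rw [← ho]; exact Monoid.order_dvd_exponent _
    exact (Nat.Prime.pow_dvd_iff_le_factorization hp hexp0).1 hd
  · rw [Nat.factorization_eq_zero_of_not_prime _ hp]
    exact Nat.zero_le _

variable {G : Type u} [Group G] [Finite G]

local notation:max "cj(" g ", " X ")" => Subgroup.map (MulEquiv.toMonoidHom (MulAut.conj g)) X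

/-- a subgroup with cyclic Sylow subgroups of a nilpotent subgroup is cyclic. -/
theorem isCyclic_of_le_nilpotent {A N : Subgroup G} (hAN : A ≤ N) (hN : Group.IsNilpotent ↥N)
    (h : ∀ (p : ℕ) [Fact p.Prime] (T : Subgroup G), SylIn p T A → IsCyclic ↥T) :
    IsCyclic ↥A := by
  haveI := hN
  haveI : Group.IsNilpotent ↥A := by
    apply Subgroup.isNilpotent_of_ker_le_center (Subgroup.inclusion hAN)
    rw [(MonoidHom.ker_eq_bot_iff _).2 (Subgroup.inclusion_injective hAN)]; exact bot_le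
  apply isCyclic_of_nilpotent_of_sylow_cyclic
  intro p _ P
  haveI := h p _ (SylIn.of_sylow P)
  exact isCyclic_of_surjective
    ((P : Subgroup ↥A).equivMapOfInjective _ A.subtype_injective).symm.toMonoidHom
    ((P : Subgroup ↥A).equivMapOfInjective _ A.subtype_injective).symm.surjective

variable {M K U Ms : Subgroup G}

/-- the order of `M` when `U = 1`. -/
theorem card_of_U_eq_bot (hG : IsMinSimpleOddOrder G) (hM : IsCoatom M)
    (hKU : IsSigmaDecomposition M K ⊥) :
    Nat.card ↥M = Nat.card ↥K * Nat.card ↥(sigmaCore M) := by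
  have h := Cfsg.Agent.Lib.H20.BGZ.isComplIn_sup hG hM hKU
  rw [sup_bot_eq] at h
  exact (Cfsg.Agent.Lib.H7.isComplIn_card_mul h).symm

/-- **`K*` is cyclic** (BG 14.7(d)), from the count. -/
theorem Pair.isCyclic_star (c : Pair M K Ms) (hKU : IsSigmaDecomposition M K U)
    (h75 : Hyp1375 G) (h77 : Hyp1377 G) (h33 : Hyp1433 G) :
    IsCyclic ↥(sigmaCore M ⊓ Subgroup.centralizer (K : Set G)) := by
  by_contra hnc
  have n := Cfsg.Agent.Lib.H20.BGN.nonreg_of_not_cyclic c.hG c.hMs c.hKstH hnc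
  by_cases hU : U = ⊥
  · subst hU
    exact c.not_both_P1 h75 h77 h33 (card_of_U_eq_bot c.hG c.hM hKU)
      (Cfsg.Agent.Lib.H7.isComplIn_card_mul n.compl).symm
  · apply hnc
    obtain ⟨p, hp, hpd⟩ := Nat.exists_prime_and_dvd (fun h => hU (Subgroup.card_eq_one.1 h))
    haveI : Fact p.Prime := ⟨hp⟩
    have hpσκ := Cfsg.Agent.Lib.H7.BG14.not_mem_sigma_kappa_of_isSigmaDecomposition c.hG c.hM hKU
      hp hpd
    have hpM : p ∣ Nat.card ↥M := hpd.trans (Subgroup.card_dvd_of_le hKU.compl.1)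
    obtain ⟨S⟩ : Nonempty (Sylow p ↥M) := inferInstance
    have h29 := Cfsg.Agent.S1429.result c.hG M c.hM
      (fun h => hpσκ.2 (h p hp hpM hpσκ.1)) p hpM
      (by rintro (h | h); exact hpσκ.1 h; exact hpσκ.2 h) S
    exact isCyclic_of_le_nilpotent inf_le_left h29.2.2 (fun q _ T hT => n.sylow_cyclic q T hT)

/-- **BG 14.7(f)**: `U ≠ 1` or `U* ≠ 1`. -/
theorem Pair.U_ne_bot_or (c : Pair M K Ms) (hKU : IsSigmaDecomposition M K U)
    (h75 : Hyp1375 G) (h77 : Hyp1377 G) (h33 : Hyp1433 G) :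
    U ≠ ⊥ ∨ ∀ Ustar : Subgroup G,
      IsSigmaDecomposition Ms (sigmaCore M ⊓ Subgroup.centralizer (K : Set G)) Ustar →
        Ustar ≠ ⊥ := by
  by_cases hU : U = ⊥
  · right
    subst hU
    intro Us hKUs hUs
    subst hUs
    exact c.not_both_P1 h75 h77 h33 (card_of_U_eq_bot c.hG c.hM hKU)
      (card_of_U_eq_bot c.hG c.hMs hKUs)
  · exact Or.inl hU

end Cfsg.Agent.Lib.H7.BG147
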