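import Mathlib
import Cfsg.Agent.Lib.H7.BG147j
import Cfsg.Agent.Lib.H16.BG145b

/-!
# BG Theorem 14.7(g) (helper7): every maximal subgroup `H` with `κ(H) ≠ ∅` is conjugate to `M` or
`M*`.
-/

set_option autoImplicit false
set_option linter.style.haveILetI false
set_option linter.unusedSectionVars false
set_option linter.unusedVariables false
open Cfsg
open Cfsg.Agent.Lib.H16.BG
open Cfsg.Agent.Lib.H7.BG7
open Cfsg.Agent.Lib.H7.BG10
open Cfsg.Agent.Lib.H19 (IsPiCard)

namespace Cfsg.Agent.Lib.H7.BG147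

universe u
variable {G : Type u} [Group G] [Finite G]

local notation:max "cj(" g ", " X ")" => Subgroup.map (MulEquiv.toMonoidHom (MulAut.conj g)) X

/-- a maximal subgroup with `κ(H) ≠ ∅` has a nontrivial Hall `κ(H)`-subgroup. -/
theorem exists_hall_kappa (hG : IsMinSimpleOddOrder G) {H : Subgroup G} (hH : IsCoatom H)
    (hκ : (kappa H).Nonempty) : ∃ KH : Subgroup G, IsPiHallOf (kappa H) KH H ∧ KH ≠ ⊥ := by
  haveI : Group.IsSolvable ↥H := solvable_of_le_ne_top hG hH.1 le_rfl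
  have h1 : IsPiCard (kappa H) (Nat.card ↥(⊥ : Subgroup G)) := by
    intro p hp hd
    rw [Subgroup.card_bot] at hd
    exact absurd (Nat.dvd_one.1 hd) hp.one_lt.ne'
  obtain ⟨KH, hKH, -⟩ := Cfsg.Agent.Lib.H19.exists_isPiHallOf_ge (bot_le : ⊥ ≤ H) h1
  refine ⟨KH, hKH, ?_⟩
  obtain ⟨p, hp⟩ := hκ
  intro hbot
  have h2 := hKH.2.2 p hp.1 hp
  rw [hbot, Subgroup.relIndex_bot_left] at h2
  exact h2 hp.2.1

/-- the subgroup of order `q` of `⟨s⟩`, for a prime `q` dividing the order of `s`. -/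
theorem card_zpowers_pow_div {s : G} {q : ℕ} (hq : q.Prime) (hd : q ∣ orderOf s) :
    Nat.card ↥(Subgroup.zpowers (s ^ (orderOf s / q))) = q := by
  rw [Nat.card_zpowers]
  exact orderOf_pow_orderOf_div (orderOf_pos s).ne' hd

variable {M K Ms : Subgroup G}

/-- **BG 14.7(g)**. -/
theorem Pair.conj_of_kappa_nonempty (c : Pair M K Ms) {H : Subgroup G} (hH : IsCoatom H)
    (hκ : (kappa H).Nonempty) :
    ∃ g : G, H = cj(g, M) ∨ H = cj(g, Ms) := by
  obtain ⟨KH, hKH, hKH1⟩ := exists_hall_kappa c.hG hH hκ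
  have hc1 := (count_zhat c.hG c.hM c.hK c.hK1).2
  have hc2 := (count_zhat c.hG hH hKH hKH1).2
  -- a common element
  obtain ⟨t, ht1, ht2⟩ : ∃ t, t ∈ conjUnion (zhat M K) ∧ t ∈ conjUnion (zhat H KH) := by
    by_contra hcon
    have hd : Disjoint (conjUnion (zhat M K)) (conjUnion (zhat H KH)) := by
      rw [Set.disjoint_left]
      intro t h1 h2
      exact hcon ⟨t, h1, h2⟩
    have h1 := Set.ncard_union_eq hd (Set.toFinite _) (Set.toFinite _)
    have h2 : (conjUnion (zhat M K) ∪ conjUnion (zhat H KH)).ncard ≤ Nat.card G := by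
      rw [← Set.ncard_univ]
      exact Set.ncard_le_ncard (Set.subset_univ _) (Set.toFinite _)
    omega
  obtain ⟨g₁, z, hz, rfl⟩ := ht1
  obtain ⟨g₂, z', hz', h12⟩ := ht2
  set u := g₁⁻¹ * g₂ with hu
  have hzu : z = u * z' * u⁻¹ := by
    have : z = g₁⁻¹ * (g₁ * z * g₁⁻¹) * g₁ := by group
    rw [this, h12, hu]; group
  obtain ⟨k, hk, s, hs, hk1, hs1, hzks⟩ := exists_mul_of_mem_zhat hz
  obtain ⟨k', hk', s', hs', hk1', hs1', hzks'⟩ := exists_mul_of_mem_zhat hz'
  have hcop := card_coprime c.hK (M := M)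
  have hcop' := card_coprime hKH (M := H)
  have hks : Commute k s := commute_of_mem hk hs
  have hks' : Commute k' s' := commute_of_mem hk' hs'
  have hoc : (orderOf k).Coprime (orderOf s) :=
    Nat.Coprime.coprime_dvd_left (Subgroup.orderOf_dvd_natCard K hk)
      (Nat.Coprime.coprime_dvd_right (Subgroup.orderOf_dvd_natCard _ hs) hcop)
  have hoc' : (orderOf k').Coprime (orderOf s') :=
    Nat.Coprime.coprime_dvd_left (Subgroup.orderOf_dvd_natCard KH hk')
      (Nat.Coprime.coprime_dvd_right (Subgroup.orderOf_dvd_natCard _ hs') hcop')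
  -- `Y' ≤ ⟨s'⟩` of prime order `q`
  have hos1' : orderOf s' ≠ 1 := fun h => hs1' (orderOf_eq_one_iff.1 h)
  obtain ⟨q, hq, hqd⟩ := Nat.exists_prime_and_dvd hos1'
  set Y' := Subgroup.zpowers (s' ^ (orderOf s' / q)) with hY'
  have hY'c : Nat.card ↥Y' = q := card_zpowers_pow_div hq hqd
  have hY's : Y' ≤ Subgroup.zpowers s' := by
    rw [hY', Subgroup.zpowers_le]; exact Subgroup.pow_mem _ (Subgroup.mem_zpowers s') _
  have hY'le : Y' ≤ sigmaCore H ⊓ Subgroup.centralizer (KH : Set G) :=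
    hY's.trans (by rw [Subgroup.zpowers_le]; exact hs')
  have huH := uniq_star c.hG hH hKH hKH1 hY'le (by rw [hY'c]; exact hq)
  have hs'z' : s' ∈ Subgroup.zpowers z' := by
    rw [hzks']; exact Cfsg.Agent.Lib.H16.BG145.mem_zpowers_mul_of_coprime' hks' hoc'
  -- `Y'' = u Y' u⁻¹ ≤ ⟨z⟩`
  have hY''z : cj(u, Y') ≤ Subgroup.zpowers z := by
    intro y hy
    rw [mem_cj_iff] at hy
    have h1 : u⁻¹ * y * u ∈ Subgroup.zpowers z' :=
      (hY's.trans ((Subgroup.zpowers_le).2 hs'z')) hy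
    obtain ⟨n, hn⟩ := Subgroup.mem_zpowers_iff.1 h1
    rw [Subgroup.mem_zpowers_iff]
    refine ⟨n, ?_⟩
    have : y = u * (u⁻¹ * y * u) * u⁻¹ := by group
    rw [this, ← hn, hzu]
    simp [conj_zpow]
  have hY''c : Nat.card ↥cj(u, Y') = q := by rw [card_cj, hY'c]
  have hzc : IsCyclic ↥(Subgroup.zpowers z) := inferInstance
  have hqz : q ∣ orderOf k * orderOf s := by
    have h1 : orderOf z = orderOf k * orderOf s := by
      rw [hzks]; exact hks.orderOf_mul_eq_mul_orderOf_of_coprime hoc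
    rw [← h1, ← Nat.card_zpowers, ← hY''c]
    exact Subgroup.card_dvd_of_le hY''z
  have hsz : s ∈ Subgroup.zpowers z := by
    rw [hzks]; exact Cfsg.Agent.Lib.H16.BG145.mem_zpowers_mul_of_coprime' hks hoc
  have hkz : k ∈ Subgroup.zpowers z := by
    rw [hzks]; exact Cfsg.Agent.Lib.H16.BG145.mem_zpowers_mul_of_coprime hks hoc
  -- conclusion from `C(Y'') ≤ L`
  have hfin : ∀ L : Subgroup G, IsCoatom L →
      Subgroup.centralizer ((cj(u, Y') : Subgroup G) : Set G) ≤ L → H = cj(u⁻¹, L) := by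
    intro L hL hCL
    symm
    apply huH.2 cj(u⁻¹, L) (isCoatom_map_conj hL u⁻¹)
    rw [centralizer_cj] at hCL
    have := cj_mono u⁻¹ hCL
    rwa [cj_inv_cj] at this
  rcases (Nat.Prime.dvd_mul hq).1 hqz with hqk | hqs
  · -- `Y'' ≤ K`
    refine ⟨u⁻¹, Or.inr ?_⟩
    set A := Subgroup.zpowers (k ^ (orderOf k / q)) with hA
    have hAc : Nat.card ↥A = q := card_zpowers_pow_div hq hqk
    have hAk : A ≤ Subgroup.zpowers k := by
      rw [hA, Subgroup.zpowers_le]; exact Subgroup.pow_mem _ (Subgroup.mem_zpowers k) _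
    have hAK : A ≤ K := hAk.trans (by rw [Subgroup.zpowers_le]; exact hk)
    have hAz : A ≤ Subgroup.zpowers z := hAk.trans ((Subgroup.zpowers_le).2 hkz)
    have hAY : A = cj(u, Y') :=
      Cfsg.Agent.Lib.H7.BG14w.eq_of_card_eq_of_le_cyclic hzc hAz hY''z (hAc.trans hY''c.symm)
    have hAK' : A ≤ sigmaCore Ms ⊓ Subgroup.centralizer
        ((sigmaCore M ⊓ Subgroup.centralizer (K : Set G) : Subgroup G) : Set G) := by
      rw [← c.hKst]; exact hAK
    have huMs := uniq_star c.hG c.hMs c.hKstH c.star_ne hAK' (by rw [hAc]; exact hq)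
    apply hfin Ms c.hMs
    rw [← hAY]; exact huMs.1
  · -- `Y'' ≤ K*`
    refine ⟨u⁻¹, Or.inl ?_⟩
    set A := Subgroup.zpowers (s ^ (orderOf s / q)) with hA
    have hAc : Nat.card ↥A = q := card_zpowers_pow_div hq hqs
    have hAs : A ≤ Subgroup.zpowers s := by
      rw [hA, Subgroup.zpowers_le]; exact Subgroup.pow_mem _ (Subgroup.mem_zpowers s) _
    have hAKs : A ≤ sigmaCore M ⊓ Subgroup.centralizer (K : Set G) :=
      hAs.trans (by rw [Subgroup.zpowers_le]; exact hs)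
    have hAz : A ≤ Subgroup.zpowers z := hAs.trans ((Subgroup.zpowers_le).2 hsz)
    have hAY : A = cj(u, Y') :=
      Cfsg.Agent.Lib.H7.BG14w.eq_of_card_eq_of_le_cyclic hzc hAz hY''z (hAc.trans hY''c.symm)
    have huM := uniq_star c.hG c.hM c.hK c.hK1 hAKs (by rw [hAc]; exact hq)
    apply hfin M c.hM
    rw [← hAY]; exact huM.1

end Cfsg.Agent.Lib.H7.BG147
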