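import Mathlib
import Cfsg.Agent.Lib.H7.BG147k

/-!
# BG Theorem 14.7 (helper7): `S1368`, `S1369`, `S1434` from the black boxes `S1375`, `S1377`,
`S1433`
-/

set_option autoImplicit false
set_option linter.style.haveILetI false
set_option linter.unusedSectionVars false
set_option linter.unusedVariables false
open Cfsg
open Cfsg.Agent.Lib.H21.BGTilde (Hyp1375)

namespace Cfsg.Agent.Lib.H7.BG147

universe u
variable {G : Type u} [Group G] [Finite G]

/-- `K*` is cyclic, in the setting of `S1368`/`S1434`. -/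
theorem isCyclic_star_of_hyps (hG : IsMinSimpleOddOrder G) (h75 : Hyp1375 G) (h77 : Hyp1377 G)
    (h33 : Hyp1433 G)
    (M : Subgroup G) (hM : IsCoatom M) (K U : Subgroup G) (hKU : IsSigmaDecomposition M K U)
    (hK1 : K ≠ ⊥) (Mstar : Subgroup G) (hMstar : IsCoatom Mstar)
    (hKst : K = sigmaCore Mstar ⊓ Subgroup.centralizer
      ((sigmaCore M ⊓ Subgroup.centralizer (K : Set G)) : Set G))
    (hKstH : IsPiHallOf (kappa Mstar) (sigmaCore M ⊓ Subgroup.centralizer (K : Set G)) Mstar) :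
    IsCyclic ↥(sigmaCore M ⊓ Subgroup.centralizer (K : Set G)) := by
  have c : Pair M K Mstar := ⟨hG, hM, hKU.hall, hK1, hMstar, hKst, hKstH⟩
  exact c.isCyclic_star hKU h75 h77 h33

/-- the conclusion of `S1369`. -/
theorem s1369_of_hyps (hG : IsMinSimpleOddOrder G) (h75 : Hyp1375 G) (h77 : Hyp1377 G)
    (h33 : Hyp1433 G)
    (M : Subgroup G) (hM : IsCoatom M) (K U : Subgroup G) (hKU : IsSigmaDecomposition M K U)
    (hK1 : K ≠ ⊥) (Mstar : Subgroup G) (hMstar : IsCoatom Mstar)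
    (hKst : K = sigmaCore Mstar ⊓ Subgroup.centralizer
      ((sigmaCore M ⊓ Subgroup.centralizer (K : Set G)) : Set G))
    (hKstH : IsPiHallOf (kappa Mstar) (sigmaCore M ⊓ Subgroup.centralizer (K : Set G)) Mstar) :
    (U ≠ ⊥ ∨ ∀ Ustar : Subgroup G,
        IsSigmaDecomposition Mstar (sigmaCore M ⊓ Subgroup.centralizer (K : Set G)) Ustar →
          Ustar ≠ ⊥) ∧
      ∀ H : Subgroup G, IsCoatom H → (kappa H).Nonempty →
        ∃ g : G, H = M.map (MulAut.conj g).toMonoidHom ∨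
          H = Mstar.map (MulAut.conj g).toMonoidHom := by
  have c : Pair M K Mstar := ⟨hG, hM, hKU.hall, hK1, hMstar, hKst, hKstH⟩
  exact ⟨c.U_ne_bot_or hKU h75 h77 h33, fun H hH hκ => c.conj_of_kappa_nonempty hH hκ⟩

end Cfsg.Agent.Lib.H7.BG147
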