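import Mathlib
import Cfsg.Agent.Lib.H20.BGP13
import Cfsg.Agent.Lib.H7.BG147b
import Cfsg.Agent.S1351

/-!
# BG Theorem 14.7, existence of `M*` (helper7), part a: pre-links

`PreLink M K X H`: `K ≠ 1` a cyclic Hall `κ(M)`-subgroup of the maximal subgroup `M`, `X ≤ K` of
prime order and `H` a maximal subgroup over `N_G(X)`.
-/

set_option autoImplicit false
set_option linter.style.haveILetI false
set_option linter.unusedSectionVars false
set_option linter.unusedVariables false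

open Cfsg
open Cfsg.Agent.Lib.H16.BG
open Cfsg.Agent.Lib.H7.BG7
open Cfsg.Agent.Lib.H7.BG10
open Cfsg.Agent.Lib.H19 (IsPiCard)
open Cfsg.Agent.Lib.H20.BGP

namespace Cfsg.Agent.Lib.H7.BG1366

universe u
variable {G : Type u} [Group G] [Finite G]

local notation:max "cj(" g ", " X ")" => Subgroup.map (MulEquiv.toMonoidHom (MulAut.conj g)) X

/-- the standing data. -/
structure PreLink (M K X H : Subgroup G) : Prop where
  hM : IsCoatom M
  hK : IsPiHallOf (kappa M) K M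
  hKc : IsCyclic ↥K
  hXK : X ≤ K
  hXc : (Nat.card X).Prime
  hH : IsCoatom H
  hNX : Subgroup.normalizer (X : Set G) ≤ H

theorem comm_of_cyclic {L : Subgroup G} (hL : IsCyclic ↥L) {a c : G} (ha : a ∈ L) (hc : c ∈ L) :
    a * c = c * a := by
  haveI := hL
  have := (IsCyclic.commGroup (α := L)).mul_comm ⟨a, ha⟩ ⟨c, hc⟩
  exact congrArg Subtype.val this

theorem le_centralizer_of_cyclic {L A : Subgroup G} (hL : IsCyclic ↥L) (hA : A ≤ L) :
    L ≤ Subgroup.centralizer (A : Set G) := by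
  intro x hx
  rw [Subgroup.mem_centralizer_iff]
  intro a ha
  exact comm_of_cyclic hL (hA ha) hx

namespace PreLink

variable {M K X H : Subgroup G}

theorem X_ne (l : PreLink M K X H) : X ≠ ⊥ := by
  intro h
  have := l.hXc
  rw [h, Subgroup.card_bot] at this
  exact Nat.not_prime_one this

theorem K_ne (l : PreLink M K X H) : K ≠ ⊥ := _root_.ne_bot_of_le_ne_bot l.X_ne l.hXK

/-- `(M, K)` is a pre-block of `Z = K × K*`. -/
theorem pbM (l : PreLink M K X H) :
    IsPreBlock (K ⊔ (sigmaCore M ⊓ Subgroup.centralizer (K : Set G))) M K :=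
  ⟨l.hM, l.hK, l.K_ne, rfl⟩

theorem X_le_sigmaCore (hG : IsMinSimpleOddOrder G) (l : PreLink M K X H) : X ≤ sigmaCore H :=
  ((Cfsg.Agent.S1430.result hG M l.hM K l.hK l.K_ne).2.2 X l.hXK l.hXc).2.2 H l.hH l.hNX

theorem inf_normalizer_eq (hG : IsMinSimpleOddOrder G) (l : PreLink M K X H) :
    M ⊓ Subgroup.normalizer (X : Set G) =
      K ⊔ (sigmaCore M ⊓ Subgroup.centralizer (K : Set G)) :=
  ((Cfsg.Agent.S1430.result hG M l.hM K l.hK l.K_ne).2.2 X l.hXK l.hXc).1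

theorem mem_sigma_H (hG : IsMinSimpleOddOrder G) (l : PreLink M K X H) : Nat.card X ∈ sigma H :=
  Cfsg.Agent.Lib.H20.BGS.sigmaCore_isPiCard H _ l.hXc
    (Subgroup.card_dvd_of_le (l.X_le_sigmaCore hG))

theorem not_mem_sigma_M (l : PreLink M K X H) : Nat.card X ∉ sigma M :=
  (l.hK.2.1 _ l.hXc (Subgroup.card_dvd_of_le l.hXK)).2.2.1

theorem not_conj (hG : IsMinSimpleOddOrder G) (l : PreLink M K X H) (g : G) : H ≠ cj(g, M) := by
  intro h
  have h1 := l.mem_sigma_H hG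
  rw [h] at h1
  exact l.not_mem_sigma_M (Cfsg.Agent.Lib.H7.BG14v.mem_sigma_of_mem_sigma_map_conj hG h1)

theorem H_ne (hG : IsMinSimpleOddOrder G) (l : PreLink M K X H) : H ≠ M := by
  have := l.not_conj hG 1
  rwa [Cfsg.Agent.Lib.H10.map_conj_one] at this

theorem sigma_disjoint (hG : IsMinSimpleOddOrder G) (l : PreLink M K X H) {q : ℕ}
    (hqM : q ∈ sigma M) : q ∉ sigma H := by
  intro hqH
  obtain ⟨g, hg⟩ := Cfsg.Agent.Lib.H7.BG14v.sigma_partition' hG l.hM l.hH hqM hqH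
  exact l.not_conj hG g hg

theorem K_le (l : PreLink M K X H) : K ≤ H :=
  ((le_centralizer_of_cyclic l.hKc l.hXK).trans (Subgroup.centralizer_le_normalizer _)).trans l.hNX

theorem star_le (l : PreLink M K X H) : sigmaCore M ⊓ Subgroup.centralizer (K : Set G) ≤ H :=
  (inf_le_right.trans (Subgroup.centralizer_le l.hXK)).trans
    ((Subgroup.centralizer_le_normalizer _).trans l.hNX)

theorem Z_le (l : PreLink M K X H) :
    K ⊔ (sigmaCore M ⊓ Subgroup.centralizer (K : Set G)) ≤ H := sup_le l.K_le l.star_le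

theorem star_ne (hG : IsMinSimpleOddOrder G) (l : PreLink M K X H) :
    sigmaCore M ⊓ Subgroup.centralizer (K : Set G) ≠ ⊥ := l.pbM.star_ne hG

/-- a subgroup `Y₀` of prime order of `K*`: its order lies in `κ(H)`. -/
theorem mem_kappa_H (hG : IsMinSimpleOddOrder G) (l : PreLink M K X H) {Y₀ : Subgroup G}
    (hY₀ : Y₀ ≤ sigmaCore M ⊓ Subgroup.centralizer (K : Set G)) (hY₀c : (Nat.card Y₀).Prime) :
    Nat.card Y₀ ∈ kappa H := by
  set q := Nat.card Y₀ with hq
  haveI hqF : Fact q.Prime := ⟨hY₀c⟩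
  have hU := Cfsg.Agent.Lib.H20.BGT.uniq3 hG
  have hσH := (Cfsg.Agent.Lib.H20.BGS.sigma_core_hall hG hU l.hH).1
  have hY₀σ : Y₀ ≤ sigmaCore M := hY₀.trans inf_le_left
  have hqσM : q ∈ sigma M :=
    Cfsg.Agent.Lib.H20.BGS.sigmaCore_isPiCard M q hY₀c (Subgroup.card_dvd_of_le hY₀σ)
  have hqσH : q ∉ sigma H := l.sigma_disjoint hG hqσM
  have hY₀H : Y₀ ≤ H := hY₀.trans l.star_le
  have hY₀1 : Y₀ ≠ ⊥ := by
    intro h
    rw [hq, h, Subgroup.card_bot] at hY₀c
    exact Nat.not_prime_one hY₀c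
  have hcent : sigmaCore H ⊓ Subgroup.centralizer (Y₀ : Set G) ≠ ⊥ := by
    apply _root_.ne_bot_of_le_ne_bot l.X_ne
    apply le_inf (l.X_le_sigmaCore hG)
    apply le_centralizer_comm
    exact (hY₀.trans inf_le_right).trans (Subgroup.centralizer_le l.hXK)
  have hrank : PRankLE q 1 ↥H := by
    by_contra hr
    have hr2 : PRankLE q 2 ↥H := by
      by_contra h
      exact hqσH (alpha_subset_sigma hG hU l.hH ⟨hY₀c, h⟩)
    have hq2 : q ∈ tau2 H := ⟨hY₀c, hqσH, hr2, hr⟩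
    obtain ⟨E', hE', hY₀E'⟩ := Cfsg.Agent.Lib.H19.BG13.exists_compl_ge hG l.hH hY₀H (by
      intro s hs hd
      have : s = q := (Nat.prime_dvd_prime_iff_eq hs hY₀c).1 hd
      rw [this]; exact hqσH)
    obtain ⟨T', hT'⟩ := SylIn.exists_sylIn q E'
    have hT'H : SylIn q T' H := Cfsg.Agent.Lib.H8.BG12.sylIn_of_compl hσH hE' hqσH hT'
    have hT'c : ¬ IsCyclic ↥T' := by
      intro hc
      haveI := hc
      exact hr (pRankLE_of_sylIn hT'H (Cfsg.Agent.Lib.H7.BG13.pRankLE_one_of_isCyclic hY₀c))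
    have hT'1 : T' ≠ ⊥ := by
      intro h
      apply hT'c
      rw [h]
      exact isCyclic_of_subsingleton
    have hq2' : q ≠ 2 :=
      prime_ne_two_of_dvd_card hG (dvd_card_of_ne_bot hT'H.isPGroup hT'H.le hT'1)
    obtain ⟨A, hAT, hAe, hAc⟩ :=
      Cfsg.Agent.Lib.H20.BGT.exists_elemAb_sq_of_not_cyclic hq2' hT'.isPGroup hT'c
    have hAE' : A ≤ E' := hAT.trans hT'.le
    have h18 := Cfsg.Agent.S1418.result hG H l.hH E' hE' q hq2 A ⟨hAE', hAe, hAc⟩
    have hY₀A : Y₀ ≤ A := h18.1.2 Y₀ hY₀E' rfl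
    have h3 := h18.2.2 Y₀ hY₀A rfl hcent
    have h4 := Cfsg.Agent.Lib.H7.BG147.uniq_star hG l.hM l.hK l.K_ne hY₀ hY₀c
    exact l.H_ne hG (h4.2 H l.hH h3.1)
  exact Cfsg.Agent.Lib.H7.BG13t.mem_kappa_of_centralizer_ne_bot hG l.hH hqσH hrank hY₀H rfl hcent

/-- `K*` is a `κ(H)`-group. -/
theorem isPiCard_star (hG : IsMinSimpleOddOrder G) (l : PreLink M K X H) :
    IsPiCard (kappa H) (Nat.card ↥(sigmaCore M ⊓ Subgroup.centralizer (K : Set G))) := by
  intro q hq hd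
  haveI : Fact q.Prime := ⟨hq⟩
  obtain ⟨x, hx⟩ := exists_prime_orderOf_dvd_card'
    (G := ↥(sigmaCore M ⊓ Subgroup.centralizer (K : Set G))) q hd
  have hc : Nat.card (Subgroup.zpowers (x : G)) = q := by
    rw [Nat.card_zpowers, Subgroup.orderOf_coe, hx]
  have hle : Subgroup.zpowers (x : G) ≤ sigmaCore M ⊓ Subgroup.centralizer (K : Set G) := by
    rw [Subgroup.zpowers_le]; exact x.2
  have := l.mem_kappa_H hG hle (by rw [hc]; exact hq)
  rwa [hc] at this

/-- a Hall `κ(H)`-subgroup of `H` over `K*`. -/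
theorem exists_hall (hG : IsMinSimpleOddOrder G) (l : PreLink M K X H) :
    ∃ K₁ : Subgroup G, IsPiHallOf (kappa H) K₁ H ∧
      sigmaCore M ⊓ Subgroup.centralizer (K : Set G) ≤ K₁ := by
  haveI : Group.IsSolvable ↥H := solvable_of_coatom hG l.hH
  exact Cfsg.Agent.Lib.H19.exists_isPiHallOf_ge l.star_le (l.isPiCard_star hG)

end PreLink

end Cfsg.Agent.Lib.H7.BG1366
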