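import Mathlib
import Cfsg.Agent.Lib.H7.BG1366a

/-!
# BG Theorem 14.7, existence of `M*` (helper7), part b: links

`Link M K X H K₁`: a pre-link together with a Hall `κ(H)`-subgroup `K₁` of `H` over `K*`.
Then `(H, K₁)` is a pre-block of `Z = K × K*`, and `K₁* ≤ K`.
-/

set_option autoImplicit false
set_option linter.style.haveILetI false
set_option linter.unusedSectionVars false
set_option linter.unusedVariables false

open Cfsg
open Cfsg.Agent.Lib.H16.BG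
open Cfsg.Agent.Lib.H7.BG7
open Cfsg.Agent.Lib.H7.BG10
open Cfsg.Agent.Lib.H19 (IsPiCard)
open Cfsg.Agent.Lib.H20.BGP

namespace Cfsg.Agent.Lib.H7.BG1366

universe u
variable {G : Type u} [Group G] [Finite G]

local notation:max "cj(" g ", " X ")" => Subgroup.map (MulEquiv.toMonoidHom (MulAut.conj g)) X

/-- a link. -/
structure Link (M K X H K₁ : Subgroup G) : Prop extends PreLink M K X H where
  hK₁ : IsPiHallOf (kappa H) K₁ H
  hle : sigmaCore M ⊓ Subgroup.centralizer (K : Set G) ≤ K₁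

namespace Link

variable {M K X H K₁ : Subgroup G}

theorem K₁_cyclic (hG : IsMinSimpleOddOrder G) (l : Link M K X H K₁) : IsCyclic ↥K₁ :=
  (Cfsg.Agent.S1351.result hG H l.hH).2 K₁ l.hK₁

theorem K₁_ne (hG : IsMinSimpleOddOrder G) (l : Link M K X H K₁) : K₁ ≠ ⊥ :=
  _root_.ne_bot_of_le_ne_bot (l.toPreLink.star_ne hG) l.hle

/-- `(H, K₁)` is a pre-block of `K₁ × K₁*`. -/
theorem pbH (hG : IsMinSimpleOddOrder G) (l : Link M K X H K₁) :
    IsPreBlock (K₁ ⊔ (sigmaCore H ⊓ Subgroup.centralizer (K₁ : Set G))) H K₁ :=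
  ⟨l.hH, l.hK₁, l.K₁_ne hG, rfl⟩

/-- `X ≤ K₁*`. -/
theorem X_le_star₁ (hG : IsMinSimpleOddOrder G) (l : Link M K X H K₁) :
    X ≤ sigmaCore H ⊓ Subgroup.centralizer (K₁ : Set G) := by
  obtain ⟨y, hy, hy1⟩ := (Subgroup.bot_or_exists_ne_one _).resolve_left (l.toPreLink.star_ne hG)
  rw [← (l.pbH hG).prime_action hG (l.hle hy) hy1]
  apply le_inf (l.toPreLink.X_le_sigmaCore hG)
  intro x hx
  rw [Subgroup.mem_centralizer_iff]
  intro z hz
  rw [Set.mem_singleton_iff] at hz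
  rw [hz]
  exact (Subgroup.mem_centralizer_iff.1 (Subgroup.mem_inf.1 hy).2 x (l.hXK hx)).symm

/-- `K₁ × K₁* ≤ M`. -/
theorem sup₁_le_M (hG : IsMinSimpleOddOrder G) (l : Link M K X H K₁) :
    K₁ ⊔ (sigmaCore H ⊓ Subgroup.centralizer (K₁ : Set G)) ≤ M := by
  obtain ⟨q, hq, Y₀, hY₀Y, hY₀c⟩ :=
    Cfsg.Agent.Lib.H7.BG14u.exists_le_card_prime (l.toPreLink.star_ne hG)
  have hY₀p : (Nat.card Y₀).Prime := by rw [hY₀c]; exact hq
  have h30 := (Cfsg.Agent.S1430.result hG H l.hH K₁ l.hK₁ (l.K₁_ne hG)).2.2 Y₀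
    (hY₀Y.trans l.hle) hY₀p
  have hNM : Subgroup.normalizer (Y₀ : Set G) ≤ M :=
    Cfsg.Agent.Lib.H7.BG147.normalizer_le_star hG l.hM l.hK l.toPreLink.K_ne hY₀Y hY₀p
  rw [← h30.1]
  exact inf_le_right.trans hNM

/-- the pre-link in the other direction. -/
theorem symmPre (hG : IsMinSimpleOddOrder G) (l : Link M K X H K₁) {Y₀ : Subgroup G}
    (hY₀ : Y₀ ≤ sigmaCore M ⊓ Subgroup.centralizer (K : Set G)) (hY₀c : (Nat.card Y₀).Prime) :
    PreLink H K₁ Y₀ M :=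
  { hM := l.hH
    hK := l.hK₁
    hKc := l.K₁_cyclic hG
    hXK := hY₀.trans l.hle
    hXc := hY₀c
    hH := l.hM
    hNX := Cfsg.Agent.Lib.H7.BG147.normalizer_le_star hG l.hM l.hK l.toPreLink.K_ne hY₀ hY₀c }

/-- `K₁* ≤ K`. -/
theorem star₁_le_K (hG : IsMinSimpleOddOrder G) (l : Link M K X H K₁) :
    sigmaCore H ⊓ Subgroup.centralizer (K₁ : Set G) ≤ K := by
  obtain ⟨q, hq, Y₀, hY₀Y, hY₀c⟩ :=
    Cfsg.Agent.Lib.H7.BG14u.exists_le_card_prime (l.toPreLink.star_ne hG)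
  have hY₀p : (Nat.card Y₀).Prime := by rw [hY₀c]; exact hq
  have l' := l.symmPre hG hY₀Y hY₀p
  obtain ⟨K₂, hK₂, hle₂⟩ := l'.exists_hall hG
  have hK₂1 : K₂ ≠ ⊥ := _root_.ne_bot_of_le_ne_bot (l'.star_ne hG) hle₂
  have hXK₂ : X ≤ K₂ := (l.X_le_star₁ hG).trans hle₂
  have h30 := ((Cfsg.Agent.S1430.result hG M l.hM K₂ hK₂ hK₂1).2.2 X hXK₂ l.hXc).1
  have hK₂Z : K₂ ≤ K ⊔ (sigmaCore M ⊓ Subgroup.centralizer (K : Set G)) := by
    rw [← l.toPreLink.inf_normalizer_eq hG, h30]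
    exact le_sup_left
  have hK₂K : K₂ ≤ K := by
    apply l.toPreLink.pbM.le_K_of_coprime hK₂Z
    apply Nat.coprime_of_dvd
    intro p hp h1 h2
    exact (hK₂.2.1 p hp h1).2.2.1 (Cfsg.Agent.Lib.H20.BGS.sigmaCore_isPiCard M p hp h2)
  exact hle₂.trans hK₂K

/-- `K₁ ≤ Z`. -/
theorem K₁_le_Z (hG : IsMinSimpleOddOrder G) (l : Link M K X H K₁) :
    K₁ ≤ K ⊔ (sigmaCore M ⊓ Subgroup.centralizer (K : Set G)) := by
  rw [← l.toPreLink.inf_normalizer_eq hG]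
  apply le_inf (le_sup_left.trans (l.sup₁_le_M hG))
  refine le_trans ?_ (Subgroup.centralizer_le_normalizer _)
  apply le_centralizer_comm
  exact (l.X_le_star₁ hG).trans inf_le_right

theorem sup₁_le (hG : IsMinSimpleOddOrder G) (l : Link M K X H K₁) :
    K₁ ⊔ (sigmaCore H ⊓ Subgroup.centralizer (K₁ : Set G)) ≤
      K ⊔ (sigmaCore M ⊓ Subgroup.centralizer (K : Set G)) :=
  sup_le (l.K₁_le_Z hG) ((l.star₁_le_K hG).trans le_sup_left)

/-- the link in the other direction. -/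
theorem symm (hG : IsMinSimpleOddOrder G) (l : Link M K X H K₁) {Y₀ : Subgroup G}
    (hY₀ : Y₀ ≤ sigmaCore M ⊓ Subgroup.centralizer (K : Set G)) (hY₀c : (Nat.card Y₀).Prime) :
    Link H K₁ Y₀ M K :=
  { toPreLink := l.symmPre hG hY₀ hY₀c
    hK₁ := l.hK
    hle := l.star₁_le_K hG }

/-- `K₁ × K₁* = K × K*`. -/
theorem sup_eq (hG : IsMinSimpleOddOrder G) (l : Link M K X H K₁) :
    K₁ ⊔ (sigmaCore H ⊓ Subgroup.centralizer (K₁ : Set G)) =
      K ⊔ (sigmaCore M ⊓ Subgroup.centralizer (K : Set G)) := by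
  obtain ⟨q, hq, Y₀, hY₀Y, hY₀c⟩ :=
    Cfsg.Agent.Lib.H7.BG14u.exists_le_card_prime (l.toPreLink.star_ne hG)
  have hY₀p : (Nat.card Y₀).Prime := by rw [hY₀c]; exact hq
  exact le_antisymm (l.sup₁_le hG) ((l.symm hG hY₀Y hY₀p).sup₁_le hG)

/-- `(H, K₁)` is a pre-block of `Z = K × K*`. -/
theorem preBlock (hG : IsMinSimpleOddOrder G) (l : Link M K X H K₁) :
    IsPreBlock (K ⊔ (sigmaCore M ⊓ Subgroup.centralizer (K : Set G))) H K₁ :=
  ⟨l.hH, l.hK₁, l.K₁_ne hG, l.sup_eq hG⟩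

theorem card_eq (hG : IsMinSimpleOddOrder G) (l : Link M K X H K₁) :
    Nat.card K₁ * Nat.card ↥(sigmaCore H ⊓ Subgroup.centralizer (K₁ : Set G)) =
      Nat.card K * Nat.card ↥(sigmaCore M ⊓ Subgroup.centralizer (K : Set G)) := by
  rw [(l.preBlock hG).card_Z, l.toPreLink.pbM.card_Z]

/-- if `K₁ = K*` then `K = K₁*`. -/
theorem eq_of_eq (hG : IsMinSimpleOddOrder G) (l : Link M K X H K₁)
    (h : K₁ = sigmaCore M ⊓ Subgroup.centralizer (K : Set G)) :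
    K = sigmaCore H ⊓ Subgroup.centralizer (K₁ : Set G) := by
  have h1 := l.card_eq hG
  have h2 : Nat.card K₁ = Nat.card ↥(sigmaCore M ⊓ Subgroup.centralizer (K : Set G)) := by
    rw [← h]
  have hpos : 0 < Nat.card K₁ := Nat.card_pos
  have h3 : Nat.card ↥(sigmaCore H ⊓ Subgroup.centralizer (K₁ : Set G)) = Nat.card K := by
    rw [← h2, mul_comm (Nat.card K)] at h1
    exact Nat.eq_of_mul_eq_mul_left hpos h1
  exact (Subgroup.eq_of_le_of_card_ge (l.star₁_le_K hG) h3.ge).symm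

/-- if `K₁ ≠ K*` then neither `|K₁|` nor `|K|` is a prime. -/
theorem not_prime_of_ne (hG : IsMinSimpleOddOrder G) (l : Link M K X H K₁)
    (h : K₁ ≠ sigmaCore M ⊓ Subgroup.centralizer (K : Set G)) :
    ¬ (Nat.card K₁).Prime ∧ ¬ (Nat.card K).Prime := by
  have h1 := l.card_eq hG
  have hd1 : Nat.card ↥(sigmaCore M ⊓ Subgroup.centralizer (K : Set G)) ∣ Nat.card K₁ :=
    Subgroup.card_dvd_of_le l.hle
  have hne1 : Nat.card ↥(sigmaCore M ⊓ Subgroup.centralizer (K : Set G)) ≠ 1 := fun h' =>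
    l.toPreLink.star_ne hG (Subgroup.card_eq_one.1 h')
  have hne2 : Nat.card ↥(sigmaCore M ⊓ Subgroup.centralizer (K : Set G)) ≠ Nat.card K₁ := by
    intro h'
    exact h (Subgroup.eq_of_le_of_card_ge l.hle h'.ge).symm
  have hd2 : Nat.card ↥(sigmaCore H ⊓ Subgroup.centralizer (K₁ : Set G)) ∣ Nat.card K :=
    Subgroup.card_dvd_of_le (l.star₁_le_K hG)
  have hne3 : Nat.card ↥(sigmaCore H ⊓ Subgroup.centralizer (K₁ : Set G)) ≠ 1 := fun h' =>
    (l.pbH hG).star_ne hG (Subgroup.card_eq_one.1 h')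
  have hne4 : Nat.card ↥(sigmaCore H ⊓ Subgroup.centralizer (K₁ : Set G)) ≠ Nat.card K := by
    intro h'
    apply hne2
    rw [h', mul_comm] at h1
    have hpos : 0 < Nat.card K := Nat.card_pos
    exact (Nat.eq_of_mul_eq_mul_left hpos h1).symm
  constructor
  · intro hp
    rcases (Nat.dvd_prime hp).1 hd1 with h' | h'
    · exact hne1 h'
    · exact hne2 h'
  · intro hp
    rcases (Nat.dvd_prime hp).1 hd2 with h' | h'
    · exact hne3 h'
    · exact hne4 h'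

end Link

end Cfsg.Agent.Lib.H7.BG1366
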