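import Mathlib
import Cfsg.Agent.Lib.H7.BG1366b
import Cfsg.Agent.Lib.H21.BGP2c
import Cfsg.Agent.S1352

/-!
# BG Theorem 14.7, existence of `M*` (helper7), part c: assembly

Given the multi-block count (helper20) as a hypothesis `HypCover`, the partner `M*` exists.
-/

set_option autoImplicit false
set_option linter.style.haveILetI false
set_option linter.unusedSectionVars false
set_option linter.unusedVariables false

open Cfsg
open Cfsg.Agent.Lib.H16.BG
open Cfsg.Agent.Lib.H7.BG7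
open Cfsg.Agent.Lib.H7.BG10
open Cfsg.Agent.Lib.H19 (IsPiCard)
open Cfsg.Agent.Lib.H20.BGP

namespace Cfsg.Agent.Lib.H7.BG1366

universe u
variable {G : Type u} [Group G] [Finite G]

local notation:max "cj(" g ", " X ")" => Subgroup.map (MulEquiv.toMonoidHom (MulAut.conj g)) X

/-- the multi-block count: two distinct blocks of `Z` whose family covers the primes of `Z`
cannot exist. -/
def HypCover (G : Type u) [Group G] : Prop :=
  ∀ {Z N K N' K' : Subgroup G}, IsBlock Z N K → IsBlock Z N' K' → N ≠ N' →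
    (∀ q : ℕ, q.Prime → q ∣ Nat.card ↥Z →
      ∃ N'' K'' : Subgroup G, IsBlock Z N'' K'' ∧ q ∈ sigma N'') → False

theorem compl_of_bot (hG : IsMinSimpleOddOrder G) {M K : Subgroup G} (hM : IsCoatom M)
    (hKU : IsSigmaDecomposition M K ⊥) : IsComplIn K (sigmaCore M) M := by
  have := Cfsg.Agent.Lib.H20.BGZ.isComplIn_sup hG hM hKU
  rwa [sup_bot_eq] at this

/-- **existence of `M*`** (BG Theorem 14.7(b),(c)). -/
theorem exists_star (hG : IsMinSimpleOddOrder G) (hcov : HypCover G) {M K U : Subgroup G}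
    (hM : IsCoatom M) (hKU : IsSigmaDecomposition M K U) (hK1 : K ≠ ⊥) :
    ∃ Mstar : Subgroup G, IsCoatom Mstar ∧
      K = sigmaCore Mstar ⊓ Subgroup.centralizer
        ((sigmaCore M ⊓ Subgroup.centralizer (K : Set G) : Subgroup G) : Set G) ∧
      IsPiHallOf (kappa Mstar) (sigmaCore M ⊓ Subgroup.centralizer (K : Set G)) Mstar := by
  by_contra hno
  -- every link has `K₁ ≠ K*`
  have hne : ∀ X H K₁ : Subgroup G, Link M K X H K₁ →
      K₁ ≠ sigmaCore M ⊓ Subgroup.centralizer (K : Set G) := by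
    intro X H K₁ l h
    apply hno
    refine ⟨H, l.hH, ?_, ?_⟩
    · have h1 := l.eq_of_eq hG h
      rw [h] at h1
      exact h1
    · rw [← h]; exact l.hK₁
  -- over every subgroup of prime order of `K` there is a block
  have hblock : ∀ X : Subgroup G, X ≤ K → (Nat.card X).Prime →
      ∃ H K₁ : Subgroup G, Link M K X H K₁ ∧
        IsBlock (K ⊔ (sigmaCore M ⊓ Subgroup.centralizer (K : Set G))) H K₁ := by
    intro X hXK hXc
    have hX1 : X ≠ ⊥ := by
      intro h
      rw [h, Subgroup.card_bot] at hXc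
      exact Nat.not_prime_one hXc
    haveI : Fact (Nat.card X).Prime := ⟨hXc⟩
    have hXp : IsPGroup (Nat.card X) X := IsPGroup.of_card (n := 1) (by rw [pow_one])
    obtain ⟨H, hH, hNX⟩ := exists_coatom_ge (normalizer_ne_top_of_isPGroup hG hXp hX1)
    have pl : PreLink M K X H := ⟨hM, hKU.hall, hKU.cyclic, hXK, hXc, hH, hNX⟩
    obtain ⟨K₁, hK₁, hle⟩ := pl.exists_hall hG
    have l : Link M K X H K₁ := ⟨pl, hK₁, hle⟩
    obtain ⟨U₁, hKU₁⟩ := (Cfsg.Agent.S1352.result hG H hH K₁ (l.K₁_cyclic hG) hK₁).1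
    have hU₁ : U₁ = ⊥ := by
      by_contra hU
      exact (l.not_prime_of_ne hG (hne X H K₁ l)).1
        (Cfsg.Agent.Lib.H21.BGP2.card_K_prime hG hH hKU₁ (l.K₁_ne hG) hU)
    subst hU₁
    exact ⟨H, K₁, l, ⟨l.preBlock hG, compl_of_bot hG hH hKU₁⟩⟩
  -- `M` itself is a block
  obtain ⟨p, hp, X, hXK, hXc⟩ := Cfsg.Agent.Lib.H7.BG14u.exists_le_card_prime hK1
  obtain ⟨H, K₁, l, bH⟩ := hblock X hXK (by rw [hXc]; exact hp)
  have hU : U = ⊥ := by
    by_contra hU
    exact (l.not_prime_of_ne hG (hne X H K₁ l)).2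
      (Cfsg.Agent.Lib.H21.BGP2.card_K_prime hG hM hKU hK1 hU)
  subst hU
  have bM : IsBlock (K ⊔ (sigmaCore M ⊓ Subgroup.centralizer (K : Set G))) M K :=
    ⟨l.toPreLink.pbM, compl_of_bot hG hM hKU⟩
  apply hcov bM bH (l.toPreLink.H_ne hG).symm
  intro q hq hd
  rw [← bM.card_Z] at hd
  rcases (Nat.Prime.dvd_mul hq).1 hd with h | h
  · haveI : Fact q.Prime := ⟨hq⟩
    obtain ⟨x, hx⟩ := exists_prime_orderOf_dvd_card' (G := ↥K) q h
    have hc : Nat.card (Subgroup.zpowers (x : G)) = q := by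
      rw [Nat.card_zpowers, Subgroup.orderOf_coe, hx]
    have hle : Subgroup.zpowers (x : G) ≤ K := by
      rw [Subgroup.zpowers_le]; exact x.2
    obtain ⟨H', K₁', l', bH'⟩ := hblock (Subgroup.zpowers (x : G)) hle (by rw [hc]; exact hq)
    refine ⟨H', K₁', bH', ?_⟩
    have := l'.toPreLink.mem_sigma_H hG
    rwa [hc] at this
  · exact ⟨M, K, bM, Cfsg.Agent.Lib.H20.BGS.sigmaCore_isPiCard M q hq
      (h.trans (Subgroup.card_dvd_of_le inf_le_left))⟩

end Cfsg.Agent.Lib.H7.BG1366
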