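import Mathlib
import Cfsg.Agent.Lib.H9.S3776Defs

/-!
# S3776, piece (4) LEMEM (helper7): LEMMA E, multiplicative form from the additive form

A group of exponent 2 is commutative; `Additive V`, `Additive T` carry the additive structure.
-/

set_option autoImplicit false

namespace Cfsg.Agent.H7.S3776LemEM

open Cfsg.Agent.Lib.H9.S3776
open scoped IsMulCommutative

universe u

theorem comm_of_sq {A : Type*} [Group A] (h : ∀ a : A, a * a = 1) (a b : A) : a * b = b * a := by
  have e1 : ∀ x : A, x⁻¹ = x := fun x => (eq_inv_of_mul_eq_one_left (h x)).symm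
  calc a * b = (a * b)⁻¹ := (e1 _).symm
    _ = b⁻¹ * a⁻¹ := mul_inv_rev a b
    _ = b * a := by rw [e1, e1]

/-- **(LEMEM)** -/
theorem lemem : LemEMStmt.{u} := by
  intro hE E V T _ _ _ _ _ _ aV aT b hsol hV2 hT2 haVmul haVact haV1 haTmul haTact haT1 hthree
    htrans hirr hbl hbr hbeq hbne
  have instV : IsMulCommutative V := IsMulCommutative.of_comm (comm_of_sq hV2)
  have instT : IsMulCommutative T := IsMulCommutative.of_comm (comm_of_sq hT2)
  have key := hE E (Additive V) (Additive T)
    (fun e v => Additive.ofMul (aV e (Additive.toMul v)))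
    (fun e t => Additive.ofMul (aT e (Additive.toMul t)))
    (fun t v => Additive.ofMul (b (Additive.toMul t) (Additive.toMul v)))
    hsol
    (fun v => hV2 (Additive.toMul v)) (fun t => hT2 (Additive.toMul t))
    (fun e v w => haVmul e (Additive.toMul v) (Additive.toMul w))
    (fun e f v => haVact e f (Additive.toMul v))
    (fun v => haV1 (Additive.toMul v))
    (fun e t s => haTmul e (Additive.toMul t) (Additive.toMul s))
    (fun e f t => haTact e f (Additive.toMul t))
    (fun t => haT1 (Additive.toMul t))
    (by
      obtain ⟨v, w, hv, hw, hvw⟩ := hthree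
      exact ⟨Additive.ofMul v, Additive.ofMul w, hv, hw, hvw⟩)
    (fun v w hv hw => htrans (Additive.toMul v) (Additive.toMul w) hv hw)
    (by
      intro S hS
      let S' : Subgroup T :=
        { carrier := {t | Additive.ofMul t ∈ S}
          one_mem' := S.zero_mem
          mul_mem' := fun ha hb => S.add_mem ha hb
          inv_mem' := fun ha => S.neg_mem ha }
      have hS' : ∀ e, ∀ t ∈ S', aT e t ∈ S' := fun e t ht => hS e (Additive.ofMul t) ht
      rcases hirr S' hS' with h | h
      · left
        rw [eq_bot_iff]
        intro x hx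
        have hx' : Additive.toMul x ∈ S' := hx
        rw [h, Subgroup.mem_bot] at hx'
        rw [AddSubgroup.mem_bot]
        exact hx'
      · right
        rw [eq_top_iff]
        intro x _
        have hx' : Additive.toMul x ∈ S' := by
          rw [h]; exact Subgroup.mem_top _
        exact hx')
    (fun t s v => hbl (Additive.toMul t) (Additive.toMul s) (Additive.toMul v))
    (fun t v w => hbr (Additive.toMul t) (Additive.toMul v) (Additive.toMul w))
    (fun e t v => hbeq e (Additive.toMul t) (Additive.toMul v))
    (by
      obtain ⟨t, v, htv⟩ := hbne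
      exact ⟨Additive.ofMul t, Additive.ofMul v, htv⟩)
  exact fun t v ht hv => key (Additive.ofMul t) (Additive.ofMul v) ht hv

example : LemEMStmt.{0} := lemem

end Cfsg.Agent.H7.S3776LemEM
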