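import Cfsg.Agent.Lib.H6.McLM.Base

set_option autoImplicit false

/-!
# Transport of helper6's `Base4` (the McLaughlin data of S2047) along a group isomorphism (helper7)

`base4_map e B : Base4 (e am) (e bm) (e cm) (e dm)` for `e : G ≃* G'`; `base4_map_hom` is the same for an
injective-and-surjective homomorphism.
-/

namespace Cfsg.Agent.Lib.H7.McLM

open Cfsg.Agent.Lib.H6 Cfsg.Agent.Lib.H6.McLM Subgroup

theorem closure4_map {G G' : Type*} [Group G] [Group G'] (f : G →* G') (a b c d : G) :
    (closure ({a, b, c, d} : Set G)).map f = closure ({f a, f b, f c, f d} : Set G') := by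
  rw [MonoidHom.map_closure]
  congr 1
  simp [Set.image_insert_eq, Set.image_singleton]

/-- transport of `Base4` along a group isomorphism -/
theorem base4_map {G G' : Type} [Group G] [Group G'] (e : G ≃* G') {am bm cm dm : G}
    (B : Base4 am bm cm dm) : Base4 (e am) (e bm) (e cm) (e dm) := by
  have h2 : ∀ w, U33M.wv (e am) (e bm) w = e (U33M.wv am bm w) := fun w =>
    (U43M.map_wv2 e.toMonoidHom am bm w).symm
  have h3 : ∀ w, U43M.wv (e am) (e bm) (e cm) w = e (U43M.wv am bm cm w) := fun w =>
    (U43M.map_wv e.toMonoidHom am bm cm w).symm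
  have h4 : ∀ w, wv (e am) (e bm) (e cm) (e dm) w = e (wv am bm cm dm w) := fun w =>
    (map_wv e.toMonoidHom am bm cm dm w).symm
  refine ⟨?_, ?_, ?_, ?_, ?_, ?_, ?_, ?_, ?_, ?_, ?_, ?_⟩
  · intro w hw
    rw [h2, B.rel1 w hw, map_one]
  · intro w hw
    rw [h3, B.rel2 w hw, map_one]
  · intro w hw
    rw [h4, B.rel3 w hw, map_one]
  · intro p hp
    rw [h3, ← map_pow, B.ord7 p hp, map_one]
  · intro p hp
    rw [h4, B.fus p hp, map_one]
  · rw [h4, B.fcomm1, map_one]
  · rw [h4, B.fcomm2, map_one]
  · have h := closure4_map e.toMonoidHom am bm cm dm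
    rw [B.gen, ← MonoidHom.range_eq_map] at h
    rw [← show ({e.toMonoidHom am, e.toMonoidHom bm, e.toMonoidHom cm, e.toMonoidHom dm} : Set G') =
      {e am, e bm, e cm, e dm} from rfl, ← h]
    exact MonoidHom.range_eq_top.2 e.surjective
  · rw [← Nat.card_congr e.toEquiv, B.card]
  · exact fun h => B.a_ne (e.injective (h.trans (map_one e).symm))
  · exact fun h => B.c_ne (e.injective (h.trans (map_one e).symm))
  · exact fun h => B.d_ne (e.injective (h.trans (map_one e).symm))

end Cfsg.Agent.Lib.H7.McLM
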