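import Mathlib

set_option autoImplicit false

namespace Cfsg.Agent.Lib.H7

variable {X : Type*} [Group X]

/-- The conjugation action of a subgroup `H` on a subgroup `W` that it normalizes. -/
@[reducible] def conjMulAction (H W : Subgroup X) (h : H ≤ Subgroup.normalizer (W : Set X)) :
    MulAction ↥H ↥W where
  smul g w := ⟨(g : X) * (w : X) * (g : X)⁻¹, (Subgroup.mem_normalizer_iff.1 (h g.2) w).1 w.2⟩
  one_smul w := Subtype.ext (by
    show ((1 : ↥H) : X) * (w : X) * ((1 : ↥H) : X)⁻¹ = w
    simp)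
  mul_smul a b w := Subtype.ext (by
    show ((a * b : ↥H) : X) * (w : X) * ((a * b : ↥H) : X)⁻¹ =
      (a : X) * ((b : X) * (w : X) * (b : X)⁻¹) * (a : X)⁻¹
    simp [mul_assoc])

/-- Orbit counting for an element of prime order `r` normalizing a finite subgroup `W`:
`|W| ≡ |C_W(x)|` modulo `r`. -/
theorem card_modEq_card_inf_centralizer {W : Subgroup X} [Finite ↥W] {x : X} {r : ℕ}
    [Fact r.Prime] (hx : orderOf x = r) (hxW : x ∈ Subgroup.normalizer (W : Set X)) :
    Nat.card ↥W ≡ Nat.card ↥(W ⊓ Subgroup.centralizer ({x} : Set X)) [MOD r] := by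
  have hH : IsPGroup r ↥(Subgroup.zpowers x) :=
    IsPGroup.of_card (n := 1) (by rw [Nat.card_zpowers, hx, pow_one])
  have hle : Subgroup.zpowers x ≤ Subgroup.normalizer (W : Set X) := by
    rw [Subgroup.zpowers_le]; exact hxW
  let _ := conjMulAction (Subgroup.zpowers x) W hle
  have h1 := hH.card_modEq_card_fixedPoints ↥W
  have h2 : Nat.card ↥(MulAction.fixedPoints ↥(Subgroup.zpowers x) ↥W) =
      Nat.card ↥(W ⊓ Subgroup.centralizer ({x} : Set X)) := by
    apply Nat.card_congr
    refine
      { toFun := fun w => ⟨(w.1 : X), Subgroup.mem_inf.2 ⟨w.1.2, ?_⟩⟩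
        invFun := fun w => ⟨⟨(w : X), (Subgroup.mem_inf.1 w.2).1⟩, ?_⟩
        left_inv := fun w => rfl
        right_inv := fun w => rfl }
    · rw [Subgroup.mem_centralizer_singleton_iff]
      have := w.2 ⟨x, Subgroup.mem_zpowers x⟩
      have h3 : x * (w.1 : X) * x⁻¹ = (w.1 : X) := congrArg (fun u : ↥W => (u : X)) this
      calc (w.1 : X) * x = (x * (w.1 : X) * x⁻¹) * x := by rw [h3]
        _ = x * (w.1 : X) := by group
    · intro g
      apply Subtype.ext
      show (g : X) * (w : X) * (g : X)⁻¹ = (w : X)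
      have hw : (w : X) ∈ Subgroup.centralizer ({x} : Set X) := (Subgroup.mem_inf.1 w.2).2
      have hzc : Subgroup.zpowers x ≤ Subgroup.centralizer ({(w : X)} : Set X) := by
        rw [Subgroup.zpowers_le, Subgroup.mem_centralizer_singleton_iff]
        exact (Subgroup.mem_centralizer_singleton_iff.1 hw).symm
      have := Subgroup.mem_centralizer_singleton_iff.1 (hzc g.2)
      rw [this]; group
  rwa [h2] at h1

end Cfsg.Agent.Lib.H7
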