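import Mathlib
import Cfsg.Statements.S3739
import Cfsg.Agent.Lib.H7.ConjOrbit

set_option autoImplicit false
open Cfsg

namespace Cfsg.Agent.Lib.H7.NoE8

variable {G : Type*} [Group G]

theorem comm_of_mem {p : ℕ} {A : Subgroup G} (hA : IsElementaryAbelian p A) {a b : G}
    (ha : a ∈ A) (hb : b ∈ A) : a * b = b * a := by
  have := hA.1.is_comm.comm ⟨a, ha⟩ ⟨b, hb⟩
  exact congrArg Subtype.val this

theorem isElementaryAbelian_mono {p : ℕ} {A B : Subgroup G} (hBA : B ≤ A)
    (hA : IsElementaryAbelian p A) : IsElementaryAbelian p B := by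
  refine ⟨⟨⟨fun x y => ?_⟩⟩, fun a ha => hA.2 a (hBA ha)⟩
  exact Subtype.ext (comm_of_mem hA (hBA x.2) (hBA y.2))

theorem isPGroup_of_isElementaryAbelian {p : ℕ} {A : Subgroup G}
    (hA : IsElementaryAbelian p A) : IsPGroup p A := by
  intro g
  refine ⟨1, ?_⟩
  apply Subtype.ext
  rw [pow_one, Subgroup.coe_pow, hA.2 _ g.2]; rfl

/-- Adjoining a commuting element of order dividing `p` to an elementary abelian subgroup. -/
theorem isElementaryAbelian_adjoin {p : ℕ} {A : Subgroup G} (hA : IsElementaryAbelian p A)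
    {i : G} (hi : i ^ p = 1) (hiA : ∀ a ∈ A, i * a = a * i) :
    IsElementaryAbelian p (Subgroup.closure ((A : Set G) ∪ {i})) := by
  have hcomm : ∀ x ∈ (A : Set G) ∪ {i}, ∀ y ∈ (A : Set G) ∪ {i}, x * y = y * x := by
    rintro x (hx | hx) y (hy | hy)
    · exact comm_of_mem hA hx hy
    · rw [Set.mem_singleton_iff] at hy; subst hy; exact (hiA x hx).symm
    · rw [Set.mem_singleton_iff] at hx; subst hx; exact hiA y hy
    · rw [Set.mem_singleton_iff] at hx hy; subst hx; subst hy; rfl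
  have hc' := Subgroup.isMulCommutative_closure hcomm
  have hc : ∀ x y : ↥(Subgroup.closure ((A : Set G) ∪ {i})), x * y = y * x :=
    hc'.is_comm.comm
  refine ⟨⟨⟨hc⟩⟩, ?_⟩
  intro a ha
  induction ha using Subgroup.closure_induction with
  | mem x hx =>
    rcases hx with hx | hx
    · exact hA.2 x hx
    · rw [Set.mem_singleton_iff] at hx; rw [hx]; exact hi
  | one => exact one_pow p
  | mul x y hx hy hx1 hy1 =>
    have h1 : Commute x y := congrArg Subtype.val (hc ⟨x, hx⟩ ⟨y, hy⟩)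
    rw [h1.mul_pow, hx1, hy1, one_mul]
  | inv x hx hx1 => rw [inv_pow, hx1, inv_one]

section fin

variable [Finite G]

theorem card_le_four (hne : ∀ E : Subgroup G, IsElementaryAbelian 2 E → Nat.card E ≠ 8)
    {E : Subgroup G} (hE : IsElementaryAbelian 2 E) : Nat.card E ≤ 4 := by
  have h2 : Fact (Nat.Prime 2) := ⟨Nat.prime_two⟩
  obtain ⟨m, hm⟩ := IsPGroup.iff_card.1 (isPGroup_of_isElementaryAbelian hE)
  by_contra hlt
  push Not at hlt
  have hm3 : 3 ≤ m := by
    by_contra h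
    push Not at h
    have : 2 ^ m ≤ 2 ^ 2 := Nat.pow_le_pow_right (by norm_num) (by omega)
    omega
  have hdvd : 2 ^ 3 ∣ Nat.card E := by rw [hm]; exact pow_dvd_pow 2 hm3
  obtain ⟨K, hK⟩ := Sylow.exists_subgroup_card_pow_prime 2 hdvd
  apply hne (K.map E.subtype)
    (isElementaryAbelian_mono (by rintro _ ⟨x, -, rfl⟩; exact x.2) hE)
  rw [Subgroup.card_map_of_injective E.subtype_injective, hK]; norm_num

/-- the order of an elementary abelian 2-subgroup is 1, 2 or 4 -/
theorem card_cases (hne : ∀ E : Subgroup G, IsElementaryAbelian 2 E → Nat.card E ≠ 8)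
    {E : Subgroup G} (hE : IsElementaryAbelian 2 E) :
    Nat.card E = 1 ∨ Nat.card E = 2 ∨ Nat.card E = 4 := by
  have h2 : Fact (Nat.Prime 2) := ⟨Nat.prime_two⟩
  obtain ⟨m, hm⟩ := IsPGroup.iff_card.1 (isPGroup_of_isElementaryAbelian hE)
  have h4 := card_le_four hne hE
  rw [hm] at h4 ⊢
  have hm2 : m ≤ 2 := by
    by_contra h
    push Not at h
    have : 2 ^ 3 ≤ 2 ^ m := Nat.pow_le_pow_right (by norm_num) h
    omega
  interval_cases m <;> simp

/-- an involution centralizing a four-group lies in it -/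
theorem mem_of_commute (hne : ∀ E : Subgroup G, IsElementaryAbelian 2 E → Nat.card E ≠ 8)
    {A : Subgroup G} (hA : IsElementaryAbelian 2 A) (hA4 : Nat.card A = 4) {i : G}
    (hi : i ^ 2 = 1) (hiA : ∀ a ∈ A, i * a = a * i) : i ∈ A := by
  have hB := isElementaryAbelian_adjoin hA hi hiA
  have hle : A ≤ Subgroup.closure ((A : Set G) ∪ {i}) := by
    intro a ha
    exact Subgroup.subset_closure (Or.inl ha)
  have h4 := card_le_four hne hB
  have := Subgroup.eq_of_le_of_card_ge hle (by rw [hA4]; exact h4)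
  rw [this]
  exact Subgroup.subset_closure (Or.inr rfl)

end fin

/-- `Ω₁(Z(Q))` for `p = 2`, as a subgroup of the ambient group. -/
def omegaCenter (Q : Subgroup G) : Subgroup G where
  carrier := {x | x ∈ Q ∧ x ∈ Subgroup.centralizer (Q : Set G) ∧ x ^ 2 = 1}
  one_mem' := ⟨Subgroup.one_mem _, Subgroup.one_mem _, one_pow 2⟩
  mul_mem' := by
    rintro x y ⟨hx, hxc, hx2⟩ ⟨hy, hyc, hy2⟩
    refine ⟨Subgroup.mul_mem _ hx hy, Subgroup.mul_mem _ hxc hyc, ?_⟩
    have h1 : Commute x y := (Subgroup.mem_centralizer_iff.1 hxc y hy).symm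
    rw [h1.mul_pow, hx2, hy2, one_mul]
  inv_mem' := by
    rintro x ⟨hx, hxc, hx2⟩
    exact ⟨Subgroup.inv_mem _ hx, Subgroup.inv_mem _ hxc, by rw [inv_pow, hx2, inv_one]⟩

theorem mem_omegaCenter {Q : Subgroup G} {x : G} :
    x ∈ omegaCenter Q ↔ x ∈ Q ∧ x ∈ Subgroup.centralizer (Q : Set G) ∧ x ^ 2 = 1 := Iff.rfl

theorem omegaCenter_le (Q : Subgroup G) : omegaCenter Q ≤ Q := fun _ hx => hx.1

theorem le_centralizer_omegaCenter (Q : Subgroup G) :
    Q ≤ Subgroup.centralizer (omegaCenter Q : Set G) := by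
  intro q hq
  rw [Subgroup.mem_centralizer_iff]
  intro z hz
  exact (Subgroup.mem_centralizer_iff.1 hz.2.1 q hq).symm

theorem omegaCenter_isElementaryAbelian (Q : Subgroup G) :
    IsElementaryAbelian 2 (omegaCenter Q) := by
  refine ⟨⟨⟨fun x y => ?_⟩⟩, fun a ha => ha.2.2⟩
  apply Subtype.ext
  exact (Subgroup.mem_centralizer_iff.1 y.2.2.1 x x.2.1)

instance omegaCenter_normal (Q : Subgroup G) [hQ : Q.Normal] : (omegaCenter Q).Normal := by
  refine ⟨fun x hx g => ⟨hQ.conj_mem x hx.1 g, ?_, ?_⟩⟩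
  · rw [Subgroup.mem_centralizer_iff]
    intro q hq
    have h1 : g⁻¹ * q * g ∈ Q := by
      have := hQ.conj_mem q hq g⁻¹
      rwa [inv_inv] at this
    have h2 := Subgroup.mem_centralizer_iff.1 hx.2.1 _ h1
    calc q * (g * x * g⁻¹) = g * ((g⁻¹ * q * g) * x) * g⁻¹ := by group
      _ = g * (x * (g⁻¹ * q * g)) * g⁻¹ := by rw [h2]
      _ = g * x * g⁻¹ * q := by group
  · rw [conj_pow, hx.2.2, mul_one, mul_inv_cancel]

theorem omegaCenter_ne_bot [Finite G] {Q : Subgroup G} (hQ : IsPGroup 2 Q) (hQ1 : Q ≠ ⊥) :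
    omegaCenter Q ≠ ⊥ := by
  have h2 : Fact (Nat.Prime 2) := ⟨Nat.prime_two⟩
  have hnt : Nontrivial ↥Q := (Subgroup.nontrivial_iff_ne_bot Q).2 hQ1
  have hc : Nontrivial (Subgroup.center ↥Q) := hQ.center_nontrivial
  have hcp : IsPGroup 2 (Subgroup.center ↥Q) := hQ.to_subgroup _
  obtain ⟨m, hm⟩ := IsPGroup.iff_card.1 hcp
  have hm0 : m ≠ 0 := by
    rintro rfl
    rw [pow_zero] at hm
    have := Finite.one_lt_card_iff_nontrivial.2 hc
    omega
  have hdvd : 2 ∣ Nat.card (Subgroup.center ↥Q) := by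
    rw [hm]; exact dvd_pow_self 2 hm0
  obtain ⟨z, hz⟩ := exists_prime_orderOf_dvd_card' 2 hdvd
  have hz1 : z ≠ 1 := by
    rintro rfl
    rw [orderOf_one] at hz
    norm_num at hz
  have hmem : ((z : ↥Q) : G) ∈ omegaCenter Q := by
    refine ⟨(z : ↥Q).2, ?_, ?_⟩
    · rw [Subgroup.mem_centralizer_iff]
      intro q hq
      have := Subgroup.mem_center_iff.1 z.2 ⟨q, hq⟩
      exact congrArg Subtype.val this
    · have h3 : z ^ 2 = 1 := by rw [← hz]; exact pow_orderOf_eq_one z
      have h4 := congrArg (fun w : Subgroup.center ↥Q => ((w : ↥Q) : G)) h3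
      simpa using h4
  intro hbot
  rw [hbot, Subgroup.mem_bot] at hmem
  apply hz1
  apply Subtype.ext
  apply Subtype.ext
  exact hmem

/-- Orbit counting for a `p`-element `x` normalizing a finite subgroup `W`:
`|W| ≡ |C_W(x)|` modulo `p`. -/
theorem card_modEq_of_pElement {W : Subgroup G} [Finite ↥W] {x : G} {r : ℕ}
    [Fact r.Prime] (hH : IsPGroup r ↥(Subgroup.zpowers x))
    (hxW : x ∈ Subgroup.normalizer (W : Set G)) :
    Nat.card ↥W ≡ Nat.card ↥(W ⊓ Subgroup.centralizer ({x} : Set G)) [MOD r] := by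
  have hle : Subgroup.zpowers x ≤ Subgroup.normalizer (W : Set G) := by
    rw [Subgroup.zpowers_le]; exact hxW
  let _ := conjMulAction (Subgroup.zpowers x) W hle
  have h1 := hH.card_modEq_card_fixedPoints ↥W
  have h2 : Nat.card ↥(MulAction.fixedPoints ↥(Subgroup.zpowers x) ↥W) =
      Nat.card ↥(W ⊓ Subgroup.centralizer ({x} : Set G)) := by
    apply Nat.card_congr
    refine
      { toFun := fun w => ⟨(w.1 : G), Subgroup.mem_inf.2 ⟨w.1.2, ?_⟩⟩
        invFun := fun w => ⟨⟨(w : G), (Subgroup.mem_inf.1 w.2).1⟩, ?_⟩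
        left_inv := fun w => rfl
        right_inv := fun w => rfl }
    · rw [Subgroup.mem_centralizer_singleton_iff]
      have := w.2 ⟨x, Subgroup.mem_zpowers x⟩
      have h3 : x * (w.1 : G) * x⁻¹ = (w.1 : G) := congrArg (fun u : ↥W => (u : G)) this
      calc (w.1 : G) * x = (x * (w.1 : G) * x⁻¹) * x := by rw [h3]
        _ = x * (w.1 : G) := by group
    · intro g
      apply Subtype.ext
      show (g : G) * (w : G) * (g : G)⁻¹ = (w : G)
      have hw : (w : G) ∈ Subgroup.centralizer ({x} : Set G) := (Subgroup.mem_inf.1 w.2).2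
      have hzc : Subgroup.zpowers x ≤ Subgroup.centralizer ({(w : G)} : Set G) := by
        rw [Subgroup.zpowers_le, Subgroup.mem_centralizer_singleton_iff]
        exact (Subgroup.mem_centralizer_singleton_iff.1 hw).symm
      have := Subgroup.mem_centralizer_singleton_iff.1 (hzc g.2)
      rw [this]; group
  rwa [h2] at h1

end Cfsg.Agent.Lib.H7.NoE8
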