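import Mathlib
import Cfsg.Agent.Lib.H7.NoE8
import Cfsg.Agent.Lib.H7.CoprimeGen
import Cfsg.Agent.Lib.H1.Fitting
import Cfsg.Agent.S3738

set_option autoImplicit false
open Cfsg

namespace Cfsg.Agent.Lib.H7.NoE8

variable {G : Type*} [Group G] [Finite G]

omit [Finite G] in
theorem isPGroup_zpowers_of_pow_three {x : G} (hx : x ^ 3 = 1) :
    IsPGroup 3 ↥(Subgroup.zpowers x) := by
  intro g
  refine ⟨1, ?_⟩
  obtain ⟨g, hg⟩ := g
  obtain ⟨k, rfl⟩ := Subgroup.mem_zpowers_iff.1 hg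
  apply Subtype.ext
  rw [pow_one, Subgroup.coe_pow]
  show (x ^ k) ^ 3 = 1
  rw [← zpow_natCast, ← zpow_mul, mul_comm, zpow_mul, zpow_natCast, hx, one_zpow]

/-- a `3`-element acting nontrivially on a normal four-group acts without fixed points -/
theorem inf_centralizer_eq_bot_of_four {Z : Subgroup G} (hZ4 : Nat.card Z = 4) {x : G}
    (hx : IsPGroup 3 ↥(Subgroup.zpowers x)) (hxZ : x ∈ Subgroup.normalizer (Z : Set G))
    (hnc : ¬ Z ≤ Subgroup.centralizer ({x} : Set G)) :
    Z ⊓ Subgroup.centralizer ({x} : Set G) = ⊥ := by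
  have h3 : Fact (Nat.Prime 3) := ⟨Nat.prime_three⟩
  have h1 := card_modEq_of_pElement hx hxZ
  rw [hZ4] at h1
  have h2 : Nat.card ↥(Z ⊓ Subgroup.centralizer ({x} : Set G)) ∣ 4 := by
    rw [← hZ4]; exact Subgroup.card_dvd_of_le inf_le_left
  have h4 : Nat.card ↥(Z ⊓ Subgroup.centralizer ({x} : Set G)) ≤ 4 := Nat.le_of_dvd (by norm_num) h2
  have h5 : 0 < Nat.card ↥(Z ⊓ Subgroup.centralizer ({x} : Set G)) := Nat.card_pos
  have h6 : Nat.card ↥(Z ⊓ Subgroup.centralizer ({x} : Set G)) = 1 ∨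
      Nat.card ↥(Z ⊓ Subgroup.centralizer ({x} : Set G)) = 4 := by
    unfold Nat.ModEq at h1
    interval_cases (Nat.card ↥(Z ⊓ Subgroup.centralizer ({x} : Set G))) <;> simp_all
  rcases h6 with h6 | h6
  · exact Subgroup.eq_bot_of_card_eq _ h6
  · exfalso
    apply hnc
    have := Subgroup.eq_of_le_of_card_ge (inf_le_left : Z ⊓ Subgroup.centralizer ({x} : Set G) ≤ Z)
      (by rw [h6, hZ4])
    rw [← this]
    exact inf_le_right

/-- the standing hypotheses for the proof by contradiction -/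
structure Ctx (G : Type*) [Group G] : Prop where
  hne : ∀ E : Subgroup G, IsElementaryAbelian 2 E → Nat.card E ≠ 8
  hchar : Subgroup.centralizer (pCore 2 G : Set G) ≤ pCore 2 G
  hZ4 : Nat.card (omegaCenter (pCore 2 G)) = 4

namespace Ctx

variable (c : Ctx G)
include c

theorem pCore_normal : (pCore 2 G).Normal :=
  have : Fact (Nat.Prime 2) := ⟨Nat.prime_two⟩
  Cfsg.Agent.Lib.H1.pCore_normal 2 G

theorem pCore_isPGroup : IsPGroup 2 ↥(pCore 2 G) :=
  have : Fact (Nat.Prime 2) := ⟨Nat.prime_two⟩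
  Cfsg.Agent.Lib.H1.pCore_isPGroup 2 G

theorem Z_normal : (omegaCenter (pCore 2 G)).Normal :=
  have := c.pCore_normal
  omegaCenter_normal _

/-- involutions of `C_G(Z)` lie in `Z` -/
theorem mem_Z {i : G} (hi : i ^ 2 = 1)
    (hiZ : i ∈ Subgroup.centralizer (omegaCenter (pCore 2 G) : Set G)) :
    i ∈ omegaCenter (pCore 2 G) := by
  apply mem_of_commute c.hne (omegaCenter_isElementaryAbelian _) c.hZ4 hi
  intro a ha
  exact (Subgroup.mem_centralizer_iff.1 hiZ a ha).symm

/-- a `3`-element not centralizing `Z` acts fixed-point-freely on `O₂(G)` -/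
theorem pCore_inf_centralizer_eq_bot {x : G} (hx : IsPGroup 3 ↥(Subgroup.zpowers x))
    (hnc : ¬ omegaCenter (pCore 2 G) ≤ Subgroup.centralizer ({x} : Set G)) :
    pCore 2 G ⊓ Subgroup.centralizer ({x} : Set G) = ⊥ := by
  have h2 : Fact (Nat.Prime 2) := ⟨Nat.prime_two⟩
  have hZn := c.Z_normal
  have hZx : x ∈ Subgroup.normalizer (omegaCenter (pCore 2 G) : Set G) := by
    rw [Subgroup.normalizer_eq_top]; exact Subgroup.mem_top x
  have h1 := inf_centralizer_eq_bot_of_four c.hZ4 hx hZx hnc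
  by_contra hne
  have hP : IsPGroup 2 ↥(pCore 2 G ⊓ Subgroup.centralizer ({x} : Set G)) :=
    c.pCore_isPGroup.to_le inf_le_left
  obtain ⟨m, hm⟩ := IsPGroup.iff_card.1 hP
  have hm0 : m ≠ 0 := by
    rintro rfl
    rw [pow_zero] at hm
    exact hne (Subgroup.eq_bot_of_card_eq _ hm)
  have hdvd : 2 ∣ Nat.card ↥(pCore 2 G ⊓ Subgroup.centralizer ({x} : Set G)) := by
    rw [hm]; exact dvd_pow_self 2 hm0
  obtain ⟨y, hy⟩ := exists_prime_orderOf_dvd_card' 2 hdvd
  have hy1 : (y : G) ≠ 1 := by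
    intro h
    have : y = 1 := Subtype.ext h
    rw [this, orderOf_one] at hy
    norm_num at hy
  have hy2 : (y : G) ^ 2 = 1 := by
    have h3 : y ^ 2 = 1 := by
      have := pow_orderOf_eq_one y
      rwa [hy] at this
    have h4 := congrArg Subtype.val h3
    simpa using h4
  have hyQ : (y : G) ∈ pCore 2 G := (Subgroup.mem_inf.1 y.2).1
  have hyx : (y : G) ∈ Subgroup.centralizer ({x} : Set G) := (Subgroup.mem_inf.1 y.2).2
  have hyZ : (y : G) ∈ omegaCenter (pCore 2 G) :=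
    c.mem_Z hy2 (le_centralizer_omegaCenter _ hyQ)
  have : (y : G) ∈ omegaCenter (pCore 2 G) ⊓ Subgroup.centralizer ({x} : Set G) :=
    Subgroup.mem_inf.2 ⟨hyZ, hyx⟩
  rw [h1, Subgroup.mem_bot] at this
  exact hy1 this

/-- a nonidentity `3`-element not centralizing `Z` has order `3` -/
theorem orderOf_eq_three {x : G} (hx : IsPGroup 3 ↥(Subgroup.zpowers x))
    (hnc : ¬ omegaCenter (pCore 2 G) ≤ Subgroup.centralizer ({x} : Set G)) :
    orderOf x = 3 := by
  have h2 : Fact (Nat.Prime 2) := ⟨Nat.prime_two⟩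
  have h3 : Fact (Nat.Prime 3) := ⟨Nat.prime_three⟩
  have hQn := c.pCore_normal
  obtain ⟨n, hn⟩ := IsPGroup.iff_card.1 hx
  rw [Nat.card_zpowers] at hn
  have hx1 : x ≠ 1 := by
    rintro rfl
    apply hnc
    intro z _
    rw [Subgroup.mem_centralizer_singleton_iff, mul_one, one_mul]
  have hn1 : 1 ≤ n := by
    by_contra h
    have : n = 0 := by omega
    rw [this, pow_zero, orderOf_eq_one_iff] at hn
    exact hx1 hn
  apply Cfsg.Agent.S3738.result x n hn1 hn (pCore 2 G) c.pCore_isPGroup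
  · rw [Subgroup.normalizer_eq_top]; exact Subgroup.mem_top x
  · rw [eq_bot_iff]
    have h4 : Subgroup.zpowers x ⊓ Subgroup.centralizer (pCore 2 G : Set G) ≤
        Subgroup.zpowers x ⊓ pCore 2 G := inf_le_inf_left _ c.hchar
    refine h4.trans ?_
    apply (Subgroup.disjoint_of_coprime_natCard ?_).le_bot
    obtain ⟨k, hk⟩ := IsPGroup.iff_card.1 c.pCore_isPGroup
    rw [Nat.card_zpowers, hn, hk]
    apply Nat.Coprime.pow
    norm_num
  · exact c.pCore_inf_centralizer_eq_bot hx hnc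
  · intro V hV hVc A hAc hA2
    have hE : IsElementaryAbelian 2 (A.map V.subtype) := by
      refine ⟨⟨⟨?_⟩⟩, ?_⟩
      · rintro ⟨_, a, ha, rfl⟩ ⟨_, b, hb, rfl⟩
        apply Subtype.ext
        show V.subtype a * V.subtype b = V.subtype b * V.subtype a
        rw [← map_mul, ← map_mul]
        congr 1
        exact congrArg Subtype.val (hAc.is_comm.comm ⟨a, ha⟩ ⟨b, hb⟩)
      · rintro _ ⟨a, ha, rfl⟩
        rw [← map_pow, hA2 a ha, map_one]
    have := card_le_four c.hne hE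
    rw [Subgroup.card_map_of_injective V.subtype_injective] at this
    norm_num
    exact this

end Ctx

end Cfsg.Agent.Lib.H7.NoE8
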