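import Mathlib
import Cfsg.Agent.Lib.H7.NoE8b

set_option autoImplicit false
open Cfsg

namespace Cfsg.Agent.Lib.H7.NoE8

variable {G : Type*} [Group G] [Finite G]

omit [Finite G] in
/-- Orbit counting for a `p`-subgroup `K` normalizing a finite subgroup `W`. -/
theorem card_modEq_of_pGroup {W K : Subgroup G} [Finite ↥W] {r : ℕ}
    [Fact r.Prime] (hK : IsPGroup r ↥K)
    (hKW : K ≤ Subgroup.normalizer (W : Set G)) :
    Nat.card ↥W ≡ Nat.card ↥(W ⊓ Subgroup.centralizer (K : Set G)) [MOD r] := by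
  let _ := conjMulAction K W hKW
  have h1 := hK.card_modEq_card_fixedPoints ↥W
  have h2 : Nat.card ↥(MulAction.fixedPoints ↥K ↥W) =
      Nat.card ↥(W ⊓ Subgroup.centralizer (K : Set G)) := by
    apply Nat.card_congr
    refine
      { toFun := fun w => ⟨(w.1 : G), Subgroup.mem_inf.2 ⟨w.1.2, ?_⟩⟩
        invFun := fun w => ⟨⟨(w : G), (Subgroup.mem_inf.1 w.2).1⟩, ?_⟩
        left_inv := fun w => rfl
        right_inv := fun w => rfl }
    · rw [Subgroup.mem_centralizer_iff]
      intro k hk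
      have := w.2 ⟨k, hk⟩
      have h3 : k * (w.1 : G) * k⁻¹ = (w.1 : G) := congrArg (fun u : ↥W => (u : G)) this
      calc k * (w.1 : G) = (k * (w.1 : G) * k⁻¹) * k := by group
        _ = (w.1 : G) * k := by rw [h3]
    · intro g
      apply Subtype.ext
      show (g : G) * (w : G) * (g : G)⁻¹ = (w : G)
      have hw : (w : G) ∈ Subgroup.centralizer (K : Set G) := (Subgroup.mem_inf.1 w.2).2
      have := Subgroup.mem_centralizer_iff.1 hw g g.2
      rw [this]; group
  rwa [h2] at h1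

omit [Finite G] in
theorem mem_normalizer_of_forall {N : Subgroup G} {d : G}
    (h1 : ∀ n ∈ N, d * n * d⁻¹ ∈ N) (h2 : ∀ n ∈ N, d⁻¹ * n * d ∈ N) :
    d ∈ Subgroup.normalizer (N : Set G) := by
  rw [Subgroup.mem_normalizer_iff]
  intro n
  refine ⟨h1 n, fun h => ?_⟩
  have := h2 _ h
  have e : d⁻¹ * (d * n * d⁻¹) * d = n := by group
  rwa [e] at this

namespace Ctx

variable (c : Ctx G)
include c

/-- a `3`-element commuting with an involution centralizes `Z` -/
theorem centralizes_Z_of_commute_involution {s t : G} (hs3 : s ^ 3 = 1) (ht2 : t ^ 2 = 1)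
    (ht1 : t ≠ 1) (hst : s * t = t * s) :
    omegaCenter (pCore 2 G) ≤ Subgroup.centralizer ({s} : Set G) := by
  have h2 : Fact (Nat.Prime 2) := ⟨Nat.prime_two⟩
  have h3 : Fact (Nat.Prime 3) := ⟨Nat.prime_three⟩
  have hZn := c.Z_normal
  by_contra hnc
  have hsp := isPGroup_zpowers_of_pow_three hs3
  have htp : IsPGroup 2 ↥(Subgroup.zpowers t) := by
    apply IsPGroup.of_card (n := 1)
    rw [Nat.card_zpowers, pow_one]
    exact orderOf_eq_prime ht2 ht1
  have hall : ∀ x : G, x ∈ Subgroup.normalizer (omegaCenter (pCore 2 G) : Set G) := by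
    intro x
    rw [Subgroup.normalizer_eq_top]; exact Subgroup.mem_top x
  have h1 := inf_centralizer_eq_bot_of_four c.hZ4 hsp (hall s) hnc
  set Z₀ := omegaCenter (pCore 2 G) ⊓ Subgroup.centralizer ({t} : Set G) with hZ₀
  have hsZ₀ : s ∈ Subgroup.normalizer (Z₀ : Set G) := by
    apply mem_normalizer_of_forall
    · intro n hn
      refine Subgroup.mem_inf.2 ⟨hZn.conj_mem n (Subgroup.mem_inf.1 hn).1 s, ?_⟩
      have hnt := Subgroup.mem_centralizer_singleton_iff.1 (Subgroup.mem_inf.1 hn).2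
      rw [Subgroup.mem_centralizer_singleton_iff]
      have hst' : s⁻¹ * t = t * s⁻¹ := by
        calc s⁻¹ * t = s⁻¹ * (t * s) * s⁻¹ := by group
          _ = s⁻¹ * (s * t) * s⁻¹ := by rw [hst]
          _ = t * s⁻¹ := by group
      calc s * n * s⁻¹ * t = s * n * (s⁻¹ * t) := by group
        _ = s * n * (t * s⁻¹) := by rw [hst']
        _ = s * (n * t) * s⁻¹ := by group
        _ = s * (t * n) * s⁻¹ := by rw [hnt]
        _ = (s * t) * n * s⁻¹ := by group
        _ = (t * s) * n * s⁻¹ := by rw [hst]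
        _ = t * (s * n * s⁻¹) := by group
    · intro n hn
      have hmem : s⁻¹ * n * s ∈ omegaCenter (pCore 2 G) := by
        have := hZn.conj_mem n (Subgroup.mem_inf.1 hn).1 s⁻¹
        rwa [inv_inv] at this
      refine Subgroup.mem_inf.2 ⟨hmem, ?_⟩
      have hnt := Subgroup.mem_centralizer_singleton_iff.1 (Subgroup.mem_inf.1 hn).2
      rw [Subgroup.mem_centralizer_singleton_iff]
      have hst' : s⁻¹ * t = t * s⁻¹ := by
        calc s⁻¹ * t = s⁻¹ * (t * s) * s⁻¹ := by group
          _ = s⁻¹ * (s * t) * s⁻¹ := by rw [hst]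
          _ = t * s⁻¹ := by group
      calc s⁻¹ * n * s * t = s⁻¹ * n * (s * t) := by group
        _ = s⁻¹ * n * (t * s) := by rw [hst]
        _ = s⁻¹ * (n * t) * s := by group
        _ = s⁻¹ * (t * n) * s := by rw [hnt]
        _ = (s⁻¹ * t) * n * s := by group
        _ = (t * s⁻¹) * n * s := by rw [hst']
        _ = t * (s⁻¹ * n * s) := by group
  -- counting
  have hc3 := card_modEq_of_pElement hsp hsZ₀
  have hle : Z₀ ⊓ Subgroup.centralizer ({s} : Set G) ≤
      omegaCenter (pCore 2 G) ⊓ Subgroup.centralizer ({s} : Set G) :=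
    inf_le_inf_right _ inf_le_left
  rw [h1, le_bot_iff] at hle
  rw [hle, Subgroup.card_bot] at hc3
  have hc2 := card_modEq_of_pElement htp (hall t)
  rw [c.hZ4, ← hZ₀] at hc2
  have hdvd : Nat.card ↥Z₀ ∣ 4 := by
    rw [← c.hZ4]; exact Subgroup.card_dvd_of_le inf_le_left
  have hle4 : Nat.card ↥Z₀ ≤ 4 := Nat.le_of_dvd (by norm_num) hdvd
  have hpos : 0 < Nat.card ↥Z₀ := Nat.card_pos
  have h4 : Nat.card ↥Z₀ = 4 := by
    unfold Nat.ModEq at hc2 hc3
    interval_cases (Nat.card ↥Z₀) <;> simp_all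
  have hZt : omegaCenter (pCore 2 G) ≤ Subgroup.centralizer ({t} : Set G) := by
    have := Subgroup.eq_of_le_of_card_ge (inf_le_left : Z₀ ≤ omegaCenter (pCore 2 G))
      (by rw [h4, c.hZ4])
    rw [← this]
    exact inf_le_right
  have htZ : t ∈ omegaCenter (pCore 2 G) := by
    apply c.mem_Z ht2
    rw [Subgroup.mem_centralizer_iff]
    intro z hz
    exact Subgroup.mem_centralizer_singleton_iff.1 (hZt hz)
  have : t ∈ omegaCenter (pCore 2 G) ⊓ Subgroup.centralizer ({s} : Set G) :=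
    Subgroup.mem_inf.2 ⟨htZ, Subgroup.mem_centralizer_singleton_iff.2 hst.symm⟩
  rw [h1, Subgroup.mem_bot] at this
  exact ht1 this

end Ctx

end Cfsg.Agent.Lib.H7.NoE8
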