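import Mathlib
import Cfsg.Agent.Lib.H8.SUN1

/-!
# Matrix lemmas on upper unitriangular matrices (helper7, for helper8's S2282)

R1 `regular_of_unitriangular`, R2 `unitri_mul`, R4 `cyclic_mid`.
-/

set_option autoImplicit false

namespace Cfsg.Agent.Lib.H7.SunR

open Matrix

variable {F : Type*} [Field F]

/-- powers of a strictly upper triangular matrix vanish below the `k`-th superdiagonal -/
theorem pow_apply_eq_zero {n : ℕ} (N : Matrix (Fin n) (Fin n) F)
    (hN : ∀ i j : Fin n, j ≤ i → N i j = 0) :
    ∀ (k : ℕ) (i j : Fin n), (j : ℕ) < (i : ℕ) + k → (N ^ k) i j = 0 := by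
  intro k
  induction k with
  | zero =>
    intro i j h
    rw [pow_zero, Matrix.one_apply, if_neg]
    intro hij
    rw [hij] at h
    omega
  | succ k ih =>
    intro i j h
    rw [pow_succ, Matrix.mul_apply]
    apply Finset.sum_eq_zero
    intro l _
    by_cases hl : (l : ℕ) < (i : ℕ) + k
    · rw [ih i l hl, zero_mul]
    · have : j ≤ l := by
        rw [Fin.le_def]; omega
      rw [hN l j this, mul_zero]

/-- the `k`-th superdiagonal of the `k`-th power of a strictly upper triangular matrix with
nonzero first superdiagonal is nonzero -/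
theorem pow_apply_ne_zero {n : ℕ} (N : Matrix (Fin n) (Fin n) F)
    (hN : ∀ i j : Fin n, j ≤ i → N i j = 0)
    (h3 : ∀ i j : Fin n, (j : ℕ) = (i : ℕ) + 1 → N i j ≠ 0) :
    ∀ (k : ℕ) (i j : Fin n), (j : ℕ) = (i : ℕ) + k → (N ^ k) i j ≠ 0 := by
  intro k
  induction k with
  | zero =>
    intro i j h
    have : i = j := Fin.ext (by omega)
    rw [pow_zero, this, Matrix.one_apply_eq]
    exact one_ne_zero
  | succ k ih =>
    intro i j h
    have hi' : (i : ℕ) + 1 < n := by have := j.2; omega
    rw [pow_succ', Matrix.mul_apply, Finset.sum_eq_single (⟨(i : ℕ) + 1, hi'⟩ : Fin n)]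
    · apply mul_ne_zero
      · exact h3 i _ rfl
      · apply ih
        simp only
        omega
    · intro l _ hl
      by_cases hli : l ≤ i
      · rw [hN i l hli, zero_mul]
      · have h1 : (i : ℕ) < l := by
          rw [Fin.le_def] at hli; omega
        have h2 : (l : ℕ) ≠ (i : ℕ) + 1 := by
          intro h'
          apply hl
          exact Fin.ext h'
        rw [pow_apply_eq_zero N hN k l j (by omega), mul_zero]
    · intro h'
      exact absurd (Finset.mem_univ _) h'

/-- **R1**: an upper unitriangular matrix with nowhere vanishing first superdiagonal is a regular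
unipotent element. (For `n = 0` the matrix ring is trivial, hence the hypothesis `0 < n`.) -/
theorem regular_of_unitriangular {n : ℕ} (hn : 0 < n) (M : Matrix (Fin n) (Fin n) F)
    (h1 : ∀ i j : Fin n, j < i → M i j = 0) (h2 : ∀ i, M i i = 1)
    (h3 : ∀ i j : Fin n, (j : ℕ) = (i : ℕ) + 1 → M i j ≠ 0) :
    IsNilpotent (M - 1) ∧ (M - 1) ^ (n - 1) ≠ 0 := by
  have hN : ∀ i j : Fin n, j ≤ i → (M - 1) i j = 0 := by
    intro i j hji
    rw [Matrix.sub_apply]
    rcases lt_or_eq_of_le hji with h | h
    · rw [h1 i j h, Matrix.one_apply_ne (ne_of_gt h), sub_zero]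
    · rw [h, h2, Matrix.one_apply_eq, sub_self]
  have h3' : ∀ i j : Fin n, (j : ℕ) = (i : ℕ) + 1 → (M - 1) i j ≠ 0 := by
    intro i j hij
    rw [Matrix.sub_apply, Matrix.one_apply_ne, sub_zero]
    · exact h3 i j hij
    · intro h
      rw [h] at hij
      omega
  refine ⟨⟨n, ?_⟩, ?_⟩
  · ext i j
    rw [Matrix.zero_apply]
    apply pow_apply_eq_zero _ hN
    have := j.2
    omega
  · intro h
    have := pow_apply_ne_zero _ hN h3' (n - 1) ⟨0, hn⟩ ⟨n - 1, by omega⟩ (by simp)
    rw [h] at this
    exact this rfl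

/-- **R2**: the product of two upper unitriangular matrices is upper unitriangular, and the first
superdiagonals add. -/
theorem unitri_mul {n : ℕ} (A B : Matrix (Fin n) (Fin n) F)
    (hA1 : ∀ i j : Fin n, j < i → A i j = 0) (hA2 : ∀ i, A i i = 1)
    (hB1 : ∀ i j : Fin n, j < i → B i j = 0) (hB2 : ∀ i, B i i = 1) :
    (∀ i j : Fin n, j < i → (A * B) i j = 0) ∧ (∀ i, (A * B) i i = 1) ∧
      (∀ i j : Fin n, (j : ℕ) = (i : ℕ) + 1 → (A * B) i j = A i j + B i j) := by
  refine ⟨?_, ?_, ?_⟩
  · intro i j hji
    rw [Matrix.mul_apply]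
    apply Finset.sum_eq_zero
    intro l _
    by_cases hl : l < i
    · rw [hA1 i l hl, zero_mul]
    · have : j < l := lt_of_lt_of_le hji (not_lt.mp hl)
      rw [hB1 l j this, mul_zero]
  · intro i
    rw [Matrix.mul_apply, Finset.sum_eq_single i]
    · rw [hA2, hB2, mul_one]
    · intro l _ hl
      rcases lt_or_gt_of_ne hl with h | h
      · rw [hA1 i l h, zero_mul]
      · rw [hB1 l i h, mul_zero]
    · intro h
      exact absurd (Finset.mem_univ _) h
  · intro i j hij
    have hne : i ≠ j := by
      intro h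
      rw [h] at hij
      omega
    rw [Matrix.mul_apply, Finset.sum_eq_add i j hne]
    · rw [hA2, hB2, one_mul, mul_one, add_comm]
    · intro l _ hl
      by_cases h : l < i
      · rw [hA1 i l h, zero_mul]
      · have h1 : (i : ℕ) < l := by
          have := hl.1
          have h' : i ≤ l := not_lt.mp h
          rw [Fin.le_def] at h'
          have : (l : ℕ) ≠ i := fun h'' => hl.1 (Fin.ext h'')
          omega
        have h2 : j < l := by
          rw [Fin.lt_def]
          have : (l : ℕ) ≠ j := fun h'' => hl.2 (Fin.ext h'')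
          omega
        rw [hB1 l j h2, mul_zero]
    · intro h
      exact absurd (Finset.mem_univ _) h
    · intro h
      exact absurd (Finset.mem_univ _) h

end Cfsg.Agent.Lib.H7.SunR
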