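import Mathlib
import Cfsg.Agent.Lib.H7.SunR1

/-!
# R4 `cyclic_mid` (helper7, for helper8's S2282)
-/

set_option autoImplicit false

namespace Cfsg.Agent.Lib.H7.SunR

open Matrix

variable {F : Type*} [Field F]

/-- middle version of `pow_apply_ne_zero` -/
theorem pow_apply_ne_zero_mid {n r : ℕ} (N : Matrix (Fin n) (Fin n) F)
    (hN : ∀ i j : Fin n, j ≤ i → N i j = 0)
    (h3 : ∀ i j : Fin n, r ≤ (i : ℕ) → (j : ℕ) = (i : ℕ) + 1 → (j : ℕ) + r < n → N i j ≠ 0) :
    ∀ (k : ℕ) (i j : Fin n), r ≤ (i : ℕ) → (j : ℕ) = (i : ℕ) + k → (j : ℕ) + r < n →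
      (N ^ k) i j ≠ 0 := by
  intro k
  induction k with
  | zero =>
    intro i j _ h _
    have : i = j := Fin.ext (by omega)
    rw [pow_zero, this, Matrix.one_apply_eq]
    exact one_ne_zero
  | succ k ih =>
    intro i j hri h hjr
    have hi' : (i : ℕ) + 1 < n := by have := j.2; omega
    rw [pow_succ', Matrix.mul_apply, Finset.sum_eq_single (⟨(i : ℕ) + 1, hi'⟩ : Fin n)]
    · apply mul_ne_zero
      · apply h3 i _ hri rfl
        simp only
        omega
      · apply ih
        · simp only
          omega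
        · simp only
          omega
        · exact hjr
    · intro l _ hl
      by_cases hli : l ≤ i
      · rw [hN i l hli, zero_mul]
      · have h1 : (i : ℕ) < l := by
          rw [Fin.le_def] at hli; omega
        have h2 : (l : ℕ) ≠ (i : ℕ) + 1 := by
          intro h'
          apply hl
          exact Fin.ext h'
        rw [pow_apply_eq_zero N hN k l j (by omega), mul_zero]
    · intro h'
      exact absurd (Finset.mem_univ _) h'

/-- **R4**: a `C`-invariant-orbit argument: if `C` is upper unitriangular, acts only on the middle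
indices `r ≤ i < n - r` with nonzero superdiagonal there, and `a` is a middle vector with nonzero
last middle coordinate, then every subspace containing all `C ^ k *ᵥ a` contains every middle
vector. -/
theorem cyclic_mid {n r : ℕ} (C : Matrix (Fin n) (Fin n) F)
    (hC1 : ∀ i j : Fin n, j < i → C i j = 0) (hC2 : ∀ i, C i i = 1)
    (hC3 : ∀ i j : Fin n, ((i : ℕ) < r ∨ n ≤ (i : ℕ) + r) → i ≠ j → C i j = 0 ∧ C j i = 0)
    (hC4 : ∀ i j : Fin n, r ≤ (i : ℕ) → (j : ℕ) = (i : ℕ) + 1 → (j : ℕ) + r < n → C i j ≠ 0)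
    (a : Fin n → F) (ha0 : ∀ i : Fin n, ((i : ℕ) < r ∨ n ≤ (i : ℕ) + r) → a i = 0)
    (ha1 : ∀ i : Fin n, (i : ℕ) + r + 1 = n → a i ≠ 0)
    (W : Submodule F (Fin n → F)) (hW : ∀ k : ℕ, (C ^ k) *ᵥ a ∈ W)
    (b : Fin n → F) (hb : ∀ i : Fin n, ((i : ℕ) < r ∨ n ≤ (i : ℕ) + r) → b i = 0) : b ∈ W := by
  have hN : ∀ i j : Fin n, j ≤ i → (C - 1) i j = 0 := by
    intro i j hji
    rw [Matrix.sub_apply]
    rcases lt_or_eq_of_le hji with h | h
    · rw [hC1 i j h, Matrix.one_apply_ne (ne_of_gt h), sub_zero]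
    · rw [h, hC2, Matrix.one_apply_eq, sub_self]
  have h3' : ∀ i j : Fin n, r ≤ (i : ℕ) → (j : ℕ) = (i : ℕ) + 1 → (j : ℕ) + r < n →
      (C - 1) i j ≠ 0 := by
    intro i j hri hij hjr
    rw [Matrix.sub_apply, Matrix.one_apply_ne, sub_zero]
    · exact hC4 i j hri hij hjr
    · intro h
      rw [h] at hij
      omega
  -- rows of `C - 1` outside the middle (low part) vanish
  have hrow : ∀ i j : Fin n, (i : ℕ) < r → (C - 1) i j = 0 := by
    intro i j hi
    by_cases hij : i = j
    · rw [← hij, Matrix.sub_apply, hC2, Matrix.one_apply_eq, sub_self]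
    · rw [Matrix.sub_apply, (hC3 i j (Or.inl hi) hij).1, Matrix.one_apply_ne hij, sub_zero]
  -- Step 1: all `(C - 1) ^ k *ᵥ a` lie in `W`
  have hstep : ∀ k j : ℕ, ((C - 1) ^ k) *ᵥ ((C ^ j) *ᵥ a) ∈ W := by
    intro k
    induction k with
    | zero =>
      intro j
      rw [pow_zero, Matrix.one_mulVec]
      exact hW j
    | succ k ih =>
      intro j
      have h1 : ((C - 1) ^ (k + 1)) *ᵥ ((C ^ j) *ᵥ a)
          = ((C - 1) ^ k) *ᵥ ((C ^ (j + 1)) *ᵥ a) - ((C - 1) ^ k) *ᵥ ((C ^ j) *ᵥ a) := by
        have h2 : C *ᵥ ((C ^ j) *ᵥ a) = (C ^ (j + 1)) *ᵥ a := by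
          rw [Matrix.mulVec_mulVec, ← pow_succ']
        rw [pow_succ, ← Matrix.mulVec_mulVec, Matrix.sub_mulVec, Matrix.one_mulVec,
          Matrix.mulVec_sub, h2]
      rw [h1]
      exact W.sub_mem (ih (j + 1)) (ih j)
  have hv : ∀ k : ℕ, ((C - 1) ^ k) *ᵥ a ∈ W := by
    intro k
    have := hstep k 0
    rwa [pow_zero, Matrix.one_mulVec] at this
  -- Step 2: shape of `v k = (C - 1) ^ k *ᵥ a`
  have hv_low : ∀ (k : ℕ) (i : Fin n), (i : ℕ) < r → (((C - 1) ^ k) *ᵥ a) i = 0 := by
    intro k i hi
    cases k with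
    | zero =>
      rw [pow_zero, Matrix.one_mulVec]
      exact ha0 i (Or.inl hi)
    | succ k =>
      rw [pow_succ', ← Matrix.mulVec_mulVec]
      rw [Matrix.mulVec, dotProduct]
      apply Finset.sum_eq_zero
      intro l _
      rw [hrow i l hi, zero_mul]
  have hv_high : ∀ (k : ℕ) (i : Fin n), n < (i : ℕ) + k + r + 1 →
      (((C - 1) ^ k) *ᵥ a) i = 0 := by
    intro k i hi
    rw [Matrix.mulVec, dotProduct]
    apply Finset.sum_eq_zero
    intro l _
    by_cases hl : (l : ℕ) < (i : ℕ) + k
    · rw [pow_apply_eq_zero _ hN k i l hl, zero_mul]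
    · rw [ha0 l (Or.inr (by omega)), mul_zero]
  have hv_lead : ∀ (k : ℕ) (i : Fin n), r ≤ (i : ℕ) → (i : ℕ) + k + r + 1 = n →
      (((C - 1) ^ k) *ᵥ a) i ≠ 0 := by
    intro k i hri hi
    have hj0 : (i : ℕ) + k < n := by omega
    rw [Matrix.mulVec, dotProduct, Finset.sum_eq_single (⟨(i : ℕ) + k, hj0⟩ : Fin n)]
    · apply mul_ne_zero
      · apply pow_apply_ne_zero_mid _ hN h3' k i _ hri rfl
        simp only
        omega
      · apply ha1
        simp only
        omega
    · intro l _ hl
      by_cases hl' : (l : ℕ) < (i : ℕ) + k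
      · rw [pow_apply_eq_zero _ hN k i l hl', zero_mul]
      · have : (l : ℕ) ≠ (i : ℕ) + k := fun h => hl (Fin.ext h)
        rw [ha0 l (Or.inr (by omega)), mul_zero]
    · intro h
      exact absurd (Finset.mem_univ _) h
  -- Step 3: triangular induction
  have key : ∀ s : ℕ, s + r ≤ n → ∀ b : Fin n → F,
      (∀ i : Fin n, ((i : ℕ) < r ∨ s ≤ (i : ℕ)) → b i = 0) → b ∈ W := by
    intro s
    induction s with
    | zero =>
      intro _ b hb
      have : b = 0 := by
        funext i
        exact hb i (Or.inr (Nat.zero_le _))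
      rw [this]
      exact W.zero_mem
    | succ s ih =>
      intro hs b hb
      by_cases hsr : s < r
      · have : b = 0 := by
          funext i
          by_cases hi : (i : ℕ) < r
          · exact hb i (Or.inl hi)
          · exact hb i (Or.inr (by omega))
        rw [this]
        exact W.zero_mem
      · have hsn : s < n := by omega
        set is : Fin n := ⟨s, hsn⟩ with his
        set k := n - r - 1 - s with hk
        have hk' : s + k + r + 1 = n := by omega
        obtain ⟨v, hvdef⟩ : ∃ v, v = ((C - 1) ^ k) *ᵥ a := ⟨_, rfl⟩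
        have hvW : v ∈ W := by rw [hvdef]; exact hv k
        have hvl : ∀ i : Fin n, (i : ℕ) < r → v i = 0 := by
          intro i hi; rw [hvdef]; exact hv_low k i hi
        have hvh : ∀ i : Fin n, s < (i : ℕ) → v i = 0 := by
          intro i hi; rw [hvdef]; exact hv_high k i (by omega)
        have hvs : v is ≠ 0 := by
          rw [hvdef]
          exact hv_lead k is (by simp only [his]; omega) (by simp only [his]; omega)
        obtain ⟨c, hc⟩ : ∃ c, c = b is / v is := ⟨_, rfl⟩
        have hb' : b - c • v ∈ W := by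
          apply ih (by omega)
          intro i hi
          rw [Pi.sub_apply, Pi.smul_apply, smul_eq_mul]
          rcases hi with hi | hi
          · rw [hb i (Or.inl hi), hvl i hi, mul_zero, sub_zero]
          · by_cases his' : (i : ℕ) = s
            · have : i = is := Fin.ext his'
              rw [this, hc, div_mul_cancel₀ _ hvs, sub_self]
            · rw [hb i (Or.inr (by omega)), hvh i (by omega), mul_zero, sub_zero]
        have : b = (b - c • v) + c • v := by abel
        rw [this]
        exact W.add_mem hb' (W.smul_mem c hvW)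
  by_cases hrn : r ≤ n
  · apply key (n - r) (by omega) b
    intro i hi
    apply hb
    rcases hi with hi | hi
    · exact Or.inl hi
    · exact Or.inr (by omega)
  · have : b = 0 := by
      funext i
      apply hb i (Or.inl _)
      have := i.2
      omega
    rw [this]
    exact W.zero_mem

end Cfsg.Agent.Lib.H7.SunR
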