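import Mathlib
import Cfsg.Agent.Lib.H7.SunR2
import Cfsg.Agent.Lib.H8.SUN3

/-!
# The middle frame: entry formulas, `regular_mid`, `span_mid` (helper7, for helper8's S2282)

Everything is stated for a frame matrix `P` satisfying the entry formula `MidEntries` of helper8's
`midP` (so that it instantiates by `fun _ _ => rfl`).
-/

set_option autoImplicit false

namespace Cfsg.Agent.Lib.H7.SunR

open Matrix Cfsg.Agent.Lib.H8.SUN

variable {F : Type*} [Field F]

/-- the entry formula of the middle frame matrix: columns `e_0..e_(r-1)`, `ω e_r + e_(n-1-r)`,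
`e_(n-r)..e_(n-1)` -/
def MidEntries (ω : F) (n r k : ℕ) (P : Matrix (Fin n) (Fin k) F) : Prop :=
  ∀ (l : Fin n) (j : Fin k), P l j =
    if (j : ℕ) < r then (if (l : ℕ) = j then 1 else 0)
    else if (j : ℕ) = r then (if (l : ℕ) = r then ω else if (l : ℕ) + r + 1 = n then 1 else 0)
    else (if (l : ℕ) + k = n + j then 1 else 0)

/-- the collapsing map `Fin n → Fin k` (outer indices to outer indices, the middle to `r`) -/
def midIdx (n r k : ℕ) (hk : k = 2 * r + 1) (a : Fin n) : Fin k :=
  ⟨if (a : ℕ) < r then (a : ℕ) else if (a : ℕ) + r < n then r else (a : ℕ) + k - n, by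
    have := a.2
    split_ifs <;> omega⟩

theorem midIdx_val (n r k : ℕ) (hk : k = 2 * r + 1) (a : Fin n) :
    ((midIdx n r k hk a : Fin k) : ℕ) =
      if (a : ℕ) < r then (a : ℕ) else if (a : ℕ) + r < n then r else (a : ℕ) + k - n := rfl

section

variable {ω : F} {n r k : ℕ} (hk : k = 2 * r + 1) (hnk : k < n)
  {P : Matrix (Fin n) (Fin k) F} (hP : MidEntries ω n r k P)

include hnk hP in
theorem P_eq_zero (a : Fin n) (i : Fin k) (h : i ≠ midIdx n r k hk a) : P a i = 0 := by
  have h' : (i : ℕ) ≠ (midIdx n r k hk a : ℕ) := fun e => h (Fin.ext e)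
  rw [midIdx_val] at h'
  rw [hP]
  have := a.2
  have := i.2
  split_ifs at h' ⊢ <;> first | rfl | omega

include hnk hP in
theorem P_outer (a : Fin n) (h : (a : ℕ) < r ∨ n ≤ (a : ℕ) + r) :
    P a (midIdx n r k hk a) = 1 := by
  rw [hP, midIdx_val]
  have := a.2
  split_ifs <;> first | rfl | omega

include hnk hP in
theorem P_last (a : Fin n) (h : (a : ℕ) + r + 1 = n) :
    P a (midIdx n r k hk a) = 1 := by
  rw [hP, midIdx_val]
  have := a.2
  split_ifs <;> first | rfl | omega

omit hnk in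
include hk hP in
theorem P_mid (a : Fin n) (h1 : r ≤ (a : ℕ)) (h2 : (a : ℕ) + r < n) (j : Fin k)
    (hj : (j : ℕ) ≠ r) : P a j = 0 := by
  rw [hP]
  have := a.2
  have := j.2
  split_ifs <;> first | rfl | omega

end

section

variable {σ : F →+* F} {ω : F} {n r k : ℕ} (hk : k = 2 * r + 1) (hnk : k < n)
  (fr : SubFrame σ n k) (hP : MidEntries ω n r k fr.P)

include hnk hP in
theorem Ps_eq_zero (j : Fin k) (b : Fin n) (h : j ≠ midIdx n r k hk b) : fr.Ps j b = 0 := by
  have h' : (j : ℕ) ≠ (midIdx n r k hk b : ℕ) := fun e => h (Fin.ext e)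
  rw [midIdx_val] at h'
  rw [fr.Ps_apply, hP]
  have := b.2
  have := j.2
  simp only [Fin.val_rev]
  split_ifs at h' ⊢ <;> first | exact map_zero σ | omega

include hnk hP in
theorem Ps_outer (b : Fin n) (h : (b : ℕ) < r ∨ n ≤ (b : ℕ) + r) :
    fr.Ps (midIdx n r k hk b) b = 1 := by
  rw [fr.Ps_apply, hP]
  have := b.2
  simp only [Fin.val_rev, midIdx_val]
  split_ifs <;> first | exact map_one σ | omega

include hnk hP in
theorem Ps_first (b : Fin n) (h : (b : ℕ) = r) :
    fr.Ps (midIdx n r k hk b) b = 1 := by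
  rw [fr.Ps_apply, hP]
  have := b.2
  simp only [Fin.val_rev, midIdx_val]
  split_ifs <;> first | exact map_one σ | omega

include hnk hP in
/-- the entries of `P X P⋆` -/
theorem mul_entries (X : Matrix (Fin k) (Fin k) F) (a b : Fin n) :
    (fr.P * X * fr.Ps) a b =
      fr.P a (midIdx n r k hk a) * X (midIdx n r k hk a) (midIdx n r k hk b) *
        fr.Ps (midIdx n r k hk b) b := by
  rw [Matrix.mul_apply, Finset.sum_eq_single (midIdx n r k hk b)]
  · rw [Matrix.mul_apply, Finset.sum_eq_single (midIdx n r k hk a)]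
    · intro i _ hi
      rw [P_eq_zero hk hnk hP a i hi, zero_mul]
    · intro h
      exact absurd (Finset.mem_univ _) h
  · intro j _ hj
    rw [Ps_eq_zero hk hnk fr hP j b hj, mul_zero]
  · intro h
    exact absurd (Finset.mem_univ _) h

theorem midIdx_mono {a b : Fin n} (h : b ≤ a) : midIdx n r k hk b ≤ midIdx n r k hk a := by
  rw [Fin.le_def] at h ⊢
  rw [midIdx_val, midIdx_val]
  have := a.2
  split_ifs <;> omega

include hk hnk hP in
/-- **L2** (generic frame version): the product of the embedded regular unipotent of the middle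
frame with a middle matrix `C` is a regular unipotent element. -/
theorem regular_mid_gen (xk : Matrix (Fin k) (Fin k) F)
    (hx1 : ∀ i j, j < i → xk i j = 0) (hx2 : ∀ i, xk i i = 1)
    (hx3 : ∀ i j : Fin k, (j : ℕ) = (i : ℕ) + 1 → xk i j ≠ 0)
    (C : Matrix (Fin n) (Fin n) F)
    (hC1 : ∀ i j : Fin n, j < i → C i j = 0) (hC2 : ∀ i, C i i = 1)
    (hC3 : ∀ i j : Fin n, ((i : ℕ) < r ∨ n ≤ (i : ℕ) + r) → i ≠ j → C i j = 0 ∧ C j i = 0)
    (hC4 : ∀ i j : Fin n, r ≤ (i : ℕ) → (j : ℕ) = (i : ℕ) + 1 → (j : ℕ) + r < n → C i j ≠ 0) :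
    IsNilpotent (fr.emb xk * C - 1) ∧ (fr.emb xk * C - 1) ^ (n - 1) ≠ 0 := by
  have hX : ∀ i j : Fin k, j ≤ i → (xk - 1) i j = 0 := by
    intro i j hji
    rw [Matrix.sub_apply]
    rcases lt_or_eq_of_le hji with h | h
    · rw [hx1 i j h, Matrix.one_apply_ne (ne_of_gt h), sub_zero]
    · rw [h, hx2, Matrix.one_apply_eq, sub_self]
  have hE : ∀ a b : Fin n, fr.emb xk a b = (1 : Matrix (Fin n) (Fin n) F) a b +
      fr.P a (midIdx n r k hk a) * (xk - 1) (midIdx n r k hk a) (midIdx n r k hk b) *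
        fr.Ps (midIdx n r k hk b) b := by
    intro a b
    unfold SubFrame.emb
    rw [Matrix.add_apply, mul_entries hk hnk fr hP]
  have hE1 : ∀ a b : Fin n, b < a → fr.emb xk a b = 0 := by
    intro a b hba
    rw [hE, Matrix.one_apply_ne (ne_of_gt hba), hX _ _ (midIdx_mono hk (le_of_lt hba)), mul_zero,
      zero_mul, add_zero]
  have hE2 : ∀ a : Fin n, fr.emb xk a a = 1 := by
    intro a
    rw [hE, Matrix.one_apply_eq, hX _ _ (le_refl _), mul_zero, zero_mul, add_zero]
  obtain ⟨h1, h2, h3⟩ := unitri_mul (fr.emb xk) C hE1 hE2 hC1 hC2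
  have hn : 0 < n := by omega
  refine regular_of_unitriangular hn _ h1 h2 ?_
  intro a b hab
  have hne : a ≠ b := by
    intro h
    rw [h] at hab
    omega
  rw [h3 a b hab, hE, Matrix.one_apply_ne hne, zero_add]
  have ha := a.2
  have hb := b.2
  by_cases hmid : r ≤ (a : ℕ) ∧ (b : ℕ) + r < n
  · -- a middle superdiagonal position: supplied by `C`
    have hfab : midIdx n r k hk b = midIdx n r k hk a := by
      apply Fin.ext
      rw [midIdx_val, midIdx_val]
      split_ifs <;> omega
    rw [hfab, hX _ _ (le_refl _), mul_zero, zero_mul, zero_add]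
    exact hC4 a b hmid.1 hab hmid.2
  · -- an outer superdiagonal position: supplied by `xk`
    have hCab : C a b = 0 := by
      by_cases har : (a : ℕ) < r
      · exact (hC3 a b (Or.inl har) hne).1
      · exact (hC3 b a (Or.inr (by omega)) (Ne.symm hne)).2
    rw [hCab, add_zero]
    have hfab : ((midIdx n r k hk b : Fin k) : ℕ) = (midIdx n r k hk a : ℕ) + 1 := by
      rw [midIdx_val, midIdx_val]
      split_ifs <;> omega
    have hPa : fr.P a (midIdx n r k hk a) = 1 := by
      by_cases h : (a : ℕ) < r ∨ n ≤ (a : ℕ) + r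
      · exact P_outer hk hnk hP a h
      · exact P_last hk hnk hP a (by omega)
    have hPb : fr.Ps (midIdx n r k hk b) b = 1 := by
      by_cases h : (b : ℕ) < r ∨ n ≤ (b : ℕ) + r
      · exact Ps_outer hk hnk fr hP b h
      · exact Ps_first hk hnk fr hP b (by omega)
    rw [hPa, hPb, one_mul, mul_one, Matrix.sub_apply, Matrix.one_apply_ne, sub_zero]
    · exact hx3 _ _ hfab
    · intro h
      rw [h] at hfab
      omega

end

/-- the position of the `j`-th frame vector -/
def midPos (n r k : ℕ) (hnk : k < n) (j : Fin k) : Fin n :=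
  ⟨if (j : ℕ) < r then (j : ℕ) else (j : ℕ) + n - k, by
    have := j.2
    split_ifs <;> omega⟩

theorem midPos_val (n r k : ℕ) (hnk : k < n) (j : Fin k) :
    ((midPos n r k hnk j : Fin n) : ℕ) = if (j : ℕ) < r then (j : ℕ) else (j : ℕ) + n - k := rfl

section

variable {ω : F} {n r k : ℕ} (hk : k = 2 * r + 1) (hr : 1 ≤ r) (hnk : k < n)
  {P : Matrix (Fin n) (Fin k) F} (hP : MidEntries ω n r k P)

include hP in
theorem mulVec_single_mid (jr : Fin k) (hjr : (jr : ℕ) = r) (l : Fin n) :
    (P *ᵥ Pi.single jr 1) l =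
      if (l : ℕ) = r then ω else if (l : ℕ) + r + 1 = n then 1 else 0 := by
  rw [Matrix.mulVec_single_one, Matrix.col_apply, hP]
  split_ifs <;> first | rfl | omega

include hk hr hnk hP in
/-- **L3** (generic frame version) -/
theorem span_mid_gen (C : Matrix (Fin n) (Fin n) F)
    (hC1 : ∀ i j : Fin n, j < i → C i j = 0) (hC2 : ∀ i, C i i = 1)
    (hC3 : ∀ i j : Fin n, ((i : ℕ) < r ∨ n ≤ (i : ℕ) + r) → i ≠ j → C i j = 0 ∧ C j i = 0)
    (hC4 : ∀ i j : Fin n, r ≤ (i : ℕ) → (j : ℕ) = (i : ℕ) + 1 → (j : ℕ) + r < n → C i j ≠ 0)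
    (b : Fin n → F) (hb0 : ∀ i : Fin n, (i : ℕ) = 0 → b i = 0)
    (hbl : ∀ i : Fin n, (i : ℕ) + 1 = n → b i = 0) :
    b ∈ Submodule.span F {v | ∃ (i : ℕ) (bk : Fin k → F), (∀ j : Fin k, (j : ℕ) = 0 → bk j = 0) ∧
      (∀ j : Fin k, (j : ℕ) + 1 = k → bk j = 0) ∧ v = (C ^ i) *ᵥ (P *ᵥ bk)} := by
  set W := Submodule.span F {v | ∃ (i : ℕ) (bk : Fin k → F),
      (∀ j : Fin k, (j : ℕ) = 0 → bk j = 0) ∧
      (∀ j : Fin k, (j : ℕ) + 1 = k → bk j = 0) ∧ v = (C ^ i) *ᵥ (P *ᵥ bk)} with hW
  -- the outer part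
  obtain ⟨bk, hbk⟩ : ∃ bk : Fin k → F,
      bk = fun j : Fin k => if (j : ℕ) = r then 0 else b (midPos n r k hnk j) := ⟨_, rfl⟩
  obtain ⟨bm, hbm⟩ : ∃ bm : Fin n → F,
      bm = fun a : Fin n => if (a : ℕ) < r ∨ n ≤ (a : ℕ) + r then 0 else b a := ⟨_, rfl⟩
  have hout : ∀ a : Fin n, (P *ᵥ bk) a =
      if (a : ℕ) < r ∨ n ≤ (a : ℕ) + r then b a else 0 := by
    intro a
    have ha := a.2
    rw [Matrix.mulVec, dotProduct, Finset.sum_eq_single (midIdx n r k hk a)]
    · by_cases h : (a : ℕ) < r ∨ n ≤ (a : ℕ) + r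
      · rw [if_pos h, P_outer hk hnk hP a h, one_mul, hbk]
        have h1 : ((midIdx n r k hk a : Fin k) : ℕ) ≠ r := by
          rw [midIdx_val]
          split_ifs <;> omega
        have h2 : midPos n r k hnk (midIdx n r k hk a) = a := by
          apply Fin.ext
          rw [midPos_val, midIdx_val]
          split_ifs <;> omega
        simp only [if_neg h1, h2]
      · rw [if_neg h, hbk]
        have h1 : ((midIdx n r k hk a : Fin k) : ℕ) = r := by
          rw [midIdx_val]
          split_ifs <;> omega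
        simp only [if_pos h1, mul_zero]
    · intro j _ hj
      rw [P_eq_zero hk hnk hP a j hj, zero_mul]
    · intro h
      exact absurd (Finset.mem_univ _) h
  have hsplit : b = P *ᵥ bk + bm := by
    funext a
    rw [Pi.add_apply, hout, hbm]
    by_cases h : (a : ℕ) < r ∨ n ≤ (a : ℕ) + r
    · simp only [if_pos h, add_zero]
    · simp only [if_neg h, zero_add]
  have h1 : P *ᵥ bk ∈ W := by
    apply Submodule.subset_span
    refine ⟨0, bk, ?_, ?_, ?_⟩
    · intro j hj
      rw [hbk]
      have : ¬ (j : ℕ) = r := by omega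
      simp only [if_neg this]
      apply hb0
      rw [midPos_val]
      split_ifs <;> omega
    · intro j hj
      rw [hbk]
      have : ¬ (j : ℕ) = r := by omega
      simp only [if_neg this]
      apply hbl
      rw [midPos_val]
      split_ifs <;> omega
    · rw [pow_zero, Matrix.one_mulVec]
  have h2 : bm ∈ W := by
    have hrk : r < k := by omega
    refine cyclic_mid C hC1 hC2 hC3 hC4 (P *ᵥ Pi.single (⟨r, hrk⟩ : Fin k) 1) ?_ ?_ W ?_ bm ?_
    · intro i hi
      rw [mulVec_single_mid hP _ rfl]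
      split_ifs <;> first | rfl | omega
    · intro i hi
      rw [mulVec_single_mid hP _ rfl]
      have : ¬ (i : ℕ) = r := by omega
      rw [if_neg this, if_pos hi]
      exact one_ne_zero
    · intro i
      apply Submodule.subset_span
      refine ⟨i, Pi.single (⟨r, hrk⟩ : Fin k) 1, ?_, ?_, rfl⟩
      · intro j hj
        rw [Pi.single_apply, if_neg]
        intro h
        rw [h] at hj
        simp only at hj
        omega
      · intro j hj
        rw [Pi.single_apply, if_neg]
        intro h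
        rw [h] at hj
        simp only at hj
        omega
    · intro i hi
      rw [hbm]
      simp only [if_pos hi]
  rw [hsplit]
  exact W.add_mem h1 h2

end

end Cfsg.Agent.Lib.H7.SunR
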