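import Mathlib
import Cfsg.Agent.Lib.H7.SunR4
import Cfsg.Agent.Lib.H20.SunMid

/-!
# `regular_mid` and `span_mid` for helper20's `midP` / `midFrame` (helper7, for helper8's S2282)
-/

set_option autoImplicit false

namespace Cfsg.Agent.Lib.H7.SunR

open Matrix Cfsg.Agent.Lib.H8.SUN Cfsg.Agent.Lib.H20.SunMid

variable {F : Type*} [Field F]

theorem midEntries_midP (ω : F) (n r k : ℕ) : MidEntries ω n r k (midP ω n r k) :=
  fun _ _ => rfl

/-- **L2**: the product of the embedded regular unipotent of the middle frame with a middle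
matrix `C` is a regular unipotent element. -/
theorem regular_mid {σ : F →+* F} {ω : F} {n r k : ℕ} (hω : ω + σ ω = 1) (hk : k = 2 * r + 1)
    (hnk : k < n) (xk : Matrix (Fin k) (Fin k) F)
    (hx1 : ∀ i j, j < i → xk i j = 0) (hx2 : ∀ i, xk i i = 1)
    (hx3 : ∀ i j : Fin k, (j : ℕ) = (i : ℕ) + 1 → xk i j ≠ 0)
    (C : Matrix (Fin n) (Fin n) F)
    (hC1 : ∀ i j : Fin n, j < i → C i j = 0) (hC2 : ∀ i, C i i = 1)
    (hC3 : ∀ i j : Fin n, ((i : ℕ) < r ∨ n ≤ (i : ℕ) + r) → i ≠ j → C i j = 0 ∧ C j i = 0)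
    (hC4 : ∀ i j : Fin n, r ≤ (i : ℕ) → (j : ℕ) = (i : ℕ) + 1 → (j : ℕ) + r < n → C i j ≠ 0) :
    IsNilpotent ((midFrame (σ := σ) hω hk hnk).emb xk * C - 1) ∧
      ((midFrame (σ := σ) hω hk hnk).emb xk * C - 1) ^ (n - 1) ≠ 0 :=
  regular_mid_gen hk hnk (midFrame (σ := σ) hω hk hnk) (midEntries_midP ω n r k) xk hx1 hx2 hx3 C
    hC1 hC2 hC3 hC4

/-- **L3**: vectors with vanishing first and last coordinate are spanned by the `C`-translates of
the vectors of the middle frame space with vanishing first and last frame coordinate. -/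
theorem span_mid {ω : F} {n r k : ℕ} (hk : k = 2 * r + 1) (hr : 1 ≤ r) (hnk : k < n)
    (C : Matrix (Fin n) (Fin n) F)
    (hC1 : ∀ i j : Fin n, j < i → C i j = 0) (hC2 : ∀ i, C i i = 1)
    (hC3 : ∀ i j : Fin n, ((i : ℕ) < r ∨ n ≤ (i : ℕ) + r) → i ≠ j → C i j = 0 ∧ C j i = 0)
    (hC4 : ∀ i j : Fin n, r ≤ (i : ℕ) → (j : ℕ) = (i : ℕ) + 1 → (j : ℕ) + r < n → C i j ≠ 0)
    (b : Fin n → F) (hb0 : b ⟨0, by omega⟩ = 0) (hbl : b ⟨n - 1, by omega⟩ = 0) :
    b ∈ Submodule.span F {v | ∃ (i : ℕ) (bk : Fin k → F), bk ⟨0, by omega⟩ = 0 ∧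
      bk ⟨k - 1, by omega⟩ = 0 ∧ v = (C ^ i) *ᵥ (midP ω n r k *ᵥ bk)} := by
  have h := span_mid_gen hk hr hnk (midEntries_midP ω n r k) C hC1 hC2 hC3 hC4 b
    (fun i hi => by
      have : i = ⟨0, by omega⟩ := Fin.ext hi
      rw [this]; exact hb0)
    (fun i hi => by
      have : i = ⟨n - 1, by omega⟩ := Fin.ext (by simp only; omega)
      rw [this]; exact hbl)
  refine Submodule.span_mono ?_ h
  rintro v ⟨i, bk, h0, hl, rfl⟩
  exact ⟨i, bk, h0 _ rfl, hl _ (by simp only; omega), rfl⟩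

end Cfsg.Agent.Lib.H7.SunR
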