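import Mathlib

/-!
# S4025 piece FUS (helper7): Burnside fusion for subgroups of an abelian Sylow subgroup
-/

set_option autoImplicit false

namespace Cfsg.Agent.Lib.H7.EOC

open Subgroup MulAction in
/-- **FUS** (Burnside fusion). -/
theorem fus {G : Type*} [Group G] [Finite G] {p : ℕ} [Fact p.Prime]
    (hC : ∀ H K : Subgroup G, IsPGroup p H → IsPGroup p K → Nat.card H = Nat.card K →
      ∃ g : G, K = H.map (MulAut.conj g).toMonoidHom) (P : Sylow p G)
    (hab : ∀ a ∈ (P : Subgroup G), ∀ b ∈ (P : Subgroup G), a * b = b * a)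
    (A B : Subgroup G) (hA : A ≤ (P : Subgroup G)) (hB : B ≤ (P : Subgroup G))
    (h : Nat.card A = Nat.card B) :
    ∃ g ∈ Subgroup.normalizer ((P : Subgroup G) : Set G),
      B = A.map (MulAut.conj g).toMonoidHom := by
  obtain ⟨g, hg⟩ := hC A B (P.isPGroup'.to_le hA) (P.isPGroup'.to_le hB) h
  have h1 : (P : Subgroup G) ≤ centralizer (B : Set G) := by
    intro z hz
    rw [mem_centralizer_iff]
    intro b hb
    exact hab b (hB hb) z hz
  have h2 : ↑(g • P) ≤ centralizer (B : Set G) := by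
    rintro - ⟨z, hz, rfl⟩
    rw [mem_centralizer_iff]
    intro b hb
    rw [SetLike.mem_coe, hg] at hb
    obtain ⟨a, ha, rfl⟩ := hb
    have hza := hab a (hA ha) z hz
    simp only [MulEquiv.coe_toMonoidHom, MulAut.conj_apply, MulDistribMulAction.toMonoidEnd_apply,
      MulDistribMulAction.toMonoidHom_apply, MulAut.smul_def]
    calc g * a * g⁻¹ * (g * z * g⁻¹) = g * (a * z) * g⁻¹ := by group
      _ = g * (z * a) * g⁻¹ := by rw [hza]
      _ = g * z * g⁻¹ * (g * a * g⁻¹) := by group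
  obtain ⟨c, hc⟩ :=
    exists_smul_eq (centralizer (B : Set G)) ((g • P).subtype h2) (P.subtype h1)
  simp_rw [Sylow.smul_subtype, Subgroup.smul_def, smul_smul] at hc
  refine ⟨c * g, Sylow.smul_eq_iff_mem_normalizer.mp (Sylow.subtype_injective hc), ?_⟩
  ext y
  constructor
  · intro hy
    have hy' := hy
    rw [hg] at hy'
    obtain ⟨a, ha, rfl⟩ := hy'
    refine ⟨a, ha, ?_⟩
    have hcc := (mem_centralizer_iff.mp c.2) _ hy
    simp only [MulEquiv.coe_toMonoidHom, MulAut.conj_apply] at hcc ⊢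
    calc ↑c * g * a * (↑c * g)⁻¹ = ↑c * (g * a * g⁻¹) * (↑c)⁻¹ := by group
      _ = (g * a * g⁻¹) * ↑c * (↑c)⁻¹ := by rw [hcc]
      _ = g * a * g⁻¹ := by group
  · rintro ⟨a, ha, rfl⟩
    have hb : g * a * g⁻¹ ∈ B := by
      rw [hg]
      exact ⟨a, ha, by simp⟩
    have hcc := (mem_centralizer_iff.mp c.2) _ hb
    simp only [MulEquiv.coe_toMonoidHom, MulAut.conj_apply]
    have e : ↑c * g * a * (↑c * g)⁻¹ = g * a * g⁻¹ := by
      calc ↑c * g * a * (↑c * g)⁻¹ = ↑c * (g * a * g⁻¹) * (↑c)⁻¹ := by group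
        _ = (g * a * g⁻¹) * ↑c * (↑c)⁻¹ := by rw [hcc]
        _ = g * a * g⁻¹ := by group
    rw [e]
    exact hb

end Cfsg.Agent.Lib.H7.EOC
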