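import Mathlib

/-!
# S4020 piece INV (helper7): the `SL(2,p)`-element inverting `⟨z,a⟩`

Pure computation.  On `E = ⟨z⟩ × ⟨a⟩`, conjugation by `x` is the transvection `a ↦ a z^l`, by `y`
the opposite transvection `z ↦ z a^k`.  With `i l k ≡ -1 (mod p)` and `m = x^i y x^i` one gets
`m z m⁻¹ = a^k`, `m a m⁻¹ = z^(i l)`, hence `m²` inverts both `z` and `a`.
-/

set_option autoImplicit false

namespace Cfsg.Agent.Lib.H7.EQC

/-- powers of the transvection `x`. -/
theorem eqcinv_conj_pow {G : Type*} [Group G] (x a z : G) (l : ℕ) (hxz : x * z = z * x)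
    (hxa : x * a * x⁻¹ = a * z ^ l) (n : ℕ) : x ^ n * a * (x ^ n)⁻¹ = a * z ^ (n * l) := by
  induction n with
  | zero => simp
  | succ n ih =>
    have hc : Commute x (z ^ (n * l)) := (show Commute x z from hxz).pow_right _
    have h1 : x * z ^ (n * l) * x⁻¹ = z ^ (n * l) := by
      rw [hc.eq, mul_inv_cancel_right]
    calc x ^ (n + 1) * a * (x ^ (n + 1))⁻¹
        = x * (x ^ n * a * (x ^ n)⁻¹) * x⁻¹ := by
          rw [pow_succ', mul_inv_rev]; simp only [mul_assoc]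
      _ = x * (a * z ^ (n * l)) * x⁻¹ := by rw [ih]
      _ = (x * a * x⁻¹) * (x * z ^ (n * l) * x⁻¹) := by group
      _ = a * z ^ l * z ^ (n * l) := by rw [hxa, h1]
      _ = a * z ^ ((n + 1) * l) := by
          rw [mul_assoc, ← pow_add]; congr 2; ring

/-- existence of the exponent `i` with `i l k ≡ -1 (mod p)`. -/
theorem eqcinv_exists_exp {p : ℕ} [Fact p.Prime] (l k : ℕ) (hl : ¬ p ∣ l) (hk : ¬ p ∣ k) :
    ∃ i : ℕ, p ∣ i * l * k + 1 := by
  have hp : p.Prime := Fact.out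
  have hu : ((l * k : ℕ) : ZMod p) ≠ 0 := by
    rw [Ne, ZMod.natCast_eq_zero_iff]
    intro h
    rcases (Nat.Prime.dvd_mul hp).1 h with h | h
    · exact hl h
    · exact hk h
  refine ⟨(-(((l * k : ℕ) : ZMod p))⁻¹).val, ?_⟩
  rw [← ZMod.natCast_eq_zero_iff]
  push_cast
  rw [ZMod.natCast_val, ZMod.cast_id', id]
  have : (-((l : ZMod p) * (k : ZMod p))⁻¹) * (l : ZMod p) * (k : ZMod p) = -1 := by
    have hu' : (l : ZMod p) * (k : ZMod p) ≠ 0 := by
      simpa using hu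
    rw [mul_assoc, neg_mul, inv_mul_cancel₀ hu']
  rw [this]; ring

theorem inv_elt {G : Type*} [Group G] {p : ℕ} [Fact p.Prime] (z a x y : G)
    (hz : z ^ p = 1) (ha : a ^ p = 1) (hza : z * a = a * z)
    (hxz : x * z = z * x) (hya : y * a = a * y)
    (l k : ℕ) (hl : ¬ p ∣ l) (hk : ¬ p ∣ k)
    (hxa : x * a * x⁻¹ = a * z ^ l) (hyz : y * z * y⁻¹ = z * a ^ k) :
    ∃ m ∈ Subgroup.closure ({x, y} : Set G),
      (m * m) * z * (m * m)⁻¹ = z⁻¹ ∧ (m * m) * a * (m * m)⁻¹ = a⁻¹ := by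
  obtain ⟨i, hi⟩ := eqcinv_exists_exp (p := p) l k hl hk
  have hXa := eqcinv_conj_pow x a z l hxz hxa i
  have hXzc : Commute (x ^ i) z := (show Commute x z from hxz).pow_left i
  generalize hX : x ^ i = X at hXa hXzc
  have hXz : X * z * X⁻¹ = z := by rw [hXzc.eq, mul_inv_cancel_right]
  have hyac : Commute y a := hya
  have hya' : y * a * y⁻¹ = a := by rw [hyac.eq, mul_inv_cancel_right]
  have hzac : Commute z a := hza
  -- exponent facts
  have hzpow : z ^ (i * l * k + 1) = 1 := by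
    obtain ⟨c, hc⟩ := hi
    rw [hc, pow_mul, hz, one_pow]
  have hapow : a ^ (i * l * k + 1) = 1 := by
    obtain ⟨c, hc⟩ := hi
    rw [hc, pow_mul, ha, one_pow]
  have hzinv : z ^ (i * l * k) = z⁻¹ := by
    rw [pow_succ] at hzpow
    exact eq_inv_of_mul_eq_one_left hzpow
  have hainv : a ^ (i * l * k) = a⁻¹ := by
    rw [pow_succ] at hapow
    exact eq_inv_of_mul_eq_one_left hapow
  -- the action of m
  have key1 : (X * y * X) * z * (X * y * X)⁻¹ = a ^ k := by
    calc (X * y * X) * z * (X * y * X)⁻¹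
        = X * (y * (X * z * X⁻¹) * y⁻¹) * X⁻¹ := by group
      _ = X * (z * a ^ k) * X⁻¹ := by rw [hXz, hyz]
      _ = (X * z * X⁻¹) * (X * a * X⁻¹) ^ k := by rw [conj_pow]; group
      _ = z * (a * z ^ (i * l)) ^ k := by rw [hXz, hXa]
      _ = z * (a ^ k * z ^ (i * l * k)) := by
          rw [(hzac.symm.pow_right (i * l)).mul_pow, ← pow_mul]
      _ = a ^ k * z ^ (i * l * k + 1) := by
          rw [← mul_assoc, ((hzac.pow_right k).eq), mul_assoc, ← pow_succ']
      _ = a ^ k := by rw [hzpow, mul_one]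
  have key2 : (X * y * X) * a * (X * y * X)⁻¹ = z ^ (i * l) := by
    calc (X * y * X) * a * (X * y * X)⁻¹
        = X * (y * (X * a * X⁻¹) * y⁻¹) * X⁻¹ := by group
      _ = X * (y * (a * z ^ (i * l)) * y⁻¹) * X⁻¹ := by rw [hXa]
      _ = X * ((y * a * y⁻¹) * (y * z * y⁻¹) ^ (i * l)) * X⁻¹ := by rw [conj_pow]; group
      _ = X * (a * (z * a ^ k) ^ (i * l)) * X⁻¹ := by rw [hya', hyz]
      _ = X * (a * (z ^ (i * l) * a ^ (i * l * k))) * X⁻¹ := by
          rw [(hzac.pow_right k).mul_pow, ← pow_mul, mul_comm k (i * l)]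
      _ = X * (a ^ (i * l * k + 1) * z ^ (i * l)) * X⁻¹ := by
          have h3 : a * (z ^ (i * l) * a ^ (i * l * k)) = a ^ (i * l * k + 1) * z ^ (i * l) := by
            rw [((hzac.pow_left (i * l)).pow_right (i * l * k)).eq, pow_succ']
            exact (mul_assoc _ _ _).symm
          rw [h3]
      _ = X * z ^ (i * l) * X⁻¹ := by rw [hapow, one_mul]
      _ = (X * z * X⁻¹) ^ (i * l) := by rw [conj_pow]
      _ = z ^ (i * l) := by rw [hXz]
  refine ⟨X * y * X, ?_, ?_, ?_⟩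
  · have hxm : x ∈ Subgroup.closure ({x, y} : Set G) := Subgroup.subset_closure (by simp)
    have hym : y ∈ Subgroup.closure ({x, y} : Set G) := Subgroup.subset_closure (by simp)
    have hXm : X ∈ Subgroup.closure ({x, y} : Set G) := hX ▸ Subgroup.pow_mem _ hxm i
    exact Subgroup.mul_mem _ (Subgroup.mul_mem _ hXm hym) hXm
  · generalize X * y * X = m at key1 key2
    calc (m * m) * z * (m * m)⁻¹ = m * (m * z * m⁻¹) * m⁻¹ := by group
      _ = m * a ^ k * m⁻¹ := by rw [key1]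
      _ = (m * a * m⁻¹) ^ k := by rw [conj_pow]
      _ = z ^ (i * l * k) := by rw [key2, ← pow_mul]
      _ = z⁻¹ := hzinv
  · generalize X * y * X = m at key1 key2
    calc (m * m) * a * (m * m)⁻¹ = m * (m * a * m⁻¹) * m⁻¹ := by group
      _ = m * z ^ (i * l) * m⁻¹ := by rw [key2]
      _ = (m * z * m⁻¹) ^ (i * l) := by rw [conj_pow]
      _ = a ^ (i * l * k) := by rw [key1, ← pow_mul, mul_comm k (i * l)]
      _ = a⁻¹ := hainv

end Cfsg.Agent.Lib.H7.EQC
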