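import Mathlib

set_option autoImplicit false

namespace Cfsg.Agent.Lib.H7.CycNorm

variable {H : Type*} [Group H]

/-- `x` centralizes `X` elementwise -/
def Cz (x : H) (X : Subgroup H) : Prop := ∀ e ∈ X, x * e = e * x

/-- `x` acts trivially on `Y/X` -/
def T2 (x : H) (X Y : Subgroup H) : Prop := ∀ v ∈ Y, x * v * x⁻¹ * v⁻¹ ∈ X

/-- conjugation by `x` maps `X` into itself -/
def Nz (x : H) (X : Subgroup H) : Prop := ∀ e ∈ X, x * e * x⁻¹ ∈ X

theorem Cz.one (X : Subgroup H) : Cz (1 : H) X := fun e _ => by rw [one_mul, mul_one]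

theorem Cz.mul {x y : H} {X : Subgroup H} (hx : Cz x X) (hy : Cz y X) : Cz (x * y) X := by
  intro e he
  rw [mul_assoc, hy e he, ← mul_assoc, hx e he, mul_assoc]

theorem Cz.inv {x : H} {X : Subgroup H} (hx : Cz x X) : Cz x⁻¹ X := by
  intro e he
  have := hx e he
  calc x⁻¹ * e = x⁻¹ * (e * x) * x⁻¹ := by group
    _ = x⁻¹ * (x * e) * x⁻¹ := by rw [this]
    _ = e * x⁻¹ := by group

theorem Cz.pow {x : H} {X : Subgroup H} (hx : Cz x X) (n : ℕ) : Cz (x ^ n) X := by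
  induction n with
  | zero => rw [pow_zero]; exact Cz.one X
  | succ n ih => rw [pow_succ]; exact ih.mul hx

theorem Cz.nz {x : H} {X : Subgroup H} (hx : Cz x X) : Nz x X := by
  intro e he
  rw [hx e he, mul_inv_cancel_right]
  exact he

theorem Cz.mono {x : H} {X Y : Subgroup H} (h : X ≤ Y) (hx : Cz x Y) : Cz x X :=
  fun e he => hx e (h he)

theorem Nz.one (X : Subgroup H) : Nz (1 : H) X := fun e he => by simpa using he

theorem Nz.mul {x y : H} {X : Subgroup H} (hx : Nz x X) (hy : Nz y X) : Nz (x * y) X := by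
  intro e he
  have := hx _ (hy e he)
  have e1 : x * y * e * (x * y)⁻¹ = x * (y * e * y⁻¹) * x⁻¹ := by group
  rw [e1]; exact this

theorem Nz.pow {x : H} {X : Subgroup H} (hx : Nz x X) (n : ℕ) : Nz (x ^ n) X := by
  induction n with
  | zero => rw [pow_zero]; exact Nz.one X
  | succ n ih => rw [pow_succ]; exact ih.mul hx

theorem inv_eq_pow [Finite H] (x : H) : x⁻¹ = x ^ (orderOf x - 1) := by
  have h1 : 1 ≤ orderOf x := orderOf_pos x
  apply inv_eq_of_mul_eq_one_right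
  rw [← pow_succ', Nat.sub_add_cancel h1, pow_orderOf_eq_one]

theorem Nz.inv [Finite H] {x : H} {X : Subgroup H} (hx : Nz x X) : Nz x⁻¹ X := by
  rw [inv_eq_pow x]; exact hx.pow _

theorem T2.one (X Y : Subgroup H) : T2 (1 : H) X Y := by
  intro v _
  have : (1 : H) * v * (1 : H)⁻¹ * v⁻¹ = 1 := by group
  rw [this]; exact X.one_mem

theorem T2.mul {x y : H} {X Y : Subgroup H} (hxn : Nz x X) (hx : T2 x X Y) (hy : T2 y X Y) :
    T2 (x * y) X Y := by
  intro v hv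
  have e1 : x * y * v * (x * y)⁻¹ * v⁻¹ =
      (x * (y * v * y⁻¹ * v⁻¹) * x⁻¹) * (x * v * x⁻¹ * v⁻¹) := by group
  rw [e1]
  exact X.mul_mem (hxn _ (hy v hv)) (hx v hv)

theorem T2.pow {x : H} {X Y : Subgroup H} (hxn : Nz x X) (hx : T2 x X Y) (n : ℕ) :
    T2 (x ^ n) X Y := by
  induction n with
  | zero => rw [pow_zero]; exact T2.one X Y
  | succ n ih => rw [pow_succ]; exact T2.mul (hxn.pow n) ih hx

theorem T2.inv [Finite H] {x : H} {X Y : Subgroup H} (hxn : Nz x X) (hx : T2 x X Y) :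
    T2 x⁻¹ X Y := by
  rw [inv_eq_pow x]; exact hx.pow hxn _

theorem T2.nz {x : H} {X Y : Subgroup H} (hXY : X ≤ Y) (hx : T2 x X Y) : Nz x Y := by
  intro v hv
  have e1 : x * v * x⁻¹ = (x * v * x⁻¹ * v⁻¹) * v := by group
  rw [e1]
  exact Y.mul_mem (hXY (hx v hv)) hv

theorem T2.mono {x : H} {X X' Y : Subgroup H} (h : X ≤ X') (hx : T2 x X Y) : T2 x X' Y :=
  fun v hv => h (hx v hv)

theorem T2.mono_right {x : H} {X Y Y' : Subgroup H} (h : Y' ≤ Y) (hx : T2 x X Y) : T2 x X Y' :=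
  fun v hv => hx v (h hv)

theorem T2.of_cz {x : H} {X Y : Subgroup H} (hx : Cz x Y) : T2 x X Y := by
  intro v hv
  have : x * v * x⁻¹ * v⁻¹ = 1 := by rw [hx v hv]; group
  rw [this]; exact X.one_mem

/-- a unipotent-type step: if `x` centralizes `X` (of exponent `p`) and acts trivially on `Y/X`,
then `x ^ p` centralizes `Y`. -/
theorem Cz.of_unip {x : H} {X Y : Subgroup H} {p : ℕ} (hXe : ∀ e ∈ X, e ^ p = 1)
    (hx : Cz x X) (hxy : T2 x X Y) : Cz (x ^ p) Y := by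
  intro v hv
  have key : ∀ k : ℕ, x ^ k * v * (x ^ k)⁻¹ = (x * v * x⁻¹ * v⁻¹) ^ k * v := by
    intro k
    induction k with
    | zero => simp
    | succ k ih =>
      have hc : Commute x ((x * v * x⁻¹ * v⁻¹) ^ k) := (show Commute x _ from hx _ (hxy v hv)).pow_right k
      calc x ^ (k + 1) * v * (x ^ (k + 1))⁻¹ = x * (x ^ k * v * (x ^ k)⁻¹) * x⁻¹ := by
            rw [pow_succ']; group
        _ = x * ((x * v * x⁻¹ * v⁻¹) ^ k * v) * x⁻¹ := by rw [ih]
        _ = (x * (x * v * x⁻¹ * v⁻¹) ^ k) * v * x⁻¹ := by group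
        _ = ((x * v * x⁻¹ * v⁻¹) ^ k * x) * v * x⁻¹ := by rw [hc.eq]
        _ = (x * v * x⁻¹ * v⁻¹) ^ k * (x * v * x⁻¹ * v⁻¹) * v := by group
        _ = (x * v * x⁻¹ * v⁻¹) ^ (k + 1) * v := by rw [pow_succ]
  have h1 := key p
  rw [hXe _ (hxy v hv), one_mul] at h1
  calc x ^ p * v = (x ^ p * v * (x ^ p)⁻¹) * x ^ p := by group
    _ = v * x ^ p := by rw [h1]

end Cfsg.Agent.Lib.H7.CycNorm
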