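import Mathlib
import Cfsg.Agent.Lib.H7.CycNorm1

set_option autoImplicit false

namespace Cfsg.Agent.Lib.H7.CycNorm

variable {H : Type*} [Group H] [Finite H]

/-- The abstract configuration: `V` a self-centralizing normal elementary abelian `p`-subgroup of
`H`, `N / V = O_{p'}(H / V)` self-centralizing in `H / V`, and `a ∉ V` with `a ^ p ∈ V` acting on
`V` like a transvection with centre `⟨a ^ p⟩`. -/
structure TData (p : ℕ) (V N : Subgroup H) (a : H) : Prop where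
  Vn : V.Normal
  Vc : ∀ v ∈ V, ∀ w ∈ V, v * w = w * v
  Ve : ∀ v ∈ V, v ^ p = 1
  CV : ∀ h : H, (∀ v ∈ V, h * v = v * h) → h ∈ V
  Nn : N.Normal
  VN : V ≤ N
  Np : ∀ n ∈ N, ∀ k : ℕ, n ^ (p ^ k) ∈ V → n ∈ V
  CN : ∀ h : H, (∀ n ∈ N, h * n * h⁻¹ * n⁻¹ ∈ V) → h ∈ N
  aV : a ∉ V
  ap : a ^ p ∈ V
  act : ∀ v ∈ V, a * v * a⁻¹ * v⁻¹ ∈ Subgroup.zpowers (a ^ p)

namespace TData

variable {p : ℕ} {V N : Subgroup H} {a : H}

omit [Finite H] in
theorem a_not_mem_N (h : TData p V N a) : a ∉ N := by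
  intro ha
  apply h.aV
  apply h.Np a ha 1
  rw [pow_one]; exact h.ap

/-- there is `g ∈ N` with `g a g⁻¹ a⁻¹ ∉ V` -/
theorem exists_g (h : TData p V N a) : ∃ g ∈ N, g * a * g⁻¹ * a⁻¹ ∉ V := by
  by_contra hcon
  push Not at hcon
  apply h.a_not_mem_N
  apply h.CN
  intro n hn
  have h1 := hcon n hn
  have h2 : a * n * a⁻¹ * n⁻¹ = (n * a * n⁻¹ * a⁻¹)⁻¹ := by group
  rw [h2]
  exact V.inv_mem h1

omit [Finite H] in
/-- the conjugate configuration -/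
theorem conj (h : TData p V N a) (g : H) : TData p V N (g * a * g⁻¹) := by
  have hVn := h.Vn
  refine { h with aV := ?_, ap := ?_, act := ?_ }
  · intro hm
    apply h.aV
    have := hVn.conj_mem _ hm g⁻¹
    have e : g⁻¹ * (g * a * g⁻¹) * g⁻¹⁻¹ = a := by group
    rwa [e] at this
  · rw [conj_pow]
    exact hVn.conj_mem _ h.ap g
  · intro v hv
    have hv' : g⁻¹ * v * g ∈ V := by
      have := hVn.conj_mem _ hv g⁻¹
      rwa [inv_inv] at this
    have h1 := h.act _ hv'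
    rw [conj_pow]
    obtain ⟨k, hk⟩ := Subgroup.mem_zpowers_iff.1 h1
    refine Subgroup.mem_zpowers_iff.2 ⟨k, ?_⟩
    have e1 : (g * a ^ p * g⁻¹) ^ k = g * (a ^ p) ^ k * g⁻¹ := by
      have := map_zpow (MulAut.conj g) (a ^ p) k
      simp only [MulAut.conj_apply] at this
      exact this.symm
    rw [e1, hk]; group

omit [Finite H] in
theorem cz_self (h : TData p V N a) : Cz a (Subgroup.zpowers (a ^ p)) := by
  intro e he
  obtain ⟨k, rfl⟩ := Subgroup.mem_zpowers_iff.1 he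
  exact ((Commute.refl a).pow_right p).zpow_right k

omit [Finite H] in
theorem zpowers_le (h : TData p V N a) : Subgroup.zpowers (a ^ p) ≤ V := by
  rw [Subgroup.zpowers_le]; exact h.ap

/-- The chain contradiction: `a` and `b` cannot both stabilize a chain `1 ≤ X ≤ E ≤ V`. -/
theorem chain_false (h : TData p V N a) {b : H} (hb : b * a⁻¹ ∈ N) (hbV : b * a⁻¹ ∉ V)
    {X E : Subgroup H} (hXE : X ≤ E) (hEV : E ≤ V)
    (ha1 : Cz a X) (ha2 : T2 a X E) (ha3 : T2 a E V)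
    (hb1 : Cz b X) (hb2 : T2 b X E) (hb3 : T2 b E V) : False := by
  have hXe : ∀ e ∈ X, e ^ p = 1 := fun e he => h.Ve e (hEV (hXE he))
  have hEe : ∀ e ∈ E, e ^ p = 1 := fun e he => h.Ve e (hEV he)
  -- `s = b a⁻¹`
  have hs1 : Cz (b * a⁻¹) X := hb1.mul ha1.inv
  have hs2 : T2 (b * a⁻¹) X E := T2.mul hb1.nz hb2 (ha2.inv ha1.nz)
  have haE : Nz a E := ha2.nz hXE
  have hbE : Nz b E := hb2.nz hXE
  have hs3 : T2 (b * a⁻¹) E V := T2.mul hbE hb3 (ha3.inv haE)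
  have hsE : Nz (b * a⁻¹) E := hs2.nz hXE
  have h1 : Cz ((b * a⁻¹) ^ p) E := Cz.of_unip hXe hs1 hs2
  have h2 : T2 ((b * a⁻¹) ^ p) E V := hs3.pow hsE p
  have h3 : Cz (((b * a⁻¹) ^ p) ^ p) V := Cz.of_unip hEe h1 h2
  have h4 : ((b * a⁻¹) ^ p) ^ p ∈ V := h.CV _ h3
  apply hbV
  apply h.Np _ hb 2
  rw [pow_two, pow_mul]
  exact h4

end TData

end Cfsg.Agent.Lib.H7.CycNorm
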