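import Mathlib
import Cfsg.Agent.Lib.H7.CycNorm2

set_option autoImplicit false

namespace Cfsg.Agent.Lib.H7.CycNorm

variable {H : Type*} [Group H]

theorem cz_iff_le_centralizer {x : H} {X : Subgroup H} :
    Cz x X ↔ X ≤ Subgroup.centralizer ({x} : Set H) := by
  constructor
  · intro h e he
    rw [Subgroup.mem_centralizer_singleton_iff]
    exact (h e he).symm
  · intro h e he
    exact (Subgroup.mem_centralizer_singleton_iff.1 (h he)).symm

theorem Cz.sup {x : H} {X Y : Subgroup H} (hX : Cz x X) (hY : Cz x Y) : Cz x (X ⊔ Y) := by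
  rw [cz_iff_le_centralizer] at *
  exact sup_le hX hY

theorem cz_zpowers {x e : H} (h : x * e = e * x) : Cz x (Subgroup.zpowers e) := by
  intro f hf
  obtain ⟨k, rfl⟩ := Subgroup.mem_zpowers_iff.1 hf
  exact ((show Commute x e from h).zpow_right k).eq

/-- conjugating by powers when the commutator is centralized -/
theorem conj_pow_eq {x v : H} (hc : Commute x (x * v * x⁻¹ * v⁻¹)) (k : ℕ) :
    x ^ k * v * (x ^ k)⁻¹ = (x * v * x⁻¹ * v⁻¹) ^ k * v := by
  induction k with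
  | zero => simp
  | succ k ih =>
    have hc' : Commute x ((x * v * x⁻¹ * v⁻¹) ^ k) := hc.pow_right k
    calc x ^ (k + 1) * v * (x ^ (k + 1))⁻¹ = x * (x ^ k * v * (x ^ k)⁻¹) * x⁻¹ := by
          rw [pow_succ']; group
      _ = x * ((x * v * x⁻¹ * v⁻¹) ^ k * v) * x⁻¹ := by rw [ih]
      _ = (x * (x * v * x⁻¹ * v⁻¹) ^ k) * v * x⁻¹ := by group
      _ = ((x * v * x⁻¹ * v⁻¹) ^ k * x) * v * x⁻¹ := by rw [hc'.eq]
      _ = (x * v * x⁻¹ * v⁻¹) ^ k * (x * v * x⁻¹ * v⁻¹) * v := by group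
      _ = (x * v * x⁻¹ * v⁻¹) ^ (k + 1) * v := by rw [pow_succ]

/-- in a group of prime order every nonidentity element generates -/
theorem exists_pow_eq_of_mem_zpowers [Finite H] {p : ℕ} (hp : p.Prime) {c c' : H}
    (hc : c ^ p = 1) (hc' : c' ∈ Subgroup.zpowers c) (hc'1 : c' ≠ 1) : ∃ α : ℕ, c' ^ α = c := by
  have hc1 : c ≠ 1 := by
    rintro rfl
    rw [Subgroup.zpowers_one_eq_bot, Subgroup.mem_bot] at hc'
    exact hc'1 hc'
  have hpf : Fact p.Prime := ⟨hp⟩
  have ho : orderOf c = p := orderOf_eq_prime hc hc1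
  have hle : Subgroup.zpowers c' ≤ Subgroup.zpowers c := by
    rw [Subgroup.zpowers_le]; exact hc'
  have hdvd : orderOf c' ∣ p := by
    rw [← ho, ← Nat.card_zpowers, ← Nat.card_zpowers]
    exact Subgroup.card_dvd_of_le hle
  have ho' : orderOf c' = p := by
    rcases (Nat.dvd_prime hp).1 hdvd with h | h
    · exact absurd (orderOf_eq_one_iff.1 h) hc'1
    · exact h
  have heq := Subgroup.eq_of_le_of_card_ge hle (by rw [Nat.card_zpowers, Nat.card_zpowers, ho, ho'])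
  have hcm : c ∈ Subgroup.zpowers c' := by rw [heq]; exact Subgroup.mem_zpowers c
  rw [← mem_powers_iff_mem_zpowers, Submonoid.mem_powers_iff] at hcm
  exact hcm

variable [Finite H]

namespace TData

variable {p : ℕ} {V N : Subgroup H} {a : H}

/-- the basic non-degeneracy: with `b = g a g⁻¹`, `b a⁻¹ ∈ N \ V`, `c = a ^ p`, `d = b ^ p`:
`a d a⁻¹ d⁻¹ ≠ 1` and `b c b⁻¹ c⁻¹ ≠ 1`. -/
theorem nondeg (h : TData p V N a) {b : H} (hb : TData p V N b) (hs : b * a⁻¹ ∈ N)
    (hsV : b * a⁻¹ ∉ V) :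
    a * b ^ p * a⁻¹ * (b ^ p)⁻¹ ≠ 1 ∧ b * a ^ p * b⁻¹ * (a ^ p)⁻¹ ≠ 1 := by
  have hCV := h.zpowers_le
  have hDV := hb.zpowers_le
  have hEV : Subgroup.zpowers (a ^ p) ⊔ Subgroup.zpowers (b ^ p) ≤ V := sup_le hCV hDV
  have ha3 : T2 a (Subgroup.zpowers (a ^ p) ⊔ Subgroup.zpowers (b ^ p)) V :=
    T2.mono le_sup_left h.act
  have hb3 : T2 b (Subgroup.zpowers (a ^ p) ⊔ Subgroup.zpowers (b ^ p)) V :=
    T2.mono le_sup_right hb.act
  constructor
  · intro h1
    have hcomm : a * b ^ p = b ^ p * a := by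
      calc a * b ^ p = (a * b ^ p * a⁻¹ * (b ^ p)⁻¹) * (b ^ p * a) := by group
        _ = b ^ p * a := by rw [h1, one_mul]
    have haD : Cz a (Subgroup.zpowers (b ^ p)) := cz_zpowers hcomm
    exact h.chain_false hs hsV (le_sup_right : Subgroup.zpowers (b ^ p) ≤ _) hEV haD
      (T2.of_cz (h.cz_self.sup haD)) ha3 hb.cz_self (T2.mono_right hEV hb.act) hb3
  · intro h1
    have hcomm : b * a ^ p = a ^ p * b := by
      calc b * a ^ p = (b * a ^ p * b⁻¹ * (a ^ p)⁻¹) * (a ^ p * b) := by group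
        _ = a ^ p * b := by rw [h1, one_mul]
    have hbC : Cz b (Subgroup.zpowers (a ^ p)) := cz_zpowers hcomm
    exact h.chain_false hs hsV (le_sup_left : Subgroup.zpowers (a ^ p) ≤ _) hEV h.cz_self
      (T2.mono_right hEV h.act) ha3 hbC (T2.of_cz (hbC.sup hb.cz_self)) hb3

end TData

end Cfsg.Agent.Lib.H7.CycNorm
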