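import Mathlib
import Cfsg.Agent.Lib.H7.CycNorm3

set_option autoImplicit false

namespace Cfsg.Agent.Lib.H7.CycNorm

variable {H : Type*} [Group H]

/-- the elements of the abelian subgroup `V` inverted by `w` -/
def invSub (V : Subgroup H) (hV : ∀ v ∈ V, ∀ w ∈ V, v * w = w * v) (w : H) : Subgroup H where
  carrier := {e | e ∈ V ∧ w * e * w⁻¹ = e⁻¹}
  one_mem' := ⟨V.one_mem, by simp⟩
  mul_mem' := by
    rintro e f ⟨he, he'⟩ ⟨hf, hf'⟩
    refine ⟨V.mul_mem he hf, ?_⟩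
    calc w * (e * f) * w⁻¹ = (w * e * w⁻¹) * (w * f * w⁻¹) := by group
      _ = e⁻¹ * f⁻¹ := by rw [he', hf']
      _ = (f * e)⁻¹ := by rw [mul_inv_rev]
      _ = (e * f)⁻¹ := by rw [hV e he f hf]
  inv_mem' := by
    rintro e ⟨he, he'⟩
    refine ⟨V.inv_mem he, ?_⟩
    calc w * e⁻¹ * w⁻¹ = (w * e * w⁻¹)⁻¹ := by group
      _ = e⁻¹⁻¹ := by rw [he']

/-- the word `(x y x)²` acts as `-1` -/
theorem word_inverts {x y c d : H} (hcd : c * d = d * c)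
    (hxc : x * c * x⁻¹ = c) (hxd : x * d * x⁻¹ = c * d)
    (hyc : y * c * y⁻¹ = d⁻¹ * c) (hyd : y * d * y⁻¹ = d) :
    (x * y * x) ^ 2 * c * ((x * y * x) ^ 2)⁻¹ = c⁻¹ ∧
      (x * y * x) ^ 2 * d * ((x * y * x) ^ 2)⁻¹ = d⁻¹ := by
  have h1 : (x * y * x) * c * (x * y * x)⁻¹ = d⁻¹ := by
    calc (x * y * x) * c * (x * y * x)⁻¹ = x * (y * (x * c * x⁻¹) * y⁻¹) * x⁻¹ := by group
      _ = x * (d⁻¹ * c) * x⁻¹ := by rw [hxc, hyc]
      _ = (x * d * x⁻¹)⁻¹ * (x * c * x⁻¹) := by group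
      _ = (c * d)⁻¹ * c := by rw [hxd, hxc]
      _ = d⁻¹ := by group
  have h2 : (x * y * x) * d * (x * y * x)⁻¹ = c := by
    calc (x * y * x) * d * (x * y * x)⁻¹ = x * (y * (x * d * x⁻¹) * y⁻¹) * x⁻¹ := by group
      _ = x * (y * (c * d) * y⁻¹) * x⁻¹ := by rw [hxd]
      _ = x * ((y * c * y⁻¹) * (y * d * y⁻¹)) * x⁻¹ := by group
      _ = x * (d⁻¹ * c * d) * x⁻¹ := by rw [hyc, hyd]
      _ = x * (d⁻¹ * (d * c)) * x⁻¹ := by rw [mul_assoc d⁻¹ c d, hcd]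
      _ = x * c * x⁻¹ := by group
      _ = c := hxc
  constructor
  · calc (x * y * x) ^ 2 * c * ((x * y * x) ^ 2)⁻¹
        = (x * y * x) * ((x * y * x) * c * (x * y * x)⁻¹) * (x * y * x)⁻¹ := by
          rw [pow_two]; group
      _ = (x * y * x) * d⁻¹ * (x * y * x)⁻¹ := by rw [h1]
      _ = ((x * y * x) * d * (x * y * x)⁻¹)⁻¹ := by group
      _ = c⁻¹ := by rw [h2]
  · calc (x * y * x) ^ 2 * d * ((x * y * x) ^ 2)⁻¹
        = (x * y * x) * ((x * y * x) * d * (x * y * x)⁻¹) * (x * y * x)⁻¹ := by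
          rw [pow_two]; group
      _ = (x * y * x) * c * (x * y * x)⁻¹ := by rw [h2]
      _ = d⁻¹ := h1

/-- triangular numbers -/
def tri : ℕ → ℕ
  | 0 => 0
  | n + 1 => tri n + (n + 1)

theorem tri_mul_two (n : ℕ) : tri n * 2 = n * (n + 1) := by
  induction n with
  | zero => rfl
  | succ n ih =>
    show (tri n + (n + 1)) * 2 = (n + 1) * (n + 1 + 1)
    rw [add_mul, ih]; ring

theorem dvd_tri {p : ℕ} (hp : p.Prime) (hp2 : p ≠ 2) : p ∣ tri p := by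
  have h1 : p ∣ tri p * 2 := by rw [tri_mul_two]; exact dvd_mul_right p (p + 1)
  rcases (Nat.Prime.dvd_mul hp).1 h1 with h | h
  · exact h
  · exact absurd ((Nat.prime_dvd_prime_iff_eq hp Nat.prime_two).1 h) hp2

/-- the norm computation: `(a u)^n = e^{T(n)} u^n a^n` where `e = [a, u]` commutes with `a`
and `u`. -/
theorem mul_pow_eq {a u : H} (hae : Commute a (a * u * a⁻¹ * u⁻¹))
    (hue : Commute u (a * u * a⁻¹ * u⁻¹)) (n : ℕ) :
    (a * u) ^ n = (a * u * a⁻¹ * u⁻¹) ^ tri n * u ^ n * a ^ n := by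
  induction n with
  | zero => simp [tri]
  | succ n ih =>
    have h1 := conj_pow_eq hae (n + 1)
    have h2 : Commute (u ^ n) ((a * u * a⁻¹ * u⁻¹) ^ (n + 1)) := (hue.pow_pow n (n + 1))
    calc (a * u) ^ (n + 1) = (a * u) ^ n * (a * u) := pow_succ _ _
      _ = (a * u * a⁻¹ * u⁻¹) ^ tri n * u ^ n * a ^ n * (a * u) := by rw [ih]
      _ = (a * u * a⁻¹ * u⁻¹) ^ tri n * u ^ n * (a ^ (n + 1) * u * (a ^ (n + 1))⁻¹) *
          a ^ (n + 1) := by rw [pow_succ a n]; group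
      _ = (a * u * a⁻¹ * u⁻¹) ^ tri n * u ^ n * ((a * u * a⁻¹ * u⁻¹) ^ (n + 1) * u) *
          a ^ (n + 1) := by rw [h1]
      _ = (a * u * a⁻¹ * u⁻¹) ^ tri n * (u ^ n * (a * u * a⁻¹ * u⁻¹) ^ (n + 1)) * u *
          a ^ (n + 1) := by group
      _ = (a * u * a⁻¹ * u⁻¹) ^ tri n * ((a * u * a⁻¹ * u⁻¹) ^ (n + 1) * u ^ n) * u *
          a ^ (n + 1) := by rw [h2.eq]
      _ = (a * u * a⁻¹ * u⁻¹) ^ (tri n + (n + 1)) * u ^ (n + 1) * a ^ (n + 1) := by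
          rw [pow_add, pow_succ u n]; group

end Cfsg.Agent.Lib.H7.CycNorm
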