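import Mathlib
import Cfsg.Agent.Lib.H7.CycNorm4

set_option autoImplicit false

namespace Cfsg.Agent.Lib.H7.CycNorm

variable {H : Type*} [Group H] [Finite H]

namespace TData

variable {p : ℕ} {V N : Subgroup H} {a : H}

/-- the setup shared by both cases -/
theorem exists_conj (h : TData p V N a) :
    ∃ b : H, TData p V N b ∧ b * a⁻¹ ∈ N ∧ b * a⁻¹ ∉ V := by
  obtain ⟨g, hgN, hgV⟩ := h.exists_g
  refine ⟨g * a * g⁻¹, h.conj g, ?_, hgV⟩
  have hNn := h.Nn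
  have h1 : a * g⁻¹ * a⁻¹ ∈ N := hNn.conj_mem _ (N.inv_mem hgN) a
  have : g * a * g⁻¹ * a⁻¹ = g * (a * g⁻¹ * a⁻¹) := by group
  rw [this]; exact N.mul_mem hgN h1

/-- the odd case is impossible -/
theorem false_of_odd [hp : Fact p.Prime] (hp2 : p ≠ 2) (h : TData p V N a) : False := by
  obtain ⟨b, hb, hs, hsV⟩ := h.exists_conj
  obtain ⟨hc'1, hd'1⟩ := h.nondeg hb hs hsV
  have hNn := h.Nn
  obtain ⟨c, hc⟩ : ∃ c, c = a ^ p := ⟨_, rfl⟩
  obtain ⟨d, hd⟩ : ∃ d, d = b ^ p := ⟨_, rfl⟩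
  rw [← hd] at hc'1
  rw [← hc] at hd'1
  have hcV : c ∈ V := hc ▸ h.ap
  have hdV : d ∈ V := hd ▸ hb.ap
  have hcd : c * d = d * c := h.Vc c hcV d hdV
  have haC : Cz a (Subgroup.zpowers c) := hc ▸ h.cz_self
  have hbD : Cz b (Subgroup.zpowers d) := hd ▸ hb.cz_self
  have hactA : T2 a (Subgroup.zpowers c) V := hc ▸ h.act
  have hactB : T2 b (Subgroup.zpowers d) V := hd ▸ hb.act
  have hc'C : a * d * a⁻¹ * d⁻¹ ∈ Subgroup.zpowers c := hactA d hdV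
  have hd'D : b * c * b⁻¹ * c⁻¹ ∈ Subgroup.zpowers d := hactB c hcV
  obtain ⟨α, hα⟩ := exists_pow_eq_of_mem_zpowers hp.out (h.Ve c hcV) hc'C hc'1
  obtain ⟨β, hβ⟩ := exists_pow_eq_of_mem_zpowers hp.out (h.Ve d hdV) hd'D hd'1
  have hc1 : c ≠ 1 := by
    rintro rfl
    rw [Subgroup.zpowers_one_eq_bot, Subgroup.mem_bot] at hc'C
    exact hc'1 hc'C
  -- the elements `x`, `y`
  have hxc : a ^ α * c * (a ^ α)⁻¹ = c := by
    have := (haC.pow α) c (Subgroup.mem_zpowers c)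
    rw [this]; group
  have hxd : a ^ α * d * (a ^ α)⁻¹ = c * d := by
    have := conj_pow_eq (x := a) (v := d) (haC _ hc'C) α
    rw [hα] at this
    exact this
  have hy₀d : b ^ β * d = d * b ^ β := (hbD.pow β) d (Subgroup.mem_zpowers d)
  have hy₀c : b ^ β * c * (b ^ β)⁻¹ = d * c := by
    have := conj_pow_eq (x := b) (v := c) (hbD _ hd'D) β
    rw [hβ] at this
    exact this
  have hyd : (b ^ β)⁻¹ * d * (b ^ β)⁻¹⁻¹ = d := by
    rw [inv_inv]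
    calc (b ^ β)⁻¹ * d * b ^ β = (b ^ β)⁻¹ * (d * b ^ β) := by group
      _ = (b ^ β)⁻¹ * (b ^ β * d) := by rw [hy₀d]
      _ = d := by group
  have hyc : (b ^ β)⁻¹ * c * (b ^ β)⁻¹⁻¹ = d⁻¹ * c := by
    rw [inv_inv]
    have e1 : (b ^ β)⁻¹ * d⁻¹ * b ^ β = d⁻¹ := by
      calc (b ^ β)⁻¹ * d⁻¹ * b ^ β = ((b ^ β)⁻¹ * d * b ^ β)⁻¹ := by group
        _ = d⁻¹ := by rw [inv_inv] at hyd; rw [hyd]
    calc (b ^ β)⁻¹ * c * b ^ β = (b ^ β)⁻¹ * (d⁻¹ * (d * c)) * b ^ β := by group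
      _ = (b ^ β)⁻¹ * (d⁻¹ * (b ^ β * c * (b ^ β)⁻¹)) * b ^ β := by rw [hy₀c]
      _ = ((b ^ β)⁻¹ * d⁻¹ * b ^ β) * c := by group
      _ = d⁻¹ * c := by rw [e1]
  obtain ⟨w, hw⟩ : ∃ w, w = (a ^ α * (b ^ β)⁻¹ * a ^ α) ^ 2 := ⟨_, rfl⟩
  obtain ⟨hwc, hwd⟩ := word_inverts hcd hxc hxd hyc hyd
  rw [← hw] at hwc hwd
  -- `E`
  obtain ⟨E, hE⟩ : ∃ E, E = Subgroup.zpowers c ⊔ Subgroup.zpowers d := ⟨_, rfl⟩
  have hCE : Subgroup.zpowers c ≤ E := hE ▸ le_sup_left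
  have hDE : Subgroup.zpowers d ≤ E := hE ▸ le_sup_right
  have hEV : E ≤ V := by
    rw [hE]
    exact sup_le (by rw [Subgroup.zpowers_le]; exact hcV) (by rw [Subgroup.zpowers_le]; exact hdV)
  have hEinv : ∀ e ∈ E, w * e * w⁻¹ = e⁻¹ := by
    have hle : E ≤ invSub V h.Vc w := by
      rw [hE]
      apply sup_le
      · rw [Subgroup.zpowers_le]; exact ⟨hcV, hwc⟩
      · rw [Subgroup.zpowers_le]; exact ⟨hdV, hwd⟩
    intro e he
    exact (hle he).2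
  have ha3 : T2 a E V := T2.mono hCE hactA
  have hb3 : T2 b E V := T2.mono hDE hactB
  have haE : Nz a E := (T2.mono_right hEV ha3).nz le_rfl
  have hbE : Nz b E := (T2.mono_right hEV hb3).nz le_rfl
  -- `w` stabilizes
  have hxE : Nz (a ^ α) E := haE.pow α
  have hyE : Nz (b ^ β)⁻¹ E := (hbE.pow β).inv
  have hx3 : T2 (a ^ α) E V := ha3.pow haE α
  have hy3 : T2 (b ^ β)⁻¹ E V := (hb3.pow hbE β).inv (hbE.pow β)
  have hθE : Nz (a ^ α * (b ^ β)⁻¹ * a ^ α) E := (hxE.mul hyE).mul hxE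
  have hθ3 : T2 (a ^ α * (b ^ β)⁻¹ * a ^ α) E V :=
    T2.mul (hxE.mul hyE) (T2.mul hxE hx3 hy3) hx3
  have hwE : Nz w E := hw ▸ hθE.pow 2
  have hw3 : T2 w E V := hw ▸ hθ3.pow hθE 2
  -- `u`
  obtain ⟨u, hu⟩ : ∃ u, u = a⁻¹ * w * a * w⁻¹ := ⟨_, rfl⟩
  have hu_eq : w * a * w⁻¹ = a * u := by rw [hu]; group
  have huE : Nz u E := hu ▸ ((haE.inv.mul hwE).mul haE).mul hwE.inv
  have hu3 : T2 u E V := by
    rw [hu]
    exact T2.mul ((haE.inv.mul hwE).mul haE)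
      (T2.mul (haE.inv.mul hwE) (T2.mul haE.inv (ha3.inv haE) hw3) ha3) (hw3.inv hwE)
  have huCz : Cz u E := by
    intro e he
    have h1 : w⁻¹ * e * w = e⁻¹ := by
      have := hEinv e⁻¹ (E.inv_mem he)
      rw [inv_inv] at this
      calc w⁻¹ * e * w = w⁻¹ * (w * e⁻¹ * w⁻¹) * w := by rw [this]
        _ = e⁻¹ := by group
    have h2 : a * e⁻¹ * a⁻¹ ∈ E := haE _ (E.inv_mem he)
    have h3 := hEinv _ h2
    have h4 : u * e * u⁻¹ = e := by
      calc u * e * u⁻¹ = a⁻¹ * (w * (a * (w⁻¹ * e * w) * a⁻¹) * w⁻¹) * a := by rw [hu]; group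
        _ = a⁻¹ * (w * (a * e⁻¹ * a⁻¹) * w⁻¹) * a := by rw [h1]
        _ = a⁻¹ * (a * e⁻¹ * a⁻¹)⁻¹ * a := by rw [h3]
        _ = e := by group
    calc u * e = (u * e * u⁻¹) * u := by group
      _ = e * u := by rw [h4]
  -- `u ∈ N`
  have huN : u ∈ N := by
    rw [← QuotientGroup.eq_one_iff, ← QuotientGroup.mk'_apply]
    have hba : QuotientGroup.mk' N b = QuotientGroup.mk' N a := by
      have : QuotientGroup.mk' N (b * a⁻¹) = 1 := (QuotientGroup.eq_one_iff _).2 hs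
      rw [map_mul, map_inv, mul_inv_eq_one] at this
      exact this
    have hcw : Commute (QuotientGroup.mk' N a) (QuotientGroup.mk' N w) := by
      rw [hw, map_pow, map_mul, map_mul, map_inv, map_pow, map_pow, hba]
      apply Commute.pow_right
      apply Commute.mul_right
      · apply Commute.mul_right
        · exact Commute.pow_right (Commute.refl _) α
        · exact (Commute.pow_right (Commute.refl _) β).inv_right
      · exact Commute.pow_right (Commute.refl _) α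
    rw [hu, map_mul, map_mul, map_mul, map_inv, map_inv]
    calc (QuotientGroup.mk' N a)⁻¹ * QuotientGroup.mk' N w * QuotientGroup.mk' N a *
          (QuotientGroup.mk' N w)⁻¹
        = (QuotientGroup.mk' N a)⁻¹ * (QuotientGroup.mk' N w * QuotientGroup.mk' N a) *
          (QuotientGroup.mk' N w)⁻¹ := by group
      _ = (QuotientGroup.mk' N a)⁻¹ * (QuotientGroup.mk' N a * QuotientGroup.mk' N w) *
          (QuotientGroup.mk' N w)⁻¹ := by rw [hcw.eq]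
      _ = 1 := by group
  -- `u ∈ V`
  have huV : u ∈ V := by
    have hEe : ∀ e ∈ E, e ^ p = 1 := fun e he => h.Ve e (hEV he)
    have h1 : Cz (u ^ p) V := Cz.of_unip hEe huCz hu3
    have h2 : u ^ p ∈ V := h.CV _ h1
    apply h.Np u huN 1
    rw [pow_one]; exact h2
  -- the norm computation
  have heC : a * u * a⁻¹ * u⁻¹ ∈ Subgroup.zpowers c := hactA u huV
  have hae : Commute a (a * u * a⁻¹ * u⁻¹) := haC _ heC
  have hue : Commute u (a * u * a⁻¹ * u⁻¹) :=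
    h.Vc u huV _ (by rw [← Subgroup.zpowers_le] at hcV; exact hcV heC)
  have hnorm := mul_pow_eq hae hue p
  have he1 : (a * u * a⁻¹ * u⁻¹) ^ tri p = 1 := by
    obtain ⟨k, hk⟩ := dvd_tri hp.out hp2
    have heV : a * u * a⁻¹ * u⁻¹ ∈ V := by
      rw [← Subgroup.zpowers_le] at hcV; exact hcV heC
    rw [hk, pow_mul, h.Ve _ heV, one_pow]
  rw [he1, h.Ve u huV, one_mul, one_mul, ← hc] at hnorm
  have h5 : (w * a * w⁻¹) ^ p = c⁻¹ := by
    rw [conj_pow, ← hc, hwc]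
  rw [hu_eq, hnorm] at h5
  -- `c = c⁻¹`
  have h6 : c ^ 2 = 1 := by
    rw [pow_two]
    nth_rewrite 1 [h5]
    exact inv_mul_cancel c
  have h7 : orderOf c ∣ 2 := orderOf_dvd_of_pow_eq_one h6
  have h8 : orderOf c ∣ p := orderOf_dvd_of_pow_eq_one (h.Ve c hcV)
  have h9 : orderOf c ∣ Nat.gcd 2 p := Nat.dvd_gcd h7 h8
  have h10 : Nat.gcd 2 p = 1 := by
    rw [Nat.Prime.coprime_iff_not_dvd Nat.prime_two |>.2 ?_ |>.gcd_eq_one]
    intro hdiv
    exact hp2 ((Nat.prime_dvd_prime_iff_eq Nat.prime_two hp.out).1 hdiv).symm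
  rw [h10, Nat.dvd_one, orderOf_eq_one_iff] at h9
  exact hc1 h9

end TData

end Cfsg.Agent.Lib.H7.CycNorm
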