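import Mathlib
import Cfsg.Agent.Lib.H7.CycNorm5
import Cfsg.Agent.Lib.H14.SFour7

set_option autoImplicit false

namespace Cfsg.Agent.Lib.H7.CycNorm

variable {H : Type*} [Group H] [Finite H]

namespace TData

variable {V N : Subgroup H} {a : H}

/-- the even case forces `S₄` to be involved -/
theorem involves_of_two (h : TData 2 V N a) : Cfsg.Involves (Equiv.Perm (Fin 4)) H := by
  have hp : Fact (Nat.Prime 2) := ⟨Nat.prime_two⟩
  obtain ⟨b, hb, hs, hsV⟩ := h.exists_conj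
  obtain ⟨hc'1, hd'1⟩ := h.nondeg hb hs hsV
  have hNn := h.Nn
  have hVn := h.Vn
  obtain ⟨c, hc⟩ : ∃ c, c = a ^ 2 := ⟨_, rfl⟩
  obtain ⟨d, hd⟩ : ∃ d, d = b ^ 2 := ⟨_, rfl⟩
  rw [← hd] at hc'1
  rw [← hc] at hd'1
  have hcV : c ∈ V := hc ▸ h.ap
  have hdV : d ∈ V := hd ▸ hb.ap
  have hcd : c * d = d * c := h.Vc c hcV d hdV
  have hc2 : c * c = 1 := by rw [← pow_two]; exact h.Ve c hcV
  have hd2 : d * d = 1 := by rw [← pow_two]; exact h.Ve d hdV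
  have haC : Cz a (Subgroup.zpowers c) := hc ▸ h.cz_self
  have hbD : Cz b (Subgroup.zpowers d) := hd ▸ hb.cz_self
  have hactA : T2 a (Subgroup.zpowers c) V := hc ▸ h.act
  have hactB : T2 b (Subgroup.zpowers d) V := hd ▸ hb.act
  have hc'C : a * d * a⁻¹ * d⁻¹ ∈ Subgroup.zpowers c := hactA d hdV
  have hd'D : b * c * b⁻¹ * c⁻¹ ∈ Subgroup.zpowers d := hactB c hcV
  -- in a group of order two
  have key : ∀ {c c' : H}, c ∈ V → c' ∈ Subgroup.zpowers c → c' ≠ 1 → c' = c := by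
    intro c c' hcV hc' hc'1
    obtain ⟨α, hα⟩ := exists_pow_eq_of_mem_zpowers Nat.prime_two (h.Ve c hcV) hc' hc'1
    have hc'V : c' ∈ V := by
      rw [← Subgroup.zpowers_le] at hcV; exact hcV hc'
    have h2 := h.Ve c' hc'V
    rcases Nat.even_or_odd α with ⟨k, hk⟩ | ⟨k, hk⟩
    · exfalso
      have : c = 1 := by rw [← hα, hk, ← two_mul, pow_mul, h2, one_pow]
      rw [this, Subgroup.zpowers_one_eq_bot, Subgroup.mem_bot] at hc'
      exact hc'1 hc'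
    · rw [← hα, hk, pow_succ, pow_mul, h2, one_pow, one_mul]
  have hc'eq := key hcV hc'C hc'1
  have hd'eq := key hdV hd'D hd'1
  have had : a * d * a⁻¹ = c * d := by
    calc a * d * a⁻¹ = (a * d * a⁻¹ * d⁻¹) * d := by group
      _ = c * d := by rw [hc'eq]
  have hbc : b * c * b⁻¹ = d * c := by
    calc b * c * b⁻¹ = (b * c * b⁻¹ * c⁻¹) * c := by group
      _ = d * c := by rw [hd'eq]
  have hac : a * c = c * a := haC c (Subgroup.mem_zpowers c)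
  have hbd : b * d = d * b := hbD d (Subgroup.mem_zpowers d)
  have hcinv : c⁻¹ = c := inv_eq_of_mul_eq_one_right hc2
  have hdinv : d⁻¹ = d := inv_eq_of_mul_eq_one_right hd2
  -- action of `s = b a⁻¹`
  have hainvc : a⁻¹ * c * a = c := by
    calc a⁻¹ * c * a = a⁻¹ * (c * a) := by group
      _ = a⁻¹ * (a * c) := by rw [hac]
      _ = c := by group
  have hainvd : a⁻¹ * d * a = c * d := by
    calc a⁻¹ * d * a = a⁻¹ * (c⁻¹ * (c * d)) * a := by group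
      _ = a⁻¹ * (c⁻¹ * (a * d * a⁻¹)) * a := by rw [had]
      _ = (a⁻¹ * c * a)⁻¹ * d := by group
      _ = c * d := by rw [hainvc, hcinv]
  have hbdb : b * d * b⁻¹ = d := by
    rw [hbd]; group
  have hsc : (b * a⁻¹) * c * (b * a⁻¹)⁻¹ = d * c := by
    calc (b * a⁻¹) * c * (b * a⁻¹)⁻¹ = b * (a⁻¹ * c * a) * b⁻¹ := by group
      _ = d * c := by rw [hainvc, hbc]
  have hsd : (b * a⁻¹) * d * (b * a⁻¹)⁻¹ = c := by
    calc (b * a⁻¹) * d * (b * a⁻¹)⁻¹ = b * (a⁻¹ * d * a) * b⁻¹ := by group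
      _ = b * (c * d) * b⁻¹ := by rw [hainvd]
      _ = (b * c * b⁻¹) * (b * d * b⁻¹) := by group
      _ = d * c * d := by rw [hbc, hbdb]
      _ = d * (d * c) := by rw [mul_assoc, hcd]
      _ = c := by rw [← mul_assoc, hd2, one_mul]
  have hcdc : c * (d * c) = d := by
    rw [← hcd, ← mul_assoc, hc2, one_mul]
  have hsdc : (b * a⁻¹) * (d * c) * (b * a⁻¹)⁻¹ = d := by
    calc (b * a⁻¹) * (d * c) * (b * a⁻¹)⁻¹
        = ((b * a⁻¹) * d * (b * a⁻¹)⁻¹) * ((b * a⁻¹) * c * (b * a⁻¹)⁻¹) := by group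
      _ = c * (d * c) := by rw [hsd, hsc]
      _ = d := hcdc
  have conj3 : ∀ v : H, (b * a⁻¹) ^ 3 * v * ((b * a⁻¹) ^ 3)⁻¹ =
      (b * a⁻¹) * ((b * a⁻¹) * ((b * a⁻¹) * v * (b * a⁻¹)⁻¹) * (b * a⁻¹)⁻¹) * (b * a⁻¹)⁻¹ := by
    intro v
    rw [pow_succ, pow_two]; group
  have hs3c : (b * a⁻¹) ^ 3 * c * ((b * a⁻¹) ^ 3)⁻¹ = c := by
    rw [conj3, hsc, hsdc, hsd]
  have hs3d : (b * a⁻¹) ^ 3 * d * ((b * a⁻¹) ^ 3)⁻¹ = d := by
    rw [conj3, hsd, hsc, hsdc]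
  -- `E`
  obtain ⟨E, hE⟩ : ∃ E, E = Subgroup.zpowers c ⊔ Subgroup.zpowers d := ⟨_, rfl⟩
  have hCE : Subgroup.zpowers c ≤ E := hE ▸ le_sup_left
  have hDE : Subgroup.zpowers d ≤ E := hE ▸ le_sup_right
  have hEV : E ≤ V := by
    rw [hE]
    exact sup_le (by rw [Subgroup.zpowers_le]; exact hcV) (by rw [Subgroup.zpowers_le]; exact hdV)
  have ha3 : T2 a E V := T2.mono hCE hactA
  have hb3 : T2 b E V := T2.mono hDE hactB
  have haE : Nz a E := (T2.mono_right hEV ha3).nz le_rfl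
  have hbE : Nz b E := (T2.mono_right hEV hb3).nz le_rfl
  have hsE : Nz (b * a⁻¹) E := hbE.mul haE.inv
  have hs3 : T2 (b * a⁻¹) E V := T2.mul hbE hb3 (ha3.inv haE)
  have hs3E : T2 ((b * a⁻¹) ^ 3) E V := hs3.pow hsE 3
  have hs3Cz : Cz ((b * a⁻¹) ^ 3) E := by
    rw [hE]
    apply Cz.sup
    · apply cz_zpowers
      calc (b * a⁻¹) ^ 3 * c = ((b * a⁻¹) ^ 3 * c * ((b * a⁻¹) ^ 3)⁻¹) * (b * a⁻¹) ^ 3 := by group
        _ = c * (b * a⁻¹) ^ 3 := by rw [hs3c]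
    · apply cz_zpowers
      calc (b * a⁻¹) ^ 3 * d = ((b * a⁻¹) ^ 3 * d * ((b * a⁻¹) ^ 3)⁻¹) * (b * a⁻¹) ^ 3 := by group
        _ = d * (b * a⁻¹) ^ 3 := by rw [hs3d]
  have hs3V : (b * a⁻¹) ^ 3 ∈ V := by
    have hEe : ∀ e ∈ E, e ^ 2 = 1 := fun e he => h.Ve e (hEV he)
    have h1 : Cz (((b * a⁻¹) ^ 3) ^ 2) V := Cz.of_unip hEe hs3Cz hs3E
    have h2 := h.CV _ h1
    apply h.Np _ (N.pow_mem hs 3) 1
    rw [pow_one]; exact h2
  -- pass to `H / V`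
  have hx3 : (QuotientGroup.mk' V (b * a⁻¹)) ^ 3 ^ 1 = 1 := by
    rw [pow_one, ← map_pow]
    exact (QuotientGroup.eq_one_iff _).2 hs3V
  have hx1 : QuotientGroup.mk' V (b * a⁻¹) ≠ 1 := by
    intro h1
    exact hsV ((QuotientGroup.eq_one_iff _).1 h1)
  have ha2 : (QuotientGroup.mk' V a) * (QuotientGroup.mk' V a) = 1 := by
    rw [← map_mul, ← pow_two]
    exact (QuotientGroup.eq_one_iff _).2 h.ap
  have hb2 : (QuotientGroup.mk' V b) * (QuotientGroup.mk' V b) = 1 := by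
    rw [← map_mul, ← pow_two]
    exact (QuotientGroup.eq_one_iff _).2 hb.ap
  have hainv : (QuotientGroup.mk' V a)⁻¹ = QuotientGroup.mk' V a := inv_eq_of_mul_eq_one_right ha2
  have hbinv : (QuotientGroup.mk' V b)⁻¹ = QuotientGroup.mk' V b := inv_eq_of_mul_eq_one_right hb2
  have hinv : QuotientGroup.mk' V a * QuotientGroup.mk' V (b * a⁻¹) * (QuotientGroup.mk' V a)⁻¹ =
      (QuotientGroup.mk' V (b * a⁻¹))⁻¹ := by
    rw [map_mul, map_inv, hainv, mul_inv_rev, hainv, hbinv]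
    rw [mul_assoc, mul_assoc, ha2, mul_one]
  obtain ⟨e, t, he3, ht2, het, he1⟩ := Cfsg.Agent.Lib.H14.SFour.exists_pair_of_map_pair
    (QuotientGroup.mk' V) (QuotientGroup.mk'_surjective V) _ _ ⟨1, hx3⟩ hx1 hinv
  have hVp : IsPGroup 2 ↥V := by
    intro v
    refine ⟨1, ?_⟩
    apply Subtype.ext
    rw [pow_one, Subgroup.coe_pow, h.Ve _ v.2]; rfl
  apply Cfsg.Agent.Lib.H14.SFour.involves_of_pair V hVp e t _ _ he3 ht2 het
  · intro heC
    apply he1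
    apply (QuotientGroup.eq_one_iff _).2
    apply h.CV
    intro v hv
    exact (Subgroup.mem_centralizer_iff.1 heC v hv).symm
  · rw [Subgroup.normalizer_eq_top]; exact Subgroup.mem_top e
  · rw [Subgroup.normalizer_eq_top]; exact Subgroup.mem_top t

end TData

end Cfsg.Agent.Lib.H7.CycNorm
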