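import Mathlib
import Cfsg.Prelude.Def_Solvable
import Cfsg.Prelude.Def_Transfer
import Cfsg.Prelude.Def_CaseTheorems
import Cfsg.Agent.Lib.H7.Coprime
import Cfsg.Agent.Lib.H7.DihedralLemma2
import Cfsg.Agent.Lib.H1.Fitting
import Cfsg.Agent.Lib.H1.PCore
import Cfsg.Agent.Lib.H22.PPrimeCore

set_option autoImplicit false
open Cfsg

namespace Cfsg.Agent.Lib.H7.InvCent

open Cfsg.Agent.Lib.H7

universe u

variable {H : Type u} [Group H] [Finite H]

/-- In a solvable group with `O(H) = 1`, `C_H(O₂(H)) ≤ O₂(H)`. -/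
theorem centralizer_pCore_two_le (hsol : Group.IsSolvable H) (hO : oddCore H = ⊥) :
    Subgroup.centralizer (pCore 2 H : Set H) ≤ pCore 2 H := by
  have hF : fittingSubgroup H = pCore 2 H := by
    rw [Cfsg.Agent.Lib.H1.fittingSubgroup_eq_iSup_pCore]
    apply le_antisymm
    · apply iSup_le
      intro q
      by_cases hq : (q : ℕ) = 2
      · rw [hq]
      · have hqf : Fact (q : ℕ).Prime := ⟨q.2⟩
        have h1 : pCore (q : ℕ) H ≤ pPrimeCore 2 H := by
          apply Cfsg.Agent.Lib.H22.le_pPrimeCore 2 _ (Cfsg.Agent.Lib.H1.pCore_normal _ _)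
          obtain ⟨k, hk⟩ := IsPGroup.iff_card.1 (Cfsg.Agent.Lib.H1.pCore_isPGroup (q : ℕ) H)
          rw [hk]
          apply Nat.Coprime.pow_left
          exact (Nat.coprime_primes q.2 Nat.prime_two).2 hq
        have h2 : pPrimeCore 2 H = ⊥ := hO
        rw [h2] at h1
        exact h1.trans bot_le
    · exact le_iSup (fun q : Nat.Primes => pCore (q : ℕ) H) ⟨2, Nat.prime_two⟩
  have := centralizer_fittingSubgroup_le_of_isSolvable H
  rwa [hF] at this

/-- Odd-order elements lie in a normal `2`-complement. -/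
theorem mem_of_isComplement'_sylow {C : Type*} [Group C] [Finite C] (P : Sylow 2 C)
    (N : Subgroup C) [hN : N.Normal] (hc : N.IsComplement' (P : Subgroup C)) {x : C}
    (hx : Odd (orderOf x)) : x ∈ N := by
  have hidx : N.index = Nat.card (P : Subgroup C) := hc.symm.index_eq_card
  obtain ⟨k, hk⟩ := IsPGroup.iff_card.1 P.isPGroup'
  have h1 : orderOf (QuotientGroup.mk' N x) ∣ orderOf x := orderOf_map_dvd _ x
  have h2 : orderOf (QuotientGroup.mk' N x) ∣ 2 ^ k := by
    rw [← hk, ← hidx, Subgroup.index_eq_card]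
    exact orderOf_dvd_natCard _
  have h3 : (orderOf x).Coprime (2 ^ k) :=
    Nat.Coprime.pow_right k (Nat.coprime_two_right.2 hx)
  have h4 : orderOf (QuotientGroup.mk' N x) = 1 :=
    Nat.eq_one_of_dvd_coprimes h3 h1 h2
  rw [orderOf_eq_one_iff] at h4
  exact (QuotientGroup.eq_one_iff x).1 h4

/-- A normal `2`-complement has odd order. -/
theorem odd_card_of_isComplement'_sylow {C : Type*} [Group C] [Finite C] (P : Sylow 2 C)
    (N : Subgroup C) (hc : N.IsComplement' (P : Subgroup C)) : Odd (Nat.card N) := by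
  have hidx : (P : Subgroup C).index = Nat.card N := hc.index_eq_card
  have : Fact (Nat.Prime 2) := ⟨Nat.prime_two⟩
  have h1 : ¬ 2 ∣ (P : Subgroup C).index := P.not_dvd_index
  rw [hidx] at h1
  exact Nat.odd_iff.2 (Nat.two_dvd_ne_zero.1 h1)

end Cfsg.Agent.Lib.H7.InvCent
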