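import Mathlib
import Cfsg.Agent.Lib.H7.InvCent1

set_option autoImplicit false
open Cfsg

namespace Cfsg.Agent.Lib.H7.InvCent

open Cfsg.Agent.Lib.H7

universe u

variable {H : Type u} [Group H] [Finite H]

/-- **Key lemma.** In a solvable group with `O(H) = 1` in which involution centralizers have normal
`2`-complements, no nontrivial element of odd order commutes with an involution. -/
theorem eq_one_of_commute_involution (hsol : Group.IsSolvable H) (hO : oddCore H = ⊥)
    (hI : ∀ t : H, orderOf t = 2 →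
      HasNormalPComplement 2 ↥(Subgroup.centralizer ({t} : Set H)))
    {t c : H} (ht : orderOf t = 2) (hc : Odd (orderOf c)) (hct : c * t = t * c) : c = 1 := by
  have h2 : Fact (Nat.Prime 2) := ⟨Nat.prime_two⟩
  set Y := pCore 2 H with hY
  have hYn : Y.Normal := Cfsg.Agent.Lib.H1.pCore_normal 2 H
  have hYp : IsPGroup 2 Y := Cfsg.Agent.Lib.H1.pCore_isPGroup 2 H
  set C := Subgroup.centralizer ({t} : Set H) with hC
  obtain ⟨P, N, hNn, hNc⟩ := hI t ht
  have hcC : c ∈ C := Subgroup.mem_centralizer_singleton_iff.2 hct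
  have hcN : (⟨c, hcC⟩ : C) ∈ N := by
    apply mem_of_isComplement'_sylow P N hNc
    have : orderOf (⟨c, hcC⟩ : C) = orderOf c := by
      rw [← Subgroup.orderOf_coe]
    rwa [this]
  set A := N.map C.subtype with hA
  have hcA : c ∈ A := ⟨⟨c, hcC⟩, hcN, rfl⟩
  have hAcard : Nat.card A = Nat.card N :=
    Subgroup.card_map_of_injective C.subtype_injective
  have hAodd : Odd (Nat.card A) := by
    rw [hAcard]; exact odd_card_of_isComplement'_sylow P N hNc
  have hAcop : (Nat.card A).Coprime 2 := Nat.coprime_two_right.2 hAodd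
  have hAC : A ≤ C := Subgroup.map_subtype_le N
  set B := Subgroup.zpowers t with hB
  have hBp : IsPGroup 2 B := by
    apply IsPGroup.of_card (n := 1)
    rw [hB, Nat.card_zpowers, ht, pow_one]
  have hAcentB : A ≤ Subgroup.centralizer (B : Set H) := by
    intro a ha
    have h1 := Subgroup.mem_centralizer_singleton_iff.1 (hAC ha)
    rw [Subgroup.mem_centralizer_iff]
    intro b hb
    have hb : b ∈ Subgroup.zpowers t := hb
    obtain ⟨k, rfl⟩ := Subgroup.mem_zpowers_iff.1 hb
    exact ((Commute.zpow_left (show Commute t a from h1.symm) k)).eq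
  have hAB : ⁅A, B⁆ = ⊥ := Subgroup.commutator_eq_bot_iff_le_centralizer.2 hAcentB
  have hAQ : A ≤ Subgroup.normalizer (Y : Set H) := by
    rw [Subgroup.normalizer_eq_top]; exact le_top
  have hBQ : B ≤ Subgroup.normalizer (Y : Set H) := by
    rw [Subgroup.normalizer_eq_top]; exact le_top
  have hAY : A ⊓ Y = ⊥ := by
    apply (Subgroup.disjoint_of_coprime_natCard ?_).eq_bot
    obtain ⟨k, hk⟩ := IsPGroup.iff_card.1 hYp
    rw [hk]
    exact Nat.Coprime.pow_right k hAcop
  have hCC : ⁅A, Y ⊓ Subgroup.centralizer (B : Set H)⁆ = ⊥ := by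
    rw [Subgroup.commutator_eq_bot_iff_le_centralizer]
    intro a ha
    rw [Subgroup.mem_centralizer_iff]
    intro z hz
    obtain ⟨hzY, hzB⟩ := Subgroup.mem_inf.1 hz
    have hzC : z ∈ C := by
      rw [hC, Subgroup.mem_centralizer_singleton_iff]
      exact (Subgroup.mem_centralizer_iff.1 hzB t (Subgroup.mem_zpowers t)).symm
    obtain ⟨n, hn, rfl⟩ := ha
    have h1 : C.subtype n * z * (C.subtype n)⁻¹ * z⁻¹ ∈ A ⊓ Y := by
      refine Subgroup.mem_inf.2 ⟨?_, ?_⟩
      · have h2 : (⟨z, hzC⟩ : C) * n⁻¹ * (⟨z, hzC⟩ : C)⁻¹ ∈ N :=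
          hNn.conj_mem _ (N.inv_mem hn) _
        have h3 : n * ((⟨z, hzC⟩ : C) * n⁻¹ * (⟨z, hzC⟩ : C)⁻¹) ∈ N := N.mul_mem hn h2
        refine ⟨_, h3, ?_⟩
        simp only [Subgroup.coe_subtype, Subgroup.coe_mul, InvMemClass.coe_inv]
        group
      · have h2 : C.subtype n * z * (C.subtype n)⁻¹ ∈ Y := hYn.conj_mem z hzY _
        exact Y.mul_mem h2 (Y.inv_mem hzY)
    rw [hAY, Subgroup.mem_bot] at h1
    calc z * C.subtype n = (C.subtype n * z * (C.subtype n)⁻¹ * z⁻¹)⁻¹ * (C.subtype n * z) := by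
          group
      _ = C.subtype n * z := by rw [h1, inv_one, one_mul]
  have hfin := thompson_AxB' 2 hYp hBp hAcop hAB hAQ hBQ hCC
  rw [Subgroup.commutator_eq_bot_iff_le_centralizer] at hfin
  have hAleY : A ≤ Y := hfin.trans (centralizer_pCore_two_le hsol hO)
  have : c ∈ A ⊓ Y := Subgroup.mem_inf.2 ⟨hcA, hAleY hcA⟩
  rw [hAY, Subgroup.mem_bot] at this
  exact this

end Cfsg.Agent.Lib.H7.InvCent
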