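import Mathlib
import Cfsg.Agent.Lib.H7.InvCent2
import Cfsg.Agent.Lib.H7.CoprimeQuot

set_option autoImplicit false
open Cfsg

namespace Cfsg.Agent.Lib.H7.InvCent

open Cfsg.Agent.Lib.H7

universe u

variable {H : Type u} [Group H] [Finite H]

/-- The standing hypotheses. -/
structure Hyp (H : Type u) [Group H] : Prop where
  sol : Group.IsSolvable H
  hO : oddCore H = ⊥
  hI : ∀ t : H, orderOf t = 2 →
    HasNormalPComplement 2 ↥(Subgroup.centralizer ({t} : Set H))

theorem Hyp.eq_one_of_commute_involution (h : Hyp H) {t c : H} (ht : orderOf t = 2)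
    (hc : Odd (orderOf c)) (hct : c * t = t * c) : c = 1 :=
  InvCent.eq_one_of_commute_involution h.sol h.hO h.hI ht hc hct

omit [Finite H] in
/-- A nontrivial element of a `2`-group has a power of order `2`. -/
theorem exists_pow_orderOf_eq_two {P : Subgroup H} (hP : IsPGroup 2 P) {y : H} (hy : y ∈ P)
    (hy1 : y ≠ 1) : ∃ k : ℕ, orderOf (y ^ k) = 2 := by
  obtain ⟨n, hn⟩ := hP ⟨y, hy⟩
  have hn' : y ^ (2 ^ n) = 1 := by
    have := congrArg Subtype.val hn
    simpa using this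
  obtain ⟨m, -, hm⟩ := (Nat.dvd_prime_pow Nat.prime_two).1 (orderOf_dvd_of_pow_eq_one hn')
  have hm0 : m ≠ 0 := by
    intro h0
    rw [h0, pow_zero, orderOf_eq_one_iff] at hm
    exact hy1 hm
  obtain ⟨j, rfl⟩ := Nat.exists_eq_succ_of_ne_zero hm0
  refine ⟨2 ^ j, ?_⟩
  rw [orderOf_pow_of_dvd (pow_ne_zero j two_ne_zero), hm, pow_succ,
    Nat.mul_div_cancel_left _ (pow_pos two_pos j)]
  rw [hm, pow_succ]
  exact Dvd.intro _ rfl

/-- Odd-order elements act fixed-point-freely on `O₂(H)`. -/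
theorem Hyp.eq_one_of_commute_pCore (h : Hyp H) {x y : H} (hx : Odd (orderOf x))
    (hy : y ∈ pCore 2 H) (hy1 : y ≠ 1) (hxy : x * y = y * x) : x = 1 := by
  have h2 : Fact (Nat.Prime 2) := ⟨Nat.prime_two⟩
  obtain ⟨k, hk⟩ := exists_pow_orderOf_eq_two (Cfsg.Agent.Lib.H1.pCore_isPGroup 2 H) hy hy1
  apply h.eq_one_of_commute_involution hk hx
  exact ((show Commute x y from hxy).pow_right k).eq

/-- No involution of `H / O₂(H)` commutes with the image of a nontrivial `q`-element, `q` odd. -/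
theorem Hyp.false_of_commute_quotient (h : Hyp H) (q : ℕ) [hq : Fact q.Prime] (hq2 : q ≠ 2)
    {c : H} (hcq : IsPGroup q (Subgroup.zpowers c)) (hc1 : c ≠ 1)
    (Y : Subgroup H) [hYn : Y.Normal] (hY : Y = pCore 2 H)
    {e : H ⧸ Y} (he : orderOf e = 2)
    (hcomm : e * QuotientGroup.mk' Y c = QuotientGroup.mk' Y c * e) :
    False := by
  have h2 : Fact (Nat.Prime 2) := ⟨Nat.prime_two⟩
  have hYp : IsPGroup 2 Y := by rw [hY]; exact Cfsg.Agent.Lib.H1.pCore_isPGroup 2 H
  set π := QuotientGroup.mk' Y with hπ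
  obtain ⟨x, hxe⟩ := QuotientGroup.mk'_surjective Y e
  have hxe : π x = e := hxe
  have hYq : (Nat.card Y).Coprime q := by
    obtain ⟨k, hk⟩ := IsPGroup.iff_card.1 hYp
    rw [hk]
    apply Nat.Coprime.pow_left
    exact (Nat.coprime_primes Nat.prime_two hq.out).2 (Ne.symm hq2)
  have hx : π x ∈ Subgroup.centralizer
      (((Subgroup.zpowers c).map π : Subgroup (H ⧸ Y)) : Set (H ⧸ Y)) := by
    rw [Subgroup.mem_centralizer_iff]
    rintro _ ⟨u, hu, rfl⟩
    obtain ⟨k, rfl⟩ := Subgroup.mem_zpowers_iff.1 hu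
    rw [map_zpow, hxe]
    exact ((show Commute e (π c) from hcomm).zpow_right k).eq.symm
  obtain ⟨s, hs, hsx⟩ := exists_mem_centralizer_of_mk_mem_centralizer q hYq hcq hx
  have hsc : c * s = s * c :=
    (Subgroup.mem_centralizer_iff.1 hs c (Subgroup.mem_zpowers c))
  -- `c` has odd order
  have hcodd : Odd (orderOf c) := by
    obtain ⟨k, hk⟩ := IsPGroup.iff_card.1 hcq
    rw [Nat.card_zpowers] at hk
    rw [hk]
    exact Odd.pow (hq.out.eq_two_or_odd'.resolve_left hq2)
  -- `s ^ 2 ∈ Y`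
  have hs2Y : s ^ 2 ∈ Y := by
    rw [← QuotientGroup.eq_one_iff, ← QuotientGroup.mk'_apply, map_pow]
    show (π s) ^ 2 = 1
    rw [hsx, hxe, ← he]
    exact pow_orderOf_eq_one _
  have hs2 : s ^ 2 = 1 := by
    by_contra hne
    apply hc1
    apply h.eq_one_of_commute_pCore hcodd (by rw [← hY]; exact hs2Y) hne
    exact ((show Commute c s from hsc).pow_right 2).eq
  have hs1 : s ≠ 1 := by
    intro h1
    rw [h1, map_one, hxe] at hsx
    rw [← hsx, orderOf_one] at he
    exact absurd he (by norm_num)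
  have hso : orderOf s = 2 := orderOf_eq_prime hs2 hs1
  exact hc1 (h.eq_one_of_commute_involution hso hcodd hsc)

end Cfsg.Agent.Lib.H7.InvCent
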