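import Mathlib
import Cfsg.Agent.Lib.H7.InvCent3

set_option autoImplicit false
open Cfsg

namespace Cfsg.Agent.Lib.H7.InvCent

open Cfsg.Agent.Lib.H7

universe u

variable {H : Type u} [Group H] [Finite H]

/-- `O_p(H / O_p(H)) = 1`. -/
theorem pCore_quotient_eq_bot' (p : ℕ) [Fact p.Prime] (Y : Subgroup H) [hYn : Y.Normal]
    (hY : Y = pCore p H) : pCore p (H ⧸ Y) = ⊥ := by
  set π := QuotientGroup.mk' Y with hπ
  set M := pCore p (H ⧸ Y) with hM
  have hMn : M.Normal := Cfsg.Agent.Lib.H1.pCore_normal p _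
  have hMp : IsPGroup p M := Cfsg.Agent.Lib.H1.pCore_isPGroup p _
  have hYp : IsPGroup p Y := by rw [hY]; exact Cfsg.Agent.Lib.H1.pCore_isPGroup p H
  have h1 : IsPGroup p (M.comap π) := by
    apply hMp.comap_of_ker_isPGroup
    rw [hπ, QuotientGroup.ker_mk']; exact hYp
  have h2 : M.comap π ≤ Y := by
    have h3 : M.comap π ≤ pCore p H := Cfsg.Agent.Lib.H1.le_pCore (hMn.comap π) h1
    exact h3.trans hY.ge
  rw [eq_bot_iff]
  intro m hm
  obtain ⟨g, rfl⟩ := QuotientGroup.mk'_surjective Y m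
  have : g ∈ Y := h2 hm
  rw [Subgroup.mem_bot]
  exact (QuotientGroup.eq_one_iff g).2 this

section quot

variable (Y : Subgroup H) [hYn : Y.Normal]

/-- `F(H / O₂(H))` has odd order. -/
theorem odd_card_fitting_quotient (hY : Y = pCore 2 H) :
    Odd (Nat.card (fittingSubgroup (H ⧸ Y))) := by
  have h2 : Fact (Nat.Prime 2) := ⟨Nat.prime_two⟩
  have hF : fittingSubgroup (H ⧸ Y) ≤ pPrimeCore 2 (H ⧸ Y) := by
    rw [Cfsg.Agent.Lib.H1.fittingSubgroup_eq_iSup_pCore]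
    apply iSup_le
    intro q
    by_cases hq : (q : ℕ) = 2
    · rw [hq, pCore_quotient_eq_bot' 2 Y hY]
      exact bot_le
    · have hqf : Fact (q : ℕ).Prime := ⟨q.2⟩
      apply Cfsg.Agent.Lib.H22.le_pPrimeCore 2 _ (Cfsg.Agent.Lib.H1.pCore_normal _ _)
      obtain ⟨k, hk⟩ := IsPGroup.iff_card.1 (Cfsg.Agent.Lib.H1.pCore_isPGroup (q : ℕ) (H ⧸ Y))
      rw [hk]
      apply Nat.Coprime.pow_left
      exact (Nat.coprime_primes q.2 Nat.prime_two).2 hq
  have h1 := Cfsg.Agent.Lib.H22.card_pPrimeCore_coprime (G := H ⧸ Y) 2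
  have h3 := Nat.Coprime.coprime_dvd_left (Subgroup.card_dvd_of_le hF) h1
  exact Nat.coprime_two_right.1 h3

variable {Y}

/-- Involutions of `H / O₂(H)` act fixed-point-freely on `F(H / O₂(H))`. -/
theorem Hyp.eq_one_of_commute_fitting (h : Hyp H) (hY : Y = pCore 2 H) {e f : H ⧸ Y}
    (he : orderOf e = 2) (hf : f ∈ fittingSubgroup (H ⧸ Y)) (hef : e * f = f * e) : f = 1 := by
  by_contra hf1
  have hodd := odd_card_fitting_quotient Y hY
  have hfo : Odd (orderOf f) :=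
    Odd.of_dvd_nat hodd (Subgroup.orderOf_dvd_natCard _ hf)
  have hne : orderOf f ≠ 1 := fun h1 => hf1 (orderOf_eq_one_iff.1 h1)
  obtain ⟨q, hq, hqf⟩ := Nat.exists_prime_and_dvd hne
  have hqF : Fact q.Prime := ⟨hq⟩
  have hq2 : q ≠ 2 := by
    rintro rfl
    exact (Nat.not_even_iff_odd.2 hfo) (even_iff_two_dvd.2 hqf)
  -- an element `d` of order `q` in `⟨f⟩`
  have hqc : q ∣ Nat.card (Subgroup.zpowers f) := by rwa [Nat.card_zpowers]
  obtain ⟨d', hd'⟩ := exists_prime_orderOf_dvd_card' q hqc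
  obtain ⟨d, hdmem, hdo⟩ : ∃ d : H ⧸ Y, d ∈ Subgroup.zpowers f ∧ orderOf d = q :=
    ⟨(d' : H ⧸ Y), d'.2, by rw [Subgroup.orderOf_coe]; exact hd'⟩
  have hed : Commute e d := by
    obtain ⟨k, rfl⟩ := Subgroup.mem_zpowers_iff.1 hdmem
    exact (show Commute e f from hef).zpow_right k
  obtain ⟨g, rfl⟩ := QuotientGroup.mk'_surjective Y d
  have hn0 : orderOf g ≠ 0 := (orderOf_pos g).ne'
  obtain ⟨a, m, hm, hnm⟩ := Nat.exists_eq_pow_mul_and_not_dvd hn0 q hq.ne_one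
  have hm0 : m ≠ 0 := by
    rintro rfl
    exact hm (dvd_zero q)
  have hco : orderOf (g ^ m) = q ^ a := by
    rw [orderOf_pow_of_dvd hm0 (Dvd.intro_left _ hnm.symm), hnm,
      Nat.mul_div_cancel _ (Nat.pos_of_ne_zero hm0)]
  have hcq : IsPGroup q (Subgroup.zpowers (g ^ m)) := by
    apply IsPGroup.of_card (n := a)
    rw [Nat.card_zpowers, hco]
  have hc1 : g ^ m ≠ 1 := by
    intro h1
    have h3 : (QuotientGroup.mk' Y g) ^ m = 1 := by rw [← map_pow, h1, map_one]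
    have h4 := orderOf_dvd_of_pow_eq_one h3
    rw [hdo] at h4
    exact hm h4
  apply h.false_of_commute_quotient q hq2 hcq hc1 Y hY he
  rw [map_pow]
  exact (hed.pow_right m).eq

/-- Involutions of `H / O₂(H)` invert `F(H / O₂(H))`. -/
theorem Hyp.conj_eq_inv_of_mem_fitting (h : Hyp H) (hY : Y = pCore 2 H) {e f : H ⧸ Y}
    (he : orderOf e = 2) (hf : f ∈ fittingSubgroup (H ⧸ Y)) : e * f * e⁻¹ = f⁻¹ := by
  have hFn : (fittingSubgroup (H ⧸ Y)).Normal := fittingSubgroup_normal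
  set φ : ↥(fittingSubgroup (H ⧸ Y)) →* ↥(fittingSubgroup (H ⧸ Y)) :=
    (MulAut.conjNormal e : MulAut ↥(fittingSubgroup (H ⧸ Y))).toMonoidHom with hφ
  have happ : ∀ x : ↥(fittingSubgroup (H ⧸ Y)), ((φ x : ↥(fittingSubgroup (H ⧸ Y))) : H ⧸ Y) =
      e * x * e⁻¹ := fun x => MulAut.conjNormal_apply e x
  have he2 : e * e = 1 := by
    have := pow_orderOf_eq_one e
    rwa [he, pow_two] at this
  have hfpf : MonoidHom.FixedPointFree φ := by
    intro x hx
    have h1 : e * (x : H ⧸ Y) * e⁻¹ = x := by rw [← happ, hx]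
    have h2 : e * (x : H ⧸ Y) = x * e := by
      calc e * (x : H ⧸ Y) = (e * x * e⁻¹) * e := by group
        _ = x * e := by rw [h1]
    exact Subtype.ext (h.eq_one_of_commute_fitting hY he x.2 h2)
  have hinv : Function.Involutive φ := by
    intro x
    apply Subtype.ext
    rw [happ, happ]
    have : e⁻¹ = e := inv_eq_of_mul_eq_one_left he2
    calc e * (e * (x : H ⧸ Y) * e⁻¹) * e⁻¹ = (e * e) * x * (e⁻¹ * e⁻¹) := by group
      _ = x := by rw [this, he2, one_mul, mul_one]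
  have := hfpf.coe_eq_inv_of_involutive hinv
  have h3 := congrFun this ⟨f, hf⟩
  have h4 := congrArg Subtype.val h3
  rw [happ] at h4
  simpa using h4

end quot

end Cfsg.Agent.Lib.H7.InvCent
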