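import Mathlib
import Cfsg.Agent.Lib.H7.CycNorm6
import Cfsg.Agent.Lib.H7.InvCent4
import Cfsg.Agent.Lib.H9.FrattiniAction
import Cfsg.Agent.Lib.H10.PSolvable
import Cfsg.Agent.Lib.H10.PSolvable2
import Cfsg.Agent.Lib.H1.PSolvDual
import Cfsg.Agent.Lib.H1.PGroupBasic
import Cfsg.Agent.Lib.H22.PPrimeCore

set_option autoImplicit false
open Cfsg

namespace Cfsg.Agent.Lib.H7.CycNorm

universe u

variable {G : Type u} [Group G]

theorem mk_mem_map_iff {K M : Subgroup G} [K.Normal] (hKM : K ≤ M) {g : G} :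
    QuotientGroup.mk' K g ∈ M.map (QuotientGroup.mk' K) ↔ g ∈ M := by
  constructor
  · rintro ⟨m, hm, heq⟩
    have h1 : m⁻¹ * g ∈ K := by
      rw [← QuotientGroup.eq]
      exact heq
    have : g = m * (m⁻¹ * g) := by group
    rw [this]
    exact M.mul_mem hm (hKM h1)
  · intro hg
    exact ⟨g, hg, rfl⟩

variable [Finite G]

/-- the elements acting trivially on `Y / X` (for normal `X`, `Y`) form a normal subgroup -/
def t2Sub (X Y : Subgroup G) (hX : X.Normal) : Subgroup G where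
  carrier := {g | T2 g X Y}
  one_mem' := T2.one X Y
  mul_mem' := by
    intro x y hx hy
    exact T2.mul (fun e he => hX.conj_mem e he x) hx hy
  inv_mem' := by
    intro x hx
    exact T2.inv (fun e he => hX.conj_mem e he x) hx

theorem t2Sub_normal (X Y : Subgroup G) (hX : X.Normal) (hY : Y.Normal) : (t2Sub X Y hX).Normal := by
  refine ⟨fun g hg x => ?_⟩
  intro v hv
  have hv' : x⁻¹ * v * x ∈ Y := by
    have := hY.conj_mem v hv x⁻¹
    rwa [inv_inv] at this
  have h1 := hg _ hv'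
  have h2 := hX.conj_mem _ h1 x
  have e : x * g * x⁻¹ * v * (x * g * x⁻¹)⁻¹ * v⁻¹ =
      x * (g * (x⁻¹ * v * x) * g⁻¹ * (x⁻¹ * v * x)⁻¹) * x⁻¹ := by group
  rw [e]; exact h2

variable {p : ℕ} [hp : Fact p.Prime]

theorem frattini_map_normal : ((frattini ↥(pCore p G)).map (pCore p G).subtype).Normal := by
  have hQn : (pCore p G).Normal := Cfsg.Agent.Lib.H1.pCore_normal p G
  rw [← Subgroup.normalizer_eq_top_iff, eq_top_iff]
  have h1 := Cfsg.Agent.Lib.H1.normalizer_le_normalizer_map_of_characteristic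
    (frattini ↥(pCore p G))
  rw [Subgroup.normalizer_eq_top] at h1
  exact h1

theorem frattini_map_le : (frattini ↥(pCore p G)).map (pCore p G).subtype ≤ pCore p G := by
  rintro _ ⟨x, -, rfl⟩
  exact x.2

/-- the kernel of the action on `O_p(G) / Φ(O_p(G))` is `O_p(G)` when `O_{p'}(G) = 1`. -/
theorem mem_pCore_of_t2 (hG : IsPSolvable p G) (hO : pPrimeCore p G = ⊥) {g : G}
    (hg : T2 g ((frattini ↥(pCore p G)).map (pCore p G).subtype) (pCore p G)) :
    g ∈ pCore p G := by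
  have hQn : (pCore p G).Normal := Cfsg.Agent.Lib.H1.pCore_normal p G
  have hQp : IsPGroup p ↥(pCore p G) := Cfsg.Agent.Lib.H1.pCore_isPGroup p G
  have hΦn := frattini_map_normal (G := G) (p := p)
  set K := t2Sub _ (pCore p G) hΦn with hK
  have hKn : K.Normal := t2Sub_normal _ _ hΦn hQn
  have hKp : IsPGroup p ↥K := by
    intro k
    obtain ⟨k, hk⟩ := k
    have hn0 : orderOf k ≠ 0 := (orderOf_pos k).ne'
    obtain ⟨e, m, hm, hnm⟩ := Nat.exists_eq_pow_mul_and_not_dvd hn0 p hp.out.ne_one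
    refine ⟨e, ?_⟩
    apply Subtype.ext
    rw [Subgroup.coe_pow]
    show k ^ p ^ e = 1
    have hpe0 : p ^ e ≠ 0 := pow_ne_zero e hp.out.ne_zero
    have hyo : orderOf (k ^ p ^ e) = m := by
      rw [orderOf_pow_of_dvd hpe0 (Dvd.intro _ hnm.symm), hnm, Nat.mul_div_cancel_left _
        (Nat.pos_of_ne_zero hpe0)]
    have hcop : (orderOf (k ^ p ^ e)).Coprime p := by
      rw [hyo]
      exact ((Nat.Prime.coprime_iff_not_dvd hp.out).2 hm).symm
    have hyK : k ^ p ^ e ∈ K := K.pow_mem hk _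
    have hcomm := Cfsg.Agent.Lib.H9.commute_of_commutator_mem_frattini hQp
      (y := k ^ p ^ e) (by rw [Subgroup.normalizer_eq_top]; exact Subgroup.mem_top _) hcop
      (fun a ha q hq => (show a ∈ K from (Subgroup.zpowers_le.2 hyK) ha) q hq)
    have hyC : k ^ p ^ e ∈ Subgroup.centralizer (pCore p G : Set G) := by
      rw [Subgroup.mem_centralizer_iff]
      intro q hq
      exact (hcomm q hq).symm
    have hyQ := Cfsg.Agent.Lib.H10.centralizer_pCore_le_of_isPSolvable p hG hO hyC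
    obtain ⟨j, hj⟩ := IsPGroup.iff_card.1 hQp
    have hdvd : orderOf (k ^ p ^ e) ∣ p ^ j := by
      rw [← hj]; exact Subgroup.orderOf_dvd_natCard _ hyQ
    have h1 : orderOf (k ^ p ^ e) = 1 :=
      Nat.eq_one_of_dvd_coprimes (Nat.Coprime.pow_right j hcop) dvd_rfl hdvd
    exact orderOf_eq_one_iff.1 h1
  exact Cfsg.Agent.Lib.H1.le_pCore hKn hKp hg

end Cfsg.Agent.Lib.H7.CycNorm
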