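import Mathlib

set_option autoImplicit false

namespace Cfsg.Agent.Lib.H7.HHAb

section Norm

variable {A : Type*} [CommGroup A]

/-- the norm of an automorphism `φ` with `φ ^ p = 1` -/
noncomputable def normHom (φ : MulAut A) (p : ℕ) : A →* A where
  toFun a := ∏ j ∈ Finset.range p, (φ ^ j) a
  map_one' := by simp
  map_mul' a b := by
    rw [← Finset.prod_mul_distrib]
    apply Finset.prod_congr rfl
    intro j _
    exact map_mul _ a b

theorem normHom_apply (φ : MulAut A) (p : ℕ) (a : A) :
    normHom φ p a = ∏ j ∈ Finset.range p, (φ ^ j) a := rfl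

theorem normHom_comm (φ θ : MulAut A) (p : ℕ) (hθ : θ * φ = φ * θ) (a : A) :
    normHom φ p (θ a) = θ (normHom φ p a) := by
  rw [normHom_apply, normHom_apply, map_prod]
  apply Finset.prod_congr rfl
  intro j _
  have hc : Commute θ φ := hθ
  have h2 : θ * φ ^ j = φ ^ j * θ := (hc.pow_right j)
  have := congrArg (fun e : MulAut A => e a) h2
  simp only [MulAut.mul_apply] at this
  exact this.symm

theorem normHom_apply_self (φ : MulAut A) (p : ℕ) (hφ : φ ^ p = 1) (a : A) :
    normHom φ p (φ a) = normHom φ p a := by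
  rw [normHom_apply, normHom_apply]
  have h1 : ∀ j, (φ ^ j) (φ a) = (φ ^ (j + 1)) a := by
    intro j
    rw [pow_succ, MulAut.mul_apply]
  rw [Finset.prod_congr rfl fun j _ => h1 j]
  have h2 := Finset.prod_range_succ' (fun j => (φ ^ j) a) p
  have h3 := Finset.prod_range_succ (fun j => (φ ^ j) a) p
  rw [h3] at h2
  simp only [hφ, pow_zero, MulAut.one_apply] at h2
  exact (mul_right_cancel h2).symm

theorem normHom_of_fixed (φ : MulAut A) (p : ℕ) (a : A) (ha : φ a = a) :
    normHom φ p a = a ^ p := by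
  rw [normHom_apply]
  have h1 : ∀ j, (φ ^ j) a = a := by
    intro j
    induction j with
    | zero => simp
    | succ j ih => rw [pow_succ, MulAut.mul_apply, ha, ih]
  rw [Finset.prod_congr rfl fun j _ => h1 j]
  simp

/-- a nontrivial coprime automorphism `φ` of prime-power... order dividing `p` of a finite abelian
group `A` acts fixed-point-freely on the (nontrivial, `θ`-invariant) kernel of its norm. -/
theorem exists_fpf_subgroup [Finite A] (φ θ : MulAut A) (p : ℕ) (hφ : φ ^ p = 1) (hne : φ ≠ 1)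
    (hcop : (Nat.card A).Coprime p) (hθ : θ * φ = φ * θ) :
    ∃ R : Subgroup A, R ≠ ⊥ ∧ (∀ a ∈ R, θ a ∈ R) ∧ (∀ a ∈ R, φ a = a → a = 1) := by
  refine ⟨(normHom φ p).ker, ?_, ?_, ?_⟩
  · intro hbot
    apply hne
    ext a
    have h1 : a * (φ a)⁻¹ ∈ (normHom φ p).ker := by
      rw [MonoidHom.mem_ker, map_mul, map_inv, normHom_apply_self φ p hφ, mul_inv_cancel]
    rw [hbot, Subgroup.mem_bot] at h1
    rw [MulAut.one_apply]
    exact (mul_inv_eq_one.1 h1).symm
  · intro a ha
    rw [MonoidHom.mem_ker] at ha ⊢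
    rw [normHom_comm φ θ p hθ, ha, map_one]
  · intro a ha hfix
    rw [MonoidHom.mem_ker, normHom_of_fixed φ p a hfix] at ha
    have h1 : orderOf a ∣ p := orderOf_dvd_of_pow_eq_one ha
    have h2 : orderOf a ∣ Nat.card A := orderOf_dvd_natCard a
    have h3 : orderOf a = 1 := Nat.eq_one_of_dvd_coprimes hcop h2 h1
    exact orderOf_eq_one_iff.1 h3

end Norm

end Cfsg.Agent.Lib.H7.HHAb
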