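import Mathlib
import Cfsg.Agent.Lib.H7.HHAb2
import Cfsg.Agent.Lib.H1.CoprimeSylow
import Cfsg.Agent.Lib.H1.PSolvDual
import Cfsg.Agent.Lib.H22.PPrimeCore

set_option autoImplicit false
open Cfsg

namespace Cfsg.Agent.Lib.H7.HHAb

universe u

variable {K : Type u} [Group K] [Finite K] {p : ℕ} [hp : Fact p.Prime]

/-- a power of `x ^ i` equals `x ^ (p ^ (m-1))` when `0 < i < p ^ m = orderOf x`. -/
theorem exists_pow_eq_of_lt {x : K} {m : ℕ} (hm : 1 ≤ m) (hx : orderOf x = p ^ m) {i : ℕ}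
    (hi0 : 0 < i) (hit : i < p ^ m) : ∃ e : ℕ, (x ^ i) ^ e = x ^ (p ^ (m - 1)) := by
  obtain ⟨a, i', hi', hia⟩ := Nat.exists_eq_pow_mul_and_not_dvd hi0.ne' p hp.out.ne_one
  have ham : a < m := by
    by_contra hcon
    push Not at hcon
    have h1 : p ^ m ≤ p ^ a := Nat.pow_le_pow_right hp.out.pos hcon
    have h2 : p ^ a ≤ i := by
      rw [hia]; exact Nat.le_mul_of_pos_right _ (Nat.pos_of_ne_zero (by rintro rfl; simp at hi'))
    omega
  have hcop : Nat.Coprime i' p := ((Nat.Prime.coprime_iff_not_dvd hp.out).2 hi').symm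
  obtain ⟨j', -, hj'⟩ := Nat.exists_mul_mod_eq_one_of_coprime hcop hp.out.one_lt
  have hyo : orderOf (x ^ (p ^ (m - 1))) = p := by
    rw [orderOf_pow_of_dvd (pow_ne_zero _ hp.out.ne_zero) (by rw [hx]; exact pow_dvd_pow p (by omega)),
      hx]
    have : p ^ m = p ^ (m - 1) * p := by rw [← pow_succ]; congr 1; omega
    rw [this, Nat.mul_div_cancel_left _ (pow_pos hp.out.pos _)]
  refine ⟨p ^ (m - 1 - a) * j', ?_⟩
  have e1 : (x ^ i) ^ (p ^ (m - 1 - a) * j') = (x ^ (p ^ (m - 1))) ^ (i' * j') := by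
    rw [← pow_mul, ← pow_mul, hia]
    congr 1
    have : p ^ (m - 1) = p ^ a * p ^ (m - 1 - a) := by rw [← pow_add]; congr 1; omega
    rw [this]; ring
  rw [e1, ← pow_mod_orderOf, hyo, hj', pow_one]

theorem exists_fpf_section (hK : IsPSolvable p K) (hO : pCore p K = ⊥)
    (hab : ∀ q : ℕ, q.Prime → q ≠ p → ∀ S : Subgroup K, IsPGroup q S →
      ∀ a ∈ S, ∀ b ∈ S, a * b = b * a)
    {x : K} {m : ℕ} (hm : 1 ≤ m) (hx : orderOf x = p ^ m) :
    ∃ R : Subgroup K, R ≠ ⊥ ∧ (Nat.card R).Coprime p ∧ (∀ u ∈ R, x * u * x⁻¹ ∈ R) ∧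
      ∀ i, 0 < i → i < p ^ m → ∀ u ∈ R, x ^ i * u = u * x ^ i → u = 1 := by
  classical
  obtain ⟨y, hy⟩ : ∃ y, y = x ^ (p ^ (m - 1)) := ⟨_, rfl⟩
  have hyo : orderOf y = p := by
    rw [hy, orderOf_pow_of_dvd (pow_ne_zero _ hp.out.ne_zero)
      (by rw [hx]; exact pow_dvd_pow p (by omega)), hx]
    have : p ^ m = p ^ (m - 1) * p := by rw [← pow_succ]; congr 1; omega
    rw [this, Nat.mul_div_cancel_left _ (pow_pos hp.out.pos _)]
  have hyp : y ^ p = 1 := by rw [← hyo]; exact pow_orderOf_eq_one y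
  have hxy : x * y = y * x := by
    rw [hy]; exact ((Commute.refl x).pow_right _).eq
  have hNn : (pPrimeCore p K).Normal := Cfsg.Agent.Lib.H22.pPrimeCore_normal p
  have hNc : (Nat.card (pPrimeCore p K)).Coprime p := Cfsg.Agent.Lib.H22.card_pPrimeCore_coprime p
  have hCN := Cfsg.Agent.Lib.H1.PSolvDual.centralizer_pPrimeCore_le_of_isPSolvable p hK hO
  have hyN : y ∉ pPrimeCore p K := by
    intro h
    have h1 : orderOf y ∣ Nat.card (pPrimeCore p K) := Subgroup.orderOf_dvd_natCard _ h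
    rw [hyo] at h1
    exact (Nat.Prime.coprime_iff_not_dvd hp.out).1 hNc.symm h1
  -- C_N(y) is a proper subgroup of N
  have hCne : pPrimeCore p K ⊓ Subgroup.centralizer {y} ≠ pPrimeCore p K := by
    intro h
    apply hyN
    apply hCN
    rw [Subgroup.mem_centralizer_iff]
    intro n hn
    have h1 : n ∈ pPrimeCore p K ⊓ Subgroup.centralizer {y} := by rw [h]; exact hn
    have h2 := Subgroup.mem_centralizer_singleton_iff.1 h1.2
    exact h2
  -- a prime q with full q-part not dividing |C_N(y)|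
  have hq : ∃ q : ℕ, q.Prime ∧ ¬ q ^ (Nat.card (pPrimeCore p K)).factorization q ∣
      Nat.card ↥(pPrimeCore p K ⊓ Subgroup.centralizer {y}) := by
    by_contra hcon
    push Not at hcon
    apply hCne
    have hdvd : Nat.card (pPrimeCore p K) ∣
        Nat.card ↥(pPrimeCore p K ⊓ Subgroup.centralizer {y}) := by
      rw [← Nat.factorization_le_iff_dvd Nat.card_pos.ne' Nat.card_pos.ne']
      intro q
      by_cases hqp : q.Prime
      · exact (hqp.pow_dvd_iff_le_factorization Nat.card_pos.ne').1 (hcon q hqp)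
      · rw [Nat.factorization_eq_zero_of_not_prime _ hqp]; exact Nat.zero_le _
    have hle : Nat.card (pPrimeCore p K) ≤
        Nat.card ↥(pPrimeCore p K ⊓ Subgroup.centralizer {y}) := Nat.le_of_dvd Nat.card_pos hdvd
    exact Subgroup.eq_of_le_of_card_ge inf_le_left hle
  obtain ⟨q, hqp, hqd⟩ := hq
  have : Fact q.Prime := ⟨hqp⟩
  -- invariant Sylow q-subgroup
  have hcopA : Cfsg.Agent.Lib.H1.CoprimeAction (Subgroup.zpowers x) (pPrimeCore p K) := by
    refine ⟨?_, ?_, Or.inl inferInstance⟩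
    · intro a _
      rw [Subgroup.normalizer_eq_top]; exact Subgroup.mem_top _
    · rw [Nat.card_zpowers, hx]
      exact (Nat.Coprime.pow_right m hNc).symm
  obtain ⟨P, hPs, hPX⟩ := Cfsg.Agent.Lib.H1.coprime_exists_invariant_sylow hcopA q
  have hPq : IsPGroup q P := hPs.isPGroup
  have hqne : q ≠ p := by
    intro hqp'
    -- then the q-part of |N| is 1
    apply hqd
    rw [hqp']
    have : (Nat.card (pPrimeCore p K)).factorization p = 0 :=
      Nat.factorization_eq_zero_of_not_dvd ((Nat.Prime.coprime_iff_not_dvd hp.out).1 hNc.symm)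
    rw [this, pow_zero]; exact one_dvd _
  have hxP : x ∈ Subgroup.normalizer (P : Set K) := hPX (Subgroup.mem_zpowers x)
  have hyP : y ∈ Subgroup.normalizer (P : Set K) := by
    rw [hy]; exact Subgroup.pow_mem _ hxP _
  -- P is not centralized by y
  have hPy : ∃ a ∈ P, y * a ≠ a * y := by
    by_contra hcon
    push Not at hcon
    apply hqd
    have hle : P ≤ pPrimeCore p K ⊓ Subgroup.centralizer {y} := by
      intro a ha
      refine ⟨hPs.le ha, ?_⟩
      show a ∈ Subgroup.centralizer {y}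
      rw [Subgroup.mem_centralizer_singleton_iff]
      exact (hcon a ha).symm
    rw [← hPs.card_eq]
    exact Subgroup.card_dvd_of_le hle
  have hPab := hab q hqp hqne P hPq
  -- commutative group structure on P
  let _ : CommGroup ↥P := { (inferInstance : Group ↥P) with
    mul_comm := fun a b => Subtype.ext (hPab a a.2 b b.2) }
  obtain ⟨φ, hφ⟩ : ∃ φ : MulAut ↥P, φ = P.normalizerMonoidHom ⟨y, hyP⟩ := ⟨_, rfl⟩
  obtain ⟨θ, hθ⟩ : ∃ θ : MulAut ↥P, θ = P.normalizerMonoidHom ⟨x, hxP⟩ := ⟨_, rfl⟩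
  have hφa : ∀ a : ↥P, ((φ a : ↥P) : K) = y * a * y⁻¹ := by intro a; rw [hφ]; rfl
  have hθa : ∀ a : ↥P, ((θ a : ↥P) : K) = x * a * x⁻¹ := by intro a; rw [hθ]; rfl
  have hφp : φ ^ p = 1 := by
    rw [hφ, ← map_pow]
    have : (⟨y, hyP⟩ : ↥(Subgroup.normalizer (P : Set K))) ^ p = 1 := by
      apply Subtype.ext
      rw [Subgroup.coe_pow]; exact hyp
    rw [this, map_one]
  have hφne : φ ≠ 1 := by
    intro h
    obtain ⟨a, ha, hne⟩ := hPy
    apply hne
    have h1 := hφa ⟨a, ha⟩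
    rw [h, MulAut.one_apply] at h1
    have h2 : a = y * a * y⁻¹ := h1
    calc y * a = y * a * y⁻¹ * y := by group
      _ = a * y := by rw [← h2]
  have hθφ : θ * φ = φ * θ := by
    rw [hθ, hφ, ← map_mul, ← map_mul]
    congr 1
    apply Subtype.ext
    exact hxy
  have hPcop : (Nat.card ↥P).Coprime p := by
    obtain ⟨k, hk⟩ := IsPGroup.iff_card.1 hPq
    rw [hk]
    exact Nat.Coprime.pow_left k ((Nat.coprime_primes hqp hp.out).2 hqne)
  obtain ⟨R₀, hR0ne, hR0θ, hR0φ⟩ := exists_fpf_subgroup φ θ p hφp hφne hPcop hθφ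
  refine ⟨R₀.map P.subtype, ?_, ?_, ?_, ?_⟩
  · intro h
    apply hR0ne
    rw [eq_bot_iff]
    intro a ha
    have h1 : (a : K) ∈ R₀.map P.subtype := ⟨a, ha, rfl⟩
    rw [h, Subgroup.mem_bot] at h1
    rw [Subgroup.mem_bot]
    exact Subtype.ext h1
  · have h1 : Nat.card ↥(R₀.map P.subtype) ∣ Nat.card ↥P := by
      rw [Subgroup.card_map_of_injective P.subtype_injective]
      exact Subgroup.card_subgroup_dvd_card R₀
    exact Nat.Coprime.coprime_dvd_left h1 hPcop
  · rintro _ ⟨a, ha, rfl⟩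
    refine ⟨θ a, hR0θ a ha, ?_⟩
    exact hθa a
  · intro i hi0 hit u hu hcomm
    obtain ⟨a, ha, rfl⟩ := hu
    obtain ⟨e, he⟩ := exists_pow_eq_of_lt hm hx hi0 hit
    have h1 : Commute (x ^ i) (P.subtype a) := hcomm
    have h2 : Commute ((x ^ i) ^ e) (P.subtype a) := h1.pow_left e
    rw [he, ← hy] at h2
    have h3 : φ a = a := by
      apply Subtype.ext
      rw [hφa]
      have : y * (a : K) = (a : K) * y := h2.eq
      rw [this]; group
    have h4 := hR0φ a ha h3
    rw [h4, map_one]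

end Cfsg.Agent.Lib.H7.HHAb
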