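import Mathlib
import Cfsg.Agent.Lib.H7.HHAb3
import Cfsg.Agent.Lib.H7.HHAb4
import Cfsg.Agent.Lib.H7.CycNorm7

set_option autoImplicit false
open Cfsg

namespace Cfsg.Agent.Lib.H7.HHAb

universe u

variable {H : Type u} [Group H] [Finite H]

/-- `q`-subgroups of quotients are abelian if `q`-subgroups are. -/
theorem abelian_qsub_quotient (N : Subgroup H) [N.Normal] (q : ℕ) [hq : Fact q.Prime]
    (hab : ∀ S : Subgroup H, IsPGroup q S → ∀ a ∈ S, ∀ b ∈ S, a * b = b * a)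
    (T : Subgroup (H ⧸ N)) (hT : IsPGroup q T) : ∀ a ∈ T, ∀ b ∈ T, a * b = b * a := by
  obtain ⟨f, hf⟩ : ∃ f : ↥(T.comap (QuotientGroup.mk' N)) →* ↥T,
      f = (QuotientGroup.mk' N).subgroupComap T := ⟨_, rfl⟩
  have hfs : Function.Surjective f := by
    rw [hf]
    exact MonoidHom.subgroupComap_surjective_of_surjective _ _ (QuotientGroup.mk'_surjective N)
  obtain ⟨S⟩ : Nonempty (Sylow q ↥(T.comap (QuotientGroup.mk' N))) := inferInstance
  have htop : ((S.mapSurjective hfs : Sylow q ↥T) : Subgroup ↥T) = ⊤ := by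
    have h1 : IsPGroup q ↥(⊤ : Subgroup ↥T) := by
      intro g
      obtain ⟨k, hk⟩ := hT g.1
      exact ⟨k, Subtype.ext hk⟩
    exact ((S.mapSurjective hfs).is_maximal' h1 le_top).symm
  have hlift : ∀ a ∈ T, ∃ s ∈ (S : Subgroup ↥(T.comap (QuotientGroup.mk' N))).map
      (T.comap (QuotientGroup.mk' N)).subtype, QuotientGroup.mk' N s = a := by
    intro a ha
    have h1 : (⟨a, ha⟩ : ↥T) ∈ ((S.mapSurjective hfs : Sylow q ↥T) : Subgroup ↥T) := by
      rw [htop]; exact Subgroup.mem_top _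
    rw [Sylow.coe_mapSurjective] at h1
    obtain ⟨s, hs, hfs'⟩ := h1
    refine ⟨s, ⟨s, hs, rfl⟩, ?_⟩
    have := congrArg Subtype.val hfs'
    rw [hf] at this
    exact this
  have hSq : IsPGroup q ↥((S : Subgroup ↥(T.comap (QuotientGroup.mk' N))).map
      (T.comap (QuotientGroup.mk' N)).subtype) :=
    S.isPGroup'.map _
  intro a ha b hb
  obtain ⟨s, hs, rfl⟩ := hlift a ha
  obtain ⟨s', hs', rfl⟩ := hlift b hb
  rw [← map_mul, ← map_mul, hab _ hSq s hs s' hs']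

variable {p : ℕ} [hp : Fact p.Prime]

theorem exponent_quot (hH : IsPSolvable p H) (hO : pPrimeCore p H = ⊥)
    (hab : ∀ q : ℕ, q.Prime → q ≠ p → ∀ S : Subgroup H, IsPGroup q S →
      ∀ a ∈ S, ∀ b ∈ S, a * b = b * a)
    (n : ℕ) (hexp : ∀ z : H, (∃ k, z ^ p ^ k = 1) → z ^ p ^ (n + 1) = 1)
    (Q : Subgroup H) [hQn : Q.Normal] (hQ : Q = pCore p H) :
    ∀ k : H ⧸ Q, (∃ j, k ^ p ^ j = 1) → k ^ p ^ n = 1 := by
  subst hQ
  have hQp : IsPGroup p ↥(pCore p H) := Cfsg.Agent.Lib.H1.pCore_isPGroup p H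
  -- elements with p-power image mod Q are p-elements
  have hpel : ∀ z : H, (∃ j, (QuotientGroup.mk z : H ⧸ pCore p H) ^ p ^ j = 1) →
      ∃ k, z ^ p ^ k = 1 := by
    intro z ⟨j, hj⟩
    rw [← QuotientGroup.mk_pow, QuotientGroup.eq_one_iff] at hj
    obtain ⟨e, he⟩ := hQp ⟨_, hj⟩
    refine ⟨j + e, ?_⟩
    have := congrArg Subtype.val he
    rw [Subgroup.coe_pow] at this
    rw [pow_add, pow_mul]; exact this
  intro k hk
  by_contra hne
  obtain ⟨x, rfl⟩ := QuotientGroup.mk_surjective k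
  have hxp := hpel x hk
  have hxt : x ^ p ^ (n + 1) = 1 := hexp x hxp
  have hxo : orderOf (QuotientGroup.mk x : H ⧸ pCore p H) = p ^ (n + 1) := by
    have h1 : orderOf (QuotientGroup.mk x : H ⧸ pCore p H) ∣ p ^ (n + 1) := by
      apply orderOf_dvd_of_pow_eq_one
      rw [← QuotientGroup.mk_pow, hxt]; rfl
    obtain ⟨i, hi, hio⟩ := (Nat.dvd_prime_pow hp.out).1 h1
    rcases Nat.lt_or_ge i (n + 1) with h | h
    · exfalso
      apply hne
      have h2 : p ^ i ∣ p ^ n := pow_dvd_pow p (by omega)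
      rw [← hio] at h2
      exact orderOf_dvd_iff_pow_eq_one.1 h2
    · have : i = n + 1 := le_antisymm hi h
      rw [hio, this]
  have hK : IsPSolvable p (H ⧸ pCore p H) := Cfsg.Agent.Lib.H10.isPSolvable_quotient hH _
  have hOK : pCore p (H ⧸ pCore p H) = ⊥ :=
    Cfsg.Agent.Lib.H7.InvCent.pCore_quotient_eq_bot' p (pCore p H) rfl
  have habK : ∀ q : ℕ, q.Prime → q ≠ p → ∀ S : Subgroup (H ⧸ pCore p H), IsPGroup q S →
      ∀ a ∈ S, ∀ b ∈ S, a * b = b * a := by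
    intro q hq hqp S hS
    have : Fact q.Prime := ⟨hq⟩
    exact abelian_qsub_quotient (pCore p H) q (hab q hq hqp) S hS
  obtain ⟨R, hRne, hRcop, hRx, hRfpf⟩ := exists_fpf_section hK hOK habK (Nat.succ_pos n) hxo
  -- apply the Frobenius norm lemma
  letI := frCommGroup (pCore p H) hQp
  have hnorm : ∀ u ∈ R, ∀ w : ↥(pCore p H) ⧸ frattini ↥(pCore p H),
      ∏ i ∈ Finset.range (p ^ (n + 1)),
        frActQ (pCore p H) hQp ((u * (QuotientGroup.mk x) * u⁻¹) ^ i) w = 1 := by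
    intro u _ w
    obtain ⟨u, rfl⟩ := QuotientGroup.mk_surjective u
    have hg : (u * x * u⁻¹) ^ p ^ (n + 1) = 1 := by
      rw [conj_pow, hxt]; group
    have hvg : ∀ v ∈ pCore p H, (v * (u * x * u⁻¹)) ^ p ^ (n + 1) = 1 := by
      intro v hv
      apply hexp
      apply hpel
      refine ⟨n + 1, ?_⟩
      have : (QuotientGroup.mk (v * (u * x * u⁻¹)) : H ⧸ pCore p H) =
          QuotientGroup.mk (u * x * u⁻¹) := by
        rw [QuotientGroup.mk_mul, (QuotientGroup.eq_one_iff v).2 hv, one_mul]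
      rw [this, ← QuotientGroup.mk_pow, hg]; rfl
    have := frAct_norm (pCore p H) hQp (u * x * u⁻¹) (p ^ (n + 1)) hg hvg w
    exact this
  have hfix := pow_card_fixed (frActQ (pCore p H) hQp) R (QuotientGroup.mk x) (p ^ (n + 1))
    (pow_pos hp.out.pos _) hRx hRfpf hnorm
  -- R acts trivially
  have htriv : ∀ r ∈ R, frActQ (pCore p H) hQp r = 1 := by
    intro r hr
    ext w
    rw [MulAut.one_apply]
    have hwp : w ^ p = 1 := frQuot_pow (pCore p H) hQp w
    obtain ⟨c, -, hc⟩ := Nat.exists_mul_mod_eq_one_of_coprime hRcop hp.out.one_lt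
    have hw : w = (w ^ Nat.card R) ^ c := by
      rw [← pow_mul, pow_eq_pow_mod _ hwp, hc, pow_one]
    rw [hw, map_pow, hfix w r hr]
  -- faithfulness
  apply hRne
  rw [eq_bot_iff]
  intro r hr
  rw [Subgroup.mem_bot]
  have h1 := htriv r hr
  obtain ⟨h, rfl⟩ := QuotientGroup.mk_surjective r
  rw [QuotientGroup.eq_one_iff]
  apply Cfsg.Agent.Lib.H7.CycNorm.mem_pCore_of_t2 hH hO
  intro v hv
  have h2 : frAct (pCore p H) h (QuotientGroup.mk ⟨v, hv⟩) = QuotientGroup.mk ⟨v, hv⟩ := by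
    have := congrArg (fun e : MulAut _ => e (QuotientGroup.mk ⟨v, hv⟩)) h1
    exact this
  rw [frAct_apply_mk] at h2
  have h3 := QuotientGroup.eq.1 h2.symm
  have hΦn : (frattini ↥(pCore p H)).Normal := inferInstance
  have h4 := hΦn.conj_mem _ h3 ⟨v, hv⟩
  refine ⟨_, h4, ?_⟩
  simp only [Subgroup.subtype_apply, Subgroup.coe_mul, Subgroup.coe_inv, MulAut.conjNormal_apply]
  group

end Cfsg.Agent.Lib.H7.HHAb
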