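import Mathlib
import Cfsg.Agent.Lib.H7.HHAb5
import Cfsg.Agent.Lib.H19.PLength
import Cfsg.Agent.Lib.H9.PPrimeCore

set_option autoImplicit false
open Cfsg

namespace Cfsg.Agent.Lib.H7.HHAb

universe u

section Lift

variable {G : Type u} [Group G] [Finite G] {p : ℕ} [hp : Fact p.Prime]

/-- `p`-elements of a quotient lift to `p`-elements. -/
theorem exists_pelement_lift (N : Subgroup G) [N.Normal] (zb : G ⧸ N)
    (h : ∃ k, zb ^ p ^ k = 1) : ∃ z : G, (QuotientGroup.mk z : G ⧸ N) = zb ∧ ∃ k, z ^ p ^ k = 1 := by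
  obtain ⟨k, hk⟩ := h
  obtain ⟨z₀, rfl⟩ := QuotientGroup.mk_surjective zb
  have ho : orderOf z₀ ≠ 0 := (orderOf_pos z₀).ne'
  obtain ⟨a, b, hb, hab⟩ := Nat.exists_eq_pow_mul_and_not_dvd ho p hp.out.ne_one
  have hcop : Nat.Coprime (p ^ a) b :=
    Nat.Coprime.pow_left a ((Nat.Prime.coprime_iff_not_dvd hp.out).2 hb)
  obtain ⟨c, hc1, hc0⟩ := Nat.chineseRemainder hcop 1 0
  have hbc : b ∣ c := (Nat.modEq_zero_iff_dvd).1 hc0
  refine ⟨z₀ ^ c, ?_, a, ?_⟩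
  · rw [QuotientGroup.mk_pow]
    have h1 : orderOf (QuotientGroup.mk z₀ : G ⧸ N) ∣ p ^ k := orderOf_dvd_of_pow_eq_one hk
    have h2 : orderOf (QuotientGroup.mk z₀ : G ⧸ N) ∣ orderOf z₀ := by
      apply orderOf_dvd_of_pow_eq_one
      rw [← QuotientGroup.mk_pow, pow_orderOf_eq_one]; rfl
    rw [hab] at h2
    have h3 : Nat.Coprime (orderOf (QuotientGroup.mk z₀ : G ⧸ N)) b := by
      apply Nat.Coprime.coprime_dvd_left h1
      exact Nat.Coprime.pow_left k ((Nat.Prime.coprime_iff_not_dvd hp.out).2 hb)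
    have h4 : orderOf (QuotientGroup.mk z₀ : G ⧸ N) ∣ p ^ a := h3.dvd_of_dvd_mul_right h2
    have h5 : c ≡ 1 [MOD orderOf (QuotientGroup.mk z₀ : G ⧸ N)] := hc1.of_dvd h4
    have := (pow_eq_pow_iff_modEq (x := (QuotientGroup.mk z₀ : G ⧸ N))).2 h5
    rw [this, pow_one]
  · rw [← pow_mul]
    apply orderOf_dvd_iff_pow_eq_one.1
    rw [hab, mul_comm c]
    exact Nat.mul_dvd_mul_left _ hbc

end Lift

section Main

variable {p : ℕ} [hp : Fact p.Prime]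

theorem plengthLE_of_abelian (n : ℕ) : ∀ (G : Type u) [Group G] [Finite G], IsPSolvable p G →
    (∀ q : ℕ, q.Prime → q ≠ p → ∀ S : Subgroup G, IsPGroup q S → ∀ a ∈ S, ∀ b ∈ S, a * b = b * a) →
    (∀ z : G, (∃ k, z ^ p ^ k = 1) → z ^ p ^ n = 1) → PLengthLE p n G := by
  induction n with
  | zero =>
    intro G _ _ hG hab hexp
    apply Cfsg.Agent.Lib.H19.plengthLE_zero_of_coprime
    rw [Nat.coprime_comm, Nat.Prime.coprime_iff_not_dvd hp.out]
    intro hdvd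
    obtain ⟨z, hz⟩ := exists_prime_orderOf_dvd_card' p hdvd
    have h1 : z ^ p ^ 0 = 1 := hexp z ⟨1, by rw [pow_one, ← hz]; exact pow_orderOf_eq_one z⟩
    rw [pow_zero, pow_one] at h1
    rw [h1, orderOf_one] at hz
    exact hp.out.ne_one hz.symm
  | succ n ih =>
    intro G _ _ hG hab hexp
    have hNn : (pPrimeCore p G).Normal := Cfsg.Agent.Lib.H22.pPrimeCore_normal p
    -- the quotient by O_{p'}
    have hG1 : IsPSolvable p (G ⧸ pPrimeCore p G) := Cfsg.Agent.Lib.H10.isPSolvable_quotient hG _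
    have hO1 : pPrimeCore p (G ⧸ pPrimeCore p G) = ⊥ := Cfsg.Agent.Lib.H9.pPrimeCore_quotient_eq_bot p
    have hab1 : ∀ q : ℕ, q.Prime → q ≠ p → ∀ S : Subgroup (G ⧸ pPrimeCore p G), IsPGroup q S →
        ∀ a ∈ S, ∀ b ∈ S, a * b = b * a := by
      intro q hq hqp S hS
      have : Fact q.Prime := ⟨hq⟩
      exact abelian_qsub_quotient _ q (hab q hq hqp) S hS
    have hexp1 : ∀ z : G ⧸ pPrimeCore p G, (∃ k, z ^ p ^ k = 1) → z ^ p ^ (n + 1) = 1 := by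
      intro z hz
      obtain ⟨z₀, rfl, hz₀⟩ := exists_pelement_lift (pPrimeCore p G) z hz
      rw [← QuotientGroup.mk_pow, hexp z₀ hz₀]; rfl
    have hQn : (pCore p (G ⧸ pPrimeCore p G)).Normal := Cfsg.Agent.Lib.H1.pCore_normal p _
    have hexp2 := exponent_quot hG1 hO1 hab1 n hexp1 (pCore p (G ⧸ pPrimeCore p G)) rfl
    have hG2 : IsPSolvable p ((G ⧸ pPrimeCore p G) ⧸ pCore p (G ⧸ pPrimeCore p G)) :=
      Cfsg.Agent.Lib.H10.isPSolvable_quotient hG1 _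
    have hab2 : ∀ q : ℕ, q.Prime → q ≠ p →
        ∀ S : Subgroup ((G ⧸ pPrimeCore p G) ⧸ pCore p (G ⧸ pPrimeCore p G)), IsPGroup q S →
        ∀ a ∈ S, ∀ b ∈ S, a * b = b * a := by
      intro q hq hqp S hS
      have : Fact q.Prime := ⟨hq⟩
      exact abelian_qsub_quotient _ q (hab1 q hq hqp) S hS
    have hl2 := ih _ hG2 hab2 hexp2
    -- O_p(G / O_{p'}(G)) has p-length ≤ 1
    have hQp : IsPGroup p ↥(pCore p (G ⧸ pPrimeCore p G)) := Cfsg.Agent.Lib.H1.pCore_isPGroup p _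
    obtain ⟨j, hj⟩ := IsPGroup.iff_card.1 hQp
    have hl1 : PLengthLE p 1 ↥(pCore p (G ⧸ pPrimeCore p G)) :=
      Cfsg.Agent.Lib.H19.plengthLE_one_of_isPGroup hj
    have hl3 : PLengthLE p (1 + n) (G ⧸ pPrimeCore p G) :=
      Cfsg.Agent.Lib.H19.plengthLE_of_extension _ hl1 hl2
    have hl0 : PLengthLE p 0 ↥(pPrimeCore p G) :=
      Cfsg.Agent.Lib.H19.plengthLE_zero_of_coprime (Cfsg.Agent.Lib.H22.card_pPrimeCore_coprime p)
    have hl4 : PLengthLE p (0 + (1 + n)) G := Cfsg.Agent.Lib.H19.plengthLE_of_extension _ hl0 hl3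
    have e : 0 + (1 + n) = n + 1 := by omega
    rw [e] at hl4
    exact hl4

end Main

end Cfsg.Agent.Lib.H7.HHAb
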