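import Mathlib
import Cfsg.Agent.Lib.H7.BG147a
import Cfsg.Agent.Lib.H7.BG13t
import Cfsg.Agent.Lib.H20.BGY1
import Cfsg.Agent.S1365
import Cfsg.Agent.S1366
import Cfsg.Agent.S1368
import Cfsg.Agent.S1434

/-!
# BG Section 16 (helper7), part a: the type-`P` data of a maximal subgroup with `K ≠ 1`

For a standard factorisation `M = K U M_σ` with `K ≠ 1`: `(K, K*)` is a self-normalizing cyclic
pair, `M'` is a complement of `K` in `M`, and `M' ∩ C_G(x) = K*` for `x ∈ K^#`.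
-/

set_option autoImplicit false
set_option linter.style.haveILetI false
set_option linter.unusedSectionVars false
set_option linter.unusedVariables false

open Cfsg
open Cfsg.Agent.Lib.H16.BG
open Cfsg.Agent.Lib.H7.BG147

namespace Cfsg.Agent.Lib.H7.BG16

universe u
variable {G : Type u} [Group G] [Finite G]

local notation:max "cj(" g ", " X ")" => Subgroup.map (MulEquiv.toMonoidHom (MulAut.conj g)) X

variable {M K U : Subgroup G}

/-- the partner `M*` (from `S1366`). -/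
theorem exists_partner (hG : IsMinSimpleOddOrder G) (hM : IsCoatom M)
    (hKU : IsSigmaDecomposition M K U) (hK1 : K ≠ ⊥) :
    ∃ Ms : Subgroup G, IsCoatom Ms ∧
      K = sigmaCore Ms ⊓ Subgroup.centralizer
        ((sigmaCore M ⊓ Subgroup.centralizer (K : Set G) : Subgroup G) : Set G) ∧
      IsPiHallOf (kappa Ms) (sigmaCore M ⊓ Subgroup.centralizer (K : Set G)) Ms := by
  obtain ⟨Ms, h, -⟩ := Cfsg.Agent.S1366.result hG M hM K U hKU hK1
  exact ⟨Ms, h⟩

/-- `K × K*` is cyclic. -/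
theorem isCyclic_sup (hG : IsMinSimpleOddOrder G) (hM : IsCoatom M)
    (hKU : IsSigmaDecomposition M K U) (hK1 : K ≠ ⊥) :
    IsCyclic ↥(K ⊔ (sigmaCore M ⊓ Subgroup.centralizer (K : Set G))) := by
  obtain ⟨Ms, hMs, hKst, hKstH⟩ := exists_partner hG hM hKU hK1
  exact (Cfsg.Agent.S1368.result hG M hM K U hKU hK1 Ms hMs hKst hKstH).2

theorem comm_sup (hG : IsMinSimpleOddOrder G) (hM : IsCoatom M)
    (hKU : IsSigmaDecomposition M K U) (hK1 : K ≠ ⊥) {a b : G}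
    (ha : a ∈ K ⊔ (sigmaCore M ⊓ Subgroup.centralizer (K : Set G)))
    (hb : b ∈ K ⊔ (sigmaCore M ⊓ Subgroup.centralizer (K : Set G))) : a * b = b * a := by
  haveI := isCyclic_sup hG hM hKU hK1
  have := (IsCyclic.commGroup
    (α := ↥(K ⊔ (sigmaCore M ⊓ Subgroup.centralizer (K : Set G))))).mul_comm ⟨a, ha⟩ ⟨b, hb⟩
  exact congrArg Subtype.val this

/-- `C_M(x) = K × K*` for `x ∈ K^#`. -/
theorem inf_centralizer_eq (hG : IsMinSimpleOddOrder G) (hM : IsCoatom M)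
    (hKU : IsSigmaDecomposition M K U) (hK1 : K ≠ ⊥) {x : G} (hx : x ∈ K) (hx1 : x ≠ 1) :
    M ⊓ Subgroup.centralizer ({x} : Set G) =
      K ⊔ (sigmaCore M ⊓ Subgroup.centralizer (K : Set G)) := by
  obtain ⟨Ms, hMs, hKst, hKstH⟩ := exists_partner hG hM hKU hK1
  obtain ⟨y, hy, hy1⟩ := (Subgroup.bot_or_exists_ne_one _).resolve_left
    (star_ne_bot hG hM hKU.hall hK1)
  exact ((Cfsg.Agent.S1434.result hG M hM K U hKU hK1 Ms hMs hKst hKstH).2.2.1
    x hx hx1 y hy hy1).1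

/-- **the self-normalizing cyclic pair** `(K, K*)`. -/
theorem isSelfNormalizingCyclic (hG : IsMinSimpleOddOrder G) (hM : IsCoatom M)
    (hKU : IsSigmaDecomposition M K U) (hK1 : K ≠ ⊥) :
    IsSelfNormalizingCyclic K (sigmaCore M ⊓ Subgroup.centralizer (K : Set G)) := by
  refine ⟨hK1, star_ne_bot hG hM hKU.hall hK1, inf_star_eq_bot hKU.hall,
    fun a ha b hb => commute_of_mem ha hb, isCyclic_sup hG hM hKU hK1, ?_⟩
  intro X hX hXne
  apply le_antisymm
  · intro g hg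
    obtain ⟨z, hz⟩ := hXne
    have hgz : g * z * g⁻¹ ∈ X := (Subgroup.mem_set_normalizer_iff.1 hg z).1 hz
    exact mem_sup_of_conj_mem_zhat hG hM hKU.hall hK1 (hX hz) (hX hgz)
  · intro z hz
    rw [Subgroup.mem_set_normalizer_iff]
    intro n
    constructor
    · intro hn
      have hnZ : n ∈ K ⊔ (sigmaCore M ⊓ Subgroup.centralizer (K : Set G)) := (hX hn).1
      have : z * n * z⁻¹ = n := by
        rw [comm_sup hG hM hKU hK1 hz hnZ]; group
      rw [this]; exact hn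
    · intro hn
      have hnZ : z * n * z⁻¹ ∈ K ⊔ (sigmaCore M ⊓ Subgroup.centralizer (K : Set G)) := (hX hn).1
      have h1 : n = z⁻¹ * (z * n * z⁻¹) * z := by group
      have h2 : z⁻¹ * (z * n * z⁻¹) * z = z * n * z⁻¹ := by
        rw [mul_assoc, comm_sup hG hM hKU hK1 hnZ hz]; group
      rw [h1, h2]; exact hn

/-- `M' = U M_σ` is a normal Hall `κ(M)'`-subgroup of `M`. -/
theorem commutator_hall (hG : IsMinSimpleOddOrder G) (hM : IsCoatom M)
    (hKU : IsSigmaDecomposition M K U) (hK1 : K ≠ ⊥) :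
    IsPiHallOf (kappa M)ᶜ ⁅M, M⁆ M ∧
      M ≤ Subgroup.normalizer ((⁅M, M⁆ : Subgroup G) : Set G) := by
  have hκ := Cfsg.Agent.Lib.H7.BG13t.kappa_subset_tau1 hG hM hKU.cyclic hKU.hall
  obtain ⟨N, hN, hcN, hnorm⟩ := Cfsg.Agent.Lib.H20.BGY.exists_normal_hall_kappa_compl hG hM hκ
  have h1 := Cfsg.Agent.Lib.H20.BGY.sup_sigmaCore_eq hG hM hKU hN hcN hnorm
  have h2 := (Cfsg.Agent.S1365.result hG M hM K U hKU hK1).1
  rw [h2, h1]; exact ⟨hN, hnorm⟩

/-- **`M'` is a complement of `K` in `M`** (BG 14.7(g)). -/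
theorem isComplIn_commutator (hG : IsMinSimpleOddOrder G) (hM : IsCoatom M)
    (hKU : IsSigmaDecomposition M K U) (hK1 : K ≠ ⊥) : IsComplIn ⁅M, M⁆ K M := by
  obtain ⟨hN, hnorm⟩ := commutator_hall hG hM hKU hK1
  have hsup := Cfsg.Agent.Lib.H20.BGY.sup_eq_of_hall_compl hN hKU.hall
  refine ⟨hN.1, hKU.hall.1, Cfsg.Agent.Lib.H20.BGY.inf_eq_bot_of_pi_compl hN.2.1 hKU.hall.2.1, ?_⟩
  intro m hm
  rw [← hsup] at hm
  exact Cfsg.Agent.Lib.H1.mem_sup_of_le_normalizer (hKU.hall.1.trans hnorm) hm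

/-- `(|K|, |M : K|) = 1`. -/
theorem coprime_relIndex (hKU : IsSigmaDecomposition M K U) :
    (Nat.card K).Coprime (K.relIndex M) := by
  apply Nat.coprime_of_dvd
  intro p hp h1 h2
  exact hKU.hall.2.2 p hp (hKU.hall.2.1 p hp h1) h2

/-- `M' ∩ C_G(x) = K*` for `x ∈ K^#`. -/
theorem commutator_inf_centralizer (hG : IsMinSimpleOddOrder G) (hM : IsCoatom M)
    (hKU : IsSigmaDecomposition M K U) (hK1 : K ≠ ⊥) {x : G} (hx : x ∈ K) (hx1 : x ≠ 1) :
    ⁅M, M⁆ ⊓ Subgroup.centralizer ({x} : Set G) =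
      sigmaCore M ⊓ Subgroup.centralizer (K : Set G) := by
  have hc := isComplIn_commutator hG hM hKU hK1
  have h65 := (Cfsg.Agent.S1365.result hG M hM K U hKU hK1).1
  have hσ : sigmaCore M ≤ ⁅M, M⁆ := by rw [h65]; exact le_sup_right
  apply le_antisymm
  · intro y hy
    obtain ⟨hyM', hyC⟩ := Subgroup.mem_inf.1 hy
    have hyZ : y ∈ K ⊔ (sigmaCore M ⊓ Subgroup.centralizer (K : Set G)) := by
      rw [← inf_centralizer_eq hG hM hKU hK1 hx hx1]
      exact Subgroup.mem_inf.2 ⟨hc.1 hyM', hyC⟩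
    obtain ⟨k, hk, s, hs, rfl⟩ := exists_mul_of_mem_sup hyZ
    have hsM' : s ∈ ⁅M, M⁆ := hσ (Subgroup.mem_inf.1 hs).1
    have hkM' : k ∈ ⁅M, M⁆ := by
      have : k = k * s * s⁻¹ := by group
      rw [this]
      exact Subgroup.mul_mem _ hyM' (Subgroup.inv_mem _ hsM')
    have hk1 : k ∈ ⁅M, M⁆ ⊓ K := Subgroup.mem_inf.2 ⟨hkM', hk⟩
    rw [hc.2.2.1, Subgroup.mem_bot] at hk1
    rw [hk1, one_mul]; exact hs
  · apply le_inf (inf_le_left.trans hσ)
    exact inf_le_right.trans (Subgroup.centralizer_le (Set.singleton_subset_iff.2 hx))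

end Cfsg.Agent.Lib.H7.BG16
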