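import Mathlib
import Cfsg.Agent.Lib.H7.BG16a
import Cfsg.Agent.Lib.H10.BG152j

/-!
# BG Section 16 (helper7), part b: a criterion for Frobenius type, and the type-`P` data

* `isOfTypeF_of`: a subgroup `D = H ⋊ U` of `G` with `D_F = H` and suitable `U₁`, `U₀` is of
  Frobenius type.
* `isTypePWith`: the type-`P` data `(K, U_P, K*)` of a maximal subgroup with `K ≠ 1`, modulo the
  statements `S1356`, `S1364` as hypotheses.
-/

set_option autoImplicit false
set_option linter.style.haveILetI false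
set_option linter.unusedSectionVars false
set_option linter.unusedVariables false

open Cfsg
open Cfsg.Agent.Lib.H16.BG
open Cfsg.Agent.Lib.H7.BG147

namespace Cfsg.Agent.Lib.H7.BG16

universe u
variable {G : Type u} [Group G] [Finite G]

theorem isMulCommutative_of_forall {S : Subgroup G} (h : ∀ a ∈ S, ∀ b ∈ S, a * b = b * a) :
    IsMulCommutative ↥S :=
  ⟨⟨fun a b => Subtype.ext (h a a.2 b b.2)⟩⟩

theorem comm_of_isMulCommutative {S : Subgroup G} (h : IsMulCommutative ↥S) {a b : G}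
    (ha : a ∈ S) (hb : b ∈ S) : a * b = b * a := by
  have := h.is_comm.comm (⟨a, ha⟩ : ↥S) ⟨b, hb⟩
  exact congrArg Subtype.val this

/-- **criterion for Frobenius type**. -/
theorem isOfTypeF_of {D H U U₁ U₀ : Subgroup G}
    (hsol : Group.IsSolvable ↥D) (hodd : Odd (Nat.card ↥D))
    (hF : fittingHallOf D = H) (hc : IsComplIn H U D) (hH1 : H ≠ ⊥) (hU1 : U ≠ ⊥)
    (hU₁U : U₁ ≤ U) (hU₁n : U ≤ Subgroup.normalizer (U₁ : Set G)) (hU₁c : IsMulCommutative ↥U₁)
    (hU₁ : ∀ x ∈ H, x ≠ 1 → U ⊓ Subgroup.centralizer ({x} : Set G) ≤ U₁)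
    (hU₀U : U₀ ≤ U) (hexp : Monoid.exponent ↥U₀ = Monoid.exponent ↥U)
    (hU₀ : ∀ u ∈ U₀, u ≠ 1 → ∀ x ∈ H, u * x = x * u → x = 1) : IsOfTypeF ↥D := by
  have hmem : ∀ x : ↥D, x ∈ fittingHall ↥D ↔ (x : G) ∈ H := by
    intro x
    rw [Cfsg.Agent.Lib.H10.BG152.mem_fittingHall_iff, hF]
  have hUD : U ≤ D := hc.2.1
  refine ⟨hsol, hodd, ?_, ?_, U.subgroupOf D, ?_, ?_, ?_, ?_⟩
  · intro h
    apply hH1
    rw [← hF, fittingHallOf, h, Subgroup.map_bot]
  · intro h
    apply hU1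
    rw [eq_bot_iff]
    intro x hx
    have hxD : x ∈ D := hUD hx
    have h1 : (⟨x, hxD⟩ : ↥D) ∈ fittingHall ↥D := by rw [h]; exact Subgroup.mem_top _
    have h2 : x ∈ H := (hmem ⟨x, hxD⟩).1 h1
    have h3 : x ∈ H ⊓ U := Subgroup.mem_inf.2 ⟨h2, hx⟩
    rwa [hc.2.2.1] at h3
  · intro h
    apply hU1
    rw [eq_bot_iff]
    intro x hx
    have hxD : x ∈ D := hUD hx
    have h1 : (⟨x, hxD⟩ : ↥D) ∈ U.subgroupOf D := Subgroup.mem_subgroupOf.2 hx
    rw [h, Subgroup.mem_bot] at h1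
    rw [Subgroup.mem_bot]
    exact congrArg Subtype.val h1
  · apply Cfsg.Agent.Lib.H1.isComplement'_of_disjoint_of_forall_mul
    · rw [Subgroup.disjoint_def]
      intro x hx1 hx2
      have h3 : (x : G) ∈ H ⊓ U :=
        Subgroup.mem_inf.2 ⟨(hmem x).1 hx1, Subgroup.mem_subgroupOf.1 hx2⟩
      rw [hc.2.2.1, Subgroup.mem_bot] at h3
      exact Subtype.ext h3
    · intro g
      obtain ⟨a, ha, b, hb, hab⟩ := hc.2.2.2 (g : G) g.2
      refine ⟨⟨a, hc.1 ha⟩, (hmem _).2 ha, ⟨b, hUD hb⟩, Subgroup.mem_subgroupOf.2 hb, ?_⟩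
      exact Subtype.ext hab
  · refine ⟨U₁.subgroupOf D, ?_, ?_, ?_, ?_⟩
    · intro x hx
      exact Subgroup.mem_subgroupOf.2 (hU₁U (Subgroup.mem_subgroupOf.1 hx))
    · intro u hu
      rw [Subgroup.mem_normalizer_iff]
      intro n
      have h1 := Subgroup.mem_normalizer_iff.1 (hU₁n (Subgroup.mem_subgroupOf.1 hu)) (n : G)
      rw [Subgroup.mem_subgroupOf, Subgroup.mem_subgroupOf]
      exact h1
    · exact ⟨⟨fun a b => Subtype.ext (Subtype.ext
        (comm_of_isMulCommutative hU₁c (Subgroup.mem_subgroupOf.1 a.2)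
          (Subgroup.mem_subgroupOf.1 b.2)))⟩⟩
    · intro x hx hx1 u hu
      obtain ⟨hu1, hu2⟩ := Subgroup.mem_inf.1 hu
      rw [Subgroup.mem_subgroupOf]
      apply hU₁ (x : G) ((hmem x).1 hx) (fun h => hx1 (Subtype.ext h))
      refine Subgroup.mem_inf.2 ⟨Subgroup.mem_subgroupOf.1 hu1, ?_⟩
      rw [Subgroup.mem_centralizer_iff]
      intro z hz
      rw [Set.mem_singleton_iff] at hz
      rw [hz]
      have := Subgroup.mem_centralizer_iff.1 hu2 x (Set.mem_singleton x)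
      exact congrArg Subtype.val this
  · refine ⟨U₀.subgroupOf D, ?_, ?_, ?_⟩
    · intro x hx
      exact Subgroup.mem_subgroupOf.2 (hU₀U (Subgroup.mem_subgroupOf.1 hx))
    · rw [Monoid.exponent_eq_of_mulEquiv (Subgroup.subgroupOfEquivOfLe (hU₀U.trans hUD)),
        Monoid.exponent_eq_of_mulEquiv (Subgroup.subgroupOfEquivOfLe hUD), hexp]
    · intro u hu hu1 x hx hux
      have := hU₀ (u : G) (Subgroup.mem_subgroupOf.1 hu) (fun h => hu1 (Subtype.ext h)) (x : G)
        ((hmem x).1 hx) (congrArg Subtype.val hux)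
      exact Subtype.ext this

/-- the frozen statement `S1356` as a hypothesis. -/
def Hyp1356 (G : Type u) [Group G] : Prop :=
  ∀ (M : Subgroup G), IsCoatom M →
    ⁅⁅M, M⁆, ⁅M, M⁆⁆ ≤ fittingOf M ∧
      fittingOf M = (M ⊓ Subgroup.centralizer (fittingHallOf M : Set G)) ⊔ fittingHallOf M ∧
      ((kappa M).Nonempty → fittingOf M ≤ ⁅M, M⁆)

/-- the frozen statement `S1364` as a hypothesis. -/
def Hyp1364 (G : Type u) [Group G] : Prop :=
  ∀ (M : Subgroup G), IsCoatom M → ∀ (K U : Subgroup G), IsSigmaDecomposition M K U → K ≠ ⊥ →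
    IsCyclic ↥(sigmaCore M ⊓ Subgroup.centralizer (K : Set G)) ∧
      (sigmaCore M ⊓ Subgroup.centralizer (K : Set G)) ≠ ⊥ ∧
      (sigmaCore M ⊓ Subgroup.centralizer (K : Set G)) ≤ fittingHallOf M ∧
      ¬ IsCyclic (fittingHallOf M)

variable {M K U : Subgroup G}

theorem kappa_nonempty (hKU : IsSigmaDecomposition M K U) (hK1 : K ≠ ⊥) :
    (kappa M).Nonempty := by
  obtain ⟨p, hp, X, hXK, hXc⟩ := Cfsg.Agent.Lib.H7.BG14u.exists_le_card_prime hK1
  exact ⟨p, hKU.hall.2.1 p hp (by rw [← hXc]; exact Subgroup.card_dvd_of_le hXK)⟩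

/-- **the type-`P` data** of a maximal subgroup with `K ≠ 1`. -/
theorem isTypePWith (hG : IsMinSimpleOddOrder G) (h56 : Hyp1356 G) (h64 : Hyp1364 G)
    (hM : IsCoatom M) (hKU : IsSigmaDecomposition M K U) (hK1 : K ≠ ⊥) {UP : Subgroup G}
    (hUPn : Group.IsNilpotent ↥UP) (hUPK : K ≤ Subgroup.normalizer (UP : Set G))
    (hUPc : IsComplIn (fittingHallOf M) UP ⁅M, M⁆) :
    IsTypePWith M K UP (sigmaCore M ⊓ Subgroup.centralizer (K : Set G)) := by
  obtain ⟨h1, h2, h3⟩ := h56 M hM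
  obtain ⟨-, -, h4, h5⟩ := h64 M hM K U hKU hK1
  have h65 := Cfsg.Agent.S1365.result hG M hM K U hKU hK1
  exact
    { W₁_ne := hK1
      W₁_cyclic := hKU.cyclic
      W₁_hall := coprime_relIndex hKU
      W₁_compl := isComplIn_commutator hG hM hKU hK1
      U_nilpotent := hUPn
      U_normal := hUPK
      U_compl := hUPc
      H_not_cyclic := h5
      derived_two_le := by rw [sup_comm, ← h2]; exact h1
      fitting_eq := by rw [sup_comm, ← h2]
      fitting_le := h3 (kappa_nonempty hKU hK1)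
      W₂_le := le_inf h4 h65.2
      W₂_centralizer := fun x hx hx1 => commutator_inf_centralizer hG hM hKU hK1 hx hx1
      selfNormalizing := isSelfNormalizingCyclic hG hM hKU hK1 }

end Cfsg.Agent.Lib.H7.BG16
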