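import Mathlib
import Cfsg.Agent.Lib.H7.BG16b
import Cfsg.Agent.Lib.H10.BG144d

/-!
# BG Section 16 (helper7), part c: `D_F` for a normal Hall subgroup `D` of `M`
-/

set_option autoImplicit false
set_option linter.style.haveILetI false
set_option linter.unusedSectionVars false
set_option linter.unusedVariables false

open Cfsg
open Cfsg.Agent.Lib.H16.BG

namespace Cfsg.Agent.Lib.H7.BG16

universe u
variable {G : Type u} [Group G] [Finite G]

local notation:max "cj(" g ", " X ")" => Subgroup.map (MulEquiv.toMonoidHom (MulAut.conj g)) X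

theorem relIndex_eq_of_card_eq {A B D : Subgroup G} (hA : A ≤ D) (hB : B ≤ D)
    (h : Nat.card A = Nat.card B) : A.relIndex D = B.relIndex D := by
  have h1 := Cfsg.Agent.Lib.H19.card_mul_relIndex hA
  have h2 := Cfsg.Agent.Lib.H19.card_mul_relIndex hB
  rw [h, ← h2] at h1
  exact Nat.eq_of_mul_eq_mul_left Nat.card_pos h1

/-- `D_F` is invariant under conjugation by elements normalizing `D`. -/
theorem cj_fittingHallOf_le {D : Subgroup G} {m : G} (hm : cj(m, D) = D) :
    cj(m, fittingHallOf D) ≤ fittingHallOf D := by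
  have hFD : fittingHallOf D ≤ D := Cfsg.Agent.Lib.H8.fittingHallOf_le D
  have hle : cj(m, fittingHallOf D) ≤ D := by
    have := cj_mono m hFD
    rwa [hm] at this
  apply Cfsg.Agent.Lib.H8.le_fittingHallOf hle
  · haveI := Cfsg.Agent.Lib.H8.fittingHallOf_isNilpotent D
    exact Group.nilpotent_of_mulEquiv
      ((fittingHallOf D).equivMapOfInjective (MulAut.conj m).toMonoidHom (MulAut.conj m).injective)
  · rw [normalizer_cj]
    have := cj_mono m (Cfsg.Agent.Lib.H8.le_normalizer_fittingHallOf D)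
    rwa [hm] at this
  · rw [card_cj, relIndex_eq_of_card_eq hle hFD (card_cj m _)]
    exact Cfsg.Agent.Lib.H10.BG144.card_fittingHallOf_coprime D

theorem le_normalizer_fittingHallOf_of_le_normalizer {D M : Subgroup G}
    (hn : M ≤ Subgroup.normalizer (D : Set G)) :
    M ≤ Subgroup.normalizer ((fittingHallOf D : Subgroup G) : Set G) := by
  intro m hm
  rw [Subgroup.mem_normalizer_iff_map_conj_eq]
  have h1 := cj_fittingHallOf_le (cj_eq_self_of_mem_normalizer (hn hm))
  exact Subgroup.eq_of_le_of_card_ge h1 (card_cj m _).ge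

/-- for a normal Hall subgroup `D` of `M`: `D_F ≤ M_F`. -/
theorem fittingHallOf_le_of_normal_hall {D M : Subgroup G} (hDM : D ≤ M)
    (hn : M ≤ Subgroup.normalizer (D : Set G))
    (hcop : (Nat.card D).Coprime (D.relIndex M)) : fittingHallOf D ≤ fittingHallOf M := by
  have hFD : fittingHallOf D ≤ D := Cfsg.Agent.Lib.H8.fittingHallOf_le D
  apply Cfsg.Agent.Lib.H8.le_fittingHallOf (hFD.trans hDM)
    (Cfsg.Agent.Lib.H8.fittingHallOf_isNilpotent D)
    (le_normalizer_fittingHallOf_of_le_normalizer hn)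
  rw [← Subgroup.relIndex_mul_relIndex _ D M hFD hDM]
  exact Nat.Coprime.mul_right (Cfsg.Agent.Lib.H10.BG144.card_fittingHallOf_coprime D)
    (Nat.Coprime.coprime_dvd_left (Subgroup.card_dvd_of_le hFD) hcop)

/-- a normal nilpotent Hall subgroup `H` of `M` inside the normal subgroup `D`: `H ≤ D_F`. -/
theorem le_fittingHallOf_of_le {H D M : Subgroup G} (hHD : H ≤ D) (hDM : D ≤ M)
    (hnil : Group.IsNilpotent ↥H) (hn : M ≤ Subgroup.normalizer (H : Set G))
    (hcop : (Nat.card H).Coprime (H.relIndex M)) : H ≤ fittingHallOf D := by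
  apply Cfsg.Agent.Lib.H8.le_fittingHallOf hHD hnil (hDM.trans hn)
  rw [← Subgroup.relIndex_mul_relIndex _ D M hHD hDM] at hcop
  exact Nat.Coprime.coprime_dvd_right (Dvd.intro _ rfl) hcop

variable {M K U : Subgroup G}

theorem coprime_commutator (hG : IsMinSimpleOddOrder G) (hM : IsCoatom M)
    (hKU : IsSigmaDecomposition M K U) (hK1 : K ≠ ⊥) :
    (Nat.card ↥(⁅M, M⁆ : Subgroup G)).Coprime ((⁅M, M⁆ : Subgroup G).relIndex M) := by
  obtain ⟨hN, -⟩ := commutator_hall hG hM hKU hK1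
  apply Nat.coprime_of_dvd
  intro p hp h1 h2
  exact hN.2.2 p hp (hN.2.1 p hp h1) h2

theorem coprime_sigmaCore (hG : IsMinSimpleOddOrder G) (hM : IsCoatom M) :
    (Nat.card ↥(sigmaCore M)).Coprime ((sigmaCore M).relIndex M) := by
  have hU := Cfsg.Agent.Lib.H20.BGT.uniq3 hG
  have hσ := (Cfsg.Agent.Lib.H20.BGS.sigma_core_hall hG hU hM).1
  apply Nat.coprime_of_dvd
  intro q hq h1 h2
  exact hσ.2.2 q hq (hσ.2.1 q hq h1) h2

/-- if `K ≠ 1` and `M_σ` is nilpotent then `(M')_F = M_σ = M_F`. -/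
theorem fittingHallOf_commutator_eq (hG : IsMinSimpleOddOrder G) (hM : IsCoatom M)
    (hKU : IsSigmaDecomposition M K U) (hK1 : K ≠ ⊥)
    (hnil : Group.IsNilpotent ↥(sigmaCore M)) :
    fittingHallOf ⁅M, M⁆ = sigmaCore M ∧ fittingHallOf M = sigmaCore M := by
  have hσF := Cfsg.Agent.Lib.H10.BG144.sigmaCore_eq_fittingHallOf hG hM hnil
  obtain ⟨hN, hnorm⟩ := commutator_hall hG hM hKU hK1
  have h65 := (Cfsg.Agent.S1365.result hG M hM K U hKU hK1).1
  have hσM' : sigmaCore M ≤ ⁅M, M⁆ := by rw [h65]; exact le_sup_right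
  refine ⟨le_antisymm ?_ ?_, hσF.symm⟩
  · rw [hσF]
    exact fittingHallOf_le_of_normal_hall hN.1 hnorm (coprime_commutator hG hM hKU hK1)
  · exact le_fittingHallOf_of_le hσM' hN.1 hnil (Cfsg.Agent.Lib.H20.BGS.le_normalizer_sigmaCore M)
      (coprime_sigmaCore hG hM)

end Cfsg.Agent.Lib.H7.BG16
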