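import Mathlib
import Cfsg.Agent.Lib.H7.BG16c
import Cfsg.Agent.S1360
import Cfsg.Agent.S1372

/-!
# BG Section 16 (helper7), part d: maximal subgroups with `K ≠ 1`, `U ≠ 1` are of Type II

Modulo the statements `S1356`, `S1363`, `S1364` as hypotheses.
-/

set_option autoImplicit false
set_option linter.style.haveILetI false
set_option linter.unusedSectionVars false
set_option linter.unusedVariables false

open Cfsg
open Cfsg.Agent.Lib.H16.BG
open Cfsg.Agent.Lib.H7.BG7

namespace Cfsg.Agent.Lib.H7.BG16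

universe u
variable {G : Type u} [Group G] [Finite G]

local notation:max "cj(" g ", " X ")" => Subgroup.map (MulEquiv.toMonoidHom (MulAut.conj g)) X

/-- the frozen statement `S1363` as a hypothesis. -/
def Hyp1363 (G : Type u) [Group G] : Prop :=
  ∀ (M : Subgroup G), IsCoatom M → ∀ (K U : Subgroup G), IsSigmaDecomposition M K U → K ≠ ⊥ →
    IsMulCommutative ↥U ∧ ¬ Subgroup.normalizer (U : Set G) ≤ M

variable {M K U : Subgroup G}

theorem isNilpotent_of_isMulCommutative {S : Subgroup G} (h : IsMulCommutative ↥S) :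
    Group.IsNilpotent ↥S := by
  letI : CommGroup ↥S :=
    { (inferInstance : Group ↥S) with
      mul_comm := fun a b => Subtype.ext (comm_of_isMulCommutative h a.2 b.2) }
  exact CommGroup.isNilpotent

/-- `M_σ` is a complement of `U` in `U M_σ`. -/
theorem isComplIn_sigmaCore_U (hKU : IsSigmaDecomposition M K U) :
    IsComplIn (sigmaCore M) U (U ⊔ sigmaCore M) := by
  refine ⟨le_sup_right, le_sup_left, ?_, ?_⟩
  · rw [eq_bot_iff, ← hKU.compl.2.2.1]
    exact le_inf inf_le_right (inf_le_left.trans le_sup_right)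
  · intro m hm
    rw [sup_comm] at hm
    exact Cfsg.Agent.Lib.H1.mem_sup_of_le_normalizer
      (hKU.compl.1.trans (Cfsg.Agent.Lib.H20.BGS.le_normalizer_sigmaCore M)) hm

/-- **Type II** (BG Theorem I): `K ≠ 1` and `U ≠ 1`. -/
theorem isOfTypeII (hG : IsMinSimpleOddOrder G) (h56 : Hyp1356 G) (h63 : Hyp1363 G)
    (h64 : Hyp1364 G) (hM : IsCoatom M) (hKU : IsSigmaDecomposition M K U) (hK1 : K ≠ ⊥)
    (hU1 : U ≠ ⊥) : IsOfTypeII M := by
  obtain ⟨hp, hTI, hσF⟩ := Cfsg.Agent.S1372.result hG M hM K U hKU hK1 hU1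
  have hnil : Group.IsNilpotent ↥(sigmaCore M) :=
    Cfsg.Agent.Lib.H10.BG131b.isNilpotent_of_le (fittingOf_isNilpotent M) hσF
  obtain ⟨hF', hF⟩ := fittingHallOf_commutator_eq hG hM hKU hK1 hnil
  obtain ⟨hUc, hUN⟩ := h63 M hM K U hKU hK1
  have h65 := (Cfsg.Agent.S1365.result hG M hM K U hKU hK1).1
  have hcompl : IsComplIn (sigmaCore M) U ⁅M, M⁆ := by
    rw [h65]; exact isComplIn_sigmaCore_U hKU
  have hcM : (⁅M, M⁆ : Subgroup G) ≤ M := Subgroup.commutator_le_self M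
  refine ⟨K, U, sigmaCore M ⊓ Subgroup.centralizer (K : Set G),
    isTypePWith hG h56 h64 hM hKU hK1 (isNilpotent_of_isMulCommutative hUc) hKU.normal
      (by rw [hF]; exact hcompl), hU1, hp, hTI, hUc, hUN, ?_, by rw [hF', hF]⟩
  obtain ⟨U₀, hU₀U, hexp, hU₀⟩ := Cfsg.Agent.S1360.result hG M hM K U hKU
  apply isOfTypeF_of (H := sigmaCore M) (U := U) (U₁ := U) (U₀ := U₀)
    (solvable_of_le_ne_top hG hM.1 hcM)
    (Cfsg.Agent.Lib.H8.BG12.odd_card_of_minSimple hG _) hF' hcompl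
    (Cfsg.Agent.Lib.H8.BG12.sigmaCore_ne_bot' hG hM) hU1 le_rfl Subgroup.le_normalizer hUc
    (fun x _ _ => inf_le_left) hU₀U hexp
  intro u hu hu1 x hx hux
  by_contra hx1
  exact hu1 (hU₀ u hu ⟨hKU.compl.1 (hU₀U hu), x, hx, hx1, hux⟩)

end Cfsg.Agent.Lib.H7.BG16
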