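import Mathlib
import Cfsg.Agent.Lib.H7.BG16d

/-!
# BG Section 16 (helper7), part e: type-`P` data force `K ≠ 1`; Type II forces `U ≠ 1`
-/

set_option autoImplicit false
set_option linter.style.haveILetI false
set_option linter.unusedSectionVars false
set_option linter.unusedVariables false

open Cfsg
open Cfsg.Agent.Lib.H16.BG
open Cfsg.Agent.Lib.H7.BG7
open Cfsg.Agent.Lib.H7.BG10

namespace Cfsg.Agent.Lib.H7.BG16

universe u
variable {G : Type u} [Group G] [Finite G]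

local notation:max "cj(" g ", " X ")" => Subgroup.map (MulEquiv.toMonoidHom (MulAut.conj g)) X

variable {M K U W₁ UP W₂ : Subgroup G}

theorem dvd_card_sigmaCore (hG : IsMinSimpleOddOrder G) (hM : IsCoatom M) {p : ℕ}
    (hpσ : p ∈ sigma M) : p ∣ Nat.card ↥(sigmaCore M) := by
  have hU := Cfsg.Agent.Lib.H20.BGT.uniq3 hG
  have hσ := (Cfsg.Agent.Lib.H20.BGS.sigma_core_hall hG hU hM).1
  have hpM : p ∣ Nat.card M := hpσ.2.1
  rw [← Cfsg.Agent.Lib.H19.card_mul_relIndex hσ.1] at hpM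
  rcases (Nat.Prime.dvd_mul hpσ.1).1 hpM with h | h
  · exact h
  · exact absurd h (hσ.2.2 p hpσ.1 hpσ)

/-- the index of `W₁` in `M` is `|M'|`. -/
theorem relIndex_W₁ (h : IsTypePWith M W₁ UP W₂) :
    W₁.relIndex M = Nat.card ↥(⁅M, M⁆ : Subgroup G) := by
  have h1 := Cfsg.Agent.Lib.H7.isComplIn_card_mul h.W₁_compl
  have h2 := Cfsg.Agent.Lib.H19.card_mul_relIndex h.W₁_compl.2.1
  rw [← h1, mul_comm] at h2
  exact Nat.eq_of_mul_eq_mul_right Nat.card_pos h2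

/-- **type-`P` data force `κ(M) ≠ ∅`**: a prime divisor of `|W₁|` lies in `κ(M)`. -/
theorem mem_kappa_of_typeP (hG : IsMinSimpleOddOrder G) (hM : IsCoatom M)
    (h : IsTypePWith M W₁ UP W₂) {p : ℕ} (hp : p.Prime) {X : Subgroup G} (hXW : X ≤ W₁)
    (hXc : Nat.card X = p) : p ∈ kappa M := by
  haveI : Fact p.Prime := ⟨hp⟩
  have hU := Cfsg.Agent.Lib.H20.BGT.uniq3 hG
  have hW₁M : W₁ ≤ M := h.W₁_compl.2.1
  have hpW : p ∣ Nat.card W₁ := by rw [← hXc]; exact Subgroup.card_dvd_of_le hXW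
  have hpr : ¬ p ∣ W₁.relIndex M := fun hd =>
    hp.one_lt.ne' (Nat.eq_one_of_dvd_coprimes h.W₁_hall hpW hd)
  have hpσ : p ∉ sigma M := by
    intro hpσ
    apply hpr
    rw [relIndex_W₁ h]
    exact (dvd_card_sigmaCore hG hM hpσ).trans
      (Subgroup.card_dvd_of_le (sigmaCore_le_commutator hG hU hM))
  -- `p`-rank one
  obtain ⟨T, hT⟩ := SylIn.exists_sylIn p W₁
  have hTM : SylIn p T M := by
    refine ⟨hT.1.trans hW₁M, hT.2.1, ?_⟩
    rw [← Subgroup.relIndex_mul_relIndex _ W₁ M hT.1 hW₁M]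
    intro hd
    rcases (Nat.Prime.dvd_mul hp).1 hd with h' | h'
    · exact hT.2.2 h'
    · exact hpr h'
  have hTc : IsCyclic ↥T := by
    haveI := h.W₁_cyclic
    have : IsCyclic ↥(T.subgroupOf W₁) := Subgroup.isCyclic _
    exact isCyclic_of_surjective _ (Subgroup.subgroupOfEquivOfLe hT.1).surjective
  have hrank : PRankLE p 1 ↥M := by
    haveI := hTc
    exact pRankLE_of_sylIn hTM (Cfsg.Agent.Lib.H7.BG13.pRankLE_one_of_isCyclic hp)
  -- nonregular action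
  obtain ⟨x, hx⟩ : ∃ x : G, x ∈ X ∧ x ≠ 1 := by
    have hX1 : X ≠ ⊥ := by
      intro h'
      rw [h', Subgroup.card_bot] at hXc
      exact hp.one_lt.ne hXc
    obtain ⟨x, hx, hx1⟩ := (Subgroup.bot_or_exists_ne_one X).resolve_left hX1
    exact ⟨x, hx, hx1⟩
  have hXeq : X = Subgroup.zpowers x := by
    symm
    apply Subgroup.eq_of_le_of_card_ge (Subgroup.zpowers_le.2 hx.1)
    rw [hXc, Nat.card_zpowers]
    have h1 : orderOf x ∣ p := by
      rw [← hXc]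
      have := orderOf_dvd_natCard (⟨x, hx.1⟩ : ↥X)
      rwa [← Subgroup.orderOf_coe] at this
    rcases (Nat.dvd_prime hp).1 h1 with h' | h'
    · exact absurd (orderOf_eq_one_iff.1 h') hx.2
    · exact h'.ge
  have hcent : sigmaCore M ⊓ Subgroup.centralizer (X : Set G) ≠ ⊥ := by
    apply _root_.ne_bot_of_le_ne_bot h.selfNormalizing.2.1
    apply le_inf
    · exact (h.W₂_le.trans inf_le_left).trans
        (Cfsg.Agent.Lib.H10.BG144.fittingHallOf_le_sigmaCore hG hM)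
    · rw [hXeq, centralizer_zpowers_eq_singleton, ← h.W₂_centralizer x (hXW hx.1) hx.2]
      exact inf_le_right
  exact Cfsg.Agent.Lib.H7.BG13t.mem_kappa_of_centralizer_ne_bot hG hM hpσ hrank
    (hXW.trans hW₁M) hXc hcent

/-- **type-`P` data force `K ≠ 1`**. -/
theorem K_ne_bot_of_typeP (hG : IsMinSimpleOddOrder G) (hM : IsCoatom M)
    (hKU : IsSigmaDecomposition M K U) (h : IsTypePWith M W₁ UP W₂) : K ≠ ⊥ := by
  obtain ⟨p, hp, X, hXW, hXc⟩ := Cfsg.Agent.Lib.H7.BG14u.exists_le_card_prime h.W₁_ne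
  have hκ := mem_kappa_of_typeP hG hM h hp hXW hXc
  have hpM : p ∣ Nat.card M := by
    rw [← hXc]; exact Subgroup.card_dvd_of_le (hXW.trans h.W₁_compl.2.1)
  rw [← Cfsg.Agent.Lib.H19.card_mul_relIndex hKU.hall.1] at hpM
  have hpK : p ∣ Nat.card K := by
    rcases (Nat.Prime.dvd_mul hp).1 hpM with h' | h'
    · exact h'
    · exact absurd h' (hKU.hall.2.2 p hp hκ)
  intro hK
  rw [hK, Subgroup.card_bot] at hpK
  exact hp.one_lt.ne' (Nat.dvd_one.1 hpK)

/-- a nontrivial nilpotent Hall subgroup of `M` inside `M_σ` has its normalizer in `M`. -/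
theorem normalizer_le_of_nilpotent_hall (hG : IsMinSimpleOddOrder G) (hM : IsCoatom M)
    {V : Subgroup G} (hV : V ≤ sigmaCore M) (hnil : Group.IsNilpotent ↥V) (hV1 : V ≠ ⊥)
    (hcop : (Nat.card V).Coprime (V.relIndex M)) : Subgroup.normalizer (V : Set G) ≤ M := by
  have hVM : V ≤ M := hV.trans (Cfsg.Agent.Lib.H20.BGS.sigmaCore_le M)
  obtain ⟨q, hq, X, hXV, hXc⟩ := Cfsg.Agent.Lib.H7.BG14u.exists_le_card_prime hV1
  haveI : Fact q.Prime := ⟨hq⟩
  have hqV : q ∣ Nat.card V := by rw [← hXc]; exact Subgroup.card_dvd_of_le hXV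
  have hQp : IsPGroup q (piCoreOf {q} V) := isPGroup_piCoreOf_singleton q V
  have hQ1 : piCoreOf {q} V ≠ ⊥ := piCoreOf_singleton_ne_bot hnil hqV
  have hQV : piCoreOf {q} V ≤ V := piCoreOf_le _ _
  obtain ⟨Q', hQ', hle⟩ := SylIn.exists_ge hQp hQV
  have hQ'le : Q' ≤ piCoreOf {q} V :=
    le_piCoreOf_of_nilpotent hnil hQ'.le
      (isPiCard_of_isPGroup hq (Set.mem_singleton q) hQ'.isPGroup)
  have hQeq : Q' = piCoreOf {q} V := le_antisymm hQ'le hle
  rw [hQeq] at hQ'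
  have hqr : ¬ q ∣ V.relIndex M := fun hd =>
    hq.one_lt.ne' (Nat.eq_one_of_dvd_coprimes hcop hqV hd)
  have hQM : SylIn q (piCoreOf {q} V) M := by
    refine ⟨hQV.trans hVM, hQp, ?_⟩
    rw [← Subgroup.relIndex_mul_relIndex _ V M hQV hVM]
    intro hd
    rcases (Nat.Prime.dvd_mul hq).1 hd with h | h
    · exact hQ'.2.2 h
    · exact hqr h
  have hqσ : q ∈ sigma M := Cfsg.Agent.Lib.H20.BGS.sigmaCore_isPiCard M q hq
    (hqV.trans (Subgroup.card_dvd_of_le hV))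
  exact (normalizer_le_normalizer_piCoreOf {q} V).trans (sigma_normalizer_le hqσ hQM)

/-- the complement `U_P` of `M_F` in `M'` is a Hall subgroup of `M`. -/
theorem coprime_UP (h : IsTypePWith M W₁ UP W₂) : (Nat.card UP).Coprime (UP.relIndex M) := by
  have hcM : (⁅M, M⁆ : Subgroup G) ≤ M := Subgroup.commutator_le_self M
  have hUPM' : UP ≤ ⁅M, M⁆ := h.U_compl.2.1
  rw [← Subgroup.relIndex_mul_relIndex _ _ M hUPM' hcM]
  apply Nat.Coprime.mul_right
  · -- `|M' : U_P| = |M_F|`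
    have h1 := Cfsg.Agent.Lib.H7.isComplIn_card_mul h.U_compl
    have h2 := Cfsg.Agent.Lib.H19.card_mul_relIndex hUPM'
    rw [← h1, mul_comm] at h2
    have h3 : UP.relIndex ⁅M, M⁆ = Nat.card ↥(fittingHallOf M) :=
      Nat.eq_of_mul_eq_mul_right Nat.card_pos h2
    rw [h3]
    exact (Cfsg.Agent.Lib.H7.coprime_card_fittingHallOf (hUPM'.trans hcM) h.U_compl.2.2.1).symm
  · -- `|M : M'| = |W₁|`
    have h1 := Cfsg.Agent.Lib.H7.isComplIn_card_mul h.W₁_compl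
    have h2 := Cfsg.Agent.Lib.H19.card_mul_relIndex hcM
    rw [← h1] at h2
    have h3 : (⁅M, M⁆ : Subgroup G).relIndex M = Nat.card W₁ :=
      Nat.eq_of_mul_eq_mul_left Nat.card_pos h2
    rw [h3]
    have h4 := h.W₁_hall
    rw [relIndex_W₁ h] at h4
    exact Nat.Coprime.coprime_dvd_left (Subgroup.card_dvd_of_le hUPM') h4.symm

/-- **Type II forces `U ≠ 1`**. -/
theorem U_ne_bot_of_typeII (hG : IsMinSimpleOddOrder G) (hM : IsCoatom M)
    (hKU : IsSigmaDecomposition M K U) (h : IsOfTypeII M) : U ≠ ⊥ := by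
  rintro rfl
  obtain ⟨W₁, UP, W₂, hP, hUP1, -, -, -, hUPN, -, -⟩ := h
  have hK1 := K_ne_bot_of_typeP hG hM hKU hP
  have h65 := (Cfsg.Agent.S1365.result hG M hM K ⊥ hKU hK1).1
  rw [bot_sup_eq] at h65
  apply hUPN
  apply normalizer_le_of_nilpotent_hall hG hM _ hP.U_nilpotent hUP1 (coprime_UP hP)
  rw [← h65]
  exact hP.U_compl.2.1

/-- **`S1381`** modulo `S1356`, `S1363`, `S1364`. -/
theorem s1381_of_hyps (hG : IsMinSimpleOddOrder G) (h56 : Hyp1356 G) (h63 : Hyp1363 G)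
    (h64 : Hyp1364 G) (hM : IsCoatom M) (hKU : IsSigmaDecomposition M K U) :
    IsOfTypeII M ↔ (K ≠ ⊥ ∧ U ≠ ⊥) := by
  constructor
  · intro h
    obtain ⟨W₁, UP, W₂, hP, -⟩ := id h
    exact ⟨K_ne_bot_of_typeP hG hM hKU hP, U_ne_bot_of_typeII hG hM hKU h⟩
  · rintro ⟨hK1, hU1⟩
    exact isOfTypeII hG h56 h63 h64 hM hKU hK1 hU1

end Cfsg.Agent.Lib.H7.BG16
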