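import Mathlib
import Cfsg.Agent.Lib.H7.BG16e

/-!
# BG Section 16 (helper7), part f: complements of normal Hall subgroups containing a given
subgroup; the complement `U_P` of `M_F` in `M'`
-/

set_option autoImplicit false
set_option linter.style.haveILetI false
set_option linter.unusedSectionVars false
set_option linter.unusedVariables false

open Cfsg
open Cfsg.Agent.Lib.H16.BG
open Cfsg.Agent.Lib.H7.BG7
open Cfsg.Agent.Lib.H19 (IsPiCard)

namespace Cfsg.Agent.Lib.H7.BG16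

universe u
variable {G : Type u} [Group G] [Finite G]

local notation:max "cj(" g ", " X ")" => Subgroup.map (MulEquiv.toMonoidHom (MulAut.conj g)) X

/-- a subgroup of order prime to a normal Hall subgroup `N` of the solvable group `M` lies in a
complement of `N`. -/
theorem exists_compl_ge_of_normal_hall {M N X : Subgroup G} (hsol : Group.IsSolvable ↥M)
    (hNM : N ≤ M) (hn : M ≤ Subgroup.normalizer (N : Set G))
    (hcop : (Nat.card N).Coprime (N.relIndex M)) (hXM : X ≤ M)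
    (hX : (Nat.card X).Coprime (Nat.card N)) :
    ∃ E : Subgroup G, IsComplIn E N M ∧ X ≤ E := by
  haveI := hsol
  set π : Set ℕ := {q | ¬ q ∣ Nat.card N} with hπ
  have hXπ : IsPiCard π (Nat.card X) := fun q hq hd hqN =>
    hq.one_lt.ne' (Nat.eq_one_of_dvd_coprimes hX hd hqN)
  obtain ⟨E, hE, hXE⟩ := Cfsg.Agent.Lib.H19.exists_isPiHallOf_ge hXM hXπ
  have hcard : Nat.card M = N.relIndex M * Nat.card N := by
    rw [mul_comm]; exact (Cfsg.Agent.Lib.H19.card_mul_relIndex hNM).symm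
  have hn' : IsPiCard π (N.relIndex M) := fun q hq hd hqN =>
    hq.one_lt.ne' (Nat.eq_one_of_dvd_coprimes hcop hqN hd)
  have hm' : IsPiCard πᶜ (Nat.card N) := fun q hq hd h => h hd
  obtain ⟨hEM, hEc⟩ := (Cfsg.Agent.Lib.H19.isPiHallOf_iff_card hcard hn' hm').1 hE
  have hcop' : (Nat.card E).Coprime (Nat.card N) := by rw [hEc]; exact hcop.symm
  have hinf : E ⊓ N = ⊥ := (Subgroup.disjoint_of_coprime_natCard hcop').eq_bot
  have hnorm : E ≤ Subgroup.normalizer (N : Set G) := hEM.trans hn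
  have hsup : N ⊔ E = M := by
    apply Subgroup.eq_of_le_of_card_ge (sup_le hNM hEM)
    have h1 : Nat.card E * Nat.card N ∣ Nat.card (N ⊔ E : Subgroup G) :=
      Nat.Coprime.mul_dvd_of_dvd_of_dvd hcop' (Subgroup.card_dvd_of_le le_sup_right)
        (Subgroup.card_dvd_of_le le_sup_left)
    rw [hcard, ← hEc]
    exact Nat.le_of_dvd Nat.card_pos h1
  refine ⟨E, ⟨hEM, hNM, hinf, ?_⟩, hXE⟩
  intro m hm
  have hm' : m⁻¹ ∈ N ⊔ E := by rw [hsup]; exact M.inv_mem hm
  obtain ⟨k, hk, e, he, hke⟩ := Cfsg.Agent.Lib.H1.mem_sup_of_le_normalizer hnorm hm'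
  refine ⟨e⁻¹, E.inv_mem he, k⁻¹, N.inv_mem hk, ?_⟩
  have : m = (m⁻¹)⁻¹ := (inv_inv m).symm
  rw [this, hke]; group

/-- the complement of a normal subgroup `N` of `M` induces a complement in every subgroup
`D ⊇ N` of `M`. -/
theorem isComplIn_inf {M N E D : Subgroup G} (hc : IsComplIn E N M) (hND : N ≤ D) (hDM : D ≤ M) :
    IsComplIn N (E ⊓ D) D := by
  refine ⟨hND, inf_le_right, ?_, ?_⟩
  · rw [eq_bot_iff, ← hc.2.2.1]
    exact le_inf (inf_le_right.trans inf_le_left) inf_le_left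
  · intro m hm
    obtain ⟨e, he, k, hk, hek⟩ := hc.2.2.2 m⁻¹ (M.inv_mem (hDM hm))
    refine ⟨k⁻¹, N.inv_mem hk, e⁻¹, Subgroup.mem_inf.2 ⟨E.inv_mem he, ?_⟩, ?_⟩
    · have : e = m⁻¹ * k⁻¹ := by rw [hek]; group
      rw [this]
      exact D.inv_mem (D.mul_mem (D.inv_mem hm) (D.inv_mem (hND hk)))
    · have : m = (m⁻¹)⁻¹ := (inv_inv m).symm
      rw [this, hek]; group

theorem inf_le_normalizer_inf {A B X : Subgroup G} (hA : X ≤ Subgroup.normalizer (A : Set G))
    (hB : X ≤ Subgroup.normalizer (B : Set G)) :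
    X ≤ Subgroup.normalizer ((A ⊓ B : Subgroup G) : Set G) := by
  intro x hx
  rw [Subgroup.mem_normalizer_iff]
  intro y
  rw [Subgroup.mem_inf, Subgroup.mem_inf, Subgroup.mem_normalizer_iff.1 (hA hx) y,
    Subgroup.mem_normalizer_iff.1 (hB hx) y]

/-- the frozen statement `S1355` as a hypothesis. -/
def Hyp1355 (G : Type u) [Group G] : Prop :=
  ∀ (M : Subgroup G), IsCoatom M →
    fittingHallOf M ≠ ⊥ ∧ fittingHallOf M ≤ sigmaCore M ∧ sigmaCore M ≤ ⁅M, M⁆ ∧ ⁅M, M⁆ < M ∧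
      Group.IsNilpotent ↥((commutator ↥M).map (QuotientGroup.mk' (fittingHall ↥M)))

/-- a subgroup of `M'` meeting `M_F` trivially is nilpotent (given `S1355`). -/
theorem isNilpotent_of_inf_fittingHallOf_eq_bot {M V : Subgroup G}
    (hnil : Group.IsNilpotent ↥((commutator ↥M).map (QuotientGroup.mk' (fittingHall ↥M))))
    (hVM' : V ≤ ⁅M, M⁆) (hV : fittingHallOf M ⊓ V = ⊥) : Group.IsNilpotent ↥V := by
  have hVM : V ≤ M := hVM'.trans (Subgroup.commutator_le_self M)
  let f : ↥V →* ↥M ⧸ fittingHall ↥M :=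
    (QuotientGroup.mk' (fittingHall ↥M)).comp (Subgroup.inclusion hVM)
  have hf : Function.Injective f := by
    rw [injective_iff_map_eq_one]
    intro v hv
    have h1 : (Subgroup.inclusion hVM v) ∈ fittingHall ↥M := by
      have : (QuotientGroup.mk' (fittingHall ↥M)) (Subgroup.inclusion hVM v) = 1 := hv
      rwa [QuotientGroup.mk'_apply, QuotientGroup.eq_one_iff] at this
    have h2 : (v : G) ∈ fittingHallOf M ⊓ V :=
      Subgroup.mem_inf.2 ⟨(Cfsg.Agent.Lib.H10.BG152.mem_fittingHall_iff _).1 h1, v.2⟩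
    rw [hV, Subgroup.mem_bot] at h2
    exact Subtype.ext h2
  have hrange : f.range ≤ (commutator ↥M).map (QuotientGroup.mk' (fittingHall ↥M)) := by
    rintro _ ⟨v, rfl⟩
    refine ⟨Subgroup.inclusion hVM v, ?_, rfl⟩
    exact (Cfsg.Agent.Lib.H10.BG152.mem_commutator_iff _).2 (hVM' v.2)
  haveI := hnil
  have h3 : Group.IsNilpotent ↥f.range := by
    haveI : Group.IsNilpotent
        ↥(f.range.subgroupOf ((commutator ↥M).map (QuotientGroup.mk' (fittingHall ↥M)))) :=
      Subgroup.isNilpotent _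
    exact (Group.isNilpotent_congr (Subgroup.subgroupOfEquivOfLe hrange)).1 inferInstance
  haveI := h3
  exact Group.nilpotent_of_mulEquiv (MonoidHom.ofInjective hf).symm

variable {M K U : Subgroup G}

/-- **existence of the complement `U_P`** of `M_F` in `M'`, normalized by `K` and nilpotent. -/
theorem exists_UP (hG : IsMinSimpleOddOrder G) (h55 : Hyp1355 G) (hM : IsCoatom M)
    (hKU : IsSigmaDecomposition M K U) (hK1 : K ≠ ⊥) :
    ∃ UP : Subgroup G, IsComplIn (fittingHallOf M) UP ⁅M, M⁆ ∧ Group.IsNilpotent ↥UP ∧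
      K ≤ Subgroup.normalizer (UP : Set G) := by
  obtain ⟨-, hFσ, hσM', -, hnil⟩ := h55 M hM
  have hFM : fittingHallOf M ≤ M := Cfsg.Agent.Lib.H8.fittingHallOf_le M
  have hcopF := Cfsg.Agent.Lib.H10.BG144.card_fittingHallOf_coprime M
  have hKF : (Nat.card K).Coprime (Nat.card ↥(fittingHallOf M)) := by
    apply Nat.coprime_of_dvd
    intro p hp h1 h2
    exact (hKU.hall.2.1 p hp h1).2.2.1 (Cfsg.Agent.Lib.H20.BGS.sigmaCore_isPiCard M p hp
      (h2.trans (Subgroup.card_dvd_of_le hFσ)))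
  obtain ⟨E, hE, hKE⟩ := exists_compl_ge_of_normal_hall (solvable_of_le_ne_top hG hM.1 le_rfl)
    hFM (Cfsg.Agent.Lib.H8.le_normalizer_fittingHallOf M) hcopF hKU.hall.1 hKF
  obtain ⟨-, hnorm⟩ := commutator_hall hG hM hKU hK1
  have hcM : (⁅M, M⁆ : Subgroup G) ≤ M := Subgroup.commutator_le_self M
  have hc := isComplIn_inf hE (hFσ.trans hσM') hcM
  refine ⟨E ⊓ ⁅M, M⁆, hc, ?_, ?_⟩
  · exact isNilpotent_of_inf_fittingHallOf_eq_bot hnil inf_le_right hc.2.2.1
  · exact inf_le_normalizer_inf (hKE.trans Subgroup.le_normalizer) (hKU.hall.1.trans hnorm)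

end Cfsg.Agent.Lib.H7.BG16
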