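import Mathlib
import Cfsg.Agent.Lib.H7.BG16f
import Cfsg.Agent.Lib.H20.TI

/-!
# BG Section 16 (helper7), part g: Types III and IV (`K ≠ 1`, `U = 1`, `M_F ≠ M_σ`)

Modulo the statements `S1355`, `S1356`, `S1357`, `S1363`, `S1364` as hypotheses.
-/

set_option autoImplicit false
set_option linter.style.haveILetI false
set_option linter.unusedSectionVars false
set_option linter.unusedVariables false

open Cfsg
open Cfsg.Agent.Lib.H16.BG
open Cfsg.Agent.Lib.H7.BG7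
open Cfsg.Agent.Lib.H19 (IsPiCard)

namespace Cfsg.Agent.Lib.H7.BG16

universe u
variable {G : Type u} [Group G] [Finite G]

local notation:max "cj(" g ", " X ")" => Subgroup.map (MulEquiv.toMonoidHom (MulAut.conj g)) X

/-- the frozen statement `S1357` as a hypothesis. -/
def Hyp1357 (G : Type u) [Group G] : Prop :=
  ∀ (M : Subgroup G), IsCoatom M → ∀ (K U : Subgroup G), IsSigmaDecomposition M K U →
    fittingHallOf M ≠ sigmaCore M →
      U = ⊥ ∧ IsTISubset (fittingOf M : Set G) ∧ (Nat.card K).Prime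

variable {M K U W₁ UP W₂ : Subgroup G}

/-- when `U = 1`, `M' = M_σ`. -/
theorem commutator_eq_sigmaCore (hG : IsMinSimpleOddOrder G) (hM : IsCoatom M)
    (hKU : IsSigmaDecomposition M K ⊥) (hK1 : K ≠ ⊥) : ⁅M, M⁆ = sigmaCore M := by
  have h65 := (Cfsg.Agent.S1365.result hG M hM K ⊥ hKU hK1).1
  rwa [bot_sup_eq] at h65

theorem eq_of_isComplIn_bot {A D : Subgroup G} (h : IsComplIn A ⊥ D) : A = D := by
  apply le_antisymm h.1
  intro m hm
  obtain ⟨a, ha, b, hb, rfl⟩ := h.2.2.2 m hm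
  rw [Subgroup.mem_bot] at hb
  rw [hb, mul_one]; exact ha

/-- **Types III, IV** (BG Theorem I): `K ≠ 1`, `U = 1` and `M_F ≠ M_σ`. -/
theorem isOfTypeIII_or_IV (hG : IsMinSimpleOddOrder G) (h55 : Hyp1355 G) (h56 : Hyp1356 G)
    (h57 : Hyp1357 G) (h64 : Hyp1364 G) (hM : IsCoatom M) (hKU : IsSigmaDecomposition M K ⊥)
    (hK1 : K ≠ ⊥) (hne : fittingHallOf M ≠ sigmaCore M) : IsOfTypeIII M ∨ IsOfTypeIV M := by
  obtain ⟨-, hTI, hp⟩ := h57 M hM K ⊥ hKU hne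
  obtain ⟨UP, hc, hnil, hKn⟩ := exists_UP hG h55 hM hKU hK1
  have hP := isTypePWith hG h56 h64 hM hKU hK1 hnil hKn hc
  have hM' := commutator_eq_sigmaCore hG hM hKU hK1
  have hUP1 : UP ≠ ⊥ := by
    rintro rfl
    apply hne
    rw [eq_of_isComplIn_bot hc, hM']
  have hUPσ : UP ≤ sigmaCore M := by rw [← hM']; exact hc.2.1
  have hN : Subgroup.normalizer (UP : Set G) ≤ M :=
    normalizer_le_of_nilpotent_hall hG hM hUPσ hnil hUP1 (coprime_UP hP)
  by_cases hcomm : IsMulCommutative ↥UP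
  · exact Or.inl ⟨K, UP, _, hP, hUP1, hp, hTI, hcomm, hN⟩
  · exact Or.inr ⟨K, UP, _, hP, hUP1, hp, hTI, hcomm, hN⟩

/-- two complements of `M_σ` in `M'` are conjugate under `M'`. -/
theorem exists_conj_of_isComplIn (hG : IsMinSimpleOddOrder G) (hM : IsCoatom M)
    {A B : Subgroup G} (hA : IsComplIn (sigmaCore M) A ⁅M, M⁆)
    (hB : IsComplIn (sigmaCore M) B ⁅M, M⁆)
    (hcop : (Nat.card A).Coprime (Nat.card ↥(sigmaCore M))) :
    ∃ m ∈ M, cj(m, A) = B := by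
  have hcM : (⁅M, M⁆ : Subgroup G) ≤ M := Subgroup.commutator_le_self M
  haveI : Group.IsSolvable ↥(⁅M, M⁆ : Subgroup G) := solvable_of_le_ne_top hG hM.1 hcM
  set π : Set ℕ := {q | ¬ q ∣ Nat.card ↥(sigmaCore M)} with hπ
  have h1 := Cfsg.Agent.Lib.H7.isComplIn_card_mul hA
  have h2 := Cfsg.Agent.Lib.H7.isComplIn_card_mul hB
  have hAB : Nat.card A = Nat.card B := by
    rw [← h2] at h1
    exact Nat.eq_of_mul_eq_mul_left Nat.card_pos h1
  have hcard : Nat.card ↥(⁅M, M⁆ : Subgroup G) = Nat.card A * Nat.card ↥(sigmaCore M) := by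
    rw [← h1, mul_comm]
  have hm : IsPiCard π (Nat.card A) := fun q hq hd hqN =>
    hq.one_lt.ne' (Nat.eq_one_of_dvd_coprimes hcop hd hqN)
  have hn : IsPiCard πᶜ (Nat.card ↥(sigmaCore M)) := fun q hq hd h => h hd
  have hHA : IsPiHallOf π A ⁅M, M⁆ :=
    (Cfsg.Agent.Lib.H19.isPiHallOf_iff_card hcard hm hn).2 ⟨hA.2.1, rfl⟩
  have hHB : IsPiHallOf π B ⁅M, M⁆ :=
    (Cfsg.Agent.Lib.H19.isPiHallOf_iff_card hcard hm hn).2 ⟨hB.2.1, hAB.symm⟩
  obtain ⟨g, hg, hgAB⟩ := Cfsg.Agent.Lib.H19.isPiHallOf_exists_conj hHA hHB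
  refine ⟨g, hcM hg, ?_⟩
  rw [Cfsg.Agent.Lib.H20.map_conj_eq_smul]
  exact hgAB

/-- **Types III, IV force `U = 1`**. -/
theorem U_eq_bot_of_typeIII_IV (hG : IsMinSimpleOddOrder G) (h63 : Hyp1363 G) (hM : IsCoatom M)
    (hKU : IsSigmaDecomposition M K U) (hP : IsTypePWith M W₁ UP W₂)
    (hN : Subgroup.normalizer (UP : Set G) ≤ M) : U = ⊥ := by
  by_contra hU1
  have hK1 := K_ne_bot_of_typeP hG hM hKU hP
  obtain ⟨-, -, hσF⟩ := Cfsg.Agent.S1372.result hG M hM K U hKU hK1 hU1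
  have hnil : Group.IsNilpotent ↥(sigmaCore M) :=
    Cfsg.Agent.Lib.H10.BG131b.isNilpotent_of_le (fittingOf_isNilpotent M) hσF
  obtain ⟨-, hF⟩ := fittingHallOf_commutator_eq hG hM hKU hK1 hnil
  obtain ⟨-, hUN⟩ := h63 M hM K U hKU hK1
  have h65 := (Cfsg.Agent.S1365.result hG M hM K U hKU hK1).1
  have hcU : IsComplIn (sigmaCore M) U ⁅M, M⁆ := by
    rw [h65]; exact isComplIn_sigmaCore_U hKU
  have hcUP : IsComplIn (sigmaCore M) UP ⁅M, M⁆ := by
    have := hP.U_compl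
    rwa [hF] at this
  have hcop : (Nat.card U).Coprime (Nat.card ↥(sigmaCore M)) := by
    have := Cfsg.Agent.Lib.H7.coprime_card_fittingHallOf hKU.compl.1
      (by rw [hF]; exact hcU.2.2.1)
    rw [hF] at this
    exact this.symm
  obtain ⟨m, hm, hmU⟩ := exists_conj_of_isComplIn hG hM hcU hcUP hcop
  apply hUN
  rw [← hmU, normalizer_cj, cj_le_iff] at hN
  rwa [cj_eq_self_of_mem (M.inv_mem hm)] at hN

/-- **`S1382`** modulo `S1355`, `S1356`, `S1357`, `S1363`, `S1364`. -/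
theorem s1382_of_hyps (hG : IsMinSimpleOddOrder G) (h55 : Hyp1355 G) (h56 : Hyp1356 G)
    (h57 : Hyp1357 G) (h63 : Hyp1363 G) (h64 : Hyp1364 G) (hM : IsCoatom M)
    (hKU : IsSigmaDecomposition M K U) :
    (IsOfTypeIII M ∨ IsOfTypeIV M) ↔ (K ≠ ⊥ ∧ U = ⊥ ∧ fittingHallOf M ≠ sigmaCore M) := by
  constructor
  · intro h
    have key : ∀ {W₁ UP W₂ : Subgroup G}, IsTypePWith M W₁ UP W₂ → UP ≠ ⊥ →
        Subgroup.normalizer (UP : Set G) ≤ M →
        K ≠ ⊥ ∧ U = ⊥ ∧ fittingHallOf M ≠ sigmaCore M := by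
      intro W₁ UP W₂ hP hUP1 hN
      have hK1 := K_ne_bot_of_typeP hG hM hKU hP
      have hU := U_eq_bot_of_typeIII_IV hG h63 hM hKU hP hN
      subst hU
      refine ⟨hK1, rfl, ?_⟩
      intro hF
      apply hUP1
      have hM' := commutator_eq_sigmaCore hG hM hKU hK1
      have h1 : UP ≤ fittingHallOf M := by rw [hF, ← hM']; exact hP.U_compl.2.1
      rw [eq_bot_iff, ← hP.U_compl.2.2.1]
      exact le_inf h1 le_rfl
    rcases h with ⟨W₁, UP, W₂, hP, hUP1, -, -, -, hN⟩ | ⟨W₁, UP, W₂, hP, hUP1, -, -, -, hN⟩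
    · exact key hP hUP1 hN
    · exact key hP hUP1 hN
  · rintro ⟨hK1, hU, hne⟩
    subst hU
    exact isOfTypeIII_or_IV hG h55 h56 h57 h64 hM hKU hK1 hne

end Cfsg.Agent.Lib.H7.BG16
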