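import Mathlib
import Cfsg.Agent.Lib.H7.BG16g
import Cfsg.Agent.Lib.H10.BG152j
import Cfsg.Agent.S1357
import Cfsg.Agent.S1358
import Cfsg.Agent.S1361
import Cfsg.Agent.S1362
import Cfsg.Agent.S1364
import Cfsg.Agent.S1365

/-!
# BG Section 16 (helper7), part i: `S1390` (complements `U` for Types I and II)

* conjugation invariance of standard factorisations,
* Frobenius type forces `K = 1`,
* the evaluation of `typeA`, `typeA1` for Types I and II and the statement `S1390`.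
-/

set_option autoImplicit false
set_option linter.style.haveILetI false
set_option linter.unusedSectionVars false
set_option linter.unusedVariables false

open Cfsg
open Cfsg.Agent.Lib.H16.BG
open Cfsg.Agent.Lib.H7.BG7
open Cfsg.Agent.Lib.H19 (IsPiCard)

namespace Cfsg.Agent.Lib.H7.BG16

universe u
variable {G : Type u} [Group G] [Finite G]

local notation:max "cj(" g ", " X ")" => Subgroup.map (MulEquiv.toMonoidHom (MulAut.conj g)) X

variable {M K U W₁ UP W₂ : Subgroup G}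

/-- symmetry of `IsComplIn`. -/
theorem isComplIn_symm {A B D : Subgroup G} (h : IsComplIn A B D) : IsComplIn B A D := by
  refine ⟨h.2.1, h.1, by rw [inf_comm]; exact h.2.2.1, ?_⟩
  intro m hm
  obtain ⟨a, ha, b, hb, hab⟩ := h.2.2.2 m⁻¹ (D.inv_mem hm)
  refine ⟨b⁻¹, B.inv_mem hb, a⁻¹, A.inv_mem ha, ?_⟩
  rw [← mul_inv_rev, ← hab, inv_inv]

/-- conjugation of `IsComplIn`. -/
theorem isComplIn_cj {A B D : Subgroup G} (h : IsComplIn A B D) (g : G) :
    IsComplIn cj(g, A) cj(g, B) cj(g, D) := by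
  refine ⟨cj_mono g h.1, cj_mono g h.2.1, by rw [← cj_inf, h.2.2.1, cj_bot], ?_⟩
  intro m hm
  rw [mem_cj_iff] at hm
  obtain ⟨a, ha, b, hb, hab⟩ := h.2.2.2 _ hm
  refine ⟨g * a * g⁻¹, conj_mem_cj ha, g * b * g⁻¹, conj_mem_cj hb, ?_⟩
  have h1 : m = g * (g⁻¹ * m * g) * g⁻¹ := by group
  rw [h1, hab]
  group

/-- a standard factorisation may be conjugated by an element of `M`. -/
theorem isSigmaDecomposition_cj_of_mem (hKU : IsSigmaDecomposition M K U) {m : G} (hm : m ∈ M) :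
    IsSigmaDecomposition M cj(m, K) cj(m, U) := by
  have hMm : cj(m, M) = M := cj_eq_self_of_mem hm
  have hσm : cj(m, sigmaCore M) = sigmaCore M :=
    cj_eq_self_of_mem_normalizer (Cfsg.Agent.Lib.H20.BGS.le_normalizer_sigmaCore M hm)
  refine ⟨?_, ?_, ?_, ?_⟩
  · haveI := hKU.cyclic
    exact isCyclic_of_surjective
      (Subgroup.equivMapOfInjective K (MulEquiv.toMonoidHom (MulAut.conj m))
        (MulAut.conj m).injective)
      (Subgroup.equivMapOfInjective K (MulEquiv.toMonoidHom (MulAut.conj m))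
        (MulAut.conj m).injective).surjective
  · have h := Cfsg.Agent.Lib.H19.IsPiHallOf.conj hKU.hall (g := m) (Subgroup.le_normalizer hm)
    rwa [← Cfsg.Agent.Lib.H20.map_conj_eq_smul] at h
  · have h := isComplIn_cj hKU.compl m
    rwa [Subgroup.map_sup, hσm, hMm] at h
  · exact le_normalizer_cj hKU.normal

/-- the data of a group of Frobenius type, at the level of `G`. -/
theorem typeF_data (hF : IsOfTypeF ↥M) :
    ∃ V V₀ : Subgroup G, IsComplIn (fittingHallOf M) V M ∧ V₀ ≤ V ∧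
      Monoid.exponent ↥V₀ = Monoid.exponent ↥V ∧
      ∀ u ∈ V₀, u ≠ 1 → ∀ x ∈ fittingHallOf M, u * x = x * u → x = 1 := by
  obtain ⟨-, -, -, -, U', -, hc, -, ⟨U₀', hU₀U, hexp, hreg⟩⟩ := hF
  refine ⟨U'.map M.subtype, U₀'.map M.subtype, ?_, Subgroup.map_mono hU₀U, ?_, ?_⟩
  · refine ⟨Cfsg.Agent.Lib.H8.fittingHallOf_le M, Subgroup.map_subtype_le _, ?_, ?_⟩
    · unfold fittingHallOf
      rw [← Subgroup.map_inf _ _ _ M.subtype_injective, disjoint_iff.1 hc.disjoint,
        Subgroup.map_bot]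
    · intro m hm
      obtain ⟨⟨h, v⟩, hhv⟩ := hc.2 ⟨m, hm⟩
      refine ⟨(h : ↥M), Subgroup.mem_map_of_mem _ h.2, (v : ↥M), Subgroup.mem_map_of_mem _ v.2, ?_⟩
      exact congrArg Subtype.val hhv.symm
  · rw [← Monoid.exponent_eq_of_mulEquiv
        (Subgroup.equivMapOfInjective U₀' M.subtype M.subtype_injective),
      ← Monoid.exponent_eq_of_mulEquiv
        (Subgroup.equivMapOfInjective U' M.subtype M.subtype_injective), hexp]
  · rintro u ⟨u', hu', rfl⟩ hu1 x ⟨x', hx', rfl⟩ hux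
    have h1 : u' ≠ 1 := by
      intro h
      apply hu1
      rw [h]
      rfl
    have h2 : u' * x' = x' * u' := Subtype.ext hux
    rw [hreg u' hu' h1 x' hx' h2]
    rfl

/-- **a maximal subgroup of Frobenius type has `K = 1`**. -/
theorem K_eq_bot_of_typeF (hG : IsMinSimpleOddOrder G) (hM : IsCoatom M)
    (hKU : IsSigmaDecomposition M K U) (hF : IsOfTypeF ↥M) : K = ⊥ := by
  by_contra hK1
  obtain ⟨V, V₀, hc, hV₀V, hexp, hreg⟩ := typeF_data hF
  have hcK : Nat.card K ≠ 1 := fun h => hK1 (Subgroup.card_eq_one.1 h)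
  obtain ⟨p, hp, hpK⟩ := Nat.exists_prime_and_dvd hcK
  haveI : Fact p.Prime := ⟨hp⟩
  have hpκ : p ∈ kappa M := hKU.hall.2.1 p hp hpK
  have hpσ : p ∉ sigma M := hpκ.2.2.1
  have hpF : ¬ p ∣ Nat.card (fittingHallOf M) := by
    intro hd
    apply hpσ
    apply Cfsg.Agent.Lib.H20.BGS.sigmaCore_isPiCard M p hp
    exact hd.trans (Subgroup.card_dvd_of_le
      (Cfsg.Agent.Lib.H10.BG144.fittingHallOf_le_sigmaCore hG hM))
  have hcard := Cfsg.Agent.Lib.H7.isComplIn_card_mul hc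
  have hpM : p ∣ Nat.card M := hpK.trans (Subgroup.card_dvd_of_le hKU.hall.1)
  have hpV : p ∣ Nat.card V := by
    rw [← hcard] at hpM
    exact (hp.dvd_mul.1 hpM).resolve_left hpF
  have hpe : p ∣ Monoid.exponent ↥V := by
    obtain ⟨v, hv⟩ := exists_prime_orderOf_dvd_card' p hpV
    rw [← hv]
    exact Monoid.order_dvd_exponent v
  rw [← hexp] at hpe
  have hpV₀ : p ∣ Nat.card V₀ := hpe.trans Group.exponent_dvd_nat_card
  obtain ⟨u, hu⟩ := exists_prime_orderOf_dvd_card' p hpV₀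
  have hu1 : (u : G) ≠ 1 := by
    intro h
    have h2 : u = 1 := Subtype.ext h
    rw [h2, orderOf_one] at hu
    exact hp.one_lt.ne hu
  have huM : (u : G) ∈ M := hc.2.1 (hV₀V u.2)
  have hX : IsPiCard (kappa M) (Nat.card (Subgroup.zpowers (u : G))) := by
    rw [Nat.card_zpowers, Subgroup.orderOf_coe, hu]
    intro q hq hd
    rw [(Nat.prime_dvd_prime_iff_eq hq hp).1 hd]
    exact hpκ
  haveI : Group.IsSolvable ↥M := solvable_of_le_ne_top hG hM.1 le_rfl
  obtain ⟨K₁, hK₁, huK₁⟩ :=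
    Cfsg.Agent.Lib.H19.exists_isPiHallOf_ge (Subgroup.zpowers_le.2 huM) hX
  obtain ⟨m, hm, hmK⟩ := Cfsg.Agent.Lib.H19.isPiHallOf_exists_conj hKU.hall hK₁
  rw [← Cfsg.Agent.Lib.H20.map_conj_eq_smul] at hmK
  have hKU₁ := isSigmaDecomposition_cj_of_mem hKU hm
  rw [hmK] at hKU₁
  have hK₁1 : K₁ ≠ ⊥ := by
    rw [← hmK, Ne, cj_eq_bot_iff]
    exact hK1
  obtain ⟨-, hne, hle, -⟩ := Cfsg.Agent.S1364.result hG M hM K₁ _ hKU₁ hK₁1
  obtain ⟨x, hx, hx1⟩ := (Subgroup.bot_or_exists_ne_one _).resolve_left hne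
  have hxc : (u : G) * x = x * (u : G) := by
    have h1 := (Subgroup.mem_inf.1 hx).2
    rw [Subgroup.mem_centralizer_iff] at h1
    exact h1 (u : G) (huK₁ (Subgroup.mem_zpowers _))
  exact hx1 (hreg (u : G) u.2 hu1 x (hle hx) hxc)

/-- the conclusion of `S1390`. -/
def Concl1390 (M U : Subgroup G) : Prop :=
  (∀ (p : ℕ), p.Prime → ∀ P : Sylow p U,
      IsMulCommutative (P : Subgroup U) ∧ PRankLE p 2 (P : Subgroup U)) ∧
    (∀ X : Set G, X ⊆ (U : Set G) \ {1} → X.Nonempty →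
      fittingHallOf M ⊓ Subgroup.centralizer X ≠ ⊥ →
      Subgroup.centralizer X ≤ M ∧
        ∀ L : Subgroup G, IsCoatom L → Subgroup.centralizer X ≤ L → L = M) ∧
    IsTISubset (typeA M \ typeA1 M)

/-- the common core of both cases of `S1390`. -/
theorem s1390_core (hG : IsMinSimpleOddOrder G) (hM : IsCoatom M)
    (hKU : IsSigmaDecomposition M K U) (hFσ : fittingHallOf M = sigmaCore M)
    (hcore : typeCore M = fittingHallOf M) {D : Subgroup G} (hD : U ⊔ sigmaCore M = D)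
    (hA : typeA M =
      {a | a ∈ D ∧ a ≠ 1 ∧ ∃ x ∈ fittingHallOf M, x ≠ 1 ∧ a * x = x * a}) :
    Concl1390 M U := by
  refine ⟨Cfsg.Agent.S1358.result hG M hM K U hKU, ?_, ?_⟩
  · intro X hXU hXne hXc
    have hYU : Subgroup.closure X ≤ U := (Subgroup.closure_le U).2 (fun x hx => (hXU hx).1)
    have hY1 : Subgroup.closure X ≠ ⊥ := by
      obtain ⟨x, hx⟩ := hXne
      intro h
      have h1 : x ∈ Subgroup.closure X := Subgroup.subset_closure hx
      rw [h, Subgroup.mem_bot] at h1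
      exact (hXU hx).2 h1
    have hcent : Subgroup.centralizer ((Subgroup.closure X : Subgroup G) : Set G) =
        Subgroup.centralizer X := Subgroup.centralizer_closure X
    have h := Cfsg.Agent.S1361.result hG M hM K U hKU (Subgroup.closure X) hYU hY1
      (by rw [hcent, ← hFσ]; exact hXc)
    rwa [hcent] at h
  · have hDM : D ≤ M := by
      rw [← hD]
      exact sup_le hKU.compl.1 (Cfsg.Agent.Lib.H20.BGS.sigmaCore_le M)
    have hset : typeA M \ typeA1 M = sigmaA M U \ (sigmaCore M : Set G) := by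
      ext a
      constructor
      · rintro ⟨haA, hnA1⟩
        rw [hA] at haA
        obtain ⟨haD, ha1, x, hxF, hx1, hax⟩ := haA
        refine ⟨⟨⟨hDM haD, x, hFσ ▸ hxF, hx1, hax⟩, ?_⟩, ?_⟩
        · rw [hD]; exact haD
        · intro haσ
          apply hnA1
          refine ⟨?_, ha1⟩
          rw [hcore, hFσ]
          exact haσ
      · rintro ⟨⟨⟨haM, y, hy, hy1, hay⟩, haD⟩, hnσ⟩
        have ha1 : a ≠ 1 := by
          intro h
          apply hnσ
          rw [h]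
          exact Subgroup.one_mem _
        constructor
        · rw [hA]
          refine ⟨?_, ha1, y, hFσ.symm ▸ hy, hy1, hay⟩
          rw [← hD]; exact haD
        · rintro ⟨haC, -⟩
          apply hnσ
          rw [hcore, hFσ] at haC
          exact haC
    rw [hset]
    exact Cfsg.Agent.S1362.result hG M hM K U hKU

/-- **`S1390`, Type I case**. -/
theorem s1390_typeI (hG : IsMinSimpleOddOrder G) (hM : IsCoatom M) (hI : IsOfTypeI M)
    (hc : IsComplIn (fittingHallOf M) U M) : Concl1390 M U := by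
  obtain ⟨K₀, U₀, hKU₀⟩ := Cfsg.Agent.Lib.H10.BG152.exists_isSigmaDecomposition hG hM
  have hK₀ : K₀ = ⊥ := K_eq_bot_of_typeF hG hM hKU₀ hI.1
  subst hK₀
  have hFσ : fittingHallOf M = sigmaCore M := by
    by_contra hne
    have h := (Cfsg.Agent.S1357.result hG M hM ⊥ U₀ hKU₀ hne).2.2
    rw [Subgroup.card_bot] at h
    exact Nat.not_prime_one h
  have hKU : IsSigmaDecomposition M ⊥ U := by
    refine ⟨hKU₀.cyclic, hKU₀.hall, ?_, bot_le⟩
    rw [bot_sup_eq, ← hFσ]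
    exact isComplIn_symm hc
  have hnotP : ∀ W₁ UP W₂ : Subgroup G, ¬ IsTypePWith M W₁ UP W₂ :=
    fun _ _ _ h => K_ne_bot_of_typeP hG hM hKU h rfl
  have hcore : typeCore M = fittingHallOf M := by
    unfold typeCore
    rw [if_neg]
    rintro (⟨W₁, UP, W₂, h, -⟩ | ⟨W₁, UP, W₂, h, -⟩)
    · exact hnotP _ _ _ h
    · exact hnotP _ _ _ h
  have hD : U ⊔ sigmaCore M = M := by
    have := Cfsg.Agent.Lib.H20.BGQ.sup_eq_of_isComplIn hc
    rw [← hFσ, sup_comm]
    exact this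
  have hA : typeA M =
      {a | a ∈ M ∧ a ≠ 1 ∧ ∃ x ∈ fittingHallOf M, x ≠ 1 ∧ a * x = x * a} := by
    unfold typeA
    rw [if_pos hI]
  exact s1390_core hG hM hKU hFσ hcore hD hA

/-- **`S1390`, Type II case**. -/
theorem s1390_typeII (hG : IsMinSimpleOddOrder G) (hM : IsCoatom M) (hII : IsOfTypeII M)
    (hc : IsComplIn (fittingHallOf M) U ⁅M, M⁆) : Concl1390 M U := by
  obtain ⟨K₀, U₀, hKU₀⟩ := Cfsg.Agent.Lib.H10.BG152.exists_isSigmaDecomposition hG hM
  have hU₀ : U₀ ≠ ⊥ := U_ne_bot_of_typeII hG hM hKU₀ hII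
  obtain ⟨W₁, UP, W₂, hP, hUP1, hW₁p, hTI, hcomm, hN, hF', hFF⟩ := hII
  have hK₀ : K₀ ≠ ⊥ := K_ne_bot_of_typeP hG hM hKU₀ hP
  have hFσ : fittingHallOf M = sigmaCore M := by
    by_contra hne
    exact hU₀ (Cfsg.Agent.S1357.result hG M hM K₀ U₀ hKU₀ hne).1
  have h65 := (Cfsg.Agent.S1365.result hG M hM K₀ U₀ hKU₀ hK₀).1
  have hcU₀ : IsComplIn (sigmaCore M) U₀ ⁅M, M⁆ := by
    rw [h65]; exact isComplIn_sigmaCore_U hKU₀
  have hcU : IsComplIn (sigmaCore M) U ⁅M, M⁆ := by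
    rw [← hFσ]; exact hc
  have hcM : (⁅M, M⁆ : Subgroup G) ≤ M := Subgroup.commutator_le_self M
  have hcopOf : ∀ {A : Subgroup G}, IsComplIn (sigmaCore M) A ⁅M, M⁆ →
      (Nat.card A).Coprime (Nat.card ↥(sigmaCore M)) := by
    intro A hA
    have := Cfsg.Agent.Lib.H7.coprime_card_fittingHallOf (hA.2.1.trans hcM)
      (by rw [hFσ]; exact hA.2.2.1)
    rw [hFσ] at this
    exact this.symm
  obtain ⟨m, hm, hmU⟩ := exists_conj_of_isComplIn hG hM hcU₀ hcU (hcopOf hcU₀)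
  have hKU := isSigmaDecomposition_cj_of_mem hKU₀ hm
  rw [hmU] at hKU
  have hnotI : ¬ IsOfTypeI M := fun h => hK₀ (K_eq_bot_of_typeF hG hM hKU₀ h.1)
  have hcUP : IsComplIn (sigmaCore M) UP ⁅M, M⁆ := by
    have := hP.U_compl
    rwa [hFσ] at this
  have hkey : ∀ W₁' UP' W₂' : Subgroup G, IsTypePWith M W₁' UP' W₂' →
      ¬ Subgroup.normalizer (UP' : Set G) ≤ M := by
    intro W₁' UP' W₂' hP' hN'
    have hcUP' : IsComplIn (sigmaCore M) UP' ⁅M, M⁆ := by
      have := hP'.U_compl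
      rwa [hFσ] at this
    obtain ⟨m', hm', hmUP⟩ := exists_conj_of_isComplIn hG hM hcUP hcUP' (hcopOf hcUP)
    apply hN
    rw [← hmUP, normalizer_cj, cj_le_iff] at hN'
    rwa [cj_eq_self_of_mem (M.inv_mem hm')] at hN'
  have hcore : typeCore M = fittingHallOf M := by
    unfold typeCore
    rw [if_neg]
    rintro (⟨W₁', UP', W₂', h, -, -, -, -, hN'⟩ | ⟨W₁', UP', W₂', h, -, -, -, -, hN'⟩)
    · exact hkey _ _ _ h hN'
    · exact hkey _ _ _ h hN'
  have hD : U ⊔ sigmaCore M = ⁅M, M⁆ := by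
    have := Cfsg.Agent.Lib.H20.BGQ.sup_eq_of_isComplIn hcU
    rw [sup_comm]
    exact this
  have hA : typeA M =
      {a | a ∈ ⁅M, M⁆ ∧ a ≠ 1 ∧ ∃ x ∈ fittingHallOf M, x ≠ 1 ∧ a * x = x * a} := by
    unfold typeA
    rw [if_neg hnotI, hcore]
  exact s1390_core hG hM hKU hFσ hcore hD hA

end Cfsg.Agent.Lib.H7.BG16
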