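/-
O2-E2 of the orthogonal phase 2 farm-out (helper21 architect): over F_3 the stabiliser (in the isometry group) of a
plus-type plane W stabilises the non-degenerate hyperplane u^⊥, u = e + e' (the two vectors of W with Q = 1 are ± u).
-/
import Cfsg.Agent.Lib.H29.Orth
import Cfsg.Agent.Lib.H29.QuadOdd

set_option autoImplicit false

namespace Cfsg.Agent.Lib.H7.OP2

open Cfsg Cfsg.Geo
open scoped MatrixGroups Matrix Kronecker

variable {F : Type*} [Field F] [Fintype F]

theorem o2e2_two_ne_zero (hq : Fintype.card F = 3) : (2 : F) ≠ 0 := by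
  intro h
  have h0 : ((Fintype.card F : ℕ) : F) = 0 := Nat.cast_card_eq_zero F
  rw [hq] at h0
  have h3 : (3 : F) = 2 + 1 := by norm_num
  push_cast at h0
  rw [h3, h, zero_add] at h0
  exact one_ne_zero h0

/-- **O2-E2**. -/
theorem exists_of_plus_plane (hq : Fintype.card F = 3) (m : ℕ)
    (W : Submodule F (Unit ⊕ (Fin m ⊕ Fin m) → F)) (hdim : Module.finrank F W = 2)
    (hW : IsNondegenerateOn (QuadraticMap.polar (quadFormOdd m F)) W)
    (hplus : IsPlusTypeOn (quadFormOdd m F) W) :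
    ∃ W' : Submodule F (Unit ⊕ (Fin m ⊕ Fin m) → F),
      IsNondegenerateOn (QuadraticMap.polar (quadFormOdd m F)) W' ∧
      Module.finrank F W' = 2 * m ∧
      subspaceStabilizer W ⊓ isometryGroup F (quadFormOdd m F) ≤ subspaceStabilizer W' := by
  classical
  have h2 : (2 : F) ≠ 0 := o2e2_two_ne_zero hq
  have hQ : IsNondegenerateQuadraticForm (quadFormOdd m F) :=
    Cfsg.Agent.Lib.H29.QuadOdd.isNondegenerateQuadraticForm m h2
  set Q : QuadraticForm F (Unit ⊕ (Fin m ⊕ Fin m) → F) :=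
    Cfsg.Agent.Lib.H29.Orth.toQF (quadFormOdd m F) hQ with hQdef
  have hcoe : (⇑Q : (Unit ⊕ (Fin m ⊕ Fin m) → F) → F) = quadFormOdd m F := rfl
  obtain ⟨e, e', heW, he'W, hQe, hQe', hee', hspan⟩ :=
    Cfsg.Agent.Lib.H29.Orth.exists_hyperbolic_basis Q W hdim hW hplus
  have huW : e + e' ∈ W := W.add_mem heW he'W
  have hQu : Q (e + e') = 1 := by
    rw [QuadraticMap.map_add (⇑Q), hQe, hQe', hee']; simp
  have hpu : QuadraticMap.polar Q (e + e') (e + e') = 2 := by
    rw [Cfsg.Agent.Lib.H29.Orth.polar_self', hQu, mul_one]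
  -- the vectors of norm one in `W`
  have key : ∀ w ∈ W, Q w = 1 → ∃ a : F, a ≠ 0 ∧ w = a • (e + e') := by
    intro w hw hQw
    obtain ⟨a, b, rfl⟩ := hspan w hw
    have hab : a * b = 1 := by
      rw [QuadraticMap.map_add (⇑Q), QuadraticMap.map_smul, QuadraticMap.map_smul, hQe, hQe',
        QuadraticMap.polar_smul_left, QuadraticMap.polar_smul_right, hee'] at hQw
      simpa using hQw
    have ha : a ≠ 0 := left_ne_zero_of_mul_eq_one hab
    have ha2 : a * a = 1 := by
      have := FiniteField.pow_card_sub_one_eq_one a ha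
      rw [hq] at this
      simpa [pow_two] using this
    have hb : b = a := by
      have : a * b = a * a := by rw [hab, ha2]
      exact mul_left_cancel₀ ha this
    exact ⟨a, ha, by rw [hb, smul_add]⟩
  -- the hyperplane `u^⊥`
  set φ : (Unit ⊕ (Fin m ⊕ Fin m) → F) →ₗ[F] F := QuadraticMap.polarBilin Q (e + e') with hφ
  have hφa : ∀ x, φ x = QuadraticMap.polar Q (e + e') x := fun x => rfl
  have hφu : φ (e + e') = 2 := by rw [hφa, hpu]
  have hφ0 : φ ≠ 0 := by
    intro h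
    rw [h, LinearMap.zero_apply] at hφu
    exact h2 hφu.symm
  refine ⟨LinearMap.ker φ, ?_, ?_, ?_⟩
  · -- non-degenerate
    intro w hw hw0
    rw [LinearMap.mem_ker, hφa] at hw
    have hw' : QuadraticMap.polar Q w (e + e') = 0 := by rw [QuadraticMap.polar_comm]; exact hw
    obtain ⟨⟨x, hx⟩, ⟨y, hy⟩⟩ := hQ.nondegenerate w hw0
    have hx' : QuadraticMap.polar Q x w ≠ 0 := hx
    have hy' : QuadraticMap.polar Q w y ≠ 0 := hy
    have hproj : ∀ z : Unit ⊕ (Fin m ⊕ Fin m) → F,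
        z - (φ z / 2) • (e + e') ∈ LinearMap.ker φ := by
      intro z
      rw [LinearMap.mem_ker, map_sub, map_smul, hφu, smul_eq_mul, div_mul_cancel₀ _ h2, sub_self]
    refine ⟨⟨x - (φ x / 2) • (e + e'), hproj x, ?_⟩, ⟨y - (φ y / 2) • (e + e'), hproj y, ?_⟩⟩
    · show QuadraticMap.polar Q (x - (φ x / 2) • (e + e')) w ≠ 0
      rw [QuadraticMap.polar_sub_left, QuadraticMap.polar_smul_left, hw, smul_zero, sub_zero]
      exact hx'
    · show QuadraticMap.polar Q w (y - (φ y / 2) • (e + e')) ≠ 0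
      rw [QuadraticMap.polar_sub_right, QuadraticMap.polar_smul_right, hw', smul_zero, sub_zero]
      exact hy'
  · -- dimension
    have h1 := Module.Dual.finrank_ker_add_one_of_ne_zero hφ0
    rw [Module.finrank_fintype_fun_eq_card] at h1
    have hcard : Fintype.card (Unit ⊕ (Fin m ⊕ Fin m)) = 2 * m + 1 := by
      simp; ring
    rw [hcard] at h1
    exact Nat.succ_injective h1
  · -- the stabiliser
    rintro g ⟨hgW, hgI⟩
    have hgI' : g ∈ isometryGroup F (⇑Q) := hgI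
    have hguW : (g : Matrix (Unit ⊕ (Fin m ⊕ Fin m)) (Unit ⊕ (Fin m ⊕ Fin m)) F) *ᵥ (e + e') ∈ W := (hgW (e + e')).mp huW
    have hQgu : Q ((g : Matrix (Unit ⊕ (Fin m ⊕ Fin m)) (Unit ⊕ (Fin m ⊕ Fin m)) F) *ᵥ (e + e')) = 1 := by
      rw [(Cfsg.Agent.Lib.H29.Orth.mem_isometryGroup_iff Q g).1 hgI' (e + e'), hQu]
    obtain ⟨a, ha, hau⟩ := key _ hguW hQgu
    intro v
    show v ∈ LinearMap.ker φ ↔ (g : Matrix (Unit ⊕ (Fin m ⊕ Fin m)) (Unit ⊕ (Fin m ⊕ Fin m)) F) *ᵥ v ∈ LinearMap.ker φ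
    rw [LinearMap.mem_ker, LinearMap.mem_ker, hφa, hφa]
    have h1 : QuadraticMap.polar Q (e + e') v =
        a * QuadraticMap.polar Q (e + e') ((g : Matrix (Unit ⊕ (Fin m ⊕ Fin m)) (Unit ⊕ (Fin m ⊕ Fin m)) F) *ᵥ v) := by
      rw [← Cfsg.Agent.Lib.H29.Orth.polar_isometry Q hgI' (e + e') v, hau,
        QuadraticMap.polar_smul_left, smul_eq_mul]
    rw [h1, mul_eq_zero]
    constructor
    · rintro (h | h)
      · exact absurd h ha
      · exact h
    · intro h
      exact Or.inr h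

end Cfsg.Agent.Lib.H7.OP2
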