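/-
O2-Z of the orthogonal phase 2 farm-out (helper21 architect): no non-trivial scalar lies in Ω_{2m+1}(q).
-/
import Cfsg.Prelude.Def_GeometricClasses
import Cfsg.Agent.Lib.H11.OmPar1

set_option autoImplicit false

namespace Cfsg.Agent.Lib.H7.OP2

open Cfsg Cfsg.Geo
open scoped MatrixGroups Matrix Kronecker

variable {F : Type*} [Field F] [Fintype F]

/-- **O2-Z**.  `g = c • 1 ∈ Ω`: isometry ⇒ `c² = Q(c e₀) = 1`; `det g = c^(2m+1) = 1` ⇒ `c = 1`. -/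
theorem scalars_inf_omegaGL (hodd : Odd (Fintype.card F)) (m : ℕ) :
    scalars (Unit ⊕ (Fin m ⊕ Fin m)) F ⊓ omegaGL (quadFormOdd m F) = ⊥ := by
  rw [eq_bot_iff]
  rintro g ⟨hs, hω⟩
  rw [Subgroup.mem_bot]
  obtain ⟨c, hc⟩ := (mem_scalars_iff g).1 hs
  obtain ⟨x, hx, rfl⟩ := hω
  have hdet := Cfsg.Agent.Lib.H11.OmPar.det_eq_one_of_mem_comm (quadFormOdd m F) x hx
  have hiso := x.2 (Pi.single (Sum.inl ()) 1) (Pi.single (Sum.inl ()) 1)
  simp only [Subgroup.coe_subtype] at hc hdet ⊢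
  have hiso' : quadFormOdd m F (((x : GL (Unit ⊕ (Fin m ⊕ Fin m)) F) :
      Matrix (Unit ⊕ (Fin m ⊕ Fin m)) (Unit ⊕ (Fin m ⊕ Fin m)) F) *ᵥ (Pi.single (Sum.inl ()) 1)) =
      quadFormOdd m F (Pi.single (Sum.inl ()) 1) := hiso
  rw [hc] at hiso' hdet
  have hc2 : (c : F) ^ 2 = 1 := by
    simpa [quadFormOdd, Matrix.smul_mulVec] using hiso'
  have hcard : Fintype.card (Unit ⊕ (Fin m ⊕ Fin m)) = 2 * m + 1 := by
    simp; ring
  rw [Matrix.det_smul, Matrix.det_one, mul_one, hcard, pow_succ, pow_mul, hc2, one_pow, one_mul] at hdet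
  apply Units.ext
  rw [hc, hdet, one_smul]
  rfl

end Cfsg.Agent.Lib.H7.OP2
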