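import Mathlib

set_option autoImplicit false

namespace Cfsg.Agent.Lib.H7.Pearl

/-- `g^k h g^{-k} h⁻¹ = [g,h]^k` when `[g,h]` commutes with `g`. -/
theorem h7nap_conj_zpow {G : Type*} [Group G] (g h : G) (hc : Commute (g * h * g⁻¹ * h⁻¹) g) (k : ℤ) :
    g ^ k * h * (g ^ k)⁻¹ * h⁻¹ = (g * h * g⁻¹ * h⁻¹) ^ k := by
  set c := g * h * g⁻¹ * h⁻¹ with hcdef
  have h1 : h * g * h⁻¹ = c⁻¹ * g := by rw [hcdef]; group
  have h2 : h * g ^ k * h⁻¹ = (c⁻¹) ^ k * g ^ k := by
    rw [← conj_zpow, h1, (hc.inv_left).mul_zpow]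
  have h3 : (c ^ k)⁻¹ = h * g ^ k * h⁻¹ * (g ^ k)⁻¹ := by rw [h2, inv_zpow]; group
  have h4 : c ^ k = (h * g ^ k * h⁻¹ * (g ^ k)⁻¹)⁻¹ := by rw [← h3, inv_inv]
  rw [h4]; group

/-- groups of order dividing `9` are abelian. -/
theorem h7nap_comm_of_card_dvd_nine {H : Type*} [Group H] [Finite H] (h : Nat.card H ∣ 9) :
    ∀ a b : H, a * b = b * a := by
  have : Fact (Nat.Prime 3) := ⟨by norm_num⟩
  have h9 : (9 : ℕ) = 3 ^ 2 := by norm_num
  rw [h9] at h
  obtain ⟨k, hk2, hk⟩ := (Nat.dvd_prime_pow (by norm_num : Nat.Prime 3)).mp h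
  interval_cases k
  · have : Subsingleton H := (Nat.card_eq_one_iff_unique.mp (by simpa using hk)).1
    intro a b; exact Subsingleton.elim _ _
  · have hc : IsCyclic H := isCyclic_of_prime_card (p := 3) (by simpa using hk)
    intro a b
    exact (IsCyclic.commGroup (α := H)).mul_comm a b
  · have hc : IsMulCommutative H := IsPGroup.isMulCommutative_of_card_eq_prime_sq (p := 3) hk
    intro a b
    exact hc.is_comm.comm a b

/-- a subgroup of a group of order 27 containing two non-commuting elements is everything. -/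
theorem h7nap_eq_of_noncomm {P : Type*} [Group P] (E T : Subgroup P) [Finite E] (hTE : T ≤ E)
    (hE : Nat.card ↥E = 27) (a b : P) (ha : a ∈ T) (hb : b ∈ T) (hab : a * b ≠ b * a) : T = E := by
  have : Finite T := Finite.of_injective (Subgroup.inclusion hTE) (Subgroup.inclusion_injective hTE)
  have hdvd : Nat.card T ∣ 27 := hE ▸ Subgroup.card_dvd_of_le hTE
  have h27 : (27 : ℕ) = 3 ^ 3 := by norm_num
  rw [h27] at hdvd
  obtain ⟨k, hk3, hk⟩ := (Nat.dvd_prime_pow (by norm_num : Nat.Prime 3)).mp hdvd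
  by_cases hk3' : k = 3
  · subst hk3'
    exact Subgroup.eq_of_le_of_card_ge hTE (by rw [hE, hk]; norm_num)
  · exfalso
    have hd9 : Nat.card T ∣ 9 := by
      rw [hk]
      have : (9 : ℕ) = 3 ^ 2 := by norm_num
      rw [this]
      exact pow_dvd_pow 3 (by omega)
    have := h7nap_comm_of_card_dvd_nine hd9 ⟨a, ha⟩ ⟨b, hb⟩
    exact hab (by simpa using congrArg Subtype.val this)

/-- a nonabelian group of order `27`: centre of order `3`, commutators central. -/
theorem h7nap_card27 {R : Type*} [Group R] [Finite R] (hcard : Nat.card R = 27)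
    (hna : ∃ a b : R, a * b ≠ b * a) :
    Nat.card (Subgroup.center R) = 3 ∧ ∀ a b : R, a * b * a⁻¹ * b⁻¹ ∈ Subgroup.center R := by
  have hp : Fact (Nat.Prime 3) := ⟨by norm_num⟩
  have h27 : (27 : ℕ) = 3 ^ 3 := by norm_num
  rw [h27] at hcard
  have hR : IsPGroup 3 R := IsPGroup.of_card hcard
  have hnt : Nontrivial R := by
    obtain ⟨a, b, hab⟩ := hna
    exact ⟨⟨a * b, b * a, hab⟩⟩
  obtain ⟨k, hk3, hk⟩ := (Nat.dvd_prime_pow hp.out).mp
    (hcard ▸ Subgroup.card_subgroup_dvd_card (Subgroup.center R))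
  have hk0 : k ≠ 0 := by
    rintro rfl
    have := hR.center_nontrivial
    rw [pow_zero] at hk
    exact (Finite.one_lt_card_iff_nontrivial.mpr this).ne' hk
  have hk3' : k ≠ 3 := by
    rintro rfl
    have htop : Subgroup.center R = ⊤ := (Subgroup.card_eq_iff_eq_top _).mp (hk.trans hcard.symm)
    obtain ⟨a, b, hab⟩ := hna
    apply hab
    have : b ∈ Subgroup.center R := by rw [htop]; trivial
    exact Subgroup.mem_center_iff.mp this a
  have hquot : Nat.card (R ⧸ Subgroup.center R) = 3 ^ (3 - k) := by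
    have h1 := Subgroup.card_eq_card_quotient_mul_card_subgroup (Subgroup.center R)
    rw [hcard, hk] at h1
    have h2 : 3 ^ 3 = 3 ^ (3 - k) * 3 ^ k := by rw [← pow_add]; congr 1; omega
    rw [h2] at h1
    exact (Nat.eq_of_mul_eq_mul_right (pow_pos (by norm_num) k) h1).symm
  have hk2 : k ≠ 2 := by
    rintro rfl
    have hq : Nat.card (R ⧸ Subgroup.center R) = 3 := by simpa using hquot
    have : IsCyclic (R ⧸ Subgroup.center R) := isCyclic_of_prime_card hq
    obtain ⟨a, b, hab⟩ := hna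
    exact hab ((MonoidHom.isMulCommutative_of_isCyclic_of_ker_le_center
      (QuotientGroup.mk' (Subgroup.center R)) (by rw [QuotientGroup.ker_mk'])).is_comm.comm a b)
  have hk1 : k = 1 := by omega
  subst hk1
  rw [pow_one] at hk
  have hq : Nat.card (R ⧸ Subgroup.center R) = 3 ^ 2 := by simpa using hquot
  have hqc : IsMulCommutative (R ⧸ Subgroup.center R) :=
    IsPGroup.isMulCommutative_of_card_eq_prime_sq hq
  refine ⟨hk, ?_⟩
  intro a b
  rw [← QuotientGroup.eq_one_iff]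
  have h1 : ((a * b * a⁻¹ * b⁻¹ : R) : R ⧸ Subgroup.center R)
      = (a : R ⧸ Subgroup.center R) * b * (a : R ⧸ Subgroup.center R)⁻¹ * (b : R ⧸ Subgroup.center R)⁻¹ := rfl
  rw [h1, hqc.is_comm.comm (a : R ⧸ Subgroup.center R) b]
  group

/-- a nonabelian finite `p`-group has a noncentral element whose commutators are all central. -/
theorem h7nap_second_center {P : Type*} [Group P] [Finite P] {p : ℕ} [Fact p.Prime] (hP : IsPGroup p P)
    (hna : ∃ a b : P, a * b ≠ b * a) :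
    ∃ y : P, y ∉ Subgroup.center P ∧ ∀ s : P, y * s * y⁻¹ * s⁻¹ ∈ Subgroup.center P := by
  have hne : Subgroup.center P ≠ ⊤ := by
    intro htop
    obtain ⟨a, b, hab⟩ := hna
    apply hab
    have : b ∈ Subgroup.center P := by rw [htop]; trivial
    exact Subgroup.mem_center_iff.mp this a
  have hnt : Nontrivial (P ⧸ Subgroup.center P) := by
    rw [← Finite.one_lt_card_iff_nontrivial]
    rw [← Subgroup.index_eq_card]
    have h1 : (Subgroup.center P).index ≠ 1 := fun h => hne (Subgroup.index_eq_one.mp h)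
    have h0 : (Subgroup.center P).index ≠ 0 := Subgroup.index_ne_zero_of_finite
    omega
  have hQ : IsPGroup p (P ⧸ Subgroup.center P) := hP.to_quotient _
  have hc := hQ.center_nontrivial
  obtain ⟨⟨q, hq⟩, hq1⟩ := exists_ne (1 : Subgroup.center (P ⧸ Subgroup.center P))
  obtain ⟨y, rfl⟩ := QuotientGroup.mk_surjective q
  refine ⟨y, ?_, ?_⟩
  · intro hy
    apply hq1
    apply Subtype.ext
    exact (QuotientGroup.eq_one_iff y).mpr hy
  · intro s
    rw [← QuotientGroup.eq_one_iff]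
    have h1 : ((y * s * y⁻¹ * s⁻¹ : P) : P ⧸ Subgroup.center P)
      = (y : P ⧸ Subgroup.center P) * s * (y : P ⧸ Subgroup.center P)⁻¹ * (s : P ⧸ Subgroup.center P)⁻¹ := rfl
    rw [h1, ← Subgroup.mem_center_iff.mp hq (s : P ⧸ Subgroup.center P)]
    group

/-- **NAP**, absolute form. -/
theorem h7nap_abs {P : Type*} [Group P] [Finite P] (hP : IsPGroup 3 P) (E : Subgroup P)
    (hE : Nat.card ↥E = 27) (hna : ∃ a ∈ E, ∃ b ∈ E, a * b ≠ b * a)
    (hexp : ∀ a ∈ E, a ^ 3 = 1) (hcen : ∀ g : P, (∀ x ∈ E, g * x = x * g) → g ∈ E) :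
    ∃ e ∈ E, e ≠ 1 ∧ Nat.card (Subgroup.centralizer ({e} : Set P)) = 9 := by
  have hp3 : Fact (Nat.Prime 3) := ⟨by norm_num⟩
  obtain ⟨a, ha, b, hb, hab⟩ := hna
  -- structure of E
  obtain ⟨hZE3', hcommE'⟩ := h7nap_card27 (R := ↥E) hE
    ⟨⟨a, ha⟩, ⟨b, hb⟩, fun h => hab (by simpa using congrArg Subtype.val h)⟩
  set ZE : Subgroup P := E ⊓ Subgroup.centralizer (E : Set P) with hZEdef
  have hZEmap : ZE = (Subgroup.center ↥E).map E.subtype := by
    ext x
    simp only [hZEdef, Subgroup.mem_inf, Subgroup.mem_map, Subgroup.mem_centralizer_iff,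
      Subgroup.mem_center_iff]
    constructor
    · rintro ⟨hx, hc⟩
      exact ⟨⟨x, hx⟩, fun g => Subtype.ext (hc g g.2), rfl⟩
    · rintro ⟨x', hx', rfl⟩
      exact ⟨x'.2, fun g hg => congrArg Subtype.val (hx' ⟨g, hg⟩)⟩
  have hZE3 : Nat.card ZE = 3 := by
    rw [hZEmap, Subgroup.card_map_of_injective E.subtype_injective]; exact hZE3'
  have hcommE : ∀ x ∈ E, ∀ x' ∈ E, x * x' * x⁻¹ * x'⁻¹ ∈ ZE := by
    intro x hx x' hx'
    rw [hZEmap]
    exact ⟨_, hcommE' ⟨x, hx⟩ ⟨x', hx'⟩, rfl⟩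
  -- the centre of `P`
  have hZle : Subgroup.center P ≤ ZE := by
    intro g hg
    have hgc : ∀ x : P, x * g = g * x := fun x => Subgroup.mem_center_iff.mp hg x
    refine Subgroup.mem_inf.mpr ⟨hcen g (fun x _ => (hgc x).symm), ?_⟩
    rw [Subgroup.mem_centralizer_iff]
    intro x _
    exact hgc x
  have hnt : Nontrivial P := ⟨⟨a * b, b * a, hab⟩⟩
  have hZnt := hP.center_nontrivial
  have hZeq : Subgroup.center P = ZE := by
    apply Subgroup.eq_of_le_of_card_ge hZle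
    rw [hZE3]
    have h1 : Nat.card (Subgroup.center P) ∣ 3 := hZE3 ▸ Subgroup.card_dvd_of_le hZle
    have h2 : 1 < Nat.card (Subgroup.center P) := Finite.one_lt_card_iff_nontrivial.mpr hZnt
    have := (Nat.dvd_prime (by norm_num : Nat.Prime 3)).mp h1
    omega
  have hZEc : ∀ g ∈ ZE, ∀ s : P, s * g = g * s := by
    intro g hg s
    rw [← hZeq] at hg
    exact Subgroup.mem_center_iff.mp hg s
  -- the element `y` of the second centre
  obtain ⟨y, hyZ, hycomm⟩ := h7nap_second_center hP ⟨a, b, hab⟩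
  rw [hZeq] at hyZ
  have hycomm' : ∀ s : P, y * s * y⁻¹ * s⁻¹ ∈ ZE := fun s => hZeq ▸ hycomm s
  -- the generator `z` of `Z(E)`
  set z := a * b * a⁻¹ * b⁻¹ with hzdef
  have hzZE : z ∈ ZE := hcommE a ha b hb
  have hz1 : z ≠ 1 := by
    intro h
    apply hab
    have : a * b = z * (b * a) := by rw [hzdef]; group
    rw [this, h, one_mul]
  have hzE : z ∈ E := (Subgroup.mem_inf.mp hzZE).1
  have hz3 : z ^ 3 = 1 := hexp z hzE
  have hoz : orderOf z = 3 := by
    have h0 := orderOf_dvd_of_pow_eq_one hz3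
    have h1 : orderOf z ≠ 1 := fun h => hz1 (orderOf_eq_one_iff.mp h)
    have := (Nat.dvd_prime (by norm_num : Nat.Prime 3)).mp h0
    omega
  have hZEz : Subgroup.zpowers z = ZE := by
    apply Subgroup.eq_of_le_of_card_ge
    · rw [Subgroup.zpowers_le]; exact hzZE
    · rw [hZE3, Nat.card_zpowers, hoz]
  have hzc : ∀ s : P, Commute z s := fun s => (hZEc z hzZE s).symm
  obtain ⟨i, hi⟩ := Subgroup.mem_zpowers_iff.mp (hZEz ▸ hycomm' a)
  obtain ⟨j, hj⟩ := Subgroup.mem_zpowers_iff.mp (hZEz ▸ hycomm' b)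
  -- the element `u` of `E` inducing the same automorphism as `y`
  set u := a ^ j * b ^ (-i) with hudef
  have huE : u ∈ E := E.mul_mem (E.zpow_mem ha j) (E.zpow_mem hb (-i))
  have h1 : a ^ j * b * (a ^ j)⁻¹ * b⁻¹ = z ^ j := h7nap_conj_zpow a b (hzc a) j
  have hz' : b * a * b⁻¹ * a⁻¹ = z⁻¹ := by rw [hzdef]; group
  have h2 : b ^ (-i) * a * (b ^ (-i))⁻¹ * a⁻¹ = z ^ i := by
    rw [h7nap_conj_zpow b a (by rw [hz']; exact (hzc b).inv_left) (-i), hz']
    simp
  have hζ : ∀ s : P, z ^ i * s = s * z ^ i := fun s => ((hzc s).zpow_left i).eq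
  have hua : u * a * u⁻¹ * a⁻¹ = z ^ i := by
    have h3 : u * a * u⁻¹ * a⁻¹
        = a ^ j * (b ^ (-i) * a * (b ^ (-i))⁻¹ * a⁻¹) * a * (a ^ j)⁻¹ * a⁻¹ := by
      rw [hudef]; group
    rw [h3, h2, ← hζ (a ^ j)]
    group
  have hub : u * b * u⁻¹ * b⁻¹ = z ^ j := by
    have h3 : u * b * u⁻¹ * b⁻¹ = a ^ j * b * (a ^ j)⁻¹ * b⁻¹ := by rw [hudef]; group
    rw [h3, h1]
  -- `w = u⁻¹ y` centralizes `E`
  have e1 : y * a * y⁻¹ = u * a * u⁻¹ := mul_right_cancel (hi.symm.trans hua.symm)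
  have e2 : y * b * y⁻¹ = u * b * u⁻¹ := mul_right_cancel (hj.symm.trans hub.symm)
  have hwa : (u⁻¹ * y) * a = a * (u⁻¹ * y) := by
    have h3 : (u⁻¹ * y) * a = u⁻¹ * (y * a * y⁻¹) * y := by group
    rw [h3, e1]; group
  have hwb : (u⁻¹ * y) * b = b * (u⁻¹ * y) := by
    have h3 : (u⁻¹ * y) * b = u⁻¹ * (y * b * y⁻¹) * y := by group
    rw [h3, e2]; group
  have hcentE : ∀ g : P, ∀ c d : P, c ∈ E → d ∈ E → c * d ≠ d * c → g * c = c * g → g * d = d * g →
      ∀ x ∈ E, g * x = x * g := by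
    intro g c d hc hd hcd hgc hgd x hx
    have hT : E ⊓ Subgroup.centralizer ({g} : Set P) = E := by
      apply h7nap_eq_of_noncomm E _ inf_le_left hE c d
      · exact Subgroup.mem_inf.mpr ⟨hc, by rw [Subgroup.mem_centralizer_iff]; rintro h rfl; exact hgc⟩
      · exact Subgroup.mem_inf.mpr ⟨hd, by rw [Subgroup.mem_centralizer_iff]; rintro h rfl; exact hgd⟩
      · exact hcd
    have hx' : x ∈ E ⊓ Subgroup.centralizer ({g} : Set P) := by rw [hT]; exact hx
    exact (Subgroup.mem_centralizer_iff.mp (Subgroup.mem_inf.mp hx').2) g rfl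
  have hwE : u⁻¹ * y ∈ E := hcen _ (hcentE _ a b ha hb hab hwa hwb)
  have hyE : y ∈ E := by
    have : y = u * (u⁻¹ * y) := by group
    rw [this]; exact E.mul_mem huE hwE
  -- `e`
  have hyc : y ∉ Subgroup.centralizer (E : Set P) := fun h => hyZ (Subgroup.mem_inf.mpr ⟨hyE, h⟩)
  rw [Subgroup.mem_centralizer_iff] at hyc
  push Not at hyc
  obtain ⟨e, heE, hey⟩ := hyc
  have heE' : e ∈ E := heE
  refine ⟨e, heE', ?_, ?_⟩
  · rintro rfl; exact hey (by simp)
  -- the homomorphism `g ↦ [g, y]`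
  have hfy : ∀ g : P, g * y * g⁻¹ * y⁻¹ ∈ ZE := by
    intro g
    have : g * y * g⁻¹ * y⁻¹ = (y * g * y⁻¹ * g⁻¹)⁻¹ := by group
    rw [this]; exact ZE.inv_mem (hycomm' g)
  let f : P →* P := MonoidHom.mk' (fun g => g * y * g⁻¹ * y⁻¹) (by
    intro g g'
    have hc' := hZEc _ (hfy g')
    calc g * g' * y * (g * g')⁻¹ * y⁻¹ = g * (g' * y * g'⁻¹ * y⁻¹) * y * g⁻¹ * y⁻¹ := by group
      _ = (g' * y * g'⁻¹ * y⁻¹) * g * y * g⁻¹ * y⁻¹ := by rw [hc' g]
      _ = (g' * y * g'⁻¹ * y⁻¹) * (g * y * g⁻¹ * y⁻¹) := by group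
      _ = (g * y * g⁻¹ * y⁻¹) * (g' * y * g'⁻¹ * y⁻¹) := (hc' _).symm)
  have hfapp : ∀ g, f g = g * y * g⁻¹ * y⁻¹ := fun g => rfl
  set C := Subgroup.centralizer ({e} : Set P) with hCdef
  have hCK : C ⊓ f.ker = ZE := by
    apply le_antisymm
    · intro g hg
      obtain ⟨hgC, hgK⟩ := Subgroup.mem_inf.mp hg
      have hge : g * e = e * g := ((Subgroup.mem_centralizer_iff.mp hgC) e rfl).symm
      have hgy : g * y = y * g := by
        have h3 : g * y * g⁻¹ * y⁻¹ = 1 := by rw [← hfapp]; exact (MonoidHom.mem_ker).mp hgK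
        have h4 : g * y = (g * y * g⁻¹ * y⁻¹) * (y * g) := by group
        rw [h4, h3, one_mul]
      have hgE := hcentE g e y heE' hyE hey hge hgy
      refine Subgroup.mem_inf.mpr ⟨hcen g hgE, ?_⟩
      rw [Subgroup.mem_centralizer_iff]
      intro x hx
      exact (hgE x hx).symm
    · intro g hg
      have hgc := hZEc g hg
      refine Subgroup.mem_inf.mpr ⟨?_, ?_⟩
      · rw [hCdef, Subgroup.mem_centralizer_iff]; rintro h rfl; exact hgc h
      · rw [MonoidHom.mem_ker, hfapp, ← hgc y]; group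
  have hcardC : Nat.card C = 3 * f.ker.relIndex C := by
    have h3 := Subgroup.relIndex_mul_relIndex (⊥ : Subgroup P) (C ⊓ f.ker) C bot_le inf_le_left
    rw [Subgroup.relIndex_bot_left, Subgroup.relIndex_bot_left, Subgroup.inf_relIndex_left, hCK,
      hZE3] at h3
    exact h3.symm
  have hrel : f.ker.relIndex C ∣ 3 := by
    rw [Subgroup.relIndex_ker, ← hZE3]
    apply Subgroup.card_dvd_of_le
    rintro _ ⟨g, _, rfl⟩
    exact hfy g
  have hrel1 : f.ker.relIndex C ≠ 1 := by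
    intro h
    have hle := Subgroup.relIndex_eq_one.mp h
    have heC : e ∈ C := by rw [hCdef, Subgroup.mem_centralizer_iff]; rintro h rfl; rfl
    have h3 : e * y * e⁻¹ * y⁻¹ = 1 := by rw [← hfapp]; exact (MonoidHom.mem_ker).mp (hle heC)
    apply hey
    have h4 : e * y = (e * y * e⁻¹ * y⁻¹) * (y * e) := by group
    rw [h4, h3, one_mul]
  have := (Nat.dvd_prime (by norm_num : Nat.Prime 3)).mp hrel
  rw [hcardC]
  omega


/-- **NAP**.  `E ≤ S` nonabelian of order `27` and exponent `3` with `C_S(E) ≤ E`, `S` a finite `3`-group: some `e ∈ E`,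
`e ≠ 1`, has `|C_S(e)| = 9`. -/
theorem exists_uniform_of_nonabelian {Ω : Type*} [Group Ω] (S E : Subgroup Ω) [Finite S] (hS : IsPGroup 3 S)
    (hES : E ≤ S) (hne : E ≠ S) (hE : Nat.card ↥E = 27) (hna : ∃ a ∈ E, ∃ b ∈ E, a * b ≠ b * a)
    (hexp : ∀ a ∈ E, a ^ 3 = 1) (hcen : ∀ g ∈ S, (∀ x ∈ E, g * x = x * g) → g ∈ E) :
    ∃ e ∈ E, e ≠ 1 ∧ Nat.card {g : Ω // g ∈ S ∧ g * e = e * g} = 9 := by
  have hE' : Nat.card ↥(E.subgroupOf S) = 27 := by
    rw [Nat.card_congr (Subgroup.subgroupOfEquivOfLe hES).toEquiv]; exact hE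
  obtain ⟨a, ha, b, hb, hab⟩ := hna
  obtain ⟨e, heE, he1, hcard⟩ := h7nap_abs (P := ↥S) hS (E.subgroupOf S) hE'
    ⟨⟨a, hES ha⟩, Subgroup.mem_subgroupOf.mpr ha, ⟨b, hES hb⟩, Subgroup.mem_subgroupOf.mpr hb,
      fun h => hab (by simpa using congrArg Subtype.val h)⟩
    (fun x hx => Subtype.ext (by simpa using hexp x.1 (Subgroup.mem_subgroupOf.mp hx)))
    (fun g hg => Subgroup.mem_subgroupOf.mpr (hcen g.1 g.2 (fun x hx => by
      have := hg ⟨x, hES hx⟩ (Subgroup.mem_subgroupOf.mpr hx)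
      simpa using congrArg Subtype.val this)))
  refine ⟨e.1, Subgroup.mem_subgroupOf.mp heE, fun h => he1 (Subtype.ext h), ?_⟩
  rw [← hcard]
  apply Nat.card_congr
  exact
    { toFun := fun g => ⟨⟨g.1, g.2.1⟩, by
        rw [Subgroup.mem_centralizer_iff]
        rintro h rfl
        exact Subtype.ext g.2.2.symm⟩
      invFun := fun g => ⟨g.1.1, g.1.2, by
        have := (Subgroup.mem_centralizer_iff.mp g.2) e rfl
        exact (congrArg Subtype.val this).symm⟩
      left_inv := fun _ => rfl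
      right_inv := fun _ => rfl }

end Cfsg.Agent.Lib.H7.Pearl
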