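import Mathlib
import Cfsg.Agent.Lib.H28.PSp4Defs
import Cfsg.Agent.Lib.H12.SL2Syl2

/-!
# S5320 piece SC3 (helper7): elements of `SL₂(q)`, `q` odd, of square `-1` are conjugate
-/

set_option autoImplicit false

namespace Cfsg.Agent.Lib.H7.PSp4

open Matrix Cfsg.Agent.Lib.H9.SqC Cfsg.Agent.Lib.H28.PSp4 Cfsg.Agent.Lib.H12

variable {F : Type*} [Field F]

theorem two_ne_zero_of_odd_card [Fintype F] (hodd : Odd (Fintype.card F)) : (2 : F) ≠ 0 := by
  apply Ring.two_ne_zero
  intro h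
  have := FiniteField.even_card_of_char_two h
  rw [Nat.odd_iff] at hodd
  omega

/-- **SC3**. Elements of `SL₂(q)` of square `-1` are conjugate. -/
theorem exists_conj_of_sq [Fintype F] (hodd : Odd (Fintype.card F)) {a b : SL2 F}
    (ha : a * a = -1) (hb : b * b = -1) : ∃ k : SL2 F, k * a * k⁻¹ = b := by
  have h2 : (2 : F) ≠ 0 := two_ne_zero_of_odd_card hodd
  have hta := trace_eq_zero_of_mul_self a ha
  have htb := trace_eq_zero_of_mul_self b hb
  have hns := nonScalar_of_trace_sq_ne b (trace_sq_ne_of_mul_self h2 b hb)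
  have hc := sl2_isConj_of_trace_regular hodd a b hns (by rw [hta, htb])
    (trace_sq_ne_of_mul_self h2 a ha)
  obtain ⟨c, hc⟩ := isConj_iff.mp hc
  exact ⟨c, hc⟩

end Cfsg.Agent.Lib.H7.PSp4
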