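import Mathlib
import Cfsg.Prelude.Def_Local
import Cfsg.Prelude.Def_Amalgam
import Cfsg.Agent.Lib.H7.PrimPair
import Cfsg.Agent.Lib.H7.PLocal2
import Cfsg.Agent.Lib.H14.Subnormal
import Cfsg.Agent.Lib.H14.Norm

/-!
# Thompson–Wielandt for second cores (helper7 library)

Abstract set-up: two subgroups `M`, `N` of a finite group such that the normalizer of every nontrivial
subgroup of `M` normalized by `M` lies in `M` (and likewise for `N`), first cores `A1`, `B1` and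
second cores `A2`, `B2`.
-/

set_option autoImplicit false
open Cfsg

namespace Cfsg.Agent.Lib.H7.TW

open Cfsg.Agent.Lib.H7 Cfsg.Agent.Lib.H14
open scoped commutatorElement

universe u

variable {G : Type u} [Group G]

/-- The core of `X` in `M`, as a subgroup of `G`. -/
abbrev coreIn (M X : Subgroup G) : Subgroup G := ((X.subgroupOf M).normalCore).map M.subtype

theorem mem_coreIn {M X : Subgroup G} {x : G} :
    x ∈ coreIn M X ↔ x ∈ M ∧ ∀ m ∈ M, m * x * m⁻¹ ∈ X := by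
  constructor
  · rintro ⟨y, hy, rfl⟩
    refine ⟨y.2, fun m hm => ?_⟩
    have := hy ⟨m, hm⟩
    rw [Subgroup.mem_subgroupOf] at this
    simpa using this
  · rintro ⟨hxM, hx⟩
    refine ⟨⟨x, hxM⟩, ?_, rfl⟩
    intro b
    rw [Subgroup.mem_subgroupOf]
    simpa using hx b b.2

theorem coreIn_le_left (M X : Subgroup G) : coreIn M X ≤ M := fun _ hx => (mem_coreIn.1 hx).1

theorem coreIn_le_right (M X : Subgroup G) : coreIn M X ≤ X := by
  intro x hx
  have := (mem_coreIn.1 hx).2 1 M.one_mem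
  simpa using this

theorem le_normalizer_coreIn (M X : Subgroup G) :
    M ≤ Subgroup.normalizer ((coreIn M X : Subgroup G) : Set G) := by
  apply le_nzr_of_conj_mem
  intro g hg x hx
  obtain ⟨hxM, hx⟩ := mem_coreIn.1 hx
  refine mem_coreIn.2 ⟨M.mul_mem (M.mul_mem hg hxM) (M.inv_mem hg), fun m hm => ?_⟩
  have := hx (m * g) (M.mul_mem hm hg)
  have e : m * (g * x * g⁻¹) * m⁻¹ = m * g * x * (m * g)⁻¹ := by group
  rw [e]; exact this

/-- The abstract set-up. -/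
structure Setup (M N A1 B1 A2 B2 : Subgroup G) : Prop where
  hM1 : ∀ X : Subgroup G, X ≠ ⊥ → X ≤ M → M ≤ Subgroup.normalizer (X : Set G) →
    Subgroup.normalizer (X : Set G) ≤ M
  hN1 : ∀ X : Subgroup G, X ≠ ⊥ → X ≤ N → N ≤ Subgroup.normalizer (X : Set G) →
    Subgroup.normalizer (X : Set G) ≤ N
  A1_le : A1 ≤ M ⊓ N
  A1_norm : M ≤ Subgroup.normalizer (A1 : Set G)
  A1_max : ∀ x ∈ M, (∀ m ∈ M, m * x * m⁻¹ ∈ N) → x ∈ A1
  B1_le : B1 ≤ M ⊓ N
  B1_norm : N ≤ Subgroup.normalizer (B1 : Set G)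
  B1_max : ∀ x ∈ N, (∀ n ∈ N, n * x * n⁻¹ ∈ M) → x ∈ B1
  A2_le : A2 ≤ A1 ⊓ B1
  A2_norm : M ≤ Subgroup.normalizer (A2 : Set G)
  A2_ne : A2 ≠ ⊥
  B2_le : B2 ≤ A1 ⊓ B1
  B2_norm : N ≤ Subgroup.normalizer (B2 : Set G)
  B2_ne : B2 ≠ ⊥

theorem Setup.symm {M N A1 B1 A2 B2 : Subgroup G} (h : Setup M N A1 B1 A2 B2) :
    Setup N M B1 A1 B2 A2 where
  hM1 := h.hN1
  hN1 := h.hM1
  A1_le := by rw [inf_comm]; exact h.B1_le
  A1_norm := h.B1_norm
  A1_max := h.B1_max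
  B1_le := by rw [inf_comm]; exact h.A1_le
  B1_norm := h.A1_norm
  B1_max := h.A1_max
  A2_le := by rw [inf_comm]; exact h.B2_le
  A2_norm := h.B2_norm
  A2_ne := h.B2_ne
  B2_le := by rw [inf_comm]; exact h.A2_le
  B2_norm := h.A2_norm
  B2_ne := h.A2_ne


/-- If `c` normalizes `A` and `a ∈ A`, then `(a * c) ^ n * (c ^ n)⁻¹ ∈ A`. -/
theorem pow_mul_mem {A : Subgroup G} {a c : G} (ha : a ∈ A)
    (hc : c ∈ Subgroup.normalizer (A : Set G)) (n : ℕ) : (a * c) ^ n * (c ^ n)⁻¹ ∈ A := by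
  induction n with
  | zero => simp
  | succ n ih =>
    have hcn : c ^ n ∈ Subgroup.normalizer (A : Set G) := Subgroup.pow_mem _ hc n
    have h1 : c ^ n * a * (c ^ n)⁻¹ ∈ A := (Subgroup.mem_normalizer_iff.1 hcn a).1 ha
    have e : (a * c) ^ (n + 1) * (c ^ (n + 1))⁻¹ =
        ((a * c) ^ n * (c ^ n)⁻¹) * (c ^ n * a * (c ^ n)⁻¹) := by
      rw [pow_succ, pow_succ]; group
    rw [e]
    exact A.mul_mem ih h1

/-- **Lemma Ψ.** If every commutator `u a u⁻¹ a⁻¹` (`u ∈ U`, `a ∈ A`) lies in a `p`-subgroup `O`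
normalizing `A`, then `U` normalizes `O^p(A)`. -/
theorem le_normalizer_presOf (p : ℕ) {A O U : Subgroup G} (hO : IsPGroup p O)
    (hOA : O ≤ Subgroup.normalizer (A : Set G))
    (hU : ∀ u ∈ U, ∀ a ∈ A, u * a * u⁻¹ * a⁻¹ ∈ O) :
    U ≤ Subgroup.normalizer ((presOf p A : Subgroup G) : Set G) := by
  have key : ∀ u ∈ U, ∀ s ∈ {x : G | x ∈ A ∧ (orderOf x).Coprime p},
      u * s * u⁻¹ ∈ {x : G | x ∈ A ∧ (orderOf x).Coprime p} := by
    rintro u hu s ⟨hsA, hs⟩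
    have hord : orderOf (u * s * u⁻¹) = orderOf s := orderOf_conj_eq u s
    refine ⟨?_, by rw [hord]; exact hs⟩
    set c := u * s * u⁻¹ * s⁻¹ with hc
    have hcO : c ∈ O := hU u hu s hsA
    obtain ⟨k, hk⟩ := hO ⟨c, hcO⟩
    have hck : c ^ (p ^ k) = 1 := by
      have := congrArg Subtype.val hk
      simpa using this
    -- u s u⁻¹ = c * s = (c s c⁻¹) * c
    have hcs : c * s * c⁻¹ ∈ A := (Subgroup.mem_normalizer_iff.1 (hOA hcO) s).1 hsA
    have e : u * s * u⁻¹ = (c * s * c⁻¹) * c := by rw [hc]; group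
    have h1 := pow_mul_mem hcs (hOA hcO) (p ^ k)
    rw [hck, inv_one, mul_one, ← e] at h1
    exact mem_of_pow_mem_of_coprime p A _ (by rw [hord]; exact hs) k h1
  intro u hu
  apply mem_normalizer_closure
  · exact key u hu
  · intro s hs
    have := key u⁻¹ (U.inv_mem hu) s hs
    simpa using this

/-- `O^p` commutes with conjugation. -/
theorem presOf_map_conj (p : ℕ) (A : Subgroup G) (g : G) :
    presOf p (A.map (MulAut.conj g).toMonoidHom) = (presOf p A).map (MulAut.conj g).toMonoidHom := by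
  unfold presOf
  rw [MonoidHom.map_closure]
  congr 1
  ext x
  constructor
  · rintro ⟨⟨a, ha, rfl⟩, hx⟩
    refine ⟨a, ⟨ha, ?_⟩, rfl⟩
    have : orderOf ((MulAut.conj g).toMonoidHom a) = orderOf a :=
      orderOf_injective _ (MulAut.conj g).injective a
    rwa [this] at hx
  · rintro ⟨a, ⟨ha, hx⟩, rfl⟩
    refine ⟨⟨a, ha, rfl⟩, ?_⟩
    have : orderOf ((MulAut.conj g).toMonoidHom a) = orderOf a :=
      orderOf_injective _ (MulAut.conj g).injective a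
    rwa [this]


/-- Product decomposition in `H ⊔ K` when `H` normalizes `K`. -/
theorem exists_mul_of_mem_sup {H K : Subgroup G} (hHK : H ≤ Subgroup.normalizer (K : Set G))
    {x : G} (hx : x ∈ H ⊔ K) : ∃ h ∈ H, ∃ k ∈ K, x = h * k := by
  rw [Subgroup.sup_eq_closure] at hx
  induction hx using Subgroup.closure_induction with
  | mem y hy =>
    rcases hy with hy | hy
    · exact ⟨y, hy, 1, K.one_mem, by simp⟩
    · exact ⟨1, H.one_mem, y, hy, by simp⟩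
  | one => exact ⟨1, H.one_mem, 1, K.one_mem, by simp⟩
  | mul a b _ _ iha ihb =>
    obtain ⟨h₁, hh₁, k₁, hk₁, rfl⟩ := iha
    obtain ⟨h₂, hh₂, k₂, hk₂, rfl⟩ := ihb
    have h3 : h₂⁻¹ * k₁ * h₂⁻¹⁻¹ ∈ K :=
      (Subgroup.mem_normalizer_iff.1 (hHK (H.inv_mem hh₂)) k₁).1 hk₁
    refine ⟨h₁ * h₂, H.mul_mem hh₁ hh₂, (h₂⁻¹ * k₁ * h₂⁻¹⁻¹) * k₂, K.mul_mem h3 hk₂, ?_⟩
    group
  | inv a _ iha =>
    obtain ⟨h₁, hh₁, k₁, hk₁, rfl⟩ := iha
    have h3 : h₁ * k₁⁻¹ * h₁⁻¹ ∈ K :=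
      (Subgroup.mem_normalizer_iff.1 (hHK hh₁) k₁⁻¹).1 (K.inv_mem hk₁)
    refine ⟨h₁⁻¹, H.inv_mem hh₁, h₁ * k₁⁻¹ * h₁⁻¹, h3, ?_⟩
    group

section setup

variable {M N A1 B1 A2 B2 : Subgroup G}

theorem Setup.conj_mem_of_mem_normalizer (h : Setup M N A1 B1 A2 B2) {X : Subgroup G}
    (hX : X ≠ ⊥) (hXM : X ≤ M) (hn : M ≤ Subgroup.normalizer (X : Set G)) {y m : G}
    (hy : y ∈ Subgroup.normalizer ((X.map (MulAut.conj m).toMonoidHom : Subgroup G) : Set G)) :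
    m⁻¹ * y * m ∈ M := by
  rw [← Subgroup.map_equiv_normalizer_eq] at hy
  obtain ⟨z, hz, rfl⟩ := hy
  have hzM : z ∈ M := h.hM1 X hX hXM hn hz
  have e : m⁻¹ * (MulAut.conj m).toMonoidHom z * m = z := by
    simp only [MulEquiv.coe_toMonoidHom, MulAut.conj_apply]; group
  rw [e]; exact hzM

theorem Setup.B1_le_M (h : Setup M N A1 B1 A2 B2) : B1 ≤ M := h.B1_le.trans inf_le_left
theorem Setup.B1_le_N (h : Setup M N A1 B1 A2 B2) : B1 ≤ N := h.B1_le.trans inf_le_right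
theorem Setup.A1_le_M (h : Setup M N A1 B1 A2 B2) : A1 ≤ M := h.A1_le.trans inf_le_left
theorem Setup.A1_le_N (h : Setup M N A1 B1 A2 B2) : A1 ≤ N := h.A1_le.trans inf_le_right
theorem Setup.A2_le_B1 (h : Setup M N A1 B1 A2 B2) : A2 ≤ B1 := h.A2_le.trans inf_le_right
theorem Setup.A2_le_A1 (h : Setup M N A1 B1 A2 B2) : A2 ≤ A1 := h.A2_le.trans inf_le_left
theorem Setup.A2_le_M (h : Setup M N A1 B1 A2 B2) : A2 ≤ M := h.A2_le_A1.trans h.A1_le_M
theorem Setup.B2_le_A1 (h : Setup M N A1 B1 A2 B2) : B2 ≤ A1 := h.B2_le.trans inf_le_left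
theorem Setup.B2_le_B1 (h : Setup M N A1 B1 A2 B2) : B2 ≤ B1 := h.B2_le.trans inf_le_right
theorem Setup.B2_le_N (h : Setup M N A1 B1 A2 B2) : B2 ≤ N := h.B2_le_B1.trans h.B1_le_N

/-- `B1` normalizes every `N`-conjugate of `A2`. -/
theorem Setup.B1_le_normalizer_conj (h : Setup M N A1 B1 A2 B2) {m : G} (hm : m ∈ N) :
    B1 ≤ Subgroup.normalizer ((A2.map (MulAut.conj m).toMonoidHom : Subgroup G) : Set G) := by
  intro b hb
  rw [← Subgroup.map_equiv_normalizer_eq]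
  have h1 : m⁻¹ * b * m⁻¹⁻¹ ∈ B1 :=
    (Subgroup.mem_normalizer_iff.1 (h.B1_norm (N.inv_mem hm)) b).1 hb
  refine ⟨m⁻¹ * b * m⁻¹⁻¹, h.A2_norm (h.B1_le_M h1), ?_⟩
  simp only [MulEquiv.coe_toMonoidHom, MulAut.conj_apply]; group

/-- Every `N`-conjugate of `A2` lies in `B1`. -/
theorem Setup.conj_A2_le_B1 (h : Setup M N A1 B1 A2 B2) {m : G} (hm : m ∈ N) :
    A2.map (MulAut.conj m).toMonoidHom ≤ B1 := by
  rintro _ ⟨a, ha, rfl⟩
  have := (Subgroup.mem_normalizer_iff.1 (h.B1_norm hm) a).1 (h.A2_le_B1 ha)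
  simpa using this

variable [Finite G]

/-- **Lemma P.** If `O^p(A2) ≠ 1` and `O_p(N) ≠ 1`, then `O_p(M) ≤ O_p(N)`. -/
theorem Setup.pCoreOf_le_of_presOf_ne_bot (h : Setup M N A1 B1 A2 B2) (p : ℕ) [hp : Fact p.Prime]
    (hA0 : presOf p A2 ≠ ⊥) (hPβ : pCoreOf p N ≠ ⊥) : pCoreOf p M ≤ pCoreOf p N := by
  set Pα := pCoreOf p M with hPα_def
  set Pβ := pCoreOf p N with hPβ_def
  have hPαp : IsPGroup p Pα := pCoreOf_isPGroup p M
  have hPβp : IsPGroup p Pβ := pCoreOf_isPGroup p N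
  have hPαn : M ≤ Subgroup.normalizer (Pα : Set G) := pCoreOf_normalized p M
  have hPβn : N ≤ Subgroup.normalizer (Pβ : Set G) := pCoreOf_normalized p N
  have hPαM : Pα ≤ M := Cfsg.Agent.Lib.H14.pCoreOf_le p M
  have hPβN : Pβ ≤ N := Cfsg.Agent.Lib.H14.pCoreOf_le p N
  have hA0M : presOf p A2 ≤ M := (presOf_le p A2).trans h.A2_le_M
  have hA0n : M ≤ Subgroup.normalizer ((presOf p A2 : Subgroup G) : Set G) :=
    h.A2_norm.trans (presOf_normalized p A2)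
  -- Step 1: `Pβ ≤ M`
  have step1 : Pβ ≤ M := by
    have h1 : Pβ ≤ Subgroup.normalizer ((presOf p A2 : Subgroup G) : Set G) := by
      apply le_normalizer_presOf p (O := Pβ ⊓ B1) (hPβp.to_le inf_le_left)
      · exact inf_le_right.trans (h.B1_le_M.trans h.A2_norm)
      · intro u hu a ha
        have haB : a ∈ B1 := h.A2_le_B1 ha
        have haN : a ∈ N := h.B1_le_N haB
        have huN : u ∈ N := hPβN hu
        refine Subgroup.mem_inf.2 ⟨?_, ?_⟩
        · have h2 : a * u⁻¹ * a⁻¹ ∈ Pβ :=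
            (Subgroup.mem_normalizer_iff.1 (hPβn haN) u⁻¹).1 (Pβ.inv_mem hu)
          have e : u * a * u⁻¹ * a⁻¹ = u * (a * u⁻¹ * a⁻¹) := by group
          rw [e]; exact Pβ.mul_mem hu h2
        · have h2 : u * a * u⁻¹ ∈ B1 := (Subgroup.mem_normalizer_iff.1 (h.B1_norm huN) a).1 haB
          exact B1.mul_mem h2 (B1.inv_mem haB)
    exact h1.trans (h.hM1 _ hA0 hA0M hA0n)
  -- Step 2: `Pα ⊓ N ≤ B1`
  have hP0p : IsPGroup p ↥(Pα ⊓ N) := hPαp.to_le inf_le_left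
  have step2 : Pα ⊓ N ≤ B1 := by
    intro x hx
    have hxN : x ∈ N := (Subgroup.mem_inf.1 hx).2
    apply h.B1_max x hxN
    intro n hn
    have hm : n⁻¹ ∈ N := N.inv_mem hn
    have h1 : Pα ⊓ N ≤ Subgroup.normalizer
        ((presOf p (A2.map (MulAut.conj n⁻¹).toMonoidHom) : Subgroup G) : Set G) := by
      apply le_normalizer_presOf p (O := (Pα ⊓ N) ⊓ B1) (hP0p.to_le inf_le_left)
      · exact inf_le_right.trans (h.B1_le_normalizer_conj hm)
      · intro u hu a ha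
        have haB : a ∈ B1 := h.conj_A2_le_B1 hm ha
        have haN : a ∈ N := h.B1_le_N haB
        have haM : a ∈ M := h.B1_le_M haB
        obtain ⟨huP, huN⟩ := Subgroup.mem_inf.1 hu
        refine Subgroup.mem_inf.2 ⟨Subgroup.mem_inf.2 ⟨?_, ?_⟩, ?_⟩
        · have h2 : a * u⁻¹ * a⁻¹ ∈ Pα :=
            (Subgroup.mem_normalizer_iff.1 (hPαn haM) u⁻¹).1 (Pα.inv_mem huP)
          have e : u * a * u⁻¹ * a⁻¹ = u * (a * u⁻¹ * a⁻¹) := by group
          rw [e]; exact Pα.mul_mem huP h2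
        · exact N.mul_mem (N.mul_mem (N.mul_mem huN haN) (N.inv_mem huN)) (N.inv_mem haN)
        · have h2 : u * a * u⁻¹ ∈ B1 := (Subgroup.mem_normalizer_iff.1 (h.B1_norm huN) a).1 haB
          exact B1.mul_mem h2 (B1.inv_mem haB)
    have h2 := h1 hx
    rw [presOf_map_conj] at h2
    have h3 := h.conj_mem_of_mem_normalizer hA0 hA0M hA0n h2
    simpa using h3
  -- Step 3: `Pα ⊓ N ≤ Pβ`
  have step3 : Pα ⊓ N ≤ Pβ := by
    have h1 : B1 ≤ Subgroup.normalizer ((Pα ⊓ N : Subgroup G) : Set G) :=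
      le_nzr_inf _ _ _ (h.B1_le_M.trans hPαn) (h.B1_le_N.trans Subgroup.le_normalizer)
    have h2 : Pα ⊓ N ≤ pCoreOf p B1 := le_pCoreOf p B1 _ step2 h1 hP0p
    exact h2.trans (pCoreOf_le_pCoreOf_of_le_normalizer p h.B1_le_N h.B1_norm)
  -- Step 4: normalizer condition in `Pβ ⊔ Pα`
  by_contra hcon
  set Y := Pβ ⊔ Pα with hY_def
  have hYp : IsPGroup p Y := IsPGroup.to_sup_of_normal_right' hPβp hPαp (step1.trans hPαn)
  have hnil : Group.IsNilpotent ↥Y := hYp.isNilpotent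
  have hlt : Pβ.subgroupOf Y < ⊤ := by
    rw [lt_top_iff_ne_top]
    intro htop
    apply hcon
    have := Subgroup.subgroupOf_eq_top.1 htop
    exact le_sup_right.trans this
  have hnc := Group.normalizerCondition_of_isNilpotent (G := ↥Y) _ hlt
  obtain ⟨y, hyn, hynot⟩ := SetLike.exists_of_lt hnc
  have hyG : (y : G) ∈ Subgroup.normalizer (Pβ : Set G) := by
    rw [Subgroup.mem_normalizer_iff]
    intro z
    constructor
    · intro hz
      have hzY : z ∈ Y := (le_sup_left : Pβ ≤ Y) hz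
      have := (Subgroup.mem_normalizer_iff.1 hyn ⟨z, hzY⟩).1 (Subgroup.mem_subgroupOf.2 hz)
      rw [Subgroup.mem_subgroupOf] at this
      simpa using this
    · intro hz
      have hzY : z ∈ Y := by
        have h1 : (y : G) * z * (y : G)⁻¹ ∈ Y := (le_sup_left : Pβ ≤ Y) hz
        have h2 := Y.mul_mem (Y.mul_mem (Y.inv_mem y.2) h1) y.2
        have e : (y : G)⁻¹ * ((y : G) * z * (y : G)⁻¹) * (y : G) = z := by group
        rwa [e] at h2
      have := (Subgroup.mem_normalizer_iff.1 hyn ⟨z, hzY⟩).2 (by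
        rw [Subgroup.mem_subgroupOf]; simpa using hz)
      exact Subgroup.mem_subgroupOf.1 this
  have hyN : (y : G) ∈ N := h.hN1 Pβ hPβ hPβN hPβn hyG
  obtain ⟨b, hb, a, ha, hyab⟩ := exists_mul_of_mem_sup (step1.trans hPαn) y.2
  have haN : a ∈ N := by
    have : a = b⁻¹ * (y : G) := by rw [hyab]; group
    rw [this]
    exact N.mul_mem (N.inv_mem (hPβN hb)) hyN
  have haβ : a ∈ Pβ := step3 (Subgroup.mem_inf.2 ⟨ha, haN⟩)
  apply hynot
  rw [Subgroup.mem_subgroupOf, hyab]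
  exact Pβ.mul_mem hb haβ

end setup

end Cfsg.Agent.Lib.H7.TW
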