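import Mathlib
import Cfsg.Prelude.Def_Local
import Cfsg.Prelude.Def_Amalgam
import Cfsg.Agent.Lib.H7.TWCore
import Cfsg.Agent.Lib.H7.Coprime
import Cfsg.Agent.Lib.H7.PLocal

set_option autoImplicit false
open Cfsg

namespace Cfsg.Agent.Lib.H7.TW

open Cfsg.Agent.Lib.H7 Cfsg.Agent.Lib.H14
open scoped commutatorElement

universe u

variable {G : Type u} [Group G]

section setup

variable {M N A1 B1 A2 B2 : Subgroup G}

/-- `y z y⁻¹ z⁻¹ ∈ K` when `y ∈ K` and `z` normalizes `K`. -/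
theorem comm_mem_of_mem_left {K : Subgroup G} {y z : G} (hy : y ∈ K)
    (hz : z ∈ Subgroup.normalizer (K : Set G)) : y * z * y⁻¹ * z⁻¹ ∈ K := by
  have h2 : z * y⁻¹ * z⁻¹ ∈ K := (Subgroup.mem_normalizer_iff.1 hz y⁻¹).1 (K.inv_mem hy)
  have e : y * z * y⁻¹ * z⁻¹ = y * (z * y⁻¹ * z⁻¹) := by group
  rw [e]; exact K.mul_mem hy h2

/-- `y z y⁻¹ z⁻¹ ∈ K` when `z ∈ K` and `y` normalizes `K`. -/
theorem comm_mem_of_mem_right {K : Subgroup G} {y z : G} (hz : z ∈ K)
    (hy : y ∈ Subgroup.normalizer (K : Set G)) : y * z * y⁻¹ * z⁻¹ ∈ K := by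
  have h2 : y * z * y⁻¹ ∈ K := (Subgroup.mem_normalizer_iff.1 hy z).1 hz
  exact K.mul_mem h2 (K.inv_mem hz)

theorem coprime_card_of_isPGroup [Finite G] (p : ℕ) [hp : Fact p.Prime] {R : Subgroup G}
    (hR : IsPGroup p R) {y : G} (hy : (orderOf y).Coprime p) :
    (orderOf y).Coprime (Nat.card R) := by
  obtain ⟨n, hn⟩ := IsPGroup.iff_card.1 hR
  rw [hn]
  exact Nat.Coprime.pow_right n hy

variable [Finite G]

/-- **Lemma S.** If `A2` and `B2` are `p`-groups, the `p'`-elements of `C_M(O_p(M))` are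
`p'`-elements of `C_N(O_p(N))`. -/
theorem Setup.Sset_subset (h : Setup M N A1 B1 A2 B2) (p : ℕ) [hp : Fact p.Prime]
    (hA2p : IsPGroup p A2) (hB2p : IsPGroup p B2) :
    PrimPair.Sset p M ⊆ PrimPair.Sset p N := by
  set Pα := pCoreOf p M with hPα_def
  set Pβ := pCoreOf p N with hPβ_def
  set Sβ := pCoreOf p B1 with hSβ_def
  have hPαp : IsPGroup p Pα := pCoreOf_isPGroup p M
  have hPβp : IsPGroup p Pβ := pCoreOf_isPGroup p N
  have hSβp : IsPGroup p Sβ := pCoreOf_isPGroup p B1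
  have hPαn : M ≤ Subgroup.normalizer (Pα : Set G) := pCoreOf_normalized p M
  have hPβn : N ≤ Subgroup.normalizer (Pβ : Set G) := pCoreOf_normalized p N
  have hSβn : N ≤ Subgroup.normalizer (Sβ : Set G) :=
    h.B1_norm.trans (normalizer_le_normalizer_pCoreOf p B1)
  have hPαM : Pα ≤ M := Cfsg.Agent.Lib.H14.pCoreOf_le p M
  have hPβN : Pβ ≤ N := Cfsg.Agent.Lib.H14.pCoreOf_le p N
  have hSβB : Sβ ≤ B1 := Cfsg.Agent.Lib.H14.pCoreOf_le p B1
  -- `B2 ≤ Pα`
  have hB2α : B2 ≤ Pα :=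
    (le_pCoreOf p A1 B2 h.B2_le_A1 (h.A1_le_N.trans h.B2_norm) hB2p).trans
      (pCoreOf_le_pCoreOf_of_le_normalizer p h.A1_le_M h.A1_norm)
  -- conjugates of `A2` lie in `Sβ`
  have hconjS : ∀ n ∈ N, A2.map (MulAut.conj n).toMonoidHom ≤ Sβ := fun n hn =>
    le_pCoreOf p B1 _ (h.conj_A2_le_B1 hn) (h.B1_le_normalizer_conj hn) (hA2p.map _)
  -- `C = C_M(Pα) ≤ N`
  set C := M ⊓ Subgroup.centralizer (Pα : Set G) with hC_def
  have hCN : C ≤ N := by
    have h1 : C ≤ Subgroup.centralizer (B2 : Set G) :=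
      inf_le_right.trans (Subgroup.centralizer_le (SetLike.coe_subset_coe.2 hB2α))
    exact (h1.trans (Subgroup.centralizer_le_normalizer _)).trans
      (h.hN1 B2 h.B2_ne h.B2_le_N h.B2_norm)
  have hCM : C ≤ M := inf_le_left
  have hCn : M ≤ Subgroup.normalizer (C : Set G) :=
    le_nzr_inf _ _ _ Subgroup.le_normalizer (hPαn.trans (normalizer_le_normalizer_centralizer Pα))
  rintro y ⟨hyM, hyP, hy⟩
  have hyPα : y ∈ Subgroup.centralizer (Pα : Set G) := hyP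
  have hyC : y ∈ C := Subgroup.mem_inf.2 ⟨hyM, hyPα⟩
  have hyN : y ∈ N := hCN hyC
  -- `y` centralizes `Sβ`
  have hySβ : ∀ q ∈ Sβ, y * q = q * y := by
    have hRp : IsPGroup p ↥(Sβ ⊓ C) := hSβp.to_le inf_le_left
    apply commute_of_stable_step (R := Sβ ⊓ C) (coprime_card_of_isPGroup p hRp hy)
    · intro q hq
      refine Subgroup.mem_inf.2 ⟨comm_mem_of_mem_right hq (hSβn hyN), ?_⟩
      exact comm_mem_of_mem_left hyC (hCn (h.B1_le_M (hSβB hq)))
    · intro r hr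
      have h1 : Sβ ⊓ C ≤ pCoreOf p C :=
        le_pCoreOf p C _ inf_le_right
          (le_nzr_inf _ _ _ (hCN.trans hSβn) Subgroup.le_normalizer) hRp
      have h2 : r ∈ Pα := (pCoreOf_le_pCoreOf_of_le_normalizer p hCM hCn) (h1 hr)
      exact (Subgroup.mem_centralizer_iff.1 hyPα r h2).symm
  -- `y ∈ B1`
  have hyB1 : y ∈ B1 := by
    apply h.B1_max y hyN
    intro n hn
    have hn' : n⁻¹ ∈ N := N.inv_mem hn
    have h1 : y ∈ Subgroup.normalizer
        ((A2.map (MulAut.conj n⁻¹).toMonoidHom : Subgroup G) : Set G) := by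
      apply Subgroup.centralizer_le_normalizer
      rw [Subgroup.mem_centralizer_iff]
      intro z hz
      exact (hySβ z (hconjS _ hn' hz)).symm
    have h2 := h.conj_mem_of_mem_normalizer h.A2_ne h.A2_le_M h.A2_norm h1
    simpa using h2
  -- `y` centralizes `Pβ`
  have hyPβ : ∀ q ∈ Pβ, y * q = q * y := by
    apply commute_of_stable_step (R := Sβ) (coprime_card_of_isPGroup p hSβp hy)
    · intro q hq
      have h1 : Pβ ⊓ B1 ≤ Sβ :=
        le_pCoreOf p B1 _ inf_le_right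
          (le_nzr_inf _ _ _ (h.B1_le_N.trans hPβn) Subgroup.le_normalizer)
          (hPβp.to_le inf_le_left)
      apply h1
      exact Subgroup.mem_inf.2 ⟨comm_mem_of_mem_right hq (hPβn hyN),
        comm_mem_of_mem_left hyB1 (h.B1_norm (hPβN hq))⟩
    · exact hySβ
  refine ⟨hyN, ?_, hy⟩
  show y ∈ Subgroup.centralizer (Pβ : Set G)
  rw [Subgroup.mem_centralizer_iff]
  intro q hq
  exact (hyPβ q hq).symm

end setup

end Cfsg.Agent.Lib.H7.TW
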