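import Mathlib
import Cfsg.Prelude.Def_Local
import Cfsg.Prelude.Def_Amalgam
import Cfsg.Agent.Lib.H7.TWCore
import Cfsg.Agent.Lib.H7.TWS
import Cfsg.Agent.Lib.H7.Coprime
import Cfsg.Agent.Lib.H7.PLocal

set_option autoImplicit false
open Cfsg

namespace Cfsg.Agent.Lib.H7.TW

open Cfsg.Agent.Lib.H7 Cfsg.Agent.Lib.H14
open scoped commutatorElement

universe u

variable {G : Type u} [Group G]

section setup

variable {M N A1 B1 A2 B2 : Subgroup G}

/-- No nontrivial subgroup is normalized by both `M` and `N`. -/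
theorem Setup.no_common (h : Setup M N A1 B1 A2 B2) (hne : M ≠ N) (X : Subgroup G) (hX : X ≠ ⊥)
    (hXL : X ≤ M ⊓ N) (hM : M ≤ Subgroup.normalizer (X : Set G))
    (hN : N ≤ Subgroup.normalizer (X : Set G)) : False := by
  apply hne
  apply le_antisymm
  · exact hM.trans (h.hN1 X hX (hXL.trans inf_le_right) hN)
  · exact hN.trans (h.hM1 X hX (hXL.trans inf_le_left) hM)

variable [Finite G]

/-- If `O_p(M) ≠ 1`, then `A2` is a `p`-group. -/
theorem Setup.isPGroup_A2 (h : Setup M N A1 B1 A2 B2) (hne : M ≠ N) (p : ℕ) [hp : Fact p.Prime]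
    (hcard : Nat.card (pCoreOf p M) = Nat.card (pCoreOf p N)) (hPα : pCoreOf p M ≠ ⊥) :
    IsPGroup p A2 := by
  have hPβ : pCoreOf p N ≠ ⊥ := by
    intro h0
    apply hPα
    rw [h0] at hcard
    rw [Subgroup.card_bot] at hcard
    exact Subgroup.card_eq_one.1 hcard
  have h0 : presOf p A2 = ⊥ := by
    by_contra hA0
    have hle := h.pCoreOf_le_of_presOf_ne_bot p hA0 hPβ
    have heq : pCoreOf p M = pCoreOf p N :=
      Subgroup.eq_of_le_of_card_ge hle hcard.ge
    apply h.no_common hne (pCoreOf p M) hPα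
    · exact le_inf (Cfsg.Agent.Lib.H14.pCoreOf_le p M)
        (by rw [heq]; exact Cfsg.Agent.Lib.H14.pCoreOf_le p N)
    · exact pCoreOf_normalized p M
    · rw [heq]; exact pCoreOf_normalized p N
  intro x
  obtain ⟨k, hk⟩ := exists_pow_mem_presOf p A2 (x : G) x.2
  rw [h0, Subgroup.mem_bot] at hk
  exact ⟨k, Subtype.ext (by simpa using hk)⟩

/-- Every `p'`-element of `C_M(O_p(M))` is trivial. -/
theorem Setup.eq_one_of_mem_Sset (h : Setup M N A1 B1 A2 B2) (hne : M ≠ N) (p : ℕ)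
    [hp : Fact p.Prime] (hA2p : IsPGroup p A2) (hB2p : IsPGroup p B2) {y : G}
    (hy : y ∈ PrimPair.Sset p M) : y = 1 := by
  have hS : PrimPair.Sset p M = PrimPair.Sset p N :=
    Set.Subset.antisymm (h.Sset_subset p hA2p hB2p) (h.symm.Sset_subset p hB2p hA2p)
  by_contra hy1
  apply h.no_common hne (Subgroup.closure (PrimPair.Sset p M))
  · intro h0
    apply hy1
    have : y ∈ Subgroup.closure (PrimPair.Sset p M) := Subgroup.subset_closure hy
    rw [h0, Subgroup.mem_bot] at this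
    exact this
  · rw [Subgroup.closure_le]
    intro k hk
    refine Subgroup.mem_inf.2 ⟨hk.1, ?_⟩
    rw [hS] at hk
    exact hk.1
  · exact PrimPair.le_normalizer_closure_Sset p M
  · rw [hS]; exact PrimPair.le_normalizer_closure_Sset p N

theorem Setup.fstar_M (h : Setup M N A1 B1 A2 B2) (hne : M ≠ N) (p : ℕ)
    [hp : Fact p.Prime] (hA2p : IsPGroup p A2) (hB2p : IsPGroup p B2) :
    generalizedFittingSubgroup ↥M = pCore p ↥M := by
  apply Cfsg.Agent.Lib.H7.generalizedFittingSubgroup_eq_pCore_of_coprime p M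
  intro y hyM hy hyC
  exact h.eq_one_of_mem_Sset hne p hA2p hB2p ⟨hyM, hyC, hy⟩

theorem Setup.fstar_A1 (h : Setup M N A1 B1 A2 B2) (hne : M ≠ N) (p : ℕ)
    [hp : Fact p.Prime] (hA2p : IsPGroup p A2) (hB2p : IsPGroup p B2) :
    generalizedFittingSubgroup ↥A1 = pCore p ↥A1 := by
  apply Cfsg.Agent.Lib.H7.generalizedFittingSubgroup_eq_pCore_of_coprime p A1
  intro y hyA hy hyC
  apply h.eq_one_of_mem_Sset hne p hA2p hB2p
  have hyM : y ∈ M := h.A1_le_M hyA
  have hSαp : IsPGroup p (pCoreOf p A1) := pCoreOf_isPGroup p A1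
  have hPαn : M ≤ Subgroup.normalizer ((pCoreOf p M : Subgroup G) : Set G) :=
    pCoreOf_normalized p M
  have hcomm : ∀ q ∈ pCoreOf p M, y * q = q * y := by
    apply commute_of_stable_step (R := pCoreOf p A1) (coprime_card_of_isPGroup p hSαp hy)
    · intro q hq
      have h1 : pCoreOf p M ⊓ A1 ≤ pCoreOf p A1 :=
        le_pCoreOf p A1 _ inf_le_right
          (le_nzr_inf _ _ _ (h.A1_le_M.trans hPαn) Subgroup.le_normalizer)
          ((pCoreOf_isPGroup p M).to_le inf_le_left)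
      apply h1
      exact Subgroup.mem_inf.2 ⟨comm_mem_of_mem_right hq (hPαn hyM),
        comm_mem_of_mem_left hyA (h.A1_norm (Cfsg.Agent.Lib.H14.pCoreOf_le p M hq))⟩
    · intro r hr
      exact (Subgroup.mem_centralizer_iff.1 hyC r hr).symm
  refine ⟨hyM, ?_, hy⟩
  show y ∈ Subgroup.centralizer ((pCoreOf p M : Subgroup G) : Set G)
  rw [Subgroup.mem_centralizer_iff]
  intro q hq
  exact (hcomm q hq).symm

end setup

end Cfsg.Agent.Lib.H7.TW
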