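import Mathlib
import Cfsg.Prelude.Def_Local
import Cfsg.Prelude.Def_Amalgam
import Cfsg.Agent.Lib.H7.TWCore
import Cfsg.Agent.Lib.H7.TWS
import Cfsg.Agent.Lib.H7.Components

set_option autoImplicit false
open Cfsg

namespace Cfsg.Agent.Lib.H7.TW

open Cfsg.Agent.Lib.H7 Cfsg.Agent.Lib.H14
open scoped commutatorElement

universe u

variable {G : Type u} [Group G]

section setup

variable {M N A1 B1 A2 B2 : Subgroup G}

/-- `B2` is subnormal in `M`. -/
theorem Setup.isSubnormal_B2 (h : Setup M N A1 B1 A2 B2) : (B2.subgroupOf M).IsSubnormal := by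
  have hA1n : (A1.subgroupOf M).Normal :=
    (Subgroup.normal_subgroupOf_iff_le_normalizer h.A1_le_M).2 h.A1_norm
  have hle : B2.subgroupOf M ≤ A1.subgroupOf M := Subgroup.comap_mono h.B2_le_A1
  refine Subgroup.IsSubnormal.step _ _ hle hA1n.isSubnormal ?_
  rw [Subgroup.normal_subgroupOf_iff_le_normalizer hle]
  have h1 : A1.subgroupOf M ≤ (Subgroup.normalizer (B2 : Set G)).subgroupOf M :=
    Subgroup.comap_mono (h.A1_le_N.trans h.B2_norm)
  exact h1.trans (Subgroup.le_normalizer_comap _)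

variable [Finite G]

/-- The layer of `M` lies in `N`. -/
theorem Setup.LayG_le (h : Setup M N A1 B1 A2 B2) : PrimPair.LayG M ≤ N := by
  show (layer ↥M).map M.subtype ≤ N
  rw [Subgroup.map_le_iff_le_comap]
  apply sSup_le
  intro K hK
  rw [← Subgroup.map_le_iff_le_comap]
  rcases component_le_or_commutator_eq_bot hK h.isSubnormal_B2 with h1 | h1
  · rintro _ ⟨k, hk, rfl⟩
    exact h.B2_le_N (Subgroup.mem_subgroupOf.1 (h1 hk))
  · rw [Subgroup.commutator_eq_bot_iff_le_centralizer] at h1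
    have h2 : K.map M.subtype ≤ Subgroup.centralizer (B2 : Set G) := by
      rintro _ ⟨k, hk, rfl⟩
      rw [Subgroup.mem_centralizer_iff]
      intro b hb
      have hbM : b ∈ M := (h.B2_le_A1.trans h.A1_le_M) hb
      have := Subgroup.mem_centralizer_iff.1 (h1 hk) ⟨b, hbM⟩ (Subgroup.mem_subgroupOf.2 hb)
      exact congrArg Subtype.val this
    exact (h2.trans (Subgroup.centralizer_le_normalizer _)).trans
      (h.hN1 B2 h.B2_ne h.B2_le_N h.B2_norm)

/-- If every `O_q(M)` is trivial then `F*(M) ≤ N`. -/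
theorem Setup.FsG_le (h : Setup M N A1 B1 A2 B2)
    (h0 : ∀ q : ℕ, q.Prime → pCoreOf q M = ⊥) : PrimPair.FsG M ≤ N := by
  rw [PrimPair.FsG_eq]
  apply sup_le h.LayG_le
  apply iSup_le
  intro q
  have : PrimPair.OpG (q : ℕ) M = ⊥ := h0 q q.2
  rw [this]
  exact bot_le

/-- Some `O_p(M)` is nontrivial. -/
theorem Setup.exists_prime (h : Setup M N A1 B1 A2 B2) (hne : M ≠ N)
    (hcard : ∀ q : ℕ, q.Prime → Nat.card (pCoreOf q M) = Nat.card (pCoreOf q N)) :
    ∃ p : ℕ, p.Prime ∧ pCoreOf p M ≠ ⊥ := by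
  by_contra hcon
  push Not at hcon
  have hN0 : ∀ q : ℕ, q.Prime → pCoreOf q N = ⊥ := by
    intro q hq
    have := hcard q hq
    rw [hcon q hq, Subgroup.card_bot] at this
    exact Subgroup.card_eq_one.1 this.symm
  have h₁ : PrimPair.FsG M ≤ N := h.FsG_le hcon
  have h₂ : PrimPair.FsG N ≤ M := h.symm.FsG_le hN0
  have hP : ∀ A : Subgroup G, A ≠ ⊥ → A ≤ M ⊓ N →
      (M ≤ Subgroup.normalizer (A : Set G) → N ⊓ Subgroup.normalizer (A : Set G) = M ⊓ N) ∧
      (N ≤ Subgroup.normalizer (A : Set G) → M ⊓ Subgroup.normalizer (A : Set G) = M ⊓ N) := by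
    intro A hA hAL
    constructor
    · intro hn
      apply le_antisymm
      · exact le_inf (inf_le_right.trans (h.hM1 A hA (hAL.trans inf_le_left) hn)) inf_le_left
      · exact le_inf inf_le_right (inf_le_left.trans hn)
    · intro hn
      apply le_antisymm
      · exact le_inf inf_le_left (inf_le_right.trans (h.hN1 A hA (hAL.trans inf_le_right) hn))
      · exact le_inf inf_le_left (inf_le_right.trans hn)
  obtain ⟨p, hp, hFM, -⟩ := PrimPair.exists_prime_of_primitive_pair M N hne hP h₁ h₂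
  have hF : PrimPair.FsG M = ⊥ := by
    show (generalizedFittingSubgroup ↥M).map M.subtype = ⊥
    rw [hFM]
    exact hcon p hp
  have hM := PrimPair.eq_bot_of_FsG_eq_bot M hF
  apply h.A2_ne
  rw [eq_bot_iff, ← hM]
  exact h.A2_le_M

end setup

end Cfsg.Agent.Lib.H7.TW
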