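import Mathlib
import Cfsg.Prelude.Def_Local
import Cfsg.Prelude.Def_Amalgam
import Cfsg.Agent.Lib.H7.TWCore
import Cfsg.Agent.Lib.H7.TWS
import Cfsg.Agent.Lib.H7.TWS2
import Cfsg.Agent.Lib.H7.TWS3

set_option autoImplicit false
open Cfsg

namespace Cfsg.Agent.Lib.H7.TW

open Cfsg.Agent.Lib.H7 Cfsg.Agent.Lib.H14
open scoped commutatorElement

universe u

variable {G : Type u} [Group G]

/-- A core-free maximal subgroup contains the normalizer of each of its nontrivial normal
subgroups. -/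
theorem normalizer_le_of_isCoatom {M : Subgroup G} (hmax : IsCoatom M)
    (hcore : M.normalCore = ⊥) (X : Subgroup G) (hX : X ≠ ⊥) (hXM : X ≤ M)
    (hn : M ≤ Subgroup.normalizer (X : Set G)) : Subgroup.normalizer (X : Set G) ≤ M := by
  by_contra hcon
  have hlt : M < Subgroup.normalizer (X : Set G) :=
    lt_of_le_of_ne hn (fun e => hcon (by rw [← e]))
  have htop := hmax.2 _ hlt
  have hXn : X.Normal := Subgroup.normalizer_eq_top_iff.1 htop
  have h1 : X ≤ M.normalCore := Subgroup.normal_le_normalCore.2 hXM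
  rw [hcore] at h1
  exact hX (eq_bot_iff.2 h1)

/-- The previous property is inherited by conjugates. -/
theorem normalizer_le_map_conj {M : Subgroup G} (g : G)
    (hM : ∀ X : Subgroup G, X ≠ ⊥ → X ≤ M → M ≤ Subgroup.normalizer (X : Set G) →
      Subgroup.normalizer (X : Set G) ≤ M)
    (X : Subgroup G) (hX : X ≠ ⊥) (hXM : X ≤ M.map (MulAut.conj g).toMonoidHom)
    (hn : M.map (MulAut.conj g).toMonoidHom ≤ Subgroup.normalizer (X : Set G)) :
    Subgroup.normalizer (X : Set G) ≤ M.map (MulAut.conj g).toMonoidHom := by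
  have h1 : X.map (MulAut.conj g⁻¹).toMonoidHom ≠ ⊥ := by
    intro h0
    apply hX
    exact (Subgroup.map_eq_bot_iff_of_injective _ (MulAut.conj g⁻¹).injective).1 h0
  have h2 : X.map (MulAut.conj g⁻¹).toMonoidHom ≤ M := by
    have := Subgroup.map_mono (f := (MulAut.conj g⁻¹).toMonoidHom) hXM
    rwa [map_conj_conj_inv] at this
  have h3 : M ≤ Subgroup.normalizer
      ((X.map (MulAut.conj g⁻¹).toMonoidHom : Subgroup G) : Set G) := by
    rw [← Subgroup.map_equiv_normalizer_eq]
    have := Subgroup.map_mono (f := (MulAut.conj g⁻¹).toMonoidHom) hn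
    rwa [map_conj_conj_inv] at this
  have h4 := hM _ h1 h2 h3
  rw [← Subgroup.map_equiv_normalizer_eq] at h4
  have h5 := Subgroup.map_mono (f := (MulAut.conj g).toMonoidHom) h4
  have e := map_conj_conj_inv (Subgroup.normalizer (X : Set G)) g⁻¹
  rw [inv_inv] at e
  rwa [e] at h5

section setup

variable {M N A1 B1 A2 B2 : Subgroup G} [Finite G]

/-- **Thompson–Wielandt for second cores**, abstract form. -/
theorem Setup.main (h : Setup M N A1 B1 A2 B2) (hne : M ≠ N)
    (hcard : ∀ q : ℕ, q.Prime → Nat.card (pCoreOf q M) = Nat.card (pCoreOf q N)) :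
    ∃ p : ℕ, p.Prime ∧ IsPGroup p ↥(A2 ⊔ B2) ∧
      generalizedFittingSubgroup ↥M = pCore p ↥M ∧
      generalizedFittingSubgroup ↥A1 = pCore p ↥A1 ∧
      generalizedFittingSubgroup ↥N = pCore p ↥N ∧
      generalizedFittingSubgroup ↥B1 = pCore p ↥B1 := by
  obtain ⟨p, hp, hpM⟩ := h.exists_prime hne hcard
  have : Fact p.Prime := ⟨hp⟩
  have hpN : pCoreOf p N ≠ ⊥ := by
    intro h0
    apply hpM
    have := hcard p hp
    rw [h0, Subgroup.card_bot] at this
    exact Subgroup.card_eq_one.1 this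
  have hA2p : IsPGroup p A2 := h.isPGroup_A2 hne p (hcard p hp) hpM
  have hB2p : IsPGroup p B2 := h.symm.isPGroup_A2 hne.symm p (hcard p hp).symm hpN
  refine ⟨p, hp, ?_, h.fstar_M hne p hA2p hB2p, h.fstar_A1 hne p hA2p hB2p,
    h.symm.fstar_M hne.symm p hB2p hA2p, h.symm.fstar_A1 hne.symm p hB2p hA2p⟩
  exact IsPGroup.to_sup_of_normal_right' hA2p hB2p
    ((h.A2_le_A1.trans h.A1_le_N).trans h.B2_norm)

end setup

end Cfsg.Agent.Lib.H7.TW
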