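import Mathlib

/-!
helper7 library (S4719, Part II (II.3) of tools/blueprints/S4719.md): the index bound for the centralizer of the
subgroup generated by the `Γ₀`-conjugates of an element `g` of a normal subgroup `G` with a small `G`-class.
`G ≤ Γ₀ ≤ N_Γ(G)`, `|Γ₀| ≤ k |G|`, `|G| ≤ c |C_G(g)|`, `X := ⟨γ g γ⁻¹ : γ ∈ Γ₀⟩`: `|G| ≤ c ^ (k c) |C_G(X)|`.
(`C_G(S) := G ⊓ centralizer S`.)
-/

set_option autoImplicit false

namespace Cfsg.Agent.Lib.H7.BQ

open Subgroup

variable {Γ : Type*} [Group Γ]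

theorem relIndex_mul_card_inf [Finite Γ] (H G : Subgroup Γ) :
    H.relIndex G * Nat.card (H ⊓ G : Subgroup Γ) = Nat.card G := by
  have h1 := (H.subgroupOf G).index_mul_card
  have h2 : Nat.card (H.subgroupOf G) = Nat.card (H ⊓ G : Subgroup Γ) := by
    rw [← Subgroup.inf_subgroupOf_right]
    exact Nat.card_congr (Subgroup.subgroupOfEquivOfLe inf_le_right).toEquiv
  rw [← h2]
  exact h1

theorem centralizer_insert (y : Γ) (S : Set Γ) :
    centralizer (insert y S) = centralizer ({y} : Set Γ) ⊓ centralizer S := by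
  ext z
  simp only [Subgroup.mem_inf, Subgroup.mem_centralizer_iff, Set.mem_insert_iff,
    Set.mem_singleton_iff]
  constructor
  · intro h
    exact ⟨fun w hw => h w (Or.inl hw), fun w hw => h w (Or.inr hw)⟩
  · rintro ⟨h1, h2⟩ w (hw | hw)
    · exact h1 w hw
    · exact h2 w hw

/-- Intersecting the centralizers of finitely many elements, each of index at most `c` in `G`. -/
theorem card_le_pow_mul_card_centralizer_finset [Finite Γ] (G : Subgroup Γ) (c : ℕ) (Y : Finset Γ)
    (hY : ∀ y ∈ Y, Nat.card G ≤ c * Nat.card (G ⊓ centralizer ({y} : Set Γ) : Subgroup Γ)) :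
    Nat.card G ≤ c ^ Y.card * Nat.card (G ⊓ centralizer (Y : Set Γ) : Subgroup Γ) := by
  classical
  induction Y using Finset.induction_on with
  | empty =>
    simp only [Finset.card_empty, pow_zero, one_mul, Finset.coe_empty]
    rw [Subgroup.centralizer_eq_top_iff_subset.mpr (Set.empty_subset _), inf_top_eq]
  | insert y Y hyY ih =>
    have hy := hY y (Finset.mem_insert_self y Y)
    have ih' := ih (fun z hz => hY z (Finset.mem_insert_of_mem hz))
    rw [Finset.card_insert_of_notMem hyY, Finset.coe_insert, centralizer_insert]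
    -- relative indices
    set A : Subgroup Γ := centralizer ({y} : Set Γ) with hA
    set B : Subgroup Γ := centralizer (Y : Set Γ) with hB
    have hpos : 0 < Nat.card G := Nat.card_pos
    have e1 := relIndex_mul_card_inf A G
    have e2 := relIndex_mul_card_inf B G
    have e3 := relIndex_mul_card_inf (A ⊓ B) G
    have hle : (A ⊓ B).relIndex G ≤ A.relIndex G * B.relIndex G := Subgroup.relIndex_inf_le
    rw [inf_comm G A] at hy
    rw [inf_comm G B] at ih'
    rw [inf_comm G (A ⊓ B)]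
    -- `A.relIndex G ≤ c`, `B.relIndex G ≤ c ^ |Y|`
    have hApos : 0 < Nat.card (A ⊓ G : Subgroup Γ) := Nat.card_pos
    have hBpos : 0 < Nat.card (B ⊓ G : Subgroup Γ) := Nat.card_pos
    have hA' : A.relIndex G ≤ c := by
      have : A.relIndex G * Nat.card (A ⊓ G : Subgroup Γ) ≤ c * Nat.card (A ⊓ G : Subgroup Γ) := by
        rw [e1]; exact hy
      exact Nat.le_of_mul_le_mul_right this hApos
    have hB' : B.relIndex G ≤ c ^ Y.card := by
      have : B.relIndex G * Nat.card (B ⊓ G : Subgroup Γ) ≤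
          c ^ Y.card * Nat.card (B ⊓ G : Subgroup Γ) := by
        rw [e2]; exact ih'
      exact Nat.le_of_mul_le_mul_right this hBpos
    calc Nat.card G = (A ⊓ B).relIndex G * Nat.card (A ⊓ B ⊓ G : Subgroup Γ) := e3.symm
      _ ≤ (A.relIndex G * B.relIndex G) * Nat.card (A ⊓ B ⊓ G : Subgroup Γ) :=
          Nat.mul_le_mul_right _ hle
      _ ≤ (c * c ^ Y.card) * Nat.card (A ⊓ B ⊓ G : Subgroup Γ) :=
          Nat.mul_le_mul_right _ (Nat.mul_le_mul hA' hB')
      _ = c ^ (Y.card + 1) * Nat.card (A ⊓ B ⊓ G : Subgroup Γ) := by rw [pow_succ]; ring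

/-- **(II.3) NCL index bound.** -/
theorem card_le_pow_mul_card_centralizer_conjClosure [Finite Γ] (G Γ₀ : Subgroup Γ) (hGΓ₀ : G ≤ Γ₀)
    (hnorm : Γ₀ ≤ normalizer (G : Set Γ)) (k : ℕ) (hk : Nat.card Γ₀ ≤ k * Nat.card G)
    {g : Γ} (c : ℕ)
    (hc : Nat.card G ≤ c * Nat.card (G ⊓ centralizer ({g} : Set Γ) : Subgroup Γ)) :
    Nat.card G ≤ c ^ (k * c) *
      Nat.card (G ⊓ centralizer ((closure {y : Γ | ∃ γ ∈ Γ₀, y = γ * g * γ⁻¹} : Subgroup Γ) : Set Γ) :
        Subgroup Γ) := by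
  classical
  haveI : Fintype Γ := Fintype.ofFinite Γ
  set T : Finset Γ := Finset.univ.filter (· ∈ Γ₀) with hT
  have hTcard : T.card = Nat.card Γ₀ := by
    rw [Nat.card_eq_fintype_card, Fintype.card_subtype]
  set Y : Finset Γ := T.image (fun γ => γ * g * γ⁻¹) with hY
  have hYset : (Y : Set Γ) = {y : Γ | ∃ γ ∈ Γ₀, y = γ * g * γ⁻¹} := by
    ext y
    simp only [hY, hT, Finset.coe_image, Set.mem_image, Finset.mem_coe, Finset.mem_filter,
      Finset.mem_univ, true_and, Set.mem_setOf_eq]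
    constructor
    · rintro ⟨γ, hγ, rfl⟩; exact ⟨γ, hγ, rfl⟩
    · rintro ⟨γ, hγ, rfl⟩; exact ⟨γ, hγ, rfl⟩
  rw [Subgroup.centralizer_closure, ← hYset]
  have hGpos : 0 < Nat.card G := Nat.card_pos
  have hCpos : 0 < Nat.card (G ⊓ centralizer ({g} : Set Γ) : Subgroup Γ) := Nat.card_pos
  have hcpos : 0 < c := by
    rcases Nat.eq_zero_or_pos c with h | h
    · rw [h, zero_mul] at hc; omega
    · exact h
  -- conjugation by `γ ∈ Γ₀` maps `C_G(g)` into `C_G(γ g γ⁻¹)`
  have hconj : ∀ γ ∈ Γ₀, Nat.card (G ⊓ centralizer ({g} : Set Γ) : Subgroup Γ) ≤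
      Nat.card (G ⊓ centralizer ({γ * g * γ⁻¹} : Set Γ) : Subgroup Γ) := by
    intro γ hγ
    have hγN := hnorm hγ
    refine Nat.card_le_card_of_injective
      (fun z : (G ⊓ centralizer ({g} : Set Γ) : Subgroup Γ) =>
        (⟨γ * z * γ⁻¹, by
          have hz := z.2
          rw [Subgroup.mem_inf] at hz ⊢
          refine ⟨(Subgroup.mem_normalizer_iff.mp hγN _).mp hz.1, ?_⟩
          rw [Subgroup.mem_centralizer_iff]
          intro w hw
          rw [Set.mem_singleton_iff] at hw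
          subst hw
          have h1 : g * (z : Γ) = (z : Γ) * g :=
            (Subgroup.mem_centralizer_iff.mp hz.2) g (Set.mem_singleton g)
          calc γ * g * γ⁻¹ * (γ * z * γ⁻¹) = γ * (g * z) * γ⁻¹ := by group
            _ = γ * (z * g) * γ⁻¹ := by rw [h1]
            _ = γ * z * γ⁻¹ * (γ * g * γ⁻¹) := by group⟩ :
          (G ⊓ centralizer ({γ * g * γ⁻¹} : Set Γ) : Subgroup Γ))) ?_
    intro z z' h
    have := congrArg Subtype.val h
    simp only at this
    exact Subtype.ext (mul_left_cancel (mul_right_cancel this))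
  have hYc : ∀ y ∈ Y, Nat.card G ≤ c * Nat.card (G ⊓ centralizer ({y} : Set Γ) : Subgroup Γ) := by
    intro y hy
    obtain ⟨γ, hγ, rfl⟩ := Finset.mem_image.mp hy
    have hγ' : γ ∈ Γ₀ := (Finset.mem_filter.mp hγ).2
    exact hc.trans (Nat.mul_le_mul_left c (hconj γ hγ'))
  -- `|Y| ≤ k c`: the fibres of `γ ↦ γ g γ⁻¹` on `Γ₀` contain a coset of `C_G(g)`
  have hfib : Nat.card (G ⊓ centralizer ({g} : Set Γ) : Subgroup Γ) * Y.card ≤ T.card := by
    apply Finset.mul_card_image_le_card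
    intro b hb
    obtain ⟨γ₀, hγ₀, rfl⟩ := Finset.mem_image.mp hb
    have hγ₀' : γ₀ ∈ Γ₀ := (Finset.mem_filter.mp hγ₀).2
    rw [Nat.card_eq_fintype_card, ← Finset.card_univ]
    apply Finset.card_le_card_of_injOn
      (fun z : (G ⊓ centralizer ({g} : Set Γ) : Subgroup Γ) => γ₀ * (z : Γ))
    · intro z _
      have hz := z.2
      rw [Subgroup.mem_inf] at hz
      rw [Finset.mem_coe, Finset.mem_filter]
      refine ⟨Finset.mem_filter.mpr ⟨Finset.mem_univ _, Γ₀.mul_mem hγ₀' (hGΓ₀ hz.1)⟩, ?_⟩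
      have h1 : g * (z : Γ) = (z : Γ) * g :=
        (Subgroup.mem_centralizer_iff.mp hz.2) g (Set.mem_singleton g)
      have h2 : (z : Γ) * g * (z : Γ)⁻¹ = g := by rw [← h1]; group
      calc γ₀ * z * g * (γ₀ * z)⁻¹ = γ₀ * (z * g * (z : Γ)⁻¹) * γ₀⁻¹ := by group
        _ = γ₀ * g * γ₀⁻¹ := by rw [h2]
    · intro z _ z' _ h
      exact Subtype.ext (mul_left_cancel h)
  have hYcard : Y.card ≤ k * c := by
    have h1 : Nat.card (G ⊓ centralizer ({g} : Set Γ) : Subgroup Γ) * Y.card ≤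
        Nat.card (G ⊓ centralizer ({g} : Set Γ) : Subgroup Γ) * (k * c) := by
      calc Nat.card (G ⊓ centralizer ({g} : Set Γ) : Subgroup Γ) * Y.card ≤ T.card := hfib
        _ = Nat.card Γ₀ := hTcard
        _ ≤ k * Nat.card G := hk
        _ ≤ k * (c * Nat.card (G ⊓ centralizer ({g} : Set Γ) : Subgroup Γ)) :=
            Nat.mul_le_mul_left k hc
        _ = Nat.card (G ⊓ centralizer ({g} : Set Γ) : Subgroup Γ) * (k * c) := by ring
    exact Nat.le_of_mul_le_mul_left h1 hCpos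
  calc Nat.card G ≤ c ^ Y.card * Nat.card (G ⊓ centralizer (Y : Set Γ) : Subgroup Γ) :=
        card_le_pow_mul_card_centralizer_finset G c Y hYc
    _ ≤ c ^ (k * c) * Nat.card (G ⊓ centralizer (Y : Set Γ) : Subgroup Γ) :=
        Nat.mul_le_mul_right _ (Nat.pow_le_pow_right hcpos hYcard)

end Cfsg.Agent.Lib.H7.BQ
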