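import Mathlib
import Cfsg.Agent.Lib.H8.BQ0
import Cfsg.Agent.Lib.H7.BQNcl

/-!
helper7 library (S4719 Part II, sub-architect helper8), piece G4b `exists_normal_closure` in the EXACT SIGNATURE of
`tools/blueprints/S4719_Q_sigs.lean`: `X := ⟨w (x g x⁻¹) w⁻¹ : w ∈ V, x ∈ G⟩` (at most `4 c` generators, all in `G`, each with
`|G| ≤ c |C_G(y)|`), normalized by `G` and `V`, and `|G| ≤ c ^ (4 c) |C_G(X)|` by G4a.
-/

set_option autoImplicit false

universe u

namespace Cfsg.Agent.Lib.H7.BQ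

open Subgroup Cfsg.Agent.Lib.H8.BQ

variable {Γ : Type u} [Group Γ]

/-- Conjugation by an element normalizing `G` maps `C_G(g)` into `C_G(γ g γ⁻¹)`. -/
theorem card_inf_centralizer_conj_le [Finite Γ] (G : Subgroup Γ) {γ : Γ}
    (hγN : γ ∈ normalizer (G : Set Γ)) (g : Γ) :
    Nat.card (G ⊓ centralizer ({g} : Set Γ) : Subgroup Γ) ≤
      Nat.card (G ⊓ centralizer ({γ * g * γ⁻¹} : Set Γ) : Subgroup Γ) := by
  refine Nat.card_le_card_of_injective
    (fun z : (G ⊓ centralizer ({g} : Set Γ) : Subgroup Γ) =>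
      (⟨γ * z * γ⁻¹, by
        have hz := z.2
        rw [Subgroup.mem_inf] at hz ⊢
        refine ⟨(Subgroup.mem_normalizer_iff.mp hγN _).mp hz.1, ?_⟩
        rw [Subgroup.mem_centralizer_iff]
        intro w hw
        rw [Set.mem_singleton_iff] at hw
        subst hw
        have h1 : g * (z : Γ) = (z : Γ) * g :=
          (Subgroup.mem_centralizer_iff.mp hz.2) g (Set.mem_singleton g)
        calc γ * g * γ⁻¹ * (γ * z * γ⁻¹) = γ * (g * z) * γ⁻¹ := by group
          _ = γ * (z * g) * γ⁻¹ := by rw [h1]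
          _ = γ * z * γ⁻¹ * (γ * g * γ⁻¹) := by group⟩ :
        (G ⊓ centralizer ({γ * g * γ⁻¹} : Set Γ) : Subgroup Γ))) ?_
  intro z z' h
  have := congrArg Subtype.val h
  simp only at this
  exact Subtype.ext (mul_left_cancel (mul_right_cancel this))

/-- An element whose conjugation (and that of its inverse) preserves a generating set normalizes the closure. -/
theorem mem_normalizer_closure_of_conj_mem {S : Set Γ} {γ : Γ}
    (h1 : ∀ y ∈ S, γ * y * γ⁻¹ ∈ S) (h2 : ∀ y ∈ S, γ⁻¹ * y * γ ∈ S) :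
    γ ∈ normalizer ((closure S : Subgroup Γ) : Set Γ) := by
  have key : ∀ δ : Γ, (∀ y ∈ S, δ * y * δ⁻¹ ∈ S) → ∀ h ∈ closure S, δ * h * δ⁻¹ ∈ closure S := by
    intro δ hδ h hh
    have hle : closure S ≤ (closure S).comap (MulAut.conj δ).toMonoidHom := by
      rw [closure_le]
      intro y hy
      show (MulAut.conj δ) y ∈ closure S
      rw [MulAut.conj_apply]
      exact subset_closure (hδ y hy)
    have := hle hh
    rw [Subgroup.mem_comap] at this
    simpa [MulAut.conj_apply] using this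
  rw [Subgroup.mem_normalizer_iff]
  intro h
  constructor
  · exact key γ h1 h
  · intro hh
    have := key γ⁻¹ (by simpa using h2) _ hh
    have e : γ⁻¹ * (γ * h * γ⁻¹) * γ⁻¹⁻¹ = h := by group
    rwa [e] at this

/-- G4b. -/
theorem exists_normal_closure {Γ : Type u} [Group Γ] [Finite Γ] (G V : Subgroup Γ)
    (hVG : V ≤ normalizer (G : Set Γ)) (hV4 : Nat.card V = 4) (c : ℕ) (g : Γ) (hgG : g ∈ G)
    (hg1 : g ≠ 1) (hc : Nat.card G ≤ c * Nat.card ↥(G ⊓ centralizer {g})) :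
    ∃ X : Subgroup Γ, X ≤ G ∧ X ≠ ⊥ ∧ G ≤ normalizer (X : Set Γ) ∧ V ≤ normalizer (X : Set Γ) ∧
      Nat.card G ≤ c ^ (4 * c) * Nat.card ↥(G ⊓ centralizer (X : Set Γ)) := by
  classical
  haveI : Fintype Γ := Fintype.ofFinite Γ
  set TG : Finset Γ := Finset.univ.filter (· ∈ G) with hTG
  set TV : Finset Γ := Finset.univ.filter (· ∈ V) with hTV
  have hTGcard : TG.card = Nat.card G := by
    rw [Nat.card_eq_fintype_card, Fintype.card_subtype]
  have hTVcard : TV.card = 4 := by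
    rw [← hV4, Nat.card_eq_fintype_card, Fintype.card_subtype]
  have memTG : ∀ x, x ∈ TG ↔ x ∈ G := fun x => by simp [hTG]
  have memTV : ∀ x, x ∈ TV ↔ x ∈ V := fun x => by simp [hTV]
  set Cg : Finset Γ := TG.image (fun x => x * g * x⁻¹) with hCg
  set Y : Finset Γ := (TV ×ˢ Cg).image (fun q => q.1 * q.2 * q.1⁻¹) with hY
  have memCg : ∀ y, y ∈ Cg ↔ ∃ x ∈ G, y = x * g * x⁻¹ := by
    intro y
    rw [hCg, Finset.mem_image]
    constructor
    · rintro ⟨x, hx, rfl⟩; exact ⟨x, (memTG x).mp hx, rfl⟩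
    · rintro ⟨x, hx, rfl⟩; exact ⟨x, (memTG x).mpr hx, rfl⟩
  have memY : ∀ y, y ∈ Y ↔ ∃ w ∈ V, ∃ x ∈ G, y = w * (x * g * x⁻¹) * w⁻¹ := by
    intro y
    rw [hY, Finset.mem_image]
    constructor
    · rintro ⟨q, hq, rfl⟩
      obtain ⟨hq1, hq2⟩ := Finset.mem_product.mp hq
      obtain ⟨x, hx, hx'⟩ := (memCg _).mp hq2
      exact ⟨q.1, (memTV _).mp hq1, x, hx, by rw [hx']⟩
    · rintro ⟨w, hw, x, hx, rfl⟩
      exact ⟨(w, x * g * x⁻¹), Finset.mem_product.mpr ⟨(memTV _).mpr hw,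
        (memCg _).mpr ⟨x, hx, rfl⟩⟩, rfl⟩
  have hGpos : 0 < Nat.card G := Nat.card_pos
  have hCpos : 0 < Nat.card (G ⊓ centralizer ({g} : Set Γ) : Subgroup Γ) := Nat.card_pos
  have hcpos : 0 < c := by
    rcases Nat.eq_zero_or_pos c with h | h
    · rw [h, zero_mul] at hc; omega
    · exact h
  -- `|Cg| ≤ c`
  have hfib : Nat.card (G ⊓ centralizer ({g} : Set Γ) : Subgroup Γ) * Cg.card ≤ TG.card := by
    apply Finset.mul_card_image_le_card
    intro b hb
    obtain ⟨x₀, hx₀, rfl⟩ := Finset.mem_image.mp hb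
    have hx₀' : x₀ ∈ G := (memTG x₀).mp hx₀
    rw [Nat.card_eq_fintype_card, ← Finset.card_univ]
    apply Finset.card_le_card_of_injOn
      (fun z : (G ⊓ centralizer ({g} : Set Γ) : Subgroup Γ) => x₀ * (z : Γ))
    · intro z _
      have hz := z.2
      rw [Subgroup.mem_inf] at hz
      rw [Finset.mem_coe, Finset.mem_filter]
      refine ⟨(memTG _).mpr (G.mul_mem hx₀' hz.1), ?_⟩
      have h1 : g * (z : Γ) = (z : Γ) * g :=
        (Subgroup.mem_centralizer_iff.mp hz.2) g (Set.mem_singleton g)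
      have h2 : (z : Γ) * g * (z : Γ)⁻¹ = g := by rw [← h1]; group
      calc x₀ * z * g * (x₀ * z)⁻¹ = x₀ * (z * g * (z : Γ)⁻¹) * x₀⁻¹ := by group
        _ = x₀ * g * x₀⁻¹ := by rw [h2]
    · intro z _ z' _ h
      exact Subtype.ext (mul_left_cancel h)
  have hCgcard : Cg.card ≤ c := by
    have h1 : Nat.card (G ⊓ centralizer ({g} : Set Γ) : Subgroup Γ) * Cg.card ≤
        Nat.card (G ⊓ centralizer ({g} : Set Γ) : Subgroup Γ) * c := by
      calc Nat.card (G ⊓ centralizer ({g} : Set Γ) : Subgroup Γ) * Cg.card ≤ TG.card := hfib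
        _ = Nat.card G := hTGcard
        _ ≤ c * Nat.card (G ⊓ centralizer ({g} : Set Γ) : Subgroup Γ) := hc
        _ = Nat.card (G ⊓ centralizer ({g} : Set Γ) : Subgroup Γ) * c := by ring
    exact Nat.le_of_mul_le_mul_left h1 hCpos
  have hYcard : Y.card ≤ 4 * c := by
    calc Y.card ≤ (TV ×ˢ Cg).card := Finset.card_image_le
      _ = TV.card * Cg.card := Finset.card_product _ _
      _ ≤ 4 * c := by rw [hTVcard]; exact Nat.mul_le_mul_left 4 hCgcard
  -- members of `Y`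
  have hYG : ∀ y ∈ Y, y ∈ G := by
    intro y hy
    obtain ⟨w, hw, x, hx, rfl⟩ := (memY y).mp hy
    have hxg : x * g * x⁻¹ ∈ G := G.mul_mem (G.mul_mem hx hgG) (G.inv_mem hx)
    exact (Subgroup.mem_normalizer_iff.mp (hVG hw) _).mp hxg
  have hgY : g ∈ Y := (memY g).mpr ⟨1, V.one_mem, 1, G.one_mem, by group⟩
  have hYc : ∀ y ∈ Y, Nat.card G ≤ c * Nat.card ↥(G ⊓ centralizer {y}) := by
    intro y hy
    obtain ⟨w, hw, x, hx, rfl⟩ := (memY y).mp hy
    have hγN : w * x ∈ normalizer (G : Set Γ) :=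
      (normalizer (G : Set Γ)).mul_mem (hVG hw) (Subgroup.le_normalizer hx)
    have e : w * (x * g * x⁻¹) * w⁻¹ = (w * x) * g * (w * x)⁻¹ := by group
    rw [e]
    exact hc.trans (Nat.mul_le_mul_left c (card_inf_centralizer_conj_le G hγN g))
  -- invariance of `Y`
  have hinvG : ∀ x' ∈ G, ∀ y ∈ (Y : Set Γ), x' * y * x'⁻¹ ∈ (Y : Set Γ) := by
    intro x' hx' y hy
    obtain ⟨w, hw, x, hx, rfl⟩ := (memY y).mp (Finset.mem_coe.mp hy)
    rw [Finset.mem_coe, memY]
    have hwx : w⁻¹ * x' * w ∈ G := by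
      have := (Subgroup.mem_normalizer_iff.mp (V.inv_mem hw |> fun h => hVG h) x').mp hx'
      simpa using this
    refine ⟨w, hw, (w⁻¹ * x' * w) * x, G.mul_mem hwx hx, ?_⟩
    group
  have hinvV : ∀ w' ∈ V, ∀ y ∈ (Y : Set Γ), w' * y * w'⁻¹ ∈ (Y : Set Γ) := by
    intro w' hw' y hy
    obtain ⟨w, hw, x, hx, rfl⟩ := (memY y).mp (Finset.mem_coe.mp hy)
    rw [Finset.mem_coe, memY]
    refine ⟨w' * w, V.mul_mem hw' hw, x, hx, ?_⟩
    group
  refine ⟨closure (Y : Set Γ), ?_, ?_, ?_, ?_, ?_⟩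
  · rw [closure_le]
    intro y hy
    exact hYG y (Finset.mem_coe.mp hy)
  · intro hbot
    have : g ∈ closure (Y : Set Γ) := subset_closure (Finset.mem_coe.mpr hgY)
    rw [hbot, Subgroup.mem_bot] at this
    exact hg1 this
  · intro x' hx'
    apply mem_normalizer_closure_of_conj_mem (hinvG x' hx')
    intro y hy
    have := hinvG x'⁻¹ (G.inv_mem hx') y hy
    simpa using this
  · intro w' hw'
    apply mem_normalizer_closure_of_conj_mem (hinvV w' hw')
    intro y hy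
    have := hinvV w'⁻¹ (V.inv_mem hw') y hy
    simpa using this
  · rw [Subgroup.centralizer_closure]
    calc Nat.card G ≤ c ^ Y.card * Nat.card ↥(G ⊓ centralizer ((Y : Finset Γ) : Set Γ)) :=
          card_le_pow_mul_card_centralizer_finset G c Y hYc
      _ ≤ c ^ (4 * c) * Nat.card ↥(G ⊓ centralizer ((Y : Finset Γ) : Set Γ)) :=
          Nat.mul_le_mul_right _ (Nat.pow_le_pow_right hcpos hYcard)

end Cfsg.Agent.Lib.H7.BQ
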