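import Mathlib

/-!
# Zassenhaus block D2 (helper7): transport of generation fibres along an isomorphism

Pure group theory, no `HCtx`.
-/

namespace Cfsg.Agent.Lib.H7.ZasD2

open Subgroup

section D2a

variable {H : Type*} [Group H]

/-- for `a b ∈ X`: `closure {a,b} = X` iff the corresponding closure inside `X` is `⊤` -/
theorem closure_pair_eq_iff_top (X : Subgroup H) {a b : H} (ha : a ∈ X) (hb : b ∈ X) :
    closure ({a, b} : Set H) = X ↔
      closure ({(⟨a, ha⟩ : X), ⟨b, hb⟩} : Set X) = ⊤ := by
  have himg : (X.subtype '' ({(⟨a, ha⟩ : X), ⟨b, hb⟩} : Set X)) = ({a, b} : Set H) := by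
    ext x
    simp only [Set.mem_image, Set.mem_insert_iff, Set.mem_singleton_iff]
    constructor
    · rintro ⟨y, (rfl | rfl), rfl⟩
      · left; rfl
      · right; rfl
    · rintro (rfl | rfl)
      · exact ⟨⟨x, ha⟩, Or.inl rfl, rfl⟩
      · exact ⟨⟨x, hb⟩, Or.inr rfl, rfl⟩
  have hmap : (closure ({(⟨a, ha⟩ : X), ⟨b, hb⟩} : Set X)).map X.subtype =
      closure ({a, b} : Set H) := by
    rw [MonoidHom.map_closure, himg]
  constructor
  · intro h
    apply Subgroup.map_injective X.subtype_injective
    rw [hmap, h]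
    ext x
    simp
  · intro h
    rw [← hmap, h]
    ext x
    simp

/-- the closure of a pair is mapped to the closure of the image pair by an isomorphism -/
theorem closure_pair_eq_top_iff_of_mulEquiv {G₁ G₂ : Type*} [Group G₁] [Group G₂] (e : G₁ ≃* G₂)
    (x y : G₁) :
    closure ({x, y} : Set G₁) = ⊤ ↔ closure ({e x, e y} : Set G₂) = ⊤ := by
  have himg : (e.toMonoidHom '' ({x, y} : Set G₁)) = ({e x, e y} : Set G₂) := by
    ext z
    simp only [Set.mem_image, Set.mem_insert_iff, Set.mem_singleton_iff]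
    constructor
    · rintro ⟨w, (rfl | rfl), rfl⟩
      · left; rfl
      · right; rfl
    · rintro (rfl | rfl)
      · exact ⟨x, Or.inl rfl, rfl⟩
      · exact ⟨y, Or.inr rfl, rfl⟩
  have hmap : (closure ({x, y} : Set G₁)).map e.toMonoidHom = closure ({e x, e y} : Set G₂) := by
    rw [MonoidHom.map_closure, himg]
  constructor
  · intro h
    rw [← hmap, h]
    exact Subgroup.map_top_of_surjective _ e.surjective
  · intro h
    apply Subgroup.map_injective (f := e.toMonoidHom) e.injective
    rw [hmap, h]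
    exact (Subgroup.map_top_of_surjective _ e.surjective).symm

/-- transport of a generation fibre along an isomorphism `X ≃* G'` -/
theorem card_gen_fibre {G' : Type*} [Group G'] (X : Subgroup H) (e : X ≃* G') (a : H)
    (haX : a ∈ X) (k : ℕ) :
    Nat.card {b : H // orderOf b = k ∧ closure ({a, b} : Set H) = X} =
      Nat.card {b' : G' // orderOf b' = k ∧ closure ({e ⟨a, haX⟩, b'} : Set G') = ⊤} := by
  have hmemX : ∀ b : H, closure ({a, b} : Set H) = X → b ∈ X := by
    intro b hb
    rw [← hb]
    exact subset_closure (by simp)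
  refine Nat.card_congr ?_
  refine
    { toFun := fun b => ⟨e ⟨b.1, hmemX b.1 b.2.2⟩, ?_, ?_⟩
      invFun := fun b' => ⟨((e.symm b'.1 : X) : H), ?_, ?_⟩
      left_inv := ?_
      right_inv := ?_ }
  · rw [MulEquiv.orderOf_eq]
    exact (Subgroup.orderOf_mk b.1 (hmemX b.1 b.2.2)).trans b.2.1
  · have h1 := (closure_pair_eq_iff_top X haX (hmemX b.1 b.2.2)).mp b.2.2
    exact (closure_pair_eq_top_iff_of_mulEquiv e _ _).mp h1
  · rw [Subgroup.orderOf_coe, MulEquiv.orderOf_eq]
    exact b'.2.1
  · have h1 : closure ({e ⟨a, haX⟩, e (e.symm b'.1)} : Set G') = ⊤ := by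
      rw [MulEquiv.apply_symm_apply]; exact b'.2.2
    have h2 := (closure_pair_eq_top_iff_of_mulEquiv e _ _).mpr h1
    exact (closure_pair_eq_iff_top X haX (e.symm b'.1).2).mpr h2
  · intro b
    apply Subtype.ext
    simp
  · intro b'
    apply Subtype.ext
    simp

end D2a

end Cfsg.Agent.Lib.H7.ZasD2
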