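import Mathlib
import Cfsg.Agent.Lib.H7.ZasD2a

/-!
# Zassenhaus block D2 (helper7): fibre counting lemmas
-/

namespace Cfsg.Agent.Lib.H7.ZasD2

open Subgroup

section D2b

variable {H : Type*} [Group H] [Finite H]

/-- fibring `{b | orderOf b = k ∧ τ (closure {a,b})}` over the subgroups `X ∋ a` of type `τ` -/
theorem card_type_fibres (a : H) (k c : ℕ) (τ : Subgroup H → Prop)
    (hc : ∀ X : Subgroup H, a ∈ X → τ X →
      Nat.card {b : H // orderOf b = k ∧ closure ({a, b} : Set H) = X} = c) :
    Nat.card {b : H // orderOf b = k ∧ τ (closure ({a, b} : Set H))} =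
      c * Nat.card {X : Subgroup H // a ∈ X ∧ τ X} := by
  classical
  letI : Fintype {X : Subgroup H // a ∈ X ∧ τ X} := Fintype.ofFinite _
  have e : {b : H // orderOf b = k ∧ τ (closure ({a, b} : Set H))} ≃
      Σ X : {X : Subgroup H // a ∈ X ∧ τ X},
        {b : H // orderOf b = k ∧ closure ({a, b} : Set H) = X.1} :=
    { toFun := fun b => ⟨⟨closure ({a, b.1} : Set H), subset_closure (by simp), b.2.2⟩,
        ⟨b.1, b.2.1, rfl⟩⟩
      invFun := fun p => ⟨p.2.1, p.2.2.1, by rw [p.2.2.2]; exact p.1.2.2⟩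
      left_inv := fun b => rfl
      right_inv := by
        rintro ⟨⟨X, hX⟩, ⟨b, hb⟩⟩
        have hb2 : closure ({a, b} : Set H) = X := hb.2
        subst hb2
        rfl }
  rw [Nat.card_congr e, Nat.card_sigma]
  rw [Finset.sum_congr rfl (fun X _ => hc X.1 X.2.1 X.2.2)]
  rw [Finset.sum_const, Finset.card_univ, smul_eq_mul, mul_comm, Nat.card_eq_fintype_card]

/-- two-way split of a counted set -/
theorem card_split {α : Type*} [Finite α] (P Q : α → Prop) :
    Nat.card {b : α // P b} = Nat.card {b : α // P b ∧ Q b} + Nat.card {b : α // P b ∧ ¬ Q b} := by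
  classical
  letI : Fintype α := Fintype.ofFinite α
  simp only [Nat.card_eq_fintype_card, Fintype.card_subtype]
  rw [← Finset.filter_filter, ← Finset.filter_filter]
  exact (Finset.card_filter_add_card_filter_not _).symm

/-- elements of order `3` in `zpowers a`, `orderOf a = 3` -/
theorem card_order_three_zpowers {a : H} (ha : orderOf a = 3) :
    Nat.card {b : H // orderOf b = 3 ∧ b ∈ zpowers a} = 2 := by
  classical
  have e : {b : H // orderOf b = 3 ∧ b ∈ zpowers a} ≃ {x : zpowers a // orderOf x = 3} :=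
    { toFun := fun b => ⟨⟨b.1, b.2.2⟩, (Subgroup.orderOf_mk _ _).trans b.2.1⟩
      invFun := fun x => ⟨x.1.1, by rw [Subgroup.orderOf_coe]; exact x.2, x.1.2⟩
      left_inv := fun b => rfl
      right_inv := fun x => rfl }
  rw [Nat.card_congr e]
  letI : Fintype (zpowers a) := Fintype.ofFinite _
  have hcard : Fintype.card (zpowers a) = 3 := by
    rw [← Nat.card_eq_fintype_card, Nat.card_zpowers, ha]
  have h := IsCyclic.card_orderOf_eq_totient (α := zpowers a) (d := 3) (by rw [hcard])
  rw [Nat.card_eq_fintype_card, Fintype.card_subtype]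
  rw [h]
  decide

/-- if `j` normalizes `zpowers a` (`orderOf a = 3`, `orderOf j = 2`), `closure {a, j}` has order
dividing `6` -/
theorem card_closure_dvd_six {a j : H} (ha : orderOf a = 3) (hj : orderOf j = 2)
    (hja : j * a * j⁻¹ ∈ zpowers a) : Nat.card (closure ({a, j} : Set H)) ∣ 6 := by
  set K : Subgroup H := zpowers a with hK
  set J : Subgroup H := zpowers j with hJ
  have hJK : J ≤ normalizer (K : Set H) := by
    rw [hJ, zpowers_le]
    -- `j` normalizes `zpowers a`
    have hsub : ∀ x ∈ K, j * x * j⁻¹ ∈ K := by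
      intro x hx
      obtain ⟨i, rfl⟩ := mem_zpowers_iff.mp hx
      have : j * a ^ i * j⁻¹ = (j * a * j⁻¹) ^ i := by
        rw [conj_zpow]
      rw [this]
      exact zpow_mem hja i
    -- equality by finiteness
    have hmap : K.map (MulAut.conj j).toMonoidHom ≤ K := by
      rintro _ ⟨x, hx, rfl⟩
      exact hsub x hx
    have hcard : Nat.card (K.map (MulAut.conj j).toMonoidHom) = Nat.card K :=
      Nat.card_congr (K.equivMapOfInjective _ (MulAut.conj j).injective).toEquiv.symm
    have heq : K.map (MulAut.conj j).toMonoidHom = K :=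
      Subgroup.eq_of_le_of_card_ge hmap (le_of_eq hcard.symm)
    rw [Subgroup.mem_normalizer_iff]
    intro x
    constructor
    · intro hx; exact hsub x hx
    · intro hx
      have : j * x * j⁻¹ ∈ K.map (MulAut.conj j).toMonoidHom := by rw [heq]; exact hx
      obtain ⟨y, hy, hyx⟩ := this
      have hyx' : j * y * j⁻¹ = j * x * j⁻¹ := hyx
      have : y = x := by
        have := congrArg (fun z => j⁻¹ * z * j) hyx'
        simpa [mul_assoc] using this
      rw [← this]; exact hy
  set M : Subgroup H := J ⊔ K with hM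
  haveI : (K.subgroupOf M).Normal := normal_subgroupOf_sup_of_le_normalizer hJK
  have hsup : (J.subgroupOf M) ⊔ (K.subgroupOf M) = ⊤ := by
    rw [← Subgroup.subgroupOf_sup le_sup_left le_sup_right]
    exact Subgroup.subgroupOf_self M
  have h1 : (K.subgroupOf M).relIndex (J.subgroupOf M ⊔ K.subgroupOf M) =
      (K.subgroupOf M).relIndex (J.subgroupOf M) := Subgroup.relIndex_sup_right _ _
  rw [hsup, Subgroup.relIndex_top_right] at h1
  have h2 : (K.subgroupOf M).relIndex (J.subgroupOf M) ∣ Nat.card (J.subgroupOf M) :=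
    Subgroup.relIndex_dvd_card _ _
  have hJc : Nat.card (J.subgroupOf M) = 2 := by
    rw [Nat.card_congr (Subgroup.subgroupOfEquivOfLe (le_sup_left : J ≤ M)).toEquiv, hJ,
      Nat.card_zpowers, hj]
  have hKc : Nat.card (K.subgroupOf M) = 3 := by
    rw [Nat.card_congr (Subgroup.subgroupOfEquivOfLe (le_sup_right : K ≤ M)).toEquiv, hK,
      Nat.card_zpowers, ha]
  have hMc : Nat.card M = 3 * (K.subgroupOf M).index := by
    rw [← hKc]
    exact (Subgroup.card_mul_index (K.subgroupOf M)).symm
  have hM6 : Nat.card M ∣ 6 := by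
    rw [hMc, h1]
    rw [hJc] at h2
    have : (6 : ℕ) = 3 * 2 := rfl
    rw [this]
    exact Nat.mul_dvd_mul_left 3 h2
  have hle : closure ({a, j} : Set H) ≤ M := by
    rw [closure_le]
    intro x hx
    rcases hx with rfl | rfl
    · exact (le_sup_right : K ≤ M) (mem_zpowers _)
    · exact (le_sup_left : J ≤ M) (mem_zpowers _)
  exact (Subgroup.card_dvd_of_le hle).trans hM6

end D2b

end Cfsg.Agent.Lib.H7.ZasD2
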