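import Mathlib
import Cfsg.Agent.Lib.H7.ZasD2b
import Cfsg.Agent.Lib.H9.A5FactsB

/-!
# Zassenhaus block D2 (helper7): the counting identities `count_three_of`, `count_two_of`
in hypothesis form (D1 conclusions and the `A₄`/`S₄` fibre sizes as hypotheses).
-/

namespace Cfsg.Agent.Lib.H7.ZasD2

open Subgroup

variable {H : Type*} [Group H]

theorem card_alt_four : Nat.card (alternatingGroup (Fin 4)) = 12 := by
  rw [Nat.card_eq_fintype_card]
  have h := two_mul_card_alternatingGroup (α := Fin 4)
  rw [Fintype.card_perm, Fintype.card_fin] at h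
  have : (4 : ℕ).factorial = 24 := by decide
  omega

theorem card_alt_five : Nat.card (alternatingGroup (Fin 5)) = 60 := by
  rw [Nat.card_eq_fintype_card]
  have h := two_mul_card_alternatingGroup (α := Fin 5)
  rw [Fintype.card_perm, Fintype.card_fin] at h
  have : (5 : ℕ).factorial = 120 := by decide
  omega

theorem card_perm_four : Nat.card (Equiv.Perm (Fin 4)) = 24 := by
  rw [Nat.card_eq_fintype_card, Fintype.card_perm, Fintype.card_fin]
  decide

theorem closure_pair_of_mem_zpowers {a b : H} (hb : b ∈ zpowers a) :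
    closure ({a, b} : Set H) = zpowers a := by
  apply le_antisymm
  · rw [closure_le]
    intro x hx
    rcases hx with rfl | rfl
    · exact mem_zpowers _
    · exact hb
  · rw [zpowers_le]
    exact subset_closure (by simp)

theorem card_closure_of_mem_zpowers {a b : H} (ha : orderOf a = 3) (hb : b ∈ zpowers a) :
    Nat.card (closure ({a, b} : Set H)) = 3 := by
  rw [closure_pair_of_mem_zpowers hb, Nat.card_zpowers, ha]

end Cfsg.Agent.Lib.H7.ZasD2

namespace Cfsg.Agent.Lib.H25.Zas

open Subgroup Cfsg.Agent.Lib.H7.ZasD2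

section D2

variable {H : Type*} [Group H] [Finite H]

/-- BLOCK D2, elements of order three, hypothesis form -/
theorem count_three_of {a : H} (ha : orderOf a = 3)
    (h4 : ∀ a' : alternatingGroup (Fin 4), orderOf a' = 3 →
      Nat.card {b : alternatingGroup (Fin 4) // orderOf b = 3 ∧
        closure ({a', b} : Set (alternatingGroup (Fin 4))) = ⊤} = 6)
    (hD3 : ∀ b : H, orderOf b = 3 → b ∉ zpowers a →
      Nonempty (closure ({a, b} : Set H) ≃* alternatingGroup (Fin 4)) ∨
      Nonempty (closure ({a, b} : Set H) ≃* alternatingGroup (Fin 5))) :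
    Nat.card {b : H // orderOf b = 3} =
      2 + 6 * Nat.card {X : Subgroup H // a ∈ X ∧ Nonempty (X ≃* alternatingGroup (Fin 4))}
        + 6 * Nat.card {X : Subgroup H // a ∈ X ∧ Nonempty (X ≃* alternatingGroup (Fin 5))} := by
  -- fibre sizes
  have hf4 : Nat.card {b : H // orderOf b = 3 ∧
        Nonempty (closure ({a, b} : Set H) ≃* alternatingGroup (Fin 4))} =
      6 * Nat.card {X : Subgroup H // a ∈ X ∧ Nonempty (X ≃* alternatingGroup (Fin 4))} := by
    apply card_type_fibres a 3 6 (fun X => Nonempty (X ≃* alternatingGroup (Fin 4)))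
    rintro X haX ⟨e⟩
    rw [card_gen_fibre X e a haX 3]
    apply h4
    rw [MulEquiv.orderOf_eq, Subgroup.orderOf_mk, ha]
  have hf5 : Nat.card {b : H // orderOf b = 3 ∧
        Nonempty (closure ({a, b} : Set H) ≃* alternatingGroup (Fin 5))} =
      6 * Nat.card {X : Subgroup H // a ∈ X ∧ Nonempty (X ≃* alternatingGroup (Fin 5))} := by
    apply card_type_fibres a 3 6 (fun X => Nonempty (X ≃* alternatingGroup (Fin 5)))
    rintro X haX ⟨e⟩
    rw [card_gen_fibre X e a haX 3]
    apply Cfsg.Agent.Lib.H9.A5Facts.a5_gen_three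
    rw [MulEquiv.orderOf_eq, Subgroup.orderOf_mk, ha]
  -- type facts
  have t4 : ∀ b : H, Nonempty (closure ({a, b} : Set H) ≃* alternatingGroup (Fin 4)) →
      Nat.card (closure ({a, b} : Set H)) = 12 := by
    rintro b ⟨e⟩; rw [Nat.card_congr e.toEquiv, card_alt_four]
  have t5 : ∀ b : H, Nonempty (closure ({a, b} : Set H) ≃* alternatingGroup (Fin 5)) →
      Nat.card (closure ({a, b} : Set H)) = 60 := by
    rintro b ⟨e⟩; rw [Nat.card_congr e.toEquiv, card_alt_five]
  rw [card_split (fun b : H => orderOf b = 3) (fun b => b ∈ zpowers a),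
    card_order_three_zpowers ha,
    card_split (fun b : H => orderOf b = 3 ∧ b ∉ zpowers a)
      (fun b => Nonempty (closure ({a, b} : Set H) ≃* alternatingGroup (Fin 4)))]
  have e1 : {b : H // (orderOf b = 3 ∧ b ∉ zpowers a) ∧
        Nonempty (closure ({a, b} : Set H) ≃* alternatingGroup (Fin 4))} ≃
      {b : H // orderOf b = 3 ∧
        Nonempty (closure ({a, b} : Set H) ≃* alternatingGroup (Fin 4))} :=
    Equiv.subtypeEquivRight (fun b => by
      constructor
      · rintro ⟨⟨h1, _⟩, h3⟩; exact ⟨h1, h3⟩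
      · rintro ⟨h1, h3⟩
        refine ⟨⟨h1, ?_⟩, h3⟩
        intro hb
        have := t4 b h3
        rw [card_closure_of_mem_zpowers ha hb] at this
        omega)
  have e2 : {b : H // (orderOf b = 3 ∧ b ∉ zpowers a) ∧
        ¬ Nonempty (closure ({a, b} : Set H) ≃* alternatingGroup (Fin 4))} ≃
      {b : H // orderOf b = 3 ∧
        Nonempty (closure ({a, b} : Set H) ≃* alternatingGroup (Fin 5))} :=
    Equiv.subtypeEquivRight (fun b => by
      constructor
      · rintro ⟨⟨h1, h2⟩, h3⟩
        rcases hD3 b h1 h2 with h | h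
        · exact absurd h h3
        · exact ⟨h1, h⟩
      · rintro ⟨h1, h3⟩
        refine ⟨⟨h1, ?_⟩, ?_⟩
        · intro hb
          have := t5 b h3
          rw [card_closure_of_mem_zpowers ha hb] at this
          omega
        · intro h4'
          have h12 := t4 b h4'
          have h60 := t5 b h3
          omega)
  rw [Nat.card_congr e1, Nat.card_congr e2, hf4, hf5]
  ring

/-- BLOCK D2, involutions, hypothesis form -/
theorem count_two_of {a : H} (ha : orderOf a = 3)
    (h4 : ∀ a' : alternatingGroup (Fin 4), orderOf a' = 3 →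
      Nat.card {j : alternatingGroup (Fin 4) // orderOf j = 2 ∧
        closure ({a', j} : Set (alternatingGroup (Fin 4))) = ⊤} = 3)
    (hS : ∀ a' : Equiv.Perm (Fin 4), orderOf a' = 3 →
      Nat.card {j : Equiv.Perm (Fin 4) // orderOf j = 2 ∧
        closure ({a', j} : Set (Equiv.Perm (Fin 4))) = ⊤} = 3)
    (hD2 : ∀ j : H, orderOf j = 2 → j * a * j⁻¹ ∉ zpowers a →
      Nonempty (closure ({a, j} : Set H) ≃* alternatingGroup (Fin 4)) ∨
      Nonempty (closure ({a, j} : Set H) ≃* Equiv.Perm (Fin 4)) ∨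
      Nonempty (closure ({a, j} : Set H) ≃* alternatingGroup (Fin 5))) :
    Nat.card {j : H // orderOf j = 2} =
      Nat.card {j : H // orderOf j = 2 ∧ j * a * j⁻¹ ∈ zpowers a}
        + 3 * Nat.card {X : Subgroup H // a ∈ X ∧ Nonempty (X ≃* alternatingGroup (Fin 4))}
        + 3 * Nat.card {X : Subgroup H // a ∈ X ∧ Nonempty (X ≃* Equiv.Perm (Fin 4))}
        + 6 * Nat.card {X : Subgroup H // a ∈ X ∧ Nonempty (X ≃* alternatingGroup (Fin 5))} := by
  have hf4 : Nat.card {b : H // orderOf b = 2 ∧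
        Nonempty (closure ({a, b} : Set H) ≃* alternatingGroup (Fin 4))} =
      3 * Nat.card {X : Subgroup H // a ∈ X ∧ Nonempty (X ≃* alternatingGroup (Fin 4))} := by
    apply card_type_fibres a 2 3 (fun X => Nonempty (X ≃* alternatingGroup (Fin 4)))
    rintro X haX ⟨e⟩
    rw [card_gen_fibre X e a haX 2]
    apply h4
    rw [MulEquiv.orderOf_eq, Subgroup.orderOf_mk, ha]
  have hfS : Nat.card {b : H // orderOf b = 2 ∧
        Nonempty (closure ({a, b} : Set H) ≃* Equiv.Perm (Fin 4))} =
      3 * Nat.card {X : Subgroup H // a ∈ X ∧ Nonempty (X ≃* Equiv.Perm (Fin 4))} := by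
    apply card_type_fibres a 2 3 (fun X => Nonempty (X ≃* Equiv.Perm (Fin 4)))
    rintro X haX ⟨e⟩
    rw [card_gen_fibre X e a haX 2]
    apply hS
    rw [MulEquiv.orderOf_eq, Subgroup.orderOf_mk, ha]
  have hf5 : Nat.card {b : H // orderOf b = 2 ∧
        Nonempty (closure ({a, b} : Set H) ≃* alternatingGroup (Fin 5))} =
      6 * Nat.card {X : Subgroup H // a ∈ X ∧ Nonempty (X ≃* alternatingGroup (Fin 5))} := by
    apply card_type_fibres a 2 6 (fun X => Nonempty (X ≃* alternatingGroup (Fin 5)))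
    rintro X haX ⟨e⟩
    rw [card_gen_fibre X e a haX 2]
    apply Cfsg.Agent.Lib.H9.A5Facts.a5_gen_two
    rw [MulEquiv.orderOf_eq, Subgroup.orderOf_mk, ha]
  have t4 : ∀ b : H, Nonempty (closure ({a, b} : Set H) ≃* alternatingGroup (Fin 4)) →
      Nat.card (closure ({a, b} : Set H)) = 12 := by
    rintro b ⟨e⟩; rw [Nat.card_congr e.toEquiv, card_alt_four]
  have tS : ∀ b : H, Nonempty (closure ({a, b} : Set H) ≃* Equiv.Perm (Fin 4)) →
      Nat.card (closure ({a, b} : Set H)) = 24 := by
    rintro b ⟨e⟩; rw [Nat.card_congr e.toEquiv, card_perm_four]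
  have t5 : ∀ b : H, Nonempty (closure ({a, b} : Set H) ≃* alternatingGroup (Fin 5)) →
      Nat.card (closure ({a, b} : Set H)) = 60 := by
    rintro b ⟨e⟩; rw [Nat.card_congr e.toEquiv, card_alt_five]
  have t0 : ∀ j : H, orderOf j = 2 → j * a * j⁻¹ ∈ zpowers a →
      Nat.card (closure ({a, j} : Set H)) ∣ 6 := fun j hj hja => card_closure_dvd_six ha hj hja
  rw [card_split (fun j : H => orderOf j = 2) (fun j => j * a * j⁻¹ ∈ zpowers a),
    card_split (fun j : H => orderOf j = 2 ∧ j * a * j⁻¹ ∉ zpowers a)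
      (fun b => Nonempty (closure ({a, b} : Set H) ≃* alternatingGroup (Fin 4))),
    card_split (fun j : H => (orderOf j = 2 ∧ j * a * j⁻¹ ∉ zpowers a) ∧
        ¬ Nonempty (closure ({a, j} : Set H) ≃* alternatingGroup (Fin 4)))
      (fun b => Nonempty (closure ({a, b} : Set H) ≃* Equiv.Perm (Fin 4)))]
  have e1 : {b : H // (orderOf b = 2 ∧ b * a * b⁻¹ ∉ zpowers a) ∧
        Nonempty (closure ({a, b} : Set H) ≃* alternatingGroup (Fin 4))} ≃
      {b : H // orderOf b = 2 ∧
        Nonempty (closure ({a, b} : Set H) ≃* alternatingGroup (Fin 4))} :=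
    Equiv.subtypeEquivRight (fun b => by
      constructor
      · rintro ⟨⟨h1, _⟩, h3⟩; exact ⟨h1, h3⟩
      · rintro ⟨h1, h3⟩
        refine ⟨⟨h1, ?_⟩, h3⟩
        intro hb
        have h6 := t0 b h1 hb
        rw [t4 b h3] at h6
        omega)
  have e2 : {b : H // ((orderOf b = 2 ∧ b * a * b⁻¹ ∉ zpowers a) ∧
        ¬ Nonempty (closure ({a, b} : Set H) ≃* alternatingGroup (Fin 4))) ∧
        Nonempty (closure ({a, b} : Set H) ≃* Equiv.Perm (Fin 4))} ≃
      {b : H // orderOf b = 2 ∧
        Nonempty (closure ({a, b} : Set H) ≃* Equiv.Perm (Fin 4))} :=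
    Equiv.subtypeEquivRight (fun b => by
      constructor
      · rintro ⟨⟨⟨h1, _⟩, _⟩, h3⟩; exact ⟨h1, h3⟩
      · rintro ⟨h1, h3⟩
        refine ⟨⟨⟨h1, ?_⟩, ?_⟩, h3⟩
        · intro hb
          have h6 := t0 b h1 hb
          rw [tS b h3] at h6
          omega
        · intro h4'
          have h12 := t4 b h4'
          have h24 := tS b h3
          omega)
  have e3 : {b : H // ((orderOf b = 2 ∧ b * a * b⁻¹ ∉ zpowers a) ∧
        ¬ Nonempty (closure ({a, b} : Set H) ≃* alternatingGroup (Fin 4))) ∧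
        ¬ Nonempty (closure ({a, b} : Set H) ≃* Equiv.Perm (Fin 4))} ≃
      {b : H // orderOf b = 2 ∧
        Nonempty (closure ({a, b} : Set H) ≃* alternatingGroup (Fin 5))} :=
    Equiv.subtypeEquivRight (fun b => by
      constructor
      · rintro ⟨⟨⟨h1, h2⟩, h3⟩, h4'⟩
        rcases hD2 b h1 h2 with h | h | h
        · exact absurd h h3
        · exact absurd h h4'
        · exact ⟨h1, h⟩
      · rintro ⟨h1, h3⟩
        refine ⟨⟨⟨h1, ?_⟩, ?_⟩, ?_⟩
        · intro hb
          have h6 := t0 b h1 hb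
          rw [t5 b h3] at h6
          omega
        · intro h4'
          have h12 := t4 b h4'
          have h60 := t5 b h3
          omega
        · intro hS'
          have h24 := tS b hS'
          have h60 := t5 b h3
          omega)
  rw [Nat.card_congr e1, Nat.card_congr e2, Nat.card_congr e3, hf4, hfS, hf5]
  ring

end D2

end Cfsg.Agent.Lib.H25.Zas
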