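import Mathlib
import Cfsg.Agent.Lib.H7.ZasD2
import Cfsg.Agent.Lib.H9.A5FactsA

/-!
# Generation facts in `A₄` and `S₄` (helper7), for Zassenhaus block D2
-/

namespace Cfsg.Agent.Lib.H7.A4Facts

open Subgroup Equiv Cfsg.Agent.Lib.H7.ZasD2

local notation "A4" => alternatingGroup (Fin 4)
local notation "S4" => Equiv.Perm (Fin 4)

/-- a subgroup containing a duplicate-free list of more than half the group is everything -/
theorem eq_top_of_nodup {G : Type*} [Group G] [Finite G] (K : Subgroup G) (l : List G)
    (hl : l.Nodup) (hK : ∀ x ∈ l, x ∈ K) (hlen : Nat.card G < 2 * l.length) : K = ⊤ := by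
  classical
  have h1 : l.length ≤ Nat.card K := by
    have hs : (↑l.toFinset : Set G) ⊆ (K : Set G) := by
      intro x hx
      exact hK x (List.mem_toFinset.mp (Finset.mem_coe.mp hx))
    have := Set.ncard_le_ncard hs (Set.toFinite _)
    rw [Set.ncard_coe_finset, List.toFinset_card_of_nodup hl] at this
    exact this
  have h2 : Nat.card K ∣ Nat.card G := Subgroup.card_subgroup_dvd_card K
  have h3 : Nat.card G = Nat.card K :=
    Nat.eq_of_dvd_of_lt_two_mul Nat.card_pos.ne' h2 (by omega)
  exact (Subgroup.card_eq_iff_eq_top K).mp h3.symm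

set_option maxRecDepth 100000 in
theorem nodup3_dec : ∀ a b : A4, a * a * a = 1 → a ≠ 1 → b * b * b = 1 → b ≠ 1 → b ≠ a → b ≠ a⁻¹ →
    [1, a, b, a * a, a * b, b * a, b * b].Nodup := by decide

set_option maxRecDepth 100000 in
theorem nodup2_dec : ∀ a j : A4, a * a * a = 1 → a ≠ 1 → j * j = 1 → j ≠ 1 →
    [1, a, j, a * a, a * j, j * a, a * a * j].Nodup := by decide

set_option maxRecDepth 100000 in
set_option synthInstance.maxSize 2048 in
theorem nodupS_dec : ∀ a j : S4, a * a * a = 1 → a ≠ 1 → j * j = 1 → j ≠ 1 →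
    Perm.sign j = -1 → j * a * j⁻¹ ≠ a → j * a * j⁻¹ ≠ a⁻¹ →
    [1, a, j, a * a, a * j, j * a, a * a * j, a * j * a, j * a * a, j * a * j, a * a * j * a,
      a * j * a * a, a * j * a * j].Nodup := by decide

set_option maxRecDepth 100000 in
theorem count3_dec : ∀ a : A4, a * a * a = 1 → a ≠ 1 →
    Fintype.card {b : A4 // (b * b * b = 1 ∧ b ≠ 1) ∧ b ≠ a ∧ b ≠ a⁻¹} = 6 := by decide

set_option maxRecDepth 100000 in
theorem count2_dec : Fintype.card {j : A4 // j * j = 1 ∧ j ≠ 1} = 3 := by decide

set_option maxRecDepth 100000 in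
set_option synthInstance.maxSize 2048 in
theorem countS_dec : ∀ a : S4, a * a * a = 1 → a ≠ 1 →
    Fintype.card {j : S4 // (j * j = 1 ∧ j ≠ 1) ∧
      Perm.sign j = -1 ∧ j * a * j⁻¹ ≠ a ∧ j * a * j⁻¹ ≠ a⁻¹} = 3 := by decide


theorem orderOf_eq_two_iff'' {G : Type*} [Group G] (x : G) :
    orderOf x = 2 ↔ x * x = 1 ∧ x ≠ 1 := Cfsg.Agent.Lib.H9.A5Facts.orderOf_eq_two_iff' x

theorem orderOf_eq_three_iff'' {G : Type*} [Group G] (x : G) :
    orderOf x = 3 ↔ x * x * x = 1 ∧ x ≠ 1 := Cfsg.Agent.Lib.H9.A5Facts.orderOf_eq_three_iff' x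

theorem card_A4 : Nat.card A4 = 12 := card_alt_four

/-- in `A₄` two elements of order three generate everything iff they are not in the same
cyclic subgroup -/
theorem closure3_eq_top_iff (a b : A4) (ha : orderOf a = 3) (hb : orderOf b = 3) :
    closure ({a, b} : Set A4) = ⊤ ↔ b ≠ a ∧ b ≠ a⁻¹ := by
  have ha' := (orderOf_eq_three_iff'' a).mp ha
  have hb' := (orderOf_eq_three_iff'' b).mp hb
  constructor
  · intro h
    by_contra hcon
    have hmem : b ∈ zpowers a := by
      by_cases h1 : b = a
      · rw [h1]; exact mem_zpowers a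
      · have h2 : b = a⁻¹ := by
          by_contra h2
          exact hcon ⟨h1, h2⟩
        rw [h2]; exact inv_mem (mem_zpowers a)
    have h3 := card_closure_of_mem_zpowers ha hmem
    rw [h, Subgroup.card_top, card_A4] at h3
    omega
  · rintro ⟨h1, h2⟩
    have hnd := nodup3_dec a b ha'.1 ha'.2 hb'.1 hb'.2 h1 h2
    have hamem : a ∈ closure ({a, b} : Set A4) := subset_closure (by simp)
    have hbmem : b ∈ closure ({a, b} : Set A4) := subset_closure (by simp)
    apply eq_top_of_nodup _ _ hnd
    · intro x hx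
      simp only [List.mem_cons, List.not_mem_nil, or_false] at hx
      rcases hx with rfl | rfl | rfl | rfl | rfl | rfl | rfl
      · exact one_mem _
      · exact hamem
      · exact hbmem
      · exact mul_mem hamem hamem
      · exact mul_mem hamem hbmem
      · exact mul_mem hbmem hamem
      · exact mul_mem hbmem hbmem
    · rw [card_A4]; simp

/-- in `A₄` an element of order three and an involution always generate everything -/
theorem closure2_eq_top (a j : A4) (ha : orderOf a = 3) (hj : orderOf j = 2) :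
    closure ({a, j} : Set A4) = ⊤ := by
  have ha' := (orderOf_eq_three_iff'' a).mp ha
  have hj' := (orderOf_eq_two_iff'' j).mp hj
  have hnd := nodup2_dec a j ha'.1 ha'.2 hj'.1 hj'.2
  have hamem : a ∈ closure ({a, j} : Set A4) := subset_closure (by simp)
  have hjmem : j ∈ closure ({a, j} : Set A4) := subset_closure (by simp)
  apply eq_top_of_nodup _ _ hnd
  · intro x hx
    simp only [List.mem_cons, List.not_mem_nil, or_false] at hx
    rcases hx with rfl | rfl | rfl | rfl | rfl | rfl | rfl
    · exact one_mem _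
    · exact hamem
    · exact hjmem
    · exact mul_mem hamem hamem
    · exact mul_mem hamem hjmem
    · exact mul_mem hjmem hamem
    · exact mul_mem (mul_mem hamem hamem) hjmem
  · rw [card_A4]; simp

/-- (A4, order three) -/
theorem a4_gen_three (a : A4) (ha : orderOf a = 3) :
    Nat.card {b : A4 // orderOf b = 3 ∧ closure ({a, b} : Set A4) = ⊤} = 6 := by
  have ha' := (orderOf_eq_three_iff'' a).mp ha
  have e : {b : A4 // orderOf b = 3 ∧ closure ({a, b} : Set A4) = ⊤} ≃
      {b : A4 // (b * b * b = 1 ∧ b ≠ 1) ∧ b ≠ a ∧ b ≠ a⁻¹} :=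
    Equiv.subtypeEquivRight (fun b => by
      constructor
      · rintro ⟨h1, h2⟩
        exact ⟨(orderOf_eq_three_iff'' b).mp h1, (closure3_eq_top_iff a b ha h1).mp h2⟩
      · rintro ⟨h1, h2⟩
        have hb := (orderOf_eq_three_iff'' b).mpr h1
        exact ⟨hb, (closure3_eq_top_iff a b ha hb).mpr h2⟩)
  rw [Nat.card_congr e, Nat.card_eq_fintype_card]
  exact count3_dec a ha'.1 ha'.2

/-- (A4, involutions) -/
theorem a4_gen_two (a : A4) (ha : orderOf a = 3) :
    Nat.card {j : A4 // orderOf j = 2 ∧ closure ({a, j} : Set A4) = ⊤} = 3 := by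
  have e : {j : A4 // orderOf j = 2 ∧ closure ({a, j} : Set A4) = ⊤} ≃
      {j : A4 // j * j = 1 ∧ j ≠ 1} :=
    Equiv.subtypeEquivRight (fun j => by
      constructor
      · rintro ⟨h1, _⟩
        exact (orderOf_eq_two_iff'' j).mp h1
      · intro h1
        have hj := (orderOf_eq_two_iff'' j).mpr h1
        exact ⟨hj, closure2_eq_top a j ha hj⟩)
  rw [Nat.card_congr e, Nat.card_eq_fintype_card]
  exact count2_dec

/-- in `S₄`: an element of order three and an involution generate everything iff the involution is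
odd and does not normalize the cyclic group -/
theorem closureS_eq_top_iff (a j : S4) (ha : orderOf a = 3) (hj : orderOf j = 2) :
    closure ({a, j} : Set S4) = ⊤ ↔
      Perm.sign j = -1 ∧ j * a * j⁻¹ ≠ a ∧ j * a * j⁻¹ ≠ a⁻¹ := by
  have ha' := (orderOf_eq_three_iff'' a).mp ha
  have hj' := (orderOf_eq_two_iff'' j).mp hj
  constructor
  · intro h
    refine ⟨?_, ?_, ?_⟩
    · -- `j` even would put the closure inside the alternating group
      by_contra hs
      have hs1 : Perm.sign j = 1 := by
        rcases Int.units_eq_one_or (Perm.sign j) with h1 | h1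
        · exact h1
        · exact absurd h1 hs
      have hsa : Perm.sign a = 1 := by
        have h3 : Perm.sign a ^ 3 = 1 := by
          rw [← map_pow, pow_three, ← mul_assoc, ha'.1, map_one]
        rcases Int.units_eq_one_or (Perm.sign a) with h1 | h1
        · exact h1
        · rw [h1] at h3
          exact absurd h3 (by decide)
      have hle : closure ({a, j} : Set S4) ≤ alternatingGroup (Fin 4) := by
        rw [closure_le]
        intro x hx
        rcases hx with rfl | rfl
        · exact Perm.mem_alternatingGroup.mpr hsa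
        · exact Perm.mem_alternatingGroup.mpr hs1
      rw [h] at hle
      have hodd : (Equiv.swap (0 : Fin 4) 1) ∈ alternatingGroup (Fin 4) := hle (mem_top _)
      rw [Perm.mem_alternatingGroup, Perm.sign_swap (by decide)] at hodd
      exact absurd hodd (by decide)
    · intro hc
      have hmem : j * a * j⁻¹ ∈ zpowers a := by rw [hc]; exact mem_zpowers a
      have h6 := card_closure_dvd_six ha hj hmem
      rw [h, Subgroup.card_top, card_perm_four] at h6
      omega
    · intro hc
      have hmem : j * a * j⁻¹ ∈ zpowers a := by rw [hc]; exact inv_mem (mem_zpowers a)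
      have h6 := card_closure_dvd_six ha hj hmem
      rw [h, Subgroup.card_top, card_perm_four] at h6
      omega
  · rintro ⟨h1, h2, h3⟩
    have hnd := nodupS_dec a j ha'.1 ha'.2 hj'.1 hj'.2 h1 h2 h3
    have hamem : a ∈ closure ({a, j} : Set S4) := subset_closure (by simp)
    have hjmem : j ∈ closure ({a, j} : Set S4) := subset_closure (by simp)
    apply eq_top_of_nodup _ _ hnd
    · intro x hx
      simp only [List.mem_cons, List.not_mem_nil, or_false] at hx
      rcases hx with rfl | rfl | rfl | rfl | rfl | rfl | rfl | rfl | rfl | rfl | rfl | rfl | rfl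
      · exact one_mem _
      · exact hamem
      · exact hjmem
      · exact mul_mem hamem hamem
      · exact mul_mem hamem hjmem
      · exact mul_mem hjmem hamem
      · exact mul_mem (mul_mem hamem hamem) hjmem
      · exact mul_mem (mul_mem hamem hjmem) hamem
      · exact mul_mem (mul_mem hjmem hamem) hamem
      · exact mul_mem (mul_mem hjmem hamem) hjmem
      · exact mul_mem (mul_mem (mul_mem hamem hamem) hjmem) hamem
      · exact mul_mem (mul_mem (mul_mem hamem hjmem) hamem) hamem
      · exact mul_mem (mul_mem (mul_mem hamem hjmem) hamem) hjmem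
    · rw [card_perm_four]; simp

/-- (S4, involutions) -/
theorem s4_gen_two (a : S4) (ha : orderOf a = 3) :
    Nat.card {j : S4 // orderOf j = 2 ∧ closure ({a, j} : Set S4) = ⊤} = 3 := by
  have ha' := (orderOf_eq_three_iff'' a).mp ha
  have e : {j : S4 // orderOf j = 2 ∧ closure ({a, j} : Set S4) = ⊤} ≃
      {j : S4 // (j * j = 1 ∧ j ≠ 1) ∧
        Perm.sign j = -1 ∧ j * a * j⁻¹ ≠ a ∧ j * a * j⁻¹ ≠ a⁻¹} :=
    Equiv.subtypeEquivRight (fun j => by
      constructor
      · rintro ⟨h1, h2⟩
        exact ⟨(orderOf_eq_two_iff'' j).mp h1, (closureS_eq_top_iff a j ha h1).mp h2⟩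
      · rintro ⟨h1, h2⟩
        have hj := (orderOf_eq_two_iff'' j).mpr h1
        exact ⟨hj, (closureS_eq_top_iff a j ha hj).mpr h2⟩)
  rw [Nat.card_congr e, Nat.card_eq_fintype_card]
  exact countS_dec a ha'.1 ha'.2

end Cfsg.Agent.Lib.H7.A4Facts
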