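import Mathlib
import Cfsg.Agent.Lib.H7.ZasD2
import Cfsg.Agent.Lib.H7.A4Facts

/-!
# Zassenhaus block D2 (helper7): final hypothesis form (only the D1 conclusions as hypotheses)
-/

namespace Cfsg.Agent.Lib.H25.Zas

open Subgroup

variable {H : Type*} [Group H] [Finite H]

/-- BLOCK D2 (order three), with the D1 conclusion `hD3` as the only hypothesis -/
theorem count_three_of' {a : H} (ha : orderOf a = 3)
    (hD3 : ∀ b : H, orderOf b = 3 → b ∉ zpowers a →
      Nonempty (closure ({a, b} : Set H) ≃* alternatingGroup (Fin 4)) ∨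
      Nonempty (closure ({a, b} : Set H) ≃* alternatingGroup (Fin 5))) :
    Nat.card {b : H // orderOf b = 3} =
      2 + 6 * Nat.card {X : Subgroup H // a ∈ X ∧ Nonempty (X ≃* alternatingGroup (Fin 4))}
        + 6 * Nat.card {X : Subgroup H // a ∈ X ∧ Nonempty (X ≃* alternatingGroup (Fin 5))} :=
  count_three_of ha Cfsg.Agent.Lib.H7.A4Facts.a4_gen_three hD3

/-- BLOCK D2 (involutions), with the D1 conclusion `hD2` as the only hypothesis -/
theorem count_two_of' {a : H} (ha : orderOf a = 3)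
    (hD2 : ∀ j : H, orderOf j = 2 → j * a * j⁻¹ ∉ zpowers a →
      Nonempty (closure ({a, j} : Set H) ≃* alternatingGroup (Fin 4)) ∨
      Nonempty (closure ({a, j} : Set H) ≃* Equiv.Perm (Fin 4)) ∨
      Nonempty (closure ({a, j} : Set H) ≃* alternatingGroup (Fin 5))) :
    Nat.card {j : H // orderOf j = 2} =
      Nat.card {j : H // orderOf j = 2 ∧ j * a * j⁻¹ ∈ zpowers a}
        + 3 * Nat.card {X : Subgroup H // a ∈ X ∧ Nonempty (X ≃* alternatingGroup (Fin 4))}
        + 3 * Nat.card {X : Subgroup H // a ∈ X ∧ Nonempty (X ≃* Equiv.Perm (Fin 4))}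
        + 6 * Nat.card {X : Subgroup H // a ∈ X ∧ Nonempty (X ≃* alternatingGroup (Fin 5))} :=
  count_two_of ha Cfsg.Agent.Lib.H7.A4Facts.a4_gen_two Cfsg.Agent.Lib.H7.A4Facts.s4_gen_two hD2

end Cfsg.Agent.Lib.H25.Zas
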