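import Mathlib
import Cfsg.Agent.Lib.H26.TwoMinDefs
import Cfsg.Agent.Lib.H1.PGroupBasic

set_option autoImplicit false
open scoped commutatorElement

/-!
# S4409 piece GEN1 (helper7): squares and commutators are central for a minimal action with `⁅Y, A⁆ = Y`.
-/

namespace Cfsg.Agent.Lib.H7.TwoMin

open Cfsg.Agent.Lib.H26.TwoMin

variable {G : Type*} [Group G]

/-- the set of squares and commutators of `Y` -/
def sqComSet (Y : Subgroup G) : Set G :=
  {d | (∃ x ∈ Y, d = x ^ 2) ∨ ∃ x ∈ Y, ∃ y ∈ Y, d = ⁅x, y⁆}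

theorem sqComSet_conj {Y : Subgroup G} {n : G} (hn : ∀ y ∈ Y, n * y * n⁻¹ ∈ Y) :
    ∀ d ∈ sqComSet Y, n * d * n⁻¹ ∈ sqComSet Y := by
  rintro d (⟨x, hx, rfl⟩ | ⟨x, hx, y, hy, rfl⟩)
  · left
    refine ⟨n * x * n⁻¹, hn x hx, ?_⟩
    simp only [pow_two]; group
  · right
    refine ⟨n * x * n⁻¹, hn x hx, n * y * n⁻¹, hn y hy, ?_⟩
    simp only [commutatorElement_def]; group

theorem closure_conj_mem {S : Set G} {n : G} (hS : ∀ s ∈ S, n * s * n⁻¹ ∈ S) :
    ∀ d ∈ Subgroup.closure S, n * d * n⁻¹ ∈ Subgroup.closure S := by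
  intro d hd
  induction hd using Subgroup.closure_induction with
  | mem x hx => exact Subgroup.subset_closure (hS x hx)
  | one => simp
  | mul x y _ _ hx hy =>
    have : n * (x * y) * n⁻¹ = (n * x * n⁻¹) * (n * y * n⁻¹) := by group
    rw [this]; exact Subgroup.mul_mem _ hx hy
  | inv x _ hx =>
    have : n * x⁻¹ * n⁻¹ = (n * x * n⁻¹)⁻¹ := by group
    rw [this]; exact Subgroup.inv_mem _ hx

theorem mem_normalizer_closure {S : Set G} {n : G} (hS : ∀ s ∈ S, n * s * n⁻¹ ∈ S)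
    (hS' : ∀ s ∈ S, n⁻¹ * s * n⁻¹⁻¹ ∈ S) :
    n ∈ Subgroup.normalizer ((Subgroup.closure S : Subgroup G) : Set G) := by
  rw [Subgroup.mem_normalizer_iff]
  intro d
  constructor
  · exact closure_conj_mem hS d
  · intro h
    have := closure_conj_mem hS' _ h
    have e : n⁻¹ * (n * d * n⁻¹) * n⁻¹⁻¹ = d := by group
    rwa [e] at this

theorem normalizer_conj_mem {Y : Subgroup G} {n : G} (hn : n ∈ Subgroup.normalizer (Y : Set G)) :
    (∀ y ∈ Y, n * y * n⁻¹ ∈ Y) ∧ (∀ y ∈ Y, n⁻¹ * y * n⁻¹⁻¹ ∈ Y) := by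
  constructor
  · intro y hy; exact (Subgroup.mem_normalizer_iff.mp hn y).mp hy
  · intro y hy
    have hn' : n⁻¹ ∈ Subgroup.normalizer (Y : Set G) := Subgroup.inv_mem _ hn
    exact (Subgroup.mem_normalizer_iff.mp hn' y).mp hy

theorem class_two_of_min [Finite G] {Y A : Subgroup G} (h2 : IsPGroup 2 ↥Y)
    (hAN : A ≤ Subgroup.normalizer (Y : Set G)) (hYA : ⁅Y, A⁆ = Y)
    (hmin : ∀ U : Subgroup G, U < Y → A ≤ Subgroup.normalizer (U : Set G) → A ≤ Subgroup.centralizer (U : Set G)) :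
    (∀ x ∈ Y, x ^ 2 ∈ Subgroup.centralizer (Y : Set G)) ∧
      (∀ x ∈ Y, ∀ y ∈ Y, ⁅x, y⁆ ∈ Subgroup.centralizer (Y : Set G)) := by
  classical
  set D : Subgroup G := Subgroup.closure (sqComSet Y) with hD
  have hSY : sqComSet Y ⊆ (Y : Set G) := by
    rintro d (⟨x, hx, rfl⟩ | ⟨x, hx, y, hy, rfl⟩)
    · exact Y.pow_mem hx 2
    · rw [commutatorElement_def]
      exact Y.mul_mem (Y.mul_mem (Y.mul_mem hx hy) (Y.inv_mem hx)) (Y.inv_mem hy)
  have hDY : D ≤ Y := (Subgroup.closure_le Y).mpr hSY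
  -- it suffices to show `D ≤ C(Y)`
  suffices hDC : D ≤ Subgroup.centralizer (Y : Set G) by
    refine ⟨fun x hx => hDC (Subgroup.subset_closure (Or.inl ⟨x, hx, rfl⟩)),
      fun x hx y hy => hDC (Subgroup.subset_closure (Or.inr ⟨x, hx, y, hy, rfl⟩))⟩
  by_cases hbot : Y = ⊥
  · intro d _
    rw [Subgroup.mem_centralizer_iff]
    intro y hy
    have : y = 1 := by rw [hbot] at hy; exact Subgroup.mem_bot.mp hy
    rw [this]; simp
  -- `D` is normalized by `N(Y)`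
  have hDN : Subgroup.normalizer (Y : Set G) ≤ Subgroup.normalizer (D : Set G) := by
    intro n hn
    obtain ⟨h1, h2'⟩ := normalizer_conj_mem hn
    exact mem_normalizer_closure (sqComSet_conj h1) (sqComSet_conj h2')
  -- `D` is proper in `Y`
  have hDlt : D < Y := by
    refine lt_of_le_of_ne hDY ?_
    intro hEq
    -- frattini of `↥Y` is proper and contains the preimage of `D`
    have : Fact (Nat.Prime 2) := ⟨Nat.prime_two⟩
    have : Nontrivial ↥Y := by
      rw [Subgroup.nontrivial_iff_ne_bot]; exact hbot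
    have hΦ : ∀ d ∈ sqComSet Y, ∀ hd : d ∈ Y, (⟨d, hd⟩ : ↥Y) ∈ frattini ↥Y := by
      rintro d (⟨x, hx, rfl⟩ | ⟨x, hx, y, hy, rfl⟩) hd
      · have := Cfsg.Agent.Lib.H1.isPGroup_pow_mem_frattini h2 (⟨x, hx⟩ : ↥Y)
        have e : (⟨x ^ 2, hd⟩ : ↥Y) = (⟨x, hx⟩ : ↥Y) ^ 2 := by
          apply Subtype.ext; simp
        rw [e]; exact this
      · have := Cfsg.Agent.Lib.H1.isPGroup_commutator_le_frattini h2
          (Subgroup.commutator_mem_commutator (Subgroup.mem_top (⟨x, hx⟩ : ↥Y))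
            (Subgroup.mem_top (⟨y, hy⟩ : ↥Y)))
        have e : (⟨⁅x, y⁆, hd⟩ : ↥Y) = ⁅(⟨x, hx⟩ : ↥Y), (⟨y, hy⟩ : ↥Y)⁆ := by
          apply Subtype.ext; simp [commutatorElement_def]
        rw [e]; exact this
    have hle : D ≤ (frattini ↥Y).map Y.subtype := by
      rw [hD, Subgroup.closure_le]
      intro d hd
      exact ⟨⟨d, hSY hd⟩, hΦ d hd (hSY hd), rfl⟩
    have htop : frattini ↥Y = ⊤ := by
      rw [eq_top_iff]
      intro y _
      have hy : (y : G) ∈ D := by rw [hEq]; exact y.2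
      obtain ⟨y', hy', hyy⟩ := hle hy
      have : y' = y := Subtype.ext hyy
      rw [← this]; exact hy'
    -- a nontrivial finite group has a coatom, which contains the Frattini subgroup
    obtain h | ⟨M, hM, _⟩ := IsCoatomic.eq_top_or_exists_le_coatom (⊥ : Subgroup ↥Y)
    · exact absurd h bot_ne_top
    · have := frattini_le_coatom hM
      rw [htop] at this
      exact hM.1 (top_le_iff.mp this)
  -- so `A` centralizes `D`
  have hAD : A ≤ Subgroup.centralizer (D : Set G) := hmin D hDlt (hAN.trans hDN)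
  have hAD' : ⁅A, D⁆ = ⊥ := by
    rw [Subgroup.commutator_eq_bot_iff_le_centralizer]; exact hAD
  have hDA' : ⁅D, A⁆ = ⊥ := by rw [Subgroup.commutator_comm]; exact hAD'
  -- `⁅D, Y⁆ ≤ D`
  have hDYD : ⁅D, Y⁆ ≤ D := by
    rw [Subgroup.commutator_le]
    intro d hd y hy
    have hyN : y ∈ Subgroup.normalizer (D : Set G) := hDN (Subgroup.le_normalizer hy)
    have h1 : y * d⁻¹ * y⁻¹ ∈ D := (Subgroup.mem_normalizer_iff.mp hyN d⁻¹).mp (D.inv_mem hd)
    have e : ⁅d, y⁆ = d * (y * d⁻¹ * y⁻¹) := by rw [commutatorElement_def]; group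
    rw [e]; exact D.mul_mem hd h1
  have h3 : ⁅⁅Y, A⁆, D⁆ = ⊥ := by
    apply Subgroup.commutator_commutator_eq_bot_of_rotate
    · rw [hAD']; exact Subgroup.commutator_bot_left Y
    · rw [eq_bot_iff]
      calc ⁅⁅D, Y⁆, A⁆ ≤ ⁅D, A⁆ := Subgroup.commutator_mono hDYD le_rfl
        _ = ⊥ := hDA'
  rw [hYA] at h3
  rw [Subgroup.commutator_comm, Subgroup.commutator_eq_bot_iff_le_centralizer] at h3
  exact h3

end Cfsg.Agent.Lib.H7.TwoMin
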