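import Mathlib
import Cfsg.Agent.Lib.H26.TwoMinDefs

set_option autoImplicit false
open scoped commutatorElement

/-!
# S4409 piece GEN2 (helper7): squares lie in the derived subgroup for `⁅Y, A⁆ = Y` with `A`-fixed squares.
-/

namespace Cfsg.Agent.Lib.H7.TwoMin

open Cfsg.Agent.Lib.H26.TwoMin

variable {G : Type*} [Group G]

/-- the subgroup of elements of `Y` whose square lies in `Y'` -/
def sqSub (Y : Subgroup G) : Subgroup G where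
  carrier := {y | y ∈ Y ∧ y ^ 2 ∈ ⁅Y, Y⁆}
  one_mem' := ⟨Y.one_mem, by simp⟩
  mul_mem' := by
    rintro x y ⟨hx, hx2⟩ ⟨hy, hy2⟩
    refine ⟨Y.mul_mem hx hy, ?_⟩
    have h : (x * y) ^ 2 = x ^ 2 * ⁅x⁻¹, y⁆ * y ^ 2 := by
      simp only [pow_two, commutatorElement_def]; group
    rw [h]
    exact Subgroup.mul_mem _ (Subgroup.mul_mem _ hx2
      (Subgroup.commutator_mem_commutator (Y.inv_mem hx) hy)) hy2
  inv_mem' := by
    rintro x ⟨hx, hx2⟩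
    refine ⟨Y.inv_mem hx, ?_⟩
    have h : (x⁻¹) ^ 2 = (x ^ 2)⁻¹ := by simp
    rw [h]; exact Subgroup.inv_mem _ hx2

theorem sq_mem_commutator_of_min {Y A : Subgroup G} (hAN : A ≤ Subgroup.normalizer (Y : Set G)) (hYA : ⁅Y, A⁆ = Y)
    (hsqc : ∀ x ∈ Y, x ^ 2 ∈ Subgroup.centralizer (Y : Set G))
    (hsqA : ∀ x ∈ Y, ∀ a ∈ A, a * x ^ 2 * a⁻¹ = x ^ 2) :
    ∀ x ∈ Y, x ^ 2 ∈ ⁅Y, Y⁆ := by
  have hle : ⁅Y, A⁆ ≤ sqSub Y := by
    rw [Subgroup.commutator_le]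
    intro y hy a ha
    have hy' : a * y⁻¹ * a⁻¹ ∈ Y := by
      have := (Subgroup.mem_normalizer_iff.mp (hAN ha) y⁻¹).mp (Y.inv_mem hy)
      exact this
    have hc : ⁅y, a⁆ = y * (a * y⁻¹ * a⁻¹) := by
      simp only [commutatorElement_def]; group
    refine ⟨?_, ?_⟩
    · rw [hc]; exact Y.mul_mem hy hy'
    · have h2 : (a * y⁻¹ * a⁻¹) ^ 2 = (y ^ 2)⁻¹ := by
        have h := hsqA y⁻¹ (Y.inv_mem hy) a ha
        have h3 : (a * y⁻¹ * a⁻¹) ^ 2 = a * (y⁻¹) ^ 2 * a⁻¹ := by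
          simp only [pow_two]; group
        rw [h3, h]; simp
      have h4 : ⁅y, a⁆ ^ 2 = y ^ 2 * ⁅y⁻¹, a * y⁻¹ * a⁻¹⁆ * (a * y⁻¹ * a⁻¹) ^ 2 := by
        rw [hc]
        simp only [pow_two, commutatorElement_def]; group
      rw [h4, h2]
      have hcm : ⁅y⁻¹, a * y⁻¹ * a⁻¹⁆ ∈ ⁅Y, Y⁆ :=
        Subgroup.commutator_mem_commutator (Y.inv_mem hy) hy'
      have hcY : ⁅y⁻¹, a * y⁻¹ * a⁻¹⁆ ∈ Y := by
        rw [commutatorElement_def]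
        exact Y.mul_mem (Y.mul_mem (Y.mul_mem (Y.inv_mem hy) hy') (Y.inv_mem (Y.inv_mem hy)))
          (Y.inv_mem hy')
      have hcomm := (Subgroup.mem_centralizer_iff.mp (hsqc y hy)) _ hcY
      -- hcomm : c * y^2 = y^2 * c
      have : y ^ 2 * ⁅y⁻¹, a * y⁻¹ * a⁻¹⁆ * (y ^ 2)⁻¹ = ⁅y⁻¹, a * y⁻¹ * a⁻¹⁆ := by
        rw [← hcomm]; group
      rw [this]; exact hcm
  intro x hx
  have : x ∈ sqSub Y := hle (hYA.symm ▸ hx)
  exact this.2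

end Cfsg.Agent.Lib.H7.TwoMin
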