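import Mathlib
import Cfsg.Agent.Lib.H26.TwoMinDefs
import Cfsg.Agent.Lib.H1.CoprimeAbelian

set_option autoImplicit false
open scoped commutatorElement

/-!
# S4409 piece GEN3 (helper7): `C_Y(A) ≤ Y'` when `⁅Y, A⁆ = Y` (coprime action).
-/

namespace Cfsg.Agent.Lib.H7.TwoMin

open Cfsg.Agent.Lib.H26.TwoMin

variable {G : Type*} [Group G]

theorem fixed_le_commutator [Finite G] {Y A : Subgroup G} (hAN : A ≤ Subgroup.normalizer (Y : Set G))
    (hcop : (Nat.card ↥A).Coprime (Nat.card ↥Y)) (hYA : ⁅Y, A⁆ = Y) :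
    Y ⊓ Subgroup.centralizer (A : Set G) ≤ ⁅Y, Y⁆ := by
  classical
  set N : Subgroup G := Subgroup.normalizer (Y : Set G) with hN
  have hYN : Y ≤ N := Subgroup.le_normalizer
  set Y₀ : Subgroup ↥N := Y.subgroupOf N with hY₀
  set A₀ : Subgroup ↥N := A.subgroupOf N with hA₀
  have hY₀n : Y₀.Normal := Subgroup.normal_in_normalizer
  set K : Subgroup ↥N := ⁅Y₀, Y₀⁆ with hK
  have hKn : K.Normal := Subgroup.commutator_normal Y₀ Y₀
  set π : ↥N →* ↥N ⧸ K := QuotientGroup.mk' K with hπ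
  set V : Subgroup (↥N ⧸ K) := Y₀.map π with hV
  set B : Subgroup (↥N ⧸ K) := A₀.map π with hB
  have hmapY : Y₀.map N.subtype = Y := Subgroup.map_subgroupOf_eq_of_le hYN
  have hmapA : A₀.map N.subtype = A := Subgroup.map_subgroupOf_eq_of_le hAN
  -- `⁅Y₀, A₀⁆ = Y₀`
  have hYA₀ : ⁅Y₀, A₀⁆ = Y₀ := by
    apply Subgroup.map_injective (Subgroup.subtype_injective N)
    rw [Subgroup.map_commutator, hmapY, hmapA, hYA]
  have hKmap : K.map N.subtype = ⁅Y, Y⁆ := by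
    rw [hK, Subgroup.map_commutator, hmapY]
  -- `V` is commutative
  have hVc : IsMulCommutative ↥V := by
    refine ⟨⟨?_⟩⟩
    rintro ⟨_, x, hx, rfl⟩ ⟨_, y, hy, rfl⟩
    apply Subtype.ext
    show π x * π y = π y * π x
    rw [← map_mul, ← map_mul, hπ, QuotientGroup.mk'_apply, QuotientGroup.mk'_apply,
      QuotientGroup.eq]
    have : (x * y)⁻¹ * (y * x) = ⁅y⁻¹, x⁻¹⁆ := by rw [commutatorElement_def]; group
    rw [this]
    exact Subgroup.commutator_mem_commutator (Y₀.inv_mem hy) (Y₀.inv_mem hx)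
  -- `V` is normal, so `B` normalizes it
  have hVn : V.Normal :=
    Subgroup.Normal.map hY₀n π (QuotientGroup.mk'_surjective K)
  have hBV : B ≤ Subgroup.normalizer (V : Set (↥N ⧸ K)) := by
    rw [Subgroup.normalizer_eq_top]; exact le_top
  -- coprimality
  have hcardA : Nat.card ↥B ∣ Nat.card ↥A := by
    have h1 : Nat.card ↥B ∣ Nat.card ↥A₀ := Subgroup.card_map_dvd A₀ π
    have h2 : Nat.card ↥A₀ = Nat.card ↥A :=
      Nat.card_congr (Subgroup.subgroupOfEquivOfLe hAN).toEquiv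
    rwa [h2] at h1
  have hcardY : Nat.card ↥V ∣ Nat.card ↥Y := by
    have h1 : Nat.card ↥V ∣ Nat.card ↥Y₀ := Subgroup.card_map_dvd Y₀ π
    have h2 : Nat.card ↥Y₀ = Nat.card ↥Y :=
      Nat.card_congr (Subgroup.subgroupOfEquivOfLe hYN).toEquiv
    rwa [h2] at h1
  have hcop' : (Nat.card ↥B).Coprime (Nat.card ↥V) :=
    Nat.Coprime.coprime_dvd_left hcardA (Nat.Coprime.coprime_dvd_right hcardY hcop)
  have hkey := Cfsg.Agent.Lib.H1.coprime_abelian_centralizer_inf_commutator (A := B) (V := V)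
    hBV hcop'
  have hVB : ⁅V, B⁆ = V := by
    rw [hV, hB, ← Subgroup.map_commutator, hYA₀]
  -- main argument
  rintro y ⟨hyY, hyC⟩
  have hyN : y ∈ N := hYN hyY
  have hy₀ : (⟨y, hyN⟩ : ↥N) ∈ Y₀ := by
    rw [hY₀, Subgroup.mem_subgroupOf]; exact hyY
  have h1 : π ⟨y, hyN⟩ ∈ V := ⟨_, hy₀, rfl⟩
  have h2 : π ⟨y, hyN⟩ ∈ Subgroup.centralizer (B : Set (↥N ⧸ K)) := by
    rw [Subgroup.mem_centralizer_iff]
    rintro _ ⟨a, ha, rfl⟩
    have haA : (a : G) ∈ A := by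
      have ha' : a ∈ A.subgroupOf N := ha
      rw [Subgroup.mem_subgroupOf] at ha'; exact ha'
    have hc : (a : G) * y = y * (a : G) := Subgroup.mem_centralizer_iff.mp hyC a haA
    have : a * (⟨y, hyN⟩ : ↥N) = ⟨y, hyN⟩ * a := Subtype.ext hc
    show π a * π ⟨y, hyN⟩ = π ⟨y, hyN⟩ * π a
    rw [← map_mul, ← map_mul, this]
  have h3 : π ⟨y, hyN⟩ ∈ (V ⊓ Subgroup.centralizer (B : Set (↥N ⧸ K))) ⊓ ⁅V, B⁆ :=
    ⟨⟨h1, h2⟩, hVB.symm ▸ h1⟩
  rw [hkey, Subgroup.mem_bot, hπ, QuotientGroup.mk'_apply, QuotientGroup.eq_one_iff] at h3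
  rw [← hKmap]
  exact ⟨⟨y, hyN⟩, h3, rfl⟩

end Cfsg.Agent.Lib.H7.TwoMin
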