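import Mathlib
import Cfsg.Agent.Lib.H26.TwoMinDefs

set_option autoImplicit false
open scoped commutatorElement

/-!
# S4409 piece A1D (helper7): the centre of a nonabelian "special" 2-group with `AFree` centre has order 2 or 4.
-/

namespace Cfsg.Agent.Lib.H7.TwoMin

open Cfsg.Agent.Lib.H26.TwoMin

variable {G : Type*} [Group G]

/-- In the `SpecialIn` situation the centre has exponent 2. -/
theorem specialIn_sq_eq_one {X Z : Subgroup G} (hS : SpecialIn X Z) : ∀ z ∈ Z, z ^ 2 = 1 := by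
  obtain ⟨hZ, hXX, hsq⟩ := hS
  have hZX : Z ≤ X := by rw [hZ]; exact inf_le_left
  have hZC : Z ≤ Subgroup.centralizer (X : Set G) := by rw [hZ]; exact inf_le_right
  have hcomm : ∀ z ∈ Z, ∀ x ∈ X, x * z = z * x := fun z hz x hx =>
    Subgroup.mem_centralizer_iff.mp (hZC hz) x hx
  intro z hz
  rw [← hXX, Subgroup.commutator_def] at hz
  induction hz using Subgroup.closure_induction with
  | mem c hc =>
    obtain ⟨x, hx, y, hy, rfl⟩ := hc
    have hcZ : ⁅x, y⁆ ∈ Z := by
      rw [← hXX]; exact Subgroup.commutator_mem_commutator hx hy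
    have h1 : x * ⁅x, y⁆ = ⁅x, y⁆ * x := hcomm _ hcZ x hx
    have h2 : y * x ^ 2 = x ^ 2 * y := hcomm _ (hsq x hx) y hy
    -- ⁅x², y⁆ = x ⁅x,y⁆ x⁻¹ ⁅x,y⁆
    have h3 : ⁅x ^ 2, y⁆ = x * ⁅x, y⁆ * x⁻¹ * ⁅x, y⁆ := by
      simp only [commutatorElement_def, pow_two]; group
    have h4 : ⁅x ^ 2, y⁆ = 1 := by
      rw [commutatorElement_def, ← h2]; group
    rw [h1, mul_inv_cancel_right] at h3
    rw [pow_two, ← h3, h4]
  | one => simp
  | mul a b ha hb iha ihb =>
    have haZ : a ∈ Z := by rw [← hXX, Subgroup.commutator_def]; exact ha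
    have hbZ : b ∈ Z := by rw [← hXX, Subgroup.commutator_def]; exact hb
    have hab : b * a = a * b := hcomm a haZ b (hZX hbZ)
    have : (a * b) ^ 2 = a ^ 2 * b ^ 2 := by
      simp only [pow_two]
      calc a * b * (a * b) = a * (b * a) * b := by group
        _ = a * (a * b) * b := by rw [hab]
        _ = a * a * (b * b) := by group
    rw [this, iha, ihb, one_mul]
  | inv a _ iha =>
    rw [inv_pow, iha, inv_one]

theorem special_center_card [Finite G] {X Z : Subgroup G} (h2 : IsPGroup 2 ↥X) (hS : SpecialIn X Z) (hA : AFree Z)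
    (hnab : ¬ ∀ a ∈ X, ∀ b ∈ X, a * b = b * a) : Nat.card ↥Z = 2 ∨ Nat.card ↥Z = 4 := by
  classical
  have hexp := specialIn_sq_eq_one hS
  obtain ⟨hZ, hXX, hsq⟩ := hS
  have : Fact (Nat.Prime 2) := ⟨Nat.prime_two⟩
  have hZX : Z ≤ X := by rw [hZ]; exact inf_le_left
  have hZC : Z ≤ Subgroup.centralizer (X : Set G) := by rw [hZ]; exact inf_le_right
  have hZ2 : IsPGroup 2 ↥Z := h2.to_le hZX
  obtain ⟨k, hk⟩ := IsPGroup.iff_card.mp hZ2
  -- `|Z| < 8`
  have hlt : k < 3 := by
    by_contra hk3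
    push Not at hk3
    have hdvd : 2 ^ 3 ∣ Nat.card ↥Z := by rw [hk]; exact pow_dvd_pow 2 hk3
    obtain ⟨A', hA'⟩ := Sylow.exists_subgroup_card_pow_prime 2 hdvd
    set A : Subgroup G := A'.map Z.subtype with hAdef
    have hAZ : A ≤ Z := by
      rintro _ ⟨a, _, rfl⟩; exact a.2
    have hAcard : Nat.card ↥A = 8 := by
      rw [hAdef, Subgroup.card_map_of_injective (Subgroup.subtype_injective Z), hA']; norm_num
    have hAcomm : ∀ a ∈ A, ∀ b ∈ A, a * b = b * a := fun a ha b hb =>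
      Subgroup.mem_centralizer_iff.mp (hZC (hAZ hb)) a (hZX (hAZ ha))
    have hcyc : IsCyclic ↥A := hA A hAZ hAcomm hAcard
    obtain ⟨g, hg⟩ := hcyc.exists_generator
    have hord : orderOf g = 8 := by
      rw [orderOf_eq_card_of_forall_mem_zpowers hg, hAcard]
    have hg2 : g ^ 2 = 1 := by
      apply Subtype.ext
      rw [Subgroup.coe_pow, Subgroup.coe_one]
      exact hexp _ (hAZ g.2)
    have := orderOf_dvd_of_pow_eq_one hg2
    rw [hord] at this
    omega
  -- `|Z| ≠ 1`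
  have hne : k ≠ 0 := by
    intro h0
    rw [h0, pow_zero] at hk
    have hbot : Z = ⊥ := Subgroup.card_eq_one.mp hk
    apply hnab
    have : ⁅X, X⁆ = ⊥ := by rw [hXX, hbot]
    rw [Subgroup.commutator_eq_bot_iff_le_centralizer] at this
    intro a ha b hb
    exact (Subgroup.mem_centralizer_iff.mp (this ha) b hb).symm
  have hk12 : k = 1 ∨ k = 2 := by omega
  rcases hk12 with h | h
  · left; rw [hk, h]; norm_num
  · right; rw [hk, h]; norm_num

end Cfsg.Agent.Lib.H7.TwoMin
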