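import Mathlib
import Cfsg.Agent.Lib.H26.TwoMinDefs
import Cfsg.Agent.Lib.H27.Extraspecial

set_option autoImplicit false
open scoped commutatorElement

/-!
# S4409 piece MC1 (helper7): from `SpecialIn X Z` to the Prelude predicate `Cfsg.IsSpecial 2 ↥X`.
-/

namespace Cfsg.Agent.Lib.H7.TwoMin

open Cfsg.Agent.Lib.H26.TwoMin

variable {G : Type*} [Group G]

theorem isSpecial_of_specialIn [Finite G] {X Z : Subgroup G} (h2 : IsPGroup 2 ↥X) (hS : SpecialIn X Z) :
    Cfsg.IsSpecial 2 ↥X ∧ Nat.card ↥(Subgroup.center ↥X) = Nat.card ↥Z := by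
  classical
  obtain ⟨hZ, hXX, hsq⟩ := hS
  have : Fact (Nat.Prime 2) := ⟨Nat.prime_two⟩
  have hinj : Function.Injective X.subtype := Subgroup.subtype_injective X
  have hcen : (Subgroup.center ↥X).map X.subtype = Z := by
    rw [Cfsg.Agent.Lib.H27.map_center_eq, ← hZ]
  have hcom : (commutator ↥X).map X.subtype = Z := by
    rw [Subgroup.map_subtype_commutator, hXX]
  have hcc : commutator ↥X = Subgroup.center ↥X :=
    Subgroup.map_injective hinj (hcom.trans hcen.symm)
  have hpow : ∀ x : ↥X, x ^ 2 ∈ Subgroup.center ↥X := by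
    intro x
    have h1 : ((x ^ 2 : ↥X) : G) ∈ Z := by
      rw [Subgroup.coe_pow]; exact hsq x x.2
    rw [← hcen] at h1
    obtain ⟨y, hy, hyx⟩ := h1
    have : y = x ^ 2 := hinj hyx
    rw [← this]; exact hy
  refine ⟨⟨h2, ?_, hcc⟩, ?_⟩
  · apply le_antisymm
    · exact Cfsg.Agent.Lib.H1.frattini_le_of_commutator_le_of_pow_mem _ hcc.le hpow
    · rw [← hcc]
      exact Cfsg.Agent.Lib.H1.isPGroup_commutator_le_frattini h2
  · rw [← hcen, Subgroup.card_map_of_injective hinj]

end Cfsg.Agent.Lib.H7.TwoMin
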