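import Mathlib
import Cfsg.Agent.Lib.H26.TwoMinDefs
import Cfsg.Agent.S0095

set_option autoImplicit false
open scoped commutatorElement

/-!
# S4409 piece MC2 (helper7): an extraspecial 2-group that is not `AFree` has order at least 32.
-/

namespace Cfsg.Agent.Lib.H7.TwoMin

open Cfsg.Agent.Lib.H26.TwoMin

variable {G : Type*} [Group G]

theorem card_ge_of_extraspecial [Finite G] {X Z : Subgroup G} (h2 : IsPGroup 2 ↥X) (hS : SpecialIn X Z)
    (hZ : Nat.card ↥Z = 2) (hnf : ¬ AFree X) : 32 ≤ Nat.card ↥X := by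
  classical
  obtain ⟨hZdef, hXX, hsq⟩ := hS
  have hZC : Z ≤ Subgroup.centralizer (X : Set G) := by rw [hZdef]; exact inf_le_right
  -- the noncyclic abelian subgroup of order 8
  unfold AFree at hnf
  push Not at hnf
  obtain ⟨A, hAX, hAc, hA8, hAn⟩ := hnf
  -- index of the centre
  obtain ⟨n, hn1, hn⟩ := Cfsg.Agent.S0095.even_index_center Nat.prime_two (Nat.card ↥X) X rfl
    (by rw [hXX]; exact hZ) (by rw [hXX]; exact hZC)
  rw [← hZdef] at hn
  have hZX : Z ≤ X := by rw [hZdef]; exact inf_le_left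
  have hmul : Z.relIndex X * Nat.card ↥Z = Nat.card ↥X := by
    rw [mul_comm, ← Subgroup.relIndex_bot_left, ← Subgroup.relIndex_bot_left]
    exact Subgroup.relIndex_mul_relIndex (⊥ : Subgroup G) Z X bot_le hZX
  rw [hn, hZ] at hmul
  -- `|X| = 2^(2n) * 2`
  by_cases hn2 : 2 ≤ n
  · have : 2 ^ (2 * 2) ≤ 2 ^ (2 * n) := Nat.pow_le_pow_right (by norm_num) (by omega)
    rw [← hmul]
    norm_num at this ⊢
    omega
  · -- `n = 1`: `|X| = 8`, so `A = X` is abelian
    exfalso
    have hn' : n = 1 := by omega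
    rw [hn'] at hmul
    have hX8 : Nat.card ↥X = 8 := by rw [← hmul]; norm_num
    have hAeq : A = X := Subgroup.eq_of_le_of_card_ge hAX (by rw [hX8, hA8])
    have hbot : ⁅X, X⁆ = ⊥ := by
      rw [Subgroup.commutator_eq_bot_iff_le_centralizer]
      intro x hx
      rw [Subgroup.mem_centralizer_iff]
      intro y hy
      rw [← hAeq] at hx hy
      exact hAc y hy x hx
    rw [hXX] at hbot
    rw [hbot, Subgroup.card_bot] at hZ
    omega

end Cfsg.Agent.Lib.H7.TwoMin
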