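import Mathlib
import Cfsg.Agent.Lib.H26.TwoMinDefs
import Cfsg.Agent.Lib.H22.Hamiltonian

set_option autoImplicit false
open scoped commutatorElement

/-!
# S4409 piece MC3 (helper7): `Q8Type Y z` gives `↥Y ≃* QuaternionGroup 2`.
-/

namespace Cfsg.Agent.Lib.H7.TwoMin

open Cfsg.Agent.Lib.H26.TwoMin

variable {G : Type*} [Group G]

theorem exists_mem_notMem_finset {Y : Subgroup G} (F : Finset G) (h : F.card < Nat.card ↥Y) :
    ∃ y ∈ Y, y ∉ F := by
  classical
  by_contra hcon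
  push Not at hcon
  have hsub : (Y : Set G) ⊆ (F : Set G) := fun y hy => hcon y hy
  have h1 : (Y : Set G).ncard ≤ (F : Set G).ncard := Set.ncard_le_ncard hsub F.finite_toSet
  rw [Set.ncard_coe_finset] at h1
  have h2 : Nat.card ↥Y = (Y : Set G).ncard := rfl
  omega

theorem q8Type_equiv {Y : Subgroup G} {z : G} (hQ : Q8Type Y z) : Nonempty (↥Y ≃* QuaternionGroup 2) := by
  classical
  obtain ⟨hcard, hzY, hz1, hz2, hsq⟩ := hQ
  have : Finite ↥Y := Nat.finite_of_card_ne_zero (by rw [hcard]; norm_num)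
  -- choose `i`
  obtain ⟨i, hiY, hiF⟩ := exists_mem_notMem_finset (Y := Y) ({1, z} : Finset G)
    (by rw [hcard]; exact lt_of_le_of_lt Finset.card_le_two (by norm_num))
  have hi1 : i ≠ 1 := fun h => hiF (by rw [h]; simp)
  have hiz : i ≠ z := fun h => hiF (by rw [h]; simp)
  have hi2 : i ^ 2 = z := hsq i hiY hi1 hiz
  -- choose `j`
  obtain ⟨j, hjY, hjF⟩ := exists_mem_notMem_finset (Y := Y) ({1, z, i, i * z} : Finset G)
    (by rw [hcard]; exact lt_of_le_of_lt Finset.card_le_four (by norm_num))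
  have hj1 : j ≠ 1 := fun h => hjF (by rw [h]; simp)
  have hjz : j ≠ z := fun h => hjF (by rw [h]; simp)
  have hji : j ≠ i := fun h => hjF (by rw [h]; simp)
  have hjiz : j ≠ i * z := fun h => hjF (by rw [h]; simp)
  have hj2 : j ^ 2 = z := hsq j hjY hj1 hjz
  have hi4 : i ^ 4 = 1 := by
    have : i ^ 4 = (i ^ 2) ^ 2 := by rw [← pow_mul]
    rw [this, hi2, hz2]
  have hiinv : i⁻¹ = i * z := by
    rw [← hi2]
    have : i * i ^ 2 = i ^ 3 := by rw [pow_succ' i 2]
    rw [this]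
    apply inv_eq_of_mul_eq_one_right
    rw [← pow_succ' i 3]; exact hi4
  have hij1 : i * j ≠ 1 := by
    intro h
    apply hjiz
    rw [← hiinv]
    exact (inv_eq_of_mul_eq_one_right h).symm ▸ rfl
  have hijz : i * j ≠ z := by
    intro h
    apply hji
    -- j = i⁻¹ z = i z z = i
    have : j = i⁻¹ * z := by rw [← h]; group
    rw [this, hiinv, mul_assoc, ← pow_two, hz2, mul_one]
  have hij2 : (i * j) ^ 2 = z := hsq (i * j) (Y.mul_mem hiY hjY) hij1 hijz
  have hjj : j * j = i ^ 2 := by rw [hi2, ← pow_two, hj2]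
  have hzinv : z⁻¹ = z := by
    apply inv_eq_of_mul_eq_one_right; rw [← pow_two]; exact hz2
  have hjij : j * i * j⁻¹ = i⁻¹ := by
    -- i j i j = z = i i  =>  j i j = i
    have h1 : i * j * (i * j) = i * i := by rw [← pow_two, hij2, ← pow_two, hi2]
    have h2 : j * i * j = i := by
      have h3 : i * (j * i * j) = i * i := by rw [← h1]; group
      exact mul_left_cancel h3
    have h4 : j * i * j⁻¹ = (j * i * j) * (j * j)⁻¹ := by group
    rw [h4, h2, hjj, hi2, hzinv, hiinv]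
  obtain ⟨Q, ⟨e⟩, hiQ, hjQ, hQle, -⟩ :=
    Cfsg.Agent.Lib.H22.q8_exists_subgroup hi4 (by rw [hi2]; exact hz1) hjj hjij
  have hQY : Q ≤ Y := hQle.trans ((Subgroup.closure_le Y).mpr (by
    rintro x (rfl | rfl)
    · exact hiY
    · exact hjY))
  have hQcard : Nat.card ↥Q = 8 := by
    rw [Nat.card_congr e.toEquiv, Nat.card_eq_fintype_card, QuaternionGroup.card]
  have hQeq : Q = Y := Subgroup.eq_of_le_of_card_ge hQY (by rw [hcard, hQcard])
  subst hQeq
  exact ⟨e⟩

end Cfsg.Agent.Lib.H7.TwoMin
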