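import Cfsg.Agent.Lib.H27.SU3Defs
import Cfsg.Agent.Lib.H23.UP2E1a
import Cfsg.Agent.Lib.H14.UP3B5
import Cfsg.Agent.Lib.H29.SymmF3
import Cfsg.Agent.Lib.H4.Herm

/-!
# SU3-e4 (helper7, for helper27's S5778 farm-out): `q = 3`, the subfield group `SO_3(3)` of `SU_3(3)` stabilises an
orthogonal frame of non-degenerate lines.
-/

set_option autoImplicit false
set_option linter.unusedSectionVars false
set_option linter.unusedVariables false

namespace Cfsg.Agent.Lib.H7.SU3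

open Cfsg Cfsg.Geo Cfsg.Agent.Lib.Lead.Asch Cfsg.Agent.Lib.H27.SU3
open scoped MatrixGroups Matrix Kronecker

variable {F : Type*} [Field F] [Fintype F]

/-- the embedding of `F₀`-vectors -/
def e4Emb (F₀ : Subfield F) (u : Fin 3 → F₀) : Fin 3 → F := fun i => (u i : F)

theorem e4Emb_add (F₀ : Subfield F) (u v : Fin 3 → F₀) : e4Emb F₀ (u + v) = e4Emb F₀ u + e4Emb F₀ v := by
  funext i; simp [e4Emb]

theorem e4Emb_smul (F₀ : Subfield F) (c : F₀) (u : Fin 3 → F₀) : e4Emb F₀ (c • u) = (c : F) • e4Emb F₀ u := by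
  funext i; simp [e4Emb]

theorem e4Emb_neg (F₀ : Subfield F) (u : Fin 3 → F₀) : e4Emb F₀ (-u) = -e4Emb F₀ u := by
  funext i; simp [e4Emb]

theorem e4Emb_injective (F₀ : Subfield F) : Function.Injective (e4Emb F₀) := by
  intro u v h
  funext i
  exact Subtype.ext (congrFun h i)

/-- the restriction of the hermitian form to the `F₀`-structure -/
def e4Form (F₀ : Subfield F) (P : GL (Fin 3) F) (hR : IsFormRationalStructure (hermForm 3 F 3) F₀ 1 P) :
    (Fin 3 → F₀) → (Fin 3 → F₀) → F₀ :=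
  fun u v => ⟨hermForm 3 F 3 ((P : Matrix (Fin 3) (Fin 3) F) *ᵥ e4Emb F₀ u)
      ((P : Matrix (Fin 3) (Fin 3) F) *ᵥ e4Emb F₀ v), by
    have := hR (e4Emb F₀ u) (e4Emb F₀ v) (fun i => (u i).2) (fun i => (v i).2)
    rwa [one_mul] at this⟩

theorem e4Form_coe (F₀ : Subfield F) (P : GL (Fin 3) F) (hR : IsFormRationalStructure (hermForm 3 F 3) F₀ 1 P)
    (u v : Fin 3 → F₀) : ((e4Form F₀ P hR u v : F₀) : F) =
      hermForm 3 F 3 ((P : Matrix (Fin 3) (Fin 3) F) *ᵥ e4Emb F₀ u)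
        ((P : Matrix (Fin 3) (Fin 3) F) *ᵥ e4Emb F₀ v) := rfl

/-- `|F₀| = 3` -/
theorem e4_card (hF : Fintype.card F = 3 ^ 2) (F₀ : Subfield F) (hcard : Fintype.card F = Nat.card F₀ ^ 2) :
    Nat.card F₀ = 3 := by
  rw [hF] at hcard
  exact (Nat.pow_left_injective (n := 2) (by norm_num) hcard).symm

/-- elements of `F₀` are fixed by the Frobenius map -/
theorem e4_cube (F₀ : Subfield F) (h3 : Nat.card F₀ = 3) (a : F) (ha : a ∈ F₀) : a ^ 3 = a := by
  have : Fintype F₀ := Fintype.ofFinite F₀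
  have h := FiniteField.pow_card (⟨a, ha⟩ : F₀)
  rw [← Nat.card_eq_fintype_card, h3] at h
  exact congrArg Subtype.val h

theorem e4_isSymmetricForm (hF : Fintype.card F = 3 ^ 2) (F₀ : Subfield F) (h3 : Nat.card F₀ = 3)
    (P : GL (Fin 3) F) (hR : IsFormRationalStructure (hermForm 3 F 3) F₀ 1 P) :
    IsSymmetricForm (e4Form F₀ P hR) := by
  have hsymm : ∀ u v, e4Form F₀ P hR u v = e4Form F₀ P hR v u := by
    intro u v
    apply Subtype.ext
    rw [e4Form_coe, e4Form_coe, ← Cfsg.Agent.Lib.H4.hermForm_conj 3 hF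
      ((P : Matrix (Fin 3) (Fin 3) F) *ᵥ e4Emb F₀ v)]
    exact e4_cube F₀ h3 _ (e4Form F₀ P hR v u).2
  have hleft : ∀ v : Fin 3 → F₀, v ≠ 0 → ∃ x, e4Form F₀ P hR x v ≠ 0 := by
    intro v hv
    have hw : (P : Matrix (Fin 3) (Fin 3) F) *ᵥ e4Emb F₀ v ≠ 0 := by
      intro h
      apply hv
      apply e4Emb_injective F₀
      have h1 : ((P⁻¹ : GL (Fin 3) F) : Matrix (Fin 3) (Fin 3) F) *ᵥ
          ((P : Matrix (Fin 3) (Fin 3) F) *ᵥ e4Emb F₀ v) = 0 := by rw [h, Matrix.mulVec_zero]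
      rw [Matrix.mulVec_mulVec, ← Units.val_mul, inv_mul_cancel, Units.val_one, Matrix.one_mulVec] at h1
      rw [h1]; funext i; simp [e4Emb]
    set w := (P : Matrix (Fin 3) (Fin 3) F) *ᵥ e4Emb F₀ v with hwdef
    by_contra hcon
    push Not at hcon
    apply hw
    -- `hermForm (P e_i) w = 0` for all `i`
    have h1 : ∀ i : Fin 3, hermForm 3 F 3 ((P : Matrix (Fin 3) (Fin 3) F) *ᵥ Pi.single i 1) w = 0 := by
      intro i
      have h := congrArg Subtype.val (hcon (Pi.single i 1))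
      rw [e4Form_coe] at h
      have he : e4Emb F₀ (Pi.single i 1) = Pi.single i 1 := by
        funext j
        by_cases hij : j = i
        · subst hij; simp [e4Emb]
        · simp [e4Emb, Pi.single_eq_of_ne hij]
      rw [he] at h
      exact h
    -- hence `hermForm y w = 0` for all `y`
    have h2 : ∀ y : Fin 3 → F, hermForm 3 F 3 ((P : Matrix (Fin 3) (Fin 3) F) *ᵥ y) w = 0 := by
      intro y
      have hy : y = ∑ i, y i • (Pi.single i 1 : Fin 3 → F) := by
        funext j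
        simp [Finset.sum_apply, Pi.single_apply]
      have hlin : ∀ (s : Finset (Fin 3)) (f : Fin 3 → (Fin 3 → F)),
          hermForm 3 F 3 (∑ i ∈ s, f i) w = ∑ i ∈ s, hermForm 3 F 3 (f i) w := by
        intro s f
        induction s using Finset.induction_on with
        | empty => simp [hermForm]
        | insert a s ha ih =>
          rw [Finset.sum_insert ha, Finset.sum_insert ha, Cfsg.Agent.Lib.H4.hermForm_add_left, ih]
      rw [hy, Matrix.mulVec_sum, hlin]
      apply Finset.sum_eq_zero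
      intro i _
      rw [Matrix.mulVec_smul, Cfsg.Agent.Lib.H4.hermForm_smul_left, h1, mul_zero]
    funext j
    have h3' := h2 (((P⁻¹ : GL (Fin 3) F) : Matrix (Fin 3) (Fin 3) F) *ᵥ Pi.single j 1)
    rw [Matrix.mulVec_mulVec, ← Units.val_mul, mul_inv_cancel, Units.val_one, Matrix.one_mulVec] at h3'
    unfold hermForm at h3'
    rw [Finset.sum_eq_single j] at h3'
    · rw [Pi.single_eq_same, one_mul] at h3'
      exact pow_eq_zero_iff (by norm_num) |>.1 h3'
    · intro b _ hb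
      rw [Pi.single_eq_of_ne hb, zero_mul]
    · intro h; exact absurd (Finset.mem_univ j) h
  refine ⟨⟨?_, ?_, ?_, ?_⟩, hsymm, ?_⟩
  · intro x y v
    apply Subtype.ext
    rw [Subfield.coe_add, e4Form_coe, e4Form_coe, e4Form_coe, e4Emb_add, Matrix.mulVec_add,
      Cfsg.Agent.Lib.H4.hermForm_add_left]
  · intro c x v
    apply Subtype.ext
    rw [Subfield.coe_mul, e4Form_coe, e4Form_coe, e4Emb_smul, Matrix.mulVec_smul,
      Cfsg.Agent.Lib.H4.hermForm_smul_left]
  · intro v x y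
    apply Subtype.ext
    rw [Subfield.coe_add, e4Form_coe, e4Form_coe, e4Form_coe, e4Emb_add, Matrix.mulVec_add,
      Cfsg.Agent.Lib.H4.hermForm_add_right 3 hF]
  · intro c v x
    apply Subtype.ext
    rw [Subfield.coe_mul, e4Form_coe, e4Form_coe, e4Emb_smul, Matrix.mulVec_smul,
      Cfsg.Agent.Lib.H4.hermForm_smul_right, e4_cube F₀ h3 _ c.2]
  · intro v hv
    obtain ⟨x, hx⟩ := hleft v hv
    exact ⟨⟨x, hx⟩, ⟨x, by rw [hsymm]; exact hx⟩⟩

/-- **SU3-e4**: `q = 3`, the subfield group `SO_3(3)` stabilises an orthogonal frame. -/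
theorem e4 (hF : Fintype.card F = 3 ^ 2) : E4Stmt F := by
  classical
  intro F₀ P hcard hR
  have h3 : Nat.card F₀ = 3 := e4_card hF F₀ hcard
  have hFin : Fintype F₀ := Fintype.ofFinite F₀
  have hq3 : Fintype.card F₀ = 3 := by rw [← Nat.card_eq_fintype_card]; exact h3
  have hsf := e4_isSymmetricForm hF F₀ h3 P hR
  obtain ⟨b, d, hd, hbo, hbd, hbx⟩ :=
    Cfsg.Agent.Lib.H29.SymmF3.exists_frame_three hq3 (e4Form F₀ P hR) hsf
  -- the frame
  set z : Fin 3 → (Fin 3 → F) := fun j => (P : Matrix (Fin 3) (Fin 3) F) *ᵥ e4Emb F₀ (b j) with hz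
  have hzz : ∀ j, hermForm 3 F 3 (z j) (z j) = (d : F) := by
    intro j
    rw [← hbd j]; rfl
  have hd' : (d : F) ≠ 0 := fun h => hd (Subtype.ext h)
  have hzo : ∀ j l, j ≠ l → hermForm 3 F 3 (z j) (z l) = 0 := by
    intro j l hjl
    have := congrArg Subtype.val (hbo j l hjl)
    exact this
  have hlin : ∀ (s : Finset (Fin 3)) (f : Fin 3 → (Fin 3 → F)) (w : Fin 3 → F),
      hermForm 3 F 3 (∑ i ∈ s, f i) w = ∑ i ∈ s, hermForm 3 F 3 (f i) w := by
    intro s f w
    induction s using Finset.induction_on with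
    | empty => simp [hermForm]
    | insert a s ha ih =>
      rw [Finset.sum_insert ha, Finset.sum_insert ha, Cfsg.Agent.Lib.H4.hermForm_add_left, ih]
  have hli : LinearIndependent F z := by
    rw [Fintype.linearIndependent_iff]
    intro c hc j
    have h1 := congrArg (fun y => hermForm 3 F 3 y (z j)) hc
    beta_reduce at h1
    rw [hlin, Finset.sum_eq_single j] at h1
    · rw [Cfsg.Agent.Lib.H4.hermForm_smul_left, hzz] at h1
      have h0 : hermForm 3 F 3 (0 : Fin 3 → F) (z j) = 0 := by simp [hermForm]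
      rw [h0] at h1
      rcases mul_eq_zero.mp h1 with h | h
      · exact h
      · exact absurd h hd'
    · intro i _ hij
      rw [Cfsg.Agent.Lib.H4.hermForm_smul_left, hzo i j hij, mul_zero]
    · intro h; exact absurd (Finset.mem_univ j) h
  have hspan : ⨆ j, Submodule.span F {z j} = ⊤ := by
    rw [← Submodule.span_range_eq_iSup]
    apply hli.span_eq_top_of_card_eq_finrank'
    rw [Module.finrank_fintype_fun_eq_card]
  refine ⟨fun j => Submodule.span F {z j},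
    Cfsg.Agent.Lib.H23.UP2.isNondegenerateMDecomposition_of_frame hF (by norm_num) z
      (fun j => by rw [hzz]; exact hd') hzo hspan, ?_⟩
  -- the stabiliser
  intro g hg
  obtain ⟨hgS, hgU⟩ := Subgroup.mem_inf.mp hg
  obtain ⟨g0, zz, hzs, rfl⟩ := Cfsg.Agent.Lib.H14.UP3.exists_of_mem_subfieldSubgroup F₀ P g hgS
  obtain ⟨l, hl⟩ := (mem_scalars_iff zz).mp hzs
  -- action on the `F₀`-structure
  have hact : ∀ u : Fin 3 → F₀,
      ((P * (Matrix.GeneralLinearGroup.map (F₀.subtype : F₀ →+* F) g0 * zz) * P⁻¹ : GL (Fin 3) F) :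
        Matrix (Fin 3) (Fin 3) F) *ᵥ ((P : Matrix (Fin 3) (Fin 3) F) *ᵥ e4Emb F₀ u) =
      (l : F) • ((P : Matrix (Fin 3) (Fin 3) F) *ᵥ
        e4Emb F₀ ((g0 : Matrix (Fin 3) (Fin 3) F₀) *ᵥ u)) := by
    intro u
    rw [Matrix.mulVec_mulVec, ← Units.val_mul, inv_mul_cancel_right, Units.val_mul, Units.val_mul, hl,
      ← Matrix.mulVec_mulVec, ← Matrix.mulVec_mulVec, Matrix.smul_mulVec, Matrix.one_mulVec,
      Matrix.mulVec_smul, Matrix.mulVec_smul]
    congr 2
  set g : GL (Fin 3) F := P * (Matrix.GeneralLinearGroup.map (F₀.subtype : F₀ →+* F) g0 * zz) * P⁻¹ with hgdef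
  -- the multiplier
  have hl0 : (l : F) ≠ 0 := Units.ne_zero l
  have hsim : ∀ u v : Fin 3 → F₀, (l : F) * ((l : F) ^ 3 *
      ((e4Form F₀ P hR ((g0 : Matrix (Fin 3) (Fin 3) F₀) *ᵥ u) ((g0 : Matrix (Fin 3) (Fin 3) F₀) *ᵥ v) : F₀) : F)) =
      ((e4Form F₀ P hR u v : F₀) : F) := by
    intro u v
    have h1 := hgU ((P : Matrix (Fin 3) (Fin 3) F) *ᵥ e4Emb F₀ u) ((P : Matrix (Fin 3) (Fin 3) F) *ᵥ e4Emb F₀ v)
    change hermForm 3 F 3 ((g : Matrix (Fin 3) (Fin 3) F) *ᵥ _) ((g : Matrix (Fin 3) (Fin 3) F) *ᵥ _) = _ at h1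
    rw [hact u, hact v, Cfsg.Agent.Lib.H4.hermForm_smul_left, Cfsg.Agent.Lib.H4.hermForm_smul_right] at h1
    rw [e4Form_coe, e4Form_coe]
    exact h1
  have hl8 : (l : F) ^ 8 = 1 := by
    have := FiniteField.pow_card_sub_one_eq_one (l : F) hl0
    rwa [hF] at this
  have hnu : (l : F) * (l : F) ^ 3 = 1 ∨ (l : F) * (l : F) ^ 3 = -1 := by
    apply mul_self_eq_one_iff.mp
    rw [← hl8]; ring
  have hiso : ∀ u v : Fin 3 → F₀,
      e4Form F₀ P hR ((g0 : Matrix (Fin 3) (Fin 3) F₀) *ᵥ u) ((g0 : Matrix (Fin 3) (Fin 3) F₀) *ᵥ v) =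
        e4Form F₀ P hR u v := by
    rcases hnu with hnu | hnu
    · intro u v
      apply Subtype.ext
      rw [← hsim u v, ← mul_assoc, hnu, one_mul]
    · exfalso
      have hneg : ∀ u v : Fin 3 → F₀,
          e4Form F₀ P hR ((g0 : Matrix (Fin 3) (Fin 3) F₀) *ᵥ u) ((g0 : Matrix (Fin 3) (Fin 3) F₀) *ᵥ v) =
            (-1 : F₀) * e4Form F₀ P hR u v := by
        intro u v
        apply Subtype.ext
        rw [Subfield.coe_mul, Subfield.coe_neg, Subfield.coe_one]
        linear_combination ((e4Form F₀ P hR ((g0 : Matrix (Fin 3) (Fin 3) F₀) *ᵥ u)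
          ((g0 : Matrix (Fin 3) (Fin 3) F₀) *ᵥ v) : F₀) : F) * hnu - hsim u v
      have h1 := Cfsg.Agent.Lib.H29.SymmF3.similitude_three hq3 (e4Form F₀ P hR) hsf g0 (-1) hneg
      have h2 := Cfsg.Agent.Lib.H29.Orth.f3_two_ne (F := F₀) hq3
      apply h2
      linear_combination (-1 : F₀) * h1
  -- the permutation
  have hperm : ∀ j, ∃ a, (g0 : Matrix (Fin 3) (Fin 3) F₀) *ᵥ b j = b a ∨
      (g0 : Matrix (Fin 3) (Fin 3) F₀) *ᵥ b j = -b a := by
    intro j
    apply hbx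
    rw [hiso, hbd]
  choose τ hτ using hperm
  have hg0inj : Function.Injective ((g0 : Matrix (Fin 3) (Fin 3) F₀).mulVec) := by
    intro x y hxy
    have h1 : ((g0⁻¹ : GL (Fin 3) F₀) : Matrix (Fin 3) (Fin 3) F₀) *ᵥ ((g0 : Matrix (Fin 3) (Fin 3) F₀) *ᵥ x) =
        ((g0⁻¹ : GL (Fin 3) F₀) : Matrix (Fin 3) (Fin 3) F₀) *ᵥ ((g0 : Matrix (Fin 3) (Fin 3) F₀) *ᵥ y) := by
      show _ *ᵥ (Matrix.mulVec _ x) = _ *ᵥ (Matrix.mulVec _ y)
      rw [hxy]
    rwa [Matrix.mulVec_mulVec, Matrix.mulVec_mulVec, ← Units.val_mul, inv_mul_cancel, Units.val_one,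
      Matrix.one_mulVec, Matrix.one_mulVec] at h1
  have hbne : ∀ j j', j ≠ j' → b j ≠ b j' ∧ b j ≠ -b j' := by
    intro j j' hjj
    constructor
    · intro h
      have := hbo j j' hjj
      rw [← h, hbd] at this
      exact hd this
    · intro h
      have := hbo j j' hjj
      have h2 := hsf.bilinear.smul_left (-1) (b j') (b j')
      rw [neg_one_smul, hbd] at h2
      rw [h, h2] at this
      rcases mul_eq_zero.mp this with h4 | h4
      · exact absurd h4 (neg_ne_zero.mpr one_ne_zero)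
      · exact hd h4
  have hτinj : Function.Injective τ := by
    intro j j' hjj
    by_contra hne
    have h1 := hτ j
    have h2 := hτ j'
    rw [hjj] at h1
    have hcases : (g0 : Matrix (Fin 3) (Fin 3) F₀) *ᵥ b j = (g0 : Matrix (Fin 3) (Fin 3) F₀) *ᵥ b j' ∨
        (g0 : Matrix (Fin 3) (Fin 3) F₀) *ᵥ b j = (g0 : Matrix (Fin 3) (Fin 3) F₀) *ᵥ (-b j') := by
      rw [Matrix.mulVec_neg]
      rcases h1 with h1 | h1 <;> rcases h2 with h2 | h2
      · left; rw [h1, h2]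
      · right; rw [h1, h2, neg_neg]
      · right; rw [h1, h2]
      · left; rw [h1, h2]
    rcases hcases with h | h
    · exact (hbne j j' hne).1 (hg0inj h)
    · exact (hbne j j' hne).2 (hg0inj h)
  refine ⟨Equiv.ofBijective τ (Finite.injective_iff_bijective.mp hτinj), fun j => ?_⟩
  show (Submodule.span F {z j}).map (Matrix.toLin' (g : Matrix (Fin 3) (Fin 3) F)) = Submodule.span F {z (τ j)}
  rw [Submodule.map_span, Set.image_singleton, Matrix.toLin'_apply]
  have hzj : (g : Matrix (Fin 3) (Fin 3) F) *ᵥ z j = (l : F) • ((P : Matrix (Fin 3) (Fin 3) F) *ᵥ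
      e4Emb F₀ ((g0 : Matrix (Fin 3) (Fin 3) F₀) *ᵥ b j)) := hact (b j)
  rw [hzj]
  rcases hτ j with h | h
  · rw [h]
    exact Submodule.span_singleton_smul_eq (IsUnit.mk0 _ hl0) _
  · rw [h, e4Emb_neg, Matrix.mulVec_neg, smul_neg, ← neg_smul]
    exact Submodule.span_singleton_smul_eq (IsUnit.mk0 _ (neg_ne_zero.mpr hl0)) _

end Cfsg.Agent.Lib.H7.SU3
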