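import Cfsg.Agent.Lib.H27.SU3Defs
import Cfsg.Agent.Lib.H14.UP3B5
import Cfsg.Agent.Lib.H29.SymmF3
import Cfsg.Agent.Lib.H4.Herm
import Cfsg.Agent.Lib.H23.UP2Util
import Cfsg.Agent.Lib.H7.SU3E4

/-!
# SU3-rational_normal_form (helper7, for helper27's S5778 farm-out): `q = 5`, an index-2 subfield structure carrying the
hermitian form is `GU_3(5)`-conjugate to the standard real structure.
-/

set_option autoImplicit false
set_option linter.unusedSectionVars false
set_option linter.unusedVariables false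

namespace Cfsg.Agent.Lib.H7.SU3

open Cfsg Cfsg.Geo Cfsg.Agent.Lib.Lead.Asch
open scoped MatrixGroups Matrix Kronecker

/-! ## the field with five elements -/

section Five

variable {K : Type*} [Field K] [Fintype K]

theorem rnf_five_eq_zero (hK : Fintype.card K = 5) : (5 : K) = 0 := by
  have := Nat.cast_card_eq_zero K
  rw [hK] at this
  exact_mod_cast this

theorem rnf_two_ne_zero (hK : Fintype.card K = 5) : (2 : K) ≠ 0 := by
  intro h2
  have h5 := rnf_five_eq_zero hK
  have : (1 : K) = 0 := by linear_combination h5 - 2 * h2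
  exact one_ne_zero this

theorem rnf_five_cases (hK : Fintype.card K = 5) (a : K) :
    a = 0 ∨ a = 1 ∨ a = -1 ∨ a = 2 ∨ a = -2 := by
  have h5 := rnf_five_eq_zero hK
  have ha : a ^ 5 = a := by
    have := FiniteField.pow_card a
    rwa [hK] at this
  have h : a * (a - 1) * (a + 1) * (a - 2) * (a + 2) = 0 := by
    linear_combination ha - (a ^ 3 - a) * h5
  simp only [mul_eq_zero, sub_eq_zero, add_eq_zero_iff_eq_neg] at h
  tauto

/-- every non-zero element is `1` or `2` up to a square -/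
theorem rnf_five_scale (hK : Fintype.card K = 5) (a : K) (ha : a ≠ 0) :
    ∃ t : K, t ≠ 0 ∧ (a * (t * t) = 1 ∨ a * (t * t) = 2) := by
  have h5 := rnf_five_eq_zero hK
  have h2 := rnf_two_ne_zero hK
  rcases rnf_five_cases hK a with h | h | h | h | h
  · exact absurd h ha
  · exact ⟨1, one_ne_zero, Or.inl (by rw [h]; ring)⟩
  · exact ⟨2, h2, Or.inl (by rw [h]; linear_combination (-1 : K) * h5)⟩
  · exact ⟨1, one_ne_zero, Or.inr (by rw [h]; ring)⟩
  · exact ⟨2, h2, Or.inr (by rw [h]; linear_combination (-2 : K) * h5)⟩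

/-- two orthogonal vectors of equal norm `e` can be replaced by two of norm `s² 2e` -/
theorem rnf_frame_of_pair (f : (Fin 3 → K) → (Fin 3 → K) → K) (hf : IsSymmetricForm f)
    (x y z : Fin 3 → K) (e e' s : K) (hxy : f x y = 0) (hxz : f x z = 0) (hyz : f y z = 0)
    (hx : f x x = e) (hy : f y y = e) (hz : f z z = e') (hs : s * s * (2 * e) = e') (he' : e' ≠ 0) :
    ∃ (b : Fin 3 → (Fin 3 → K)) (c : K), c ≠ 0 ∧ (∀ j j', j ≠ j' → f (b j) (b j') = 0) ∧
      ∀ j, f (b j) (b j) = c := by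
  have hyx : f y x = 0 := by rw [hf.symm]; exact hxy
  have hzx : f z x = 0 := by rw [hf.symm]; exact hxz
  have hzy : f z y = 0 := by rw [hf.symm]; exact hyz
  have hB := hf.bilinear
  have e1 : ∀ u v w : Fin 3 → K, f (s • (u + v)) w = s * (f u w + f v w) := by
    intro u v w; rw [hB.smul_left, hB.add_left]
  have e2 : ∀ u v w : Fin 3 → K, f w (s • (u + v)) = s * (f w u + f w v) := by
    intro u v w; rw [hB.smul_right, hB.add_right]
  have e3 : ∀ u w : Fin 3 → K, f (-u) w = - f u w := by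
    intro u w
    have := hB.smul_left (-1) u w
    rwa [neg_one_smul, neg_one_mul] at this
  have e4 : ∀ u w : Fin 3 → K, f w (-u) = - f w u := by
    intro u w
    have := hB.smul_right (-1) w u
    rwa [neg_one_smul, neg_one_mul] at this
  refine ⟨![s • (x + y), s • (x + -y), z], e', he', ?_, ?_⟩
  · intro j j' hjj
    fin_cases j <;> fin_cases j' <;>
      simp only [Matrix.cons_val_zero, Matrix.cons_val_one, Matrix.cons_val_two, Matrix.head_cons,
        Matrix.tail_cons, Fin.zero_eta, Fin.mk_one, Fin.reduceFinMk, ne_eq, not_true_eq_false] at hjj ⊢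
    · rw [e1, e2, e2, e4, e4, hx, hy, hxy, hyx]; ring
    · rw [e1, hxz, hyz]; ring
    · rw [e1, e2, e2, e3, e3, hx, hy, hxy, hyx]; ring
    · rw [e1, e3, hxz, hyz]; ring
    · rw [e2, hzx, hzy]; ring
    · rw [e2, e4, hzx, hzy]; ring
  · intro j
    fin_cases j <;>
      simp only [Matrix.cons_val_zero, Matrix.cons_val_one, Matrix.cons_val_two, Matrix.head_cons,
        Matrix.tail_cons, Fin.zero_eta, Fin.mk_one, Fin.reduceFinMk]
    · rw [e1, e2, e2, hx, hy, hxy, hyx, ← hs]; ring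
    · rw [e1, e2, e2, e3, e4, e4, e3, hx, hy, hxy, hyx, ← hs]; ring
    · exact hz

/-- a ternary symmetric form over the field with five elements has an orthogonal basis of equal norms -/
theorem rnf_exists_equal_frame (hK : Fintype.card K = 5) (f : (Fin 3 → K) → (Fin 3 → K) → K)
    (hf : IsSymmetricForm f) :
    ∃ (b : Fin 3 → (Fin 3 → K)) (c : K), c ≠ 0 ∧ (∀ j j', j ≠ j' → f (b j) (b j') = 0) ∧
      ∀ j, f (b j) (b j) = c := by
  classical
  have h2 := rnf_two_ne_zero hK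
  have h5 := rnf_five_eq_zero hK
  obtain ⟨b₀, hb₀o, hb₀n, -⟩ := Cfsg.Agent.Lib.H29.SymmF3.exists_orth_basis_symm h2 f hf
    (k := 3) (by simp)
  have hsc : ∀ j, ∃ t : K, t ≠ 0 ∧ (f (b₀ j) (b₀ j) * (t * t) = 1 ∨ f (b₀ j) (b₀ j) * (t * t) = 2) :=
    fun j => rnf_five_scale hK _ (hb₀n j)
  choose t ht0 ht using hsc
  have hB := hf.bilinear
  set b₁ : Fin 3 → (Fin 3 → K) := fun j => t j • b₀ j with hb₁
  have hb₁o : ∀ j j', j ≠ j' → f (b₁ j) (b₁ j') = 0 := by
    intro j j' hjj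
    simp only [hb₁]
    rw [hB.smul_left, hB.smul_right, hb₀o j j' hjj, mul_zero, mul_zero]
  have hb₁n : ∀ j, f (b₁ j) (b₁ j) = 1 ∨ f (b₁ j) (b₁ j) = 2 := by
    intro j
    simp only [hb₁]
    rw [hB.smul_left, hB.smul_right]
    rcases ht j with h | h
    · left; rw [← h]; ring
    · right; rw [← h]; ring
  -- `s = 1` turns norm `1` into `2`, `s = 3` turns norm `2` into `1`
  have hs12 : (1 : K) * 1 * (2 * 1) = 2 := by ring
  have hs21 : (3 : K) * 3 * (2 * 2) = 1 := by linear_combination (7 : K) * h5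
  rcases hb₁n 0 with h0 | h0 <;> rcases hb₁n 1 with h1 | h1 <;> rcases hb₁n 2 with h2' | h2'
  · refine ⟨b₁, 1, one_ne_zero, hb₁o, fun j => ?_⟩
    fin_cases j
    · exact h0
    · exact h1
    · exact h2'
  · exact rnf_frame_of_pair f hf (b₁ 0) (b₁ 1) (b₁ 2) 1 2 1 (hb₁o 0 1 (by decide)) (hb₁o 0 2 (by decide))
      (hb₁o 1 2 (by decide)) h0 h1 h2' hs12 h2
  · exact rnf_frame_of_pair f hf (b₁ 0) (b₁ 2) (b₁ 1) 1 2 1 (hb₁o 0 2 (by decide)) (hb₁o 0 1 (by decide))
      (hb₁o 2 1 (by decide)) h0 h2' h1 hs12 h2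
  · exact rnf_frame_of_pair f hf (b₁ 1) (b₁ 2) (b₁ 0) 2 1 3 (hb₁o 1 2 (by decide)) (hb₁o 1 0 (by decide))
      (hb₁o 2 0 (by decide)) h1 h2' h0 hs21 one_ne_zero
  · exact rnf_frame_of_pair f hf (b₁ 1) (b₁ 2) (b₁ 0) 1 2 1 (hb₁o 1 2 (by decide)) (hb₁o 1 0 (by decide))
      (hb₁o 2 0 (by decide)) h1 h2' h0 hs12 h2
  · exact rnf_frame_of_pair f hf (b₁ 0) (b₁ 2) (b₁ 1) 2 1 3 (hb₁o 0 2 (by decide)) (hb₁o 0 1 (by decide))
      (hb₁o 2 1 (by decide)) h0 h2' h1 hs21 one_ne_zero
  · exact rnf_frame_of_pair f hf (b₁ 0) (b₁ 1) (b₁ 2) 2 1 3 (hb₁o 0 1 (by decide)) (hb₁o 0 2 (by decide))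
      (hb₁o 1 2 (by decide)) h0 h1 h2' hs21 one_ne_zero
  · refine ⟨b₁, 2, h2, hb₁o, fun j => ?_⟩
    fin_cases j
    · exact h0
    · exact h1
    · exact h2'

end Five

/-! ## the restriction of the hermitian form to the `F₀`-structure (generic `q`) -/

variable {F : Type*} [Field F] [Fintype F] {q : ℕ}

/-- the restriction of the hermitian form to the `F₀`-structure -/
def rnfForm (q : ℕ) (F₀ : Subfield F) (P : GL (Fin 3) F) (hR : IsFormRationalStructure (hermForm 3 F q) F₀ 1 P) :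
    (Fin 3 → F₀) → (Fin 3 → F₀) → F₀ :=
  fun u v => ⟨hermForm 3 F q ((P : Matrix (Fin 3) (Fin 3) F) *ᵥ e4Emb F₀ u)
      ((P : Matrix (Fin 3) (Fin 3) F) *ᵥ e4Emb F₀ v), by
    have := hR (e4Emb F₀ u) (e4Emb F₀ v) (fun i => (u i).2) (fun i => (v i).2)
    rwa [one_mul] at this⟩

theorem rnfForm_coe (F₀ : Subfield F) (P : GL (Fin 3) F) (hR : IsFormRationalStructure (hermForm 3 F q) F₀ 1 P)
    (u v : Fin 3 → F₀) : ((rnfForm q F₀ P hR u v : F₀) : F) =
      hermForm 3 F q ((P : Matrix (Fin 3) (Fin 3) F) *ᵥ e4Emb F₀ u)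
        ((P : Matrix (Fin 3) (Fin 3) F) *ᵥ e4Emb F₀ v) := rfl

theorem rnf_q_ne_zero (hF : Fintype.card F = q ^ 2) : q ≠ 0 := by
  rintro rfl
  have := Fintype.card_pos (α := F)
  rw [hF] at this
  simp at this

theorem rnf_hermForm_sum_left (s : Finset (Fin 3)) (f : Fin 3 → (Fin 3 → F)) (w : Fin 3 → F) :
    hermForm 3 F q (∑ i ∈ s, f i) w = ∑ i ∈ s, hermForm 3 F q (f i) w := by
  classical
  induction s using Finset.induction_on with
  | empty => simp [hermForm]
  | insert a s ha ih =>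
    rw [Finset.sum_insert ha, Finset.sum_insert ha, Cfsg.Agent.Lib.H4.hermForm_add_left, ih]

theorem rnf_hermForm_sum_right (hF : Fintype.card F = q ^ 2) (s : Finset (Fin 3)) (f : Fin 3 → (Fin 3 → F))
    (w : Fin 3 → F) :
    hermForm 3 F q w (∑ i ∈ s, f i) = ∑ i ∈ s, hermForm 3 F q w (f i) := by
  classical
  induction s using Finset.induction_on with
  | empty => simp [hermForm, rnf_q_ne_zero hF]
  | insert a s ha ih =>
    rw [Finset.sum_insert ha, Finset.sum_insert ha, Cfsg.Agent.Lib.H4.hermForm_add_right 3 hF, ih]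

theorem rnf_vec_eq_sum (y : Fin 3 → F) : y = ∑ i, y i • (Pi.single i 1 : Fin 3 → F) := by
  funext j
  simp [Finset.sum_apply, Pi.single_apply]

theorem rnf_isSymmetricForm (hF : Fintype.card F = q ^ 2) (F₀ : Subfield F) (hpow : ∀ a ∈ F₀, a ^ q = a)
    (P : GL (Fin 3) F) (hR : IsFormRationalStructure (hermForm 3 F q) F₀ 1 P) :
    IsSymmetricForm (rnfForm q F₀ P hR) := by
  have hq0 := rnf_q_ne_zero hF
  have hsymm : ∀ u v, rnfForm q F₀ P hR u v = rnfForm q F₀ P hR v u := by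
    intro u v
    apply Subtype.ext
    rw [rnfForm_coe, rnfForm_coe, ← Cfsg.Agent.Lib.H4.hermForm_conj 3 hF
      ((P : Matrix (Fin 3) (Fin 3) F) *ᵥ e4Emb F₀ v)]
    exact hpow _ (rnfForm q F₀ P hR v u).2
  have hleft : ∀ v : Fin 3 → F₀, v ≠ 0 → ∃ x, rnfForm q F₀ P hR x v ≠ 0 := by
    intro v hv
    have hw : (P : Matrix (Fin 3) (Fin 3) F) *ᵥ e4Emb F₀ v ≠ 0 := by
      intro h
      apply hv
      apply e4Emb_injective F₀
      have h1 : ((P⁻¹ : GL (Fin 3) F) : Matrix (Fin 3) (Fin 3) F) *ᵥ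
          ((P : Matrix (Fin 3) (Fin 3) F) *ᵥ e4Emb F₀ v) = 0 := by rw [h, Matrix.mulVec_zero]
      rw [Matrix.mulVec_mulVec, ← Units.val_mul, inv_mul_cancel, Units.val_one, Matrix.one_mulVec] at h1
      rw [h1]; funext i; simp [e4Emb]
    set w := (P : Matrix (Fin 3) (Fin 3) F) *ᵥ e4Emb F₀ v with hwdef
    by_contra hcon
    push Not at hcon
    apply hw
    have h1 : ∀ i : Fin 3, hermForm 3 F q ((P : Matrix (Fin 3) (Fin 3) F) *ᵥ Pi.single i 1) w = 0 := by
      intro i
      have h := congrArg Subtype.val (hcon (Pi.single i 1))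
      rw [rnfForm_coe] at h
      have he : e4Emb F₀ (Pi.single i 1) = Pi.single i 1 := by
        funext j
        by_cases hij : j = i
        · subst hij; simp [e4Emb]
        · simp [e4Emb, Pi.single_eq_of_ne hij]
      rw [he] at h
      exact h
    have h2 : ∀ y : Fin 3 → F, hermForm 3 F q ((P : Matrix (Fin 3) (Fin 3) F) *ᵥ y) w = 0 := by
      intro y
      rw [rnf_vec_eq_sum y, Matrix.mulVec_sum, rnf_hermForm_sum_left]
      apply Finset.sum_eq_zero
      intro i _
      rw [Matrix.mulVec_smul, Cfsg.Agent.Lib.H4.hermForm_smul_left, h1, mul_zero]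
    funext j
    have h3' := h2 (((P⁻¹ : GL (Fin 3) F) : Matrix (Fin 3) (Fin 3) F) *ᵥ Pi.single j 1)
    rw [Matrix.mulVec_mulVec, ← Units.val_mul, mul_inv_cancel, Units.val_one, Matrix.one_mulVec] at h3'
    unfold hermForm at h3'
    rw [Finset.sum_eq_single j] at h3'
    · rw [Pi.single_eq_same, one_mul] at h3'
      exact pow_eq_zero_iff hq0 |>.1 h3'
    · intro b _ hb
      rw [Pi.single_eq_of_ne hb, zero_mul]
    · intro h; exact absurd (Finset.mem_univ j) h
  refine ⟨⟨?_, ?_, ?_, ?_⟩, hsymm, ?_⟩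
  · intro x y v
    apply Subtype.ext
    rw [Subfield.coe_add, rnfForm_coe, rnfForm_coe, rnfForm_coe, e4Emb_add, Matrix.mulVec_add,
      Cfsg.Agent.Lib.H4.hermForm_add_left]
  · intro c x v
    apply Subtype.ext
    rw [Subfield.coe_mul, rnfForm_coe, rnfForm_coe, e4Emb_smul, Matrix.mulVec_smul,
      Cfsg.Agent.Lib.H4.hermForm_smul_left]
  · intro v x y
    apply Subtype.ext
    rw [Subfield.coe_add, rnfForm_coe, rnfForm_coe, rnfForm_coe, e4Emb_add, Matrix.mulVec_add,
      Cfsg.Agent.Lib.H4.hermForm_add_right 3 hF]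
  · intro c v x
    apply Subtype.ext
    rw [Subfield.coe_mul, rnfForm_coe, rnfForm_coe, e4Emb_smul, Matrix.mulVec_smul,
      Cfsg.Agent.Lib.H4.hermForm_smul_right, hpow _ c.2]
  · intro v hv
    obtain ⟨x, hx⟩ := hleft v hv
    exact ⟨⟨x, hx⟩, ⟨x, by rw [hsymm]; exact hx⟩⟩

/-! ## unitary matrices from orthonormal columns, scalars -/

/-- a matrix whose columns are orthonormal for the hermitian form lies in `GU` -/
theorem rnf_mem_GU_of_columns (hF : Fintype.card F = q ^ 2) (U : GL (Fin 3) F)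
    (h : ∀ i j, hermForm 3 F q ((U : Matrix (Fin 3) (Fin 3) F) *ᵥ Pi.single i 1)
      ((U : Matrix (Fin 3) (Fin 3) F) *ᵥ Pi.single j 1) = if i = j then 1 else 0) :
    U ∈ GU 3 F q := by
  intro u v
  show hermForm 3 F q ((U : Matrix (Fin 3) (Fin 3) F) *ᵥ u) ((U : Matrix (Fin 3) (Fin 3) F) *ᵥ v) =
    hermForm 3 F q u v
  have hu := rnf_vec_eq_sum u
  have hv := rnf_vec_eq_sum v
  calc hermForm 3 F q ((U : Matrix (Fin 3) (Fin 3) F) *ᵥ u) ((U : Matrix (Fin 3) (Fin 3) F) *ᵥ v)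
      = hermForm 3 F q ((U : Matrix (Fin 3) (Fin 3) F) *ᵥ ∑ i, u i • (Pi.single i 1 : Fin 3 → F))
          ((U : Matrix (Fin 3) (Fin 3) F) *ᵥ ∑ i, v i • (Pi.single i 1 : Fin 3 → F)) := by
        rw [← hu, ← hv]
    _ = ∑ i, ∑ j, u i * (v j) ^ q * (if i = j then 1 else 0) := by
        rw [Matrix.mulVec_sum, Matrix.mulVec_sum, rnf_hermForm_sum_left]
        apply Finset.sum_congr rfl
        intro i _
        rw [rnf_hermForm_sum_right hF]
        apply Finset.sum_congr rfl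
        intro j _
        rw [Matrix.mulVec_smul, Matrix.mulVec_smul, Cfsg.Agent.Lib.H4.hermForm_smul_left,
          Cfsg.Agent.Lib.H4.hermForm_smul_right, h i j]
        ring
    _ = hermForm 3 F q u v := by
        unfold hermForm
        apply Finset.sum_congr rfl
        intro i _
        simp [Finset.sum_ite_eq]

/-- the scalar matrix `κ • 1` as an element of `GL` -/
def rnfScalar (κ : Fˣ) : GL (Fin 3) F :=
  Units.map (Matrix.scalar (Fin 3) : F →+* Matrix (Fin 3) (Fin 3) F).toMonoidHom κ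

theorem rnfScalar_coe (κ : Fˣ) :
    ((rnfScalar κ : GL (Fin 3) F) : Matrix (Fin 3) (Fin 3) F) = (κ : F) • (1 : Matrix (Fin 3) (Fin 3) F) := by
  simp [rnfScalar, Matrix.smul_one_eq_diagonal]

theorem rnf_comm_of_coe (z : GL (Fin 3) F) (l : F)
    (hz : (z : Matrix (Fin 3) (Fin 3) F) = l • (1 : Matrix (Fin 3) (Fin 3) F)) (X : GL (Fin 3) F) :
    z * X = X * z := by
  apply Units.ext
  rw [Units.val_mul, Units.val_mul, hz, Matrix.smul_mul, Matrix.mul_smul, one_mul, mul_one]

theorem rnf_map_mulVec (F₀ : Subfield F) (A : GL (Fin 3) F₀) (u : Fin 3 → F₀) :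
    ((Matrix.GeneralLinearGroup.map (F₀.subtype : F₀ →+* F) A : GL (Fin 3) F) :
      Matrix (Fin 3) (Fin 3) F) *ᵥ e4Emb F₀ u = e4Emb F₀ ((A : Matrix (Fin 3) (Fin 3) F₀) *ᵥ u) := by
  funext i
  simp [Matrix.mulVec, dotProduct, e4Emb]

theorem rnf_map_entry (F₀ : Subfield F) (A : GL (Fin 3) F₀) (i j : Fin 3) :
    ((Matrix.GeneralLinearGroup.map (F₀.subtype : F₀ →+* F) A : GL (Fin 3) F) :
      Matrix (Fin 3) (Fin 3) F) i j = ((A : Matrix (Fin 3) (Fin 3) F₀) i j : F) := by
  simp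

/-! ## the normal form -/

/-- **SU3-rational_normal_form** (`q = 5`): an index-2 subfield structure carrying the form is `GU`-conjugate to the
standard real structure. -/
theorem rational_normal_form (hF : Fintype.card F = 5 ^ 2) (F₀ : Subfield F) (P : GL (Fin 3) F)
    (hcard : Fintype.card F = Nat.card F₀ ^ 2) (hrat : IsFormRationalStructure (hermForm 3 F 5) F₀ 1 P) :
    ∃ U ∈ GU 3 F 5, ∀ g ∈ subfieldSubgroup F₀ P, ∃ (l : F) (a : Matrix (Fin 3) (Fin 3) F),
      (∀ i j, a i j ^ 5 = a i j) ∧ ((U⁻¹ * g * U : GL (Fin 3) F) : Matrix (Fin 3) (Fin 3) F) = l • a := by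
  classical
  have h5 : Nat.card F₀ = 5 := by
    rw [hF] at hcard
    exact (Nat.pow_left_injective (n := 2) (by norm_num) hcard).symm
  have hFin : Fintype F₀ := Fintype.ofFinite F₀
  have hq5 : Fintype.card F₀ = 5 := by rw [← Nat.card_eq_fintype_card]; exact h5
  have hpow : ∀ a ∈ F₀, a ^ 5 = a := by
    intro a ha
    have h := FiniteField.pow_card (⟨a, ha⟩ : F₀)
    rw [hq5] at h
    exact congrArg Subtype.val h
  have hsf := rnf_isSymmetricForm hF F₀ hpow P hrat
  obtain ⟨b, c, hc, hbo, hbd⟩ := rnf_exists_equal_frame hq5 (rnfForm 5 F₀ P hrat) hsf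
  have hB := hsf.bilinear
  -- the scalar `κ` with `κ κ^5 = c⁻¹`
  obtain ⟨κ, hκ⟩ := Cfsg.Agent.Lib.H23.UP2.exists_norm_eq hF ((c⁻¹ : F₀) : F) (hpow _ (c⁻¹).2)
  have hc' : (c : F) ≠ 0 := fun h => hc (Subtype.ext h)
  have hκc : κ * κ ^ 5 * (c : F) = 1 := by
    rw [hκ, ← Subfield.coe_mul, inv_mul_cancel₀ hc, Subfield.coe_one]
  have hκ0 : κ ≠ 0 := by
    rintro rfl
    rw [zero_mul, zero_mul] at hκc
    exact zero_ne_one hκc
  -- the matrix with columns `b j`
  set A : Matrix (Fin 3) (Fin 3) F₀ := Matrix.of (fun i j => b j i) with hA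
  have hAcol : ∀ x : Fin 3 → F₀, A *ᵥ x = ∑ j, x j • b j := by
    intro x
    funext i
    simp [Matrix.mulVec, dotProduct, hA, Finset.sum_apply, mul_comm]
  have hsumB : ∀ (s : Finset (Fin 3)) (f : Fin 3 → (Fin 3 → F₀)) (w : Fin 3 → F₀),
      rnfForm 5 F₀ P hrat (∑ i ∈ s, f i) w = ∑ i ∈ s, rnfForm 5 F₀ P hrat (f i) w := by
    intro s f w
    induction s using Finset.induction_on with
    | empty =>
      have := hB.smul_left 0 0 w
      rw [zero_smul, zero_mul] at this
      rw [Finset.sum_empty, Finset.sum_empty]; exact this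
    | insert a s ha ih =>
      rw [Finset.sum_insert ha, Finset.sum_insert ha, hB.add_left, ih]
  have hAinj : Function.Injective A.mulVec := by
    intro x y hxy
    have h0 : A *ᵥ (x - y) = 0 := by rw [Matrix.mulVec_sub]; exact sub_eq_zero.mpr hxy
    rw [hAcol] at h0
    have hz : ∀ k, (x - y) k = 0 := by
      intro k
      have h1 := congrArg (fun w => rnfForm 5 F₀ P hrat w (b k)) h0
      beta_reduce at h1
      rw [hsumB, Finset.sum_eq_single k] at h1
      · rw [hB.smul_left, hbd] at h1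
        have h00 : rnfForm 5 F₀ P hrat 0 (b k) = 0 := by
          have := hB.smul_left 0 0 (b k)
          rwa [zero_smul, zero_mul] at this
        rw [h00] at h1
        rcases mul_eq_zero.mp h1 with h | h
        · exact h
        · exact absurd h hc
      · intro i _ hik
        rw [hB.smul_left, hbo i k hik, mul_zero]
      · intro h; exact absurd (Finset.mem_univ k) h
    funext k
    have := hz k
    rw [Pi.sub_apply] at this
    exact sub_eq_zero.mp this
  have hAunit : IsUnit A := Matrix.mulVec_injective_iff_isUnit.mp hAinj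
  obtain ⟨A', hA'⟩ := hAunit
  have hA'col : ∀ j, (A' : Matrix (Fin 3) (Fin 3) F₀) *ᵥ Pi.single j 1 = b j := by
    intro j
    rw [hA', hAcol]
    rw [Finset.sum_eq_single j]
    · rw [Pi.single_eq_same, one_smul]
    · intro i _ hij
      rw [Pi.single_eq_of_ne hij, zero_smul]
    · intro h; exact absurd (Finset.mem_univ j) h
  set M : GL (Fin 3) F := Matrix.GeneralLinearGroup.map (F₀.subtype : F₀ →+* F) A' with hM
  set S : GL (Fin 3) F := rnfScalar (Units.mk0 κ hκ0) with hS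
  have hScoe : (S : Matrix (Fin 3) (Fin 3) F) = κ • (1 : Matrix (Fin 3) (Fin 3) F) := by
    rw [hS, rnfScalar_coe]; rfl
  have hScomm : ∀ X : GL (Fin 3) F, S * X = X * S := rnf_comm_of_coe S κ hScoe
  have hsingle : ∀ j : Fin 3, (Pi.single j 1 : Fin 3 → F) = e4Emb F₀ (Pi.single j 1) := by
    intro j
    funext i
    by_cases hij : i = j
    · subst hij; simp [e4Emb]
    · simp [e4Emb, Pi.single_eq_of_ne hij]
  have hUcol : ∀ j : Fin 3, ((S * P * M : GL (Fin 3) F) : Matrix (Fin 3) (Fin 3) F) *ᵥ Pi.single j 1 =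
      κ • ((P : Matrix (Fin 3) (Fin 3) F) *ᵥ e4Emb F₀ (b j)) := by
    intro j
    rw [Units.val_mul, Units.val_mul, hScoe, ← Matrix.mulVec_mulVec, ← Matrix.mulVec_mulVec, hsingle j, hM,
      rnf_map_mulVec, hA'col, Matrix.smul_mulVec, Matrix.one_mulVec]
  refine ⟨S * P * M, ?_, ?_⟩
  · apply rnf_mem_GU_of_columns hF
    intro i j
    rw [hUcol, hUcol, Cfsg.Agent.Lib.H4.hermForm_smul_left, Cfsg.Agent.Lib.H4.hermForm_smul_right,
      ← rnfForm_coe F₀ P hrat]
    by_cases hij : i = j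
    · subst hij
      rw [hbd, if_pos rfl]
      linear_combination hκc
    · rw [hbo i j hij, if_neg hij, Subfield.coe_zero, mul_zero, mul_zero]
  · intro g hg
    obtain ⟨g0, zz, hzs, rfl⟩ := Cfsg.Agent.Lib.H14.UP3.exists_of_mem_subfieldSubgroup F₀ P g hg
    obtain ⟨l, hl⟩ := (mem_scalars_iff zz).mp hzs
    have hzcomm : ∀ X : GL (Fin 3) F, zz * X = X * zz := rnf_comm_of_coe zz l hl
    have hconj : (S * P * M)⁻¹ * (P * (Matrix.GeneralLinearGroup.map (F₀.subtype : F₀ →+* F) g0 * zz) * P⁻¹) *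
        (S * P * M) = zz * Matrix.GeneralLinearGroup.map (F₀.subtype : F₀ →+* F) (A'⁻¹ * g0 * A') := by
      rw [map_mul, map_mul, map_inv, ← hM]
      set G0 : GL (Fin 3) F := Matrix.GeneralLinearGroup.map (F₀.subtype : F₀ →+* F) g0 with hG0
      have e1 : P * (G0 * zz) * P⁻¹ * (S * P * M) = S * P * M * (zz * (M⁻¹ * G0 * M)) := by
        calc P * (G0 * zz) * P⁻¹ * (S * P * M) = P * (G0 * zz) * (P⁻¹ * S * P) * M := by group
          _ = P * (G0 * zz) * S * M := by rw [← hScomm P⁻¹, mul_assoc S, inv_mul_cancel, mul_one]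
          _ = P * G0 * (zz * S) * M := by group
          _ = P * G0 * (S * zz) * M := by rw [hScomm zz]
          _ = P * (G0 * S) * zz * M := by group
          _ = P * (S * G0) * zz * M := by rw [hScomm G0]
          _ = (P * S) * G0 * zz * M := by group
          _ = (S * P) * G0 * zz * M := by rw [hScomm P]
          _ = S * P * (G0 * zz) * M := by group
          _ = S * P * (zz * G0) * M := by rw [hzcomm G0]
          _ = S * P * (zz * M) * (M⁻¹ * G0 * M) := by group
          _ = S * P * (M * zz) * (M⁻¹ * G0 * M) := by rw [hzcomm M]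
          _ = S * P * M * (zz * (M⁻¹ * G0 * M)) := by group
      rw [mul_assoc, e1, inv_mul_cancel_left]
    refine ⟨(l : F), ((Matrix.GeneralLinearGroup.map (F₀.subtype : F₀ →+* F) (A'⁻¹ * g0 * A') : GL (Fin 3) F) :
      Matrix (Fin 3) (Fin 3) F), ?_, ?_⟩
    · intro i j
      rw [rnf_map_entry]
      exact hpow _ (Subtype.mem _)
    · rw [hconj, Units.val_mul, hl, Matrix.smul_mul, one_mul]

end Cfsg.Agent.Lib.H7.SU3
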