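import Cfsg.Agent.Lib.H28.Fi22M.Base

set_option autoImplicit false
set_option maxRecDepth 100000

/-!
# S2053, piece CL: Coxeter involutions in every central extension of `Fi22` (helper7)

Given an involution `t'` over `a` any two conjugates of which commute as soon as their images do, the
conjugates `g⁰ i = ṽ_i t' ṽ_i⁻¹` over `a, …, i` satisfy the commutation relations of `Y₃₃₂` exactly, and the braid
relations up to central involutions `u_ij`; these are removed along the tree by central corrections.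
-/

namespace Cfsg.Agent.Lib.H7.Fi22M

open Cfsg.Agent.Lib.H28.Fi22M
open Cfsg.Agent.Lib.H14.SuzM (wv wv_cons wv_nil map_wv)

/-- the conclusion of **KL** for `Fi22` and `t = a` -/
def InvolLift : Prop :=
  ∀ (Γ : Type) [Group Γ] (σ : Γ →* FG), Function.Surjective σ → σ.ker ≤ Subgroup.center Γ →
    ∃ t' : Γ, σ t' = fg 0 ∧ t' * t' = 1 ∧
      ∀ x y : Γ, σ (x * t' * x⁻¹) * σ (y * t' * y⁻¹) = σ (y * t' * y⁻¹) * σ (x * t' * x⁻¹) →
        (x * t' * x⁻¹) * (y * t' * y⁻¹) = (y * t' * y⁻¹) * (x * t' * x⁻¹)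

/-- the conclusion of **CL** -/
def CoxLift : Prop :=
  ∀ (Γ : Type) [Group Γ] (σ : Γ →* FG), Function.Surjective σ → σ.ker ≤ Subgroup.center Γ →
    ∃ g : ℕ → Γ, (∀ i < 9, σ (g i) = fg i) ∧ (∀ i < 9, g i * g i = 1) ∧ ∀ w ∈ coxL, wv g w = 1

section generic

variable {K : Type*} [Group K]

theorem wv4 (g : ℕ → K) (i j : ℕ) : wv g [i, j, i, j] = g i * g j * g i * g j := by
  simp [wv, mul_assoc]

theorem wv6 (g : ℕ → K) (i j : ℕ) :
    wv g [i, j, i, j, i, j] = g i * g j * g i * g j * g i * g j := by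
  simp [wv, mul_assoc]

theorem inv_of_invol {x : K} (hx : x * x = 1) : x⁻¹ = x := inv_eq_of_mul_eq_one_left hx

theorem braid_conj {x y : K} (hx : x * x = 1) (hy : y * y = 1)
    (hb : x * y * x * y * x * y = 1) : (x * y) * x * (x * y)⁻¹ = y := by
  rw [mul_inv_rev, inv_of_invol hx, inv_of_invol hy]
  have h1 : x * y * x * (y * x) = (x * y * x * y * x * y) * y⁻¹ := by group
  rw [h1, hb, one_mul, inv_of_invol hy]

theorem braid_eq {x y : K} (hx : x * x = 1) (hy : y * y = 1)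
    (hb : x * y * x * y * x * y = 1) : x * y * x = y * x * y := by
  have h1 : x * y * x = (x * y * x * y * x * y) * (y⁻¹ * x⁻¹ * y⁻¹) := by group
  rw [h1, hb, one_mul, inv_of_invol hx, inv_of_invol hy]

theorem comm_of_sq {x y : K} (hx : x * x = 1) (hy : y * y = 1) (h : x * y * x * y = 1) :
    x * y = y * x := by
  have h1 : x * y = (x * y * x * y) * (y⁻¹ * x⁻¹) := by group
  rw [h1, h, one_mul, inv_of_invol hx, inv_of_invol hy]

theorem sq_of_comm {x y : K} (hx : x * x = 1) (hy : y * y = 1) (h : x * y = y * x) :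
    x * y * x * y = 1 := by
  have h1 : x * y * x * y = x * (y * x) * y := by group
  rw [h1, ← h]
  have h2 : x * (x * y) * y = (x * x) * (y * y) := by group
  rw [h2, hx, hy, one_mul]

theorem u_sq {P Q : K} (hP : P * P = 1) (hQ : Q * Q = 1)
    (hc : (P * Q * P) * (Q * P * Q) = (Q * P * Q) * (P * Q * P)) :
    (P * Q * P * Q * P * Q) * (P * Q * P * Q * P * Q) = 1 := by
  have h1 : P * Q * P * Q * P * Q = (P * Q * P) * (Q * P * Q) := by group
  have hp : (P * Q * P) * (P * Q * P) = 1 := by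
    have : (P * Q * P) * (P * Q * P) = P * Q * (P * P) * Q * P := by group
    rw [this, hP, mul_one]
    have : P * Q * Q * P = P * (Q * Q) * P := by group
    rw [this, hQ, mul_one, hP]
  have hq : (Q * P * Q) * (Q * P * Q) = 1 := by
    have : (Q * P * Q) * (Q * P * Q) = Q * P * (Q * Q) * P * Q := by group
    rw [this, hQ, mul_one]
    have : Q * P * P * Q = Q * (P * P) * Q := by group
    rw [this, hP, mul_one, hQ]
  rw [h1]
  have h2 : (P * Q * P) * (Q * P * Q) * ((P * Q * P) * (Q * P * Q)) =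
      (P * Q * P) * ((Q * P * Q) * (P * Q * P)) * (Q * P * Q) := by group
  rw [h2, ← hc]
  have h3 : (P * Q * P) * ((P * Q * P) * (Q * P * Q)) * (Q * P * Q) =
      ((P * Q * P) * (P * Q * P)) * ((Q * P * Q) * (Q * P * Q)) := by group
  rw [h3, hp, hq, one_mul]

/-- one step along the tree: conjugating by `x_i x_j V` -/
theorem conj_step (f : ℕ → K) (a : K) (i j : ℕ) (l : List ℕ) (hi : f i * f i = 1)
    (hj : f j * f j = 1) (hb : f i * f j * f i * f j * f i * f j = 1)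
    (ih : wv f l * a * (wv f l)⁻¹ = f i) :
    wv f (i :: j :: l) * a * (wv f (i :: j :: l))⁻¹ = f j := by
  rw [wv_cons, wv_cons]
  have h1 : f i * (f j * wv f l) * a * (f i * (f j * wv f l))⁻¹ =
      (f i * f j) * (wv f l * a * (wv f l)⁻¹) * (f i * f j)⁻¹ := by group
  rw [h1, ih]
  exact braid_conj hi hj hb

/-- multiplying the letters by central elements -/
theorem wv_mul_central (g c : ℕ → K) (hc : ∀ k, c k ∈ Subgroup.center K) (w : List ℕ) :
    wv (fun k => g k * c k) w = wv g w * wv c w := by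
  induction w with
  | nil => simp [wv]
  | cons x w ih =>
    rw [wv_cons, wv_cons, wv_cons, ih]
    have h1 : c x * wv g w = wv g w * c x := (Subgroup.mem_center_iff.1 (hc x) (wv g w)).symm
    calc g x * c x * (wv g w * wv c w) = g x * (c x * wv g w) * wv c w := by group
      _ = g x * (wv g w * c x) * wv c w := by rw [h1]
      _ = g x * wv g w * (c x * wv c w) := by group

end generic

/-- the words `v_j` with `v_j a v_j⁻¹ = ` the letter `j` -/
def vL : ℕ → List ℕ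
  | 0 => []
  | 1 => [0, 1]
  | 2 => [1, 2, 0, 1]
  | 3 => [2, 3, 1, 2, 0, 1]
  | 4 => [3, 4, 2, 3, 1, 2, 0, 1]
  | 5 => [4, 5, 3, 4, 2, 3, 1, 2, 0, 1]
  | 6 => [5, 6, 4, 5, 3, 4, 2, 3, 1, 2, 0, 1]
  | 7 => [3, 7, 2, 3, 1, 2, 0, 1]
  | 8 => [7, 8, 3, 7, 2, 3, 1, 2, 0, 1]
  | _ => []

theorem fg_braid (i j : ℕ) (h : [i, j, i, j, i, j] ∈ coxL) :
    fg i * fg j * fg i * fg j * fg i * fg j = 1 := by
  rw [← wv6]
  exact wv_fg_relW _ (coxL_sub _ h)

theorem fg_sq (i j : ℕ) (h : [i, j, i, j] ∈ coxL) : fg i * fg j * fg i * fg j = 1 := by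
  rw [← wv4]
  exact wv_fg_relW _ (coxL_sub _ h)

/-- `v_j a v_j⁻¹` is the letter `j` -/
theorem conj_vL : ∀ j < 9, wv fg (vL j) * fg 0 * (wv fg (vL j))⁻¹ = fg j := by
  have c0 : wv fg (vL 0) * fg 0 * (wv fg (vL 0))⁻¹ = fg 0 := by simp [vL, wv]
  have c1 : wv fg (vL 1) * fg 0 * (wv fg (vL 1))⁻¹ = fg 1 :=
    conj_step fg (fg 0) 0 1 (vL 0) (fg_mul_self 0) (fg_mul_self 1) (fg_braid 0 1 (by decide)) c0
  have c2 : wv fg (vL 2) * fg 0 * (wv fg (vL 2))⁻¹ = fg 2 :=
    conj_step fg (fg 0) 1 2 (vL 1) (fg_mul_self 1) (fg_mul_self 2) (fg_braid 1 2 (by decide)) c1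
  have c3 : wv fg (vL 3) * fg 0 * (wv fg (vL 3))⁻¹ = fg 3 :=
    conj_step fg (fg 0) 2 3 (vL 2) (fg_mul_self 2) (fg_mul_self 3) (fg_braid 2 3 (by decide)) c2
  have c4 : wv fg (vL 4) * fg 0 * (wv fg (vL 4))⁻¹ = fg 4 :=
    conj_step fg (fg 0) 3 4 (vL 3) (fg_mul_self 3) (fg_mul_self 4) (fg_braid 3 4 (by decide)) c3
  have c5 : wv fg (vL 5) * fg 0 * (wv fg (vL 5))⁻¹ = fg 5 :=
    conj_step fg (fg 0) 4 5 (vL 4) (fg_mul_self 4) (fg_mul_self 5) (fg_braid 4 5 (by decide)) c4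
  have c6 : wv fg (vL 6) * fg 0 * (wv fg (vL 6))⁻¹ = fg 6 :=
    conj_step fg (fg 0) 5 6 (vL 5) (fg_mul_self 5) (fg_mul_self 6) (fg_braid 5 6 (by decide)) c5
  have c7 : wv fg (vL 7) * fg 0 * (wv fg (vL 7))⁻¹ = fg 7 :=
    conj_step fg (fg 0) 3 7 (vL 3) (fg_mul_self 3) (fg_mul_self 7) (fg_braid 3 7 (by decide)) c3
  have c8 : wv fg (vL 8) * fg 0 * (wv fg (vL 8))⁻¹ = fg 8 :=
    conj_step fg (fg 0) 7 8 (vL 7) (fg_mul_self 7) (fg_mul_self 8) (fg_braid 7 8 (by decide)) c7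
  intro j hj
  interval_cases j
  · exact c0
  · exact c1
  · exact c2
  · exact c3
  · exact c4
  · exact c5
  · exact c6
  · exact c7
  · exact c8

/-- the shape of the Coxeter relators -/
theorem coxL_shape : ∀ w ∈ coxL, ∃ i < 9, ∃ j < 9,
    (w = [i, j, i, j] ∨ w = [i, j, i, j, i, j]) := by
  decide

section correct

variable {Γ : Type*} [Group Γ]

theorem cen4 {a b : Γ} (ha : a ∈ Subgroup.center Γ) (ha2 : a * a = 1) (hb2 : b * b = 1) :
    a * b * a * b = 1 := by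
  have h1 : b * a = a * b := (Subgroup.mem_center_iff.1 ha b)
  calc a * b * a * b = a * (b * a) * b := by group
    _ = a * (a * b) * b := by rw [h1]
    _ = (a * a) * (b * b) := by group
    _ = 1 := by rw [ha2, hb2, one_mul]

theorem cen6 {a u : Γ} (_ha : a ∈ Subgroup.center Γ) (hu : u ∈ Subgroup.center Γ)
    (ha2 : a * a = 1) (hu2 : u * u = 1) :
    u * (a * (a * u) * a * (a * u) * a * (a * u)) = 1 := by
  have h1 : a * (a * u) = u := by rw [← mul_assoc, ha2, one_mul]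
  have h2 : u * a = a * u := (Subgroup.mem_center_iff.1 hu a).symm
  calc u * (a * (a * u) * a * (a * u) * a * (a * u))
      = u * ((a * (a * u)) * (a * (a * u)) * (a * (a * u))) := by group
    _ = u * (u * u * u) := by rw [h1]
    _ = (u * u) * (u * u) := by group
    _ = 1 := by rw [hu2, one_mul]

/-- the central corrections along the tree `a-b-c-d-e-f-g`, `d-h-i` -/
theorem cox_correct (g0 : ℕ → Γ) (T : Subgroup Γ) (hT : T ≤ Subgroup.center Γ)
    (hT2 : ∀ z ∈ T, z * z = 1)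
    (h4 : ∀ i j, [i, j, i, j] ∈ coxL → wv g0 [i, j, i, j] = 1)
    (h6 : ∀ i j, [i, j, i, j, i, j] ∈ coxL → wv g0 [i, j, i, j, i, j] ∈ T) :
    ∃ c : ℕ → Γ, (∀ k, c k ∈ T) ∧ ∀ w ∈ coxL, wv (fun k => g0 k * c k) w = 1 := by
  set u : ℕ → ℕ → Γ := fun i j => wv g0 [i, j, i, j, i, j] with hu
  have u01 : u 0 1 ∈ T := h6 0 1 (by decide)
  have u12 : u 1 2 ∈ T := h6 1 2 (by decide)
  have u23 : u 2 3 ∈ T := h6 2 3 (by decide)
  have u34 : u 3 4 ∈ T := h6 3 4 (by decide)
  have u45 : u 4 5 ∈ T := h6 4 5 (by decide)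
  have u56 : u 5 6 ∈ T := h6 5 6 (by decide)
  have u37 : u 3 7 ∈ T := h6 3 7 (by decide)
  have u78 : u 7 8 ∈ T := h6 7 8 (by decide)
  let c : ℕ → Γ := fun k => match k with
    | 0 => 1
    | 1 => u 0 1
    | 2 => u 0 1 * u 1 2
    | 3 => u 0 1 * u 1 2 * u 2 3
    | 4 => u 0 1 * u 1 2 * u 2 3 * u 3 4
    | 5 => u 0 1 * u 1 2 * u 2 3 * u 3 4 * u 4 5
    | 6 => u 0 1 * u 1 2 * u 2 3 * u 3 4 * u 4 5 * u 5 6
    | 7 => u 0 1 * u 1 2 * u 2 3 * u 3 7
    | 8 => u 0 1 * u 1 2 * u 2 3 * u 3 7 * u 7 8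
    | _ => 1
  have c0 : c 0 ∈ T := T.one_mem
  have c1 : c 1 ∈ T := u01
  have c2 : c 2 ∈ T := T.mul_mem c1 u12
  have c3 : c 3 ∈ T := T.mul_mem c2 u23
  have c4 : c 4 ∈ T := T.mul_mem c3 u34
  have c5 : c 5 ∈ T := T.mul_mem c4 u45
  have c6 : c 6 ∈ T := T.mul_mem c5 u56
  have c7 : c 7 ∈ T := T.mul_mem c3 u37
  have c8 : c 8 ∈ T := T.mul_mem c7 u78
  have hcT : ∀ k, c k ∈ T := by
    intro k
    match k with
    | 0 => exact c0
    | 1 => exact c1
    | 2 => exact c2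
    | 3 => exact c3
    | 4 => exact c4
    | 5 => exact c5
    | 6 => exact c6
    | 7 => exact c7
    | 8 => exact c8
    | _ + 9 => exact T.one_mem
  have hcc : ∀ k, c k ∈ Subgroup.center Γ := fun k => hT (hcT k)
  -- non-edges
  have N : ∀ i j, [i, j, i, j] ∈ coxL → wv (fun k => g0 k * c k) [i, j, i, j] = 1 := by
    intro i j hij
    rw [wv_mul_central g0 c hcc, h4 i j hij, one_mul, wv4]
    exact cen4 (hcc i) (hT2 _ (hcT i)) (hT2 _ (hcT j))
  -- edges: `c j = c i * u i j`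
  have E : ∀ i j, [i, j, i, j, i, j] ∈ coxL → c j = c i * u i j →
      wv (fun k => g0 k * c k) [i, j, i, j, i, j] = 1 := by
    intro i j hij hc
    rw [wv_mul_central g0 c hcc, wv6 c, hc]
    exact cen6 (hcc i) (hT (h6 i j hij)) (hT2 _ (hcT i)) (hT2 _ (h6 i j hij))
  refine ⟨c, hcT, ?_⟩
  intro w hw
  simp only [coxL, List.mem_cons, List.not_mem_nil, or_false] at hw
  rcases hw with rfl | rfl | rfl | rfl | rfl | rfl | rfl | rfl | rfl | rfl | rfl | rfl | rfl | rfl |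
    rfl | rfl | rfl | rfl | rfl | rfl | rfl | rfl | rfl | rfl | rfl | rfl | rfl | rfl | rfl | rfl |
    rfl | rfl | rfl | rfl | rfl | rfl
  · exact E 0 1 (by decide) (by show u 0 1 = 1 * u 0 1; rw [one_mul])
  · exact N 0 2 (by decide)
  · exact N 0 3 (by decide)
  · exact N 0 4 (by decide)
  · exact N 0 5 (by decide)
  · exact N 0 6 (by decide)
  · exact N 0 7 (by decide)
  · exact N 0 8 (by decide)
  · exact E 1 2 (by decide) rfl
  · exact N 1 3 (by decide)
  · exact N 1 4 (by decide)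
  · exact N 1 5 (by decide)
  · exact N 1 6 (by decide)
  · exact N 1 7 (by decide)
  · exact N 1 8 (by decide)
  · exact E 2 3 (by decide) rfl
  · exact N 2 4 (by decide)
  · exact N 2 5 (by decide)
  · exact N 2 6 (by decide)
  · exact N 2 7 (by decide)
  · exact N 2 8 (by decide)
  · exact E 3 4 (by decide) rfl
  · exact N 3 5 (by decide)
  · exact N 3 6 (by decide)
  · exact E 3 7 (by decide) rfl
  · exact N 3 8 (by decide)
  · exact E 4 5 (by decide) rfl
  · exact N 4 6 (by decide)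
  · exact N 4 7 (by decide)
  · exact N 4 8 (by decide)
  · exact E 5 6 (by decide) rfl
  · exact N 5 7 (by decide)
  · exact N 5 8 (by decide)
  · exact N 6 7 (by decide)
  · exact N 6 8 (by decide)
  · exact E 7 8 (by decide) rfl

end correct

section main

/-- conjugating an involution gives an involution -/
theorem conj_invol {K : Type*} [Group K] (x t : K) (ht : t * t = 1) :
    (x * t * x⁻¹) * (x * t * x⁻¹) = 1 := by
  have h1 : (x * t * x⁻¹) * (x * t * x⁻¹) = x * (t * t) * x⁻¹ := by group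
  rw [h1, ht, mul_one, mul_inv_cancel]

/-- `p = g i g j g i` is again a conjugate of `t'` -/
theorem conj_conj {K : Type*} [Group K] (a v t : K) (ha : a * a = 1) :
    (a * v) * t * (a * v)⁻¹ = a * (v * t * v⁻¹) * a := by
  have h1 : (a * v) * t * (a * v)⁻¹ = a * (v * t * v⁻¹) * a⁻¹ := by group
  rw [h1, inv_of_invol ha]

theorem coxL_lt : ∀ w ∈ coxL, ∀ x ∈ w, x < 9 := by decide

/-- **CL** -/
theorem coxLift_of_involLift (h : InvolLift) : CoxLift := by
  intro Γ _ σ hs hc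
  obtain ⟨t', ht, ht2, hcomm⟩ := h Γ σ hs hc
  choose y hy using fun i : ℕ => hs (fg i)
  have hσy : (fun x => σ (y x)) = fg := funext hy
  have hσV : ∀ j, σ (wv y (vL j)) = wv fg (vL j) := by
    intro j
    rw [map_wv, hσy]
  set g0 : ℕ → Γ := fun j => wv y (vL j) * t' * (wv y (vL j))⁻¹ with hg0
  have hσg0 : ∀ j < 9, σ (g0 j) = fg j := by
    intro j hj
    simp only [hg0, map_mul, map_inv, hσV, ht]
    exact conj_vL j hj
  have hg0sq : ∀ j, g0 j * g0 j = 1 := fun j => conj_invol _ _ ht2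
  -- the central involutions of the kernel
  let T : Subgroup Γ :=
    { carrier := {z | z ∈ σ.ker ∧ z * z = 1}
      one_mem' := ⟨σ.ker.one_mem, one_mul 1⟩
      mul_mem' := by
        rintro a b ⟨ha, ha2⟩ ⟨hb, hb2⟩
        refine ⟨σ.ker.mul_mem ha hb, ?_⟩
        have h1 : b * a = a * b := (Subgroup.mem_center_iff.1 (hc ha) b)
        calc a * b * (a * b) = a * (b * a) * b := by group
          _ = a * (a * b) * b := by rw [h1]
          _ = (a * a) * (b * b) := by group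
          _ = 1 := by rw [ha2, hb2, one_mul]
      inv_mem' := by
        rintro a ⟨ha, ha2⟩
        rw [inv_of_invol ha2]
        exact ⟨ha, ha2⟩ }
  have hT : T ≤ Subgroup.center Γ := fun z hz => hc hz.1
  have hT2 : ∀ z ∈ T, z * z = 1 := fun z hz => hz.2
  have hTσ : ∀ z ∈ T, σ z = 1 := fun z hz => MonoidHom.mem_ker.1 hz.1
  -- non-edges
  have h4 : ∀ i j, [i, j, i, j] ∈ coxL → wv g0 [i, j, i, j] = 1 := by
    intro i j hij
    obtain ⟨hi, hj⟩ : i < 9 ∧ j < 9 :=
      ⟨coxL_lt _ hij i (by simp), coxL_lt _ hij j (by simp)⟩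
    rw [wv4]
    apply sq_of_comm (hg0sq i) (hg0sq j)
    apply hcomm
    show σ (g0 i) * σ (g0 j) = σ (g0 j) * σ (g0 i)
    rw [hσg0 i hi, hσg0 j hj]
    exact comm_of_sq (fg_mul_self i) (fg_mul_self j) (fg_sq i j hij)
  -- edges
  have h6 : ∀ i j, [i, j, i, j, i, j] ∈ coxL → wv g0 [i, j, i, j, i, j] ∈ T := by
    intro i j hij
    obtain ⟨hi, hj⟩ : i < 9 ∧ j < 9 :=
      ⟨coxL_lt _ hij i (by simp), coxL_lt _ hij j (by simp)⟩
    rw [wv6]
    refine ⟨?_, ?_⟩
    · rw [MonoidHom.mem_ker]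
      simp only [map_mul, hσg0 i hi, hσg0 j hj]
      exact fg_braid i j hij
    · apply u_sq (hg0sq i) (hg0sq j)
      have hp := conj_conj (g0 i) (wv y (vL j)) t' (hg0sq i)
      have hq := conj_conj (g0 j) (wv y (vL i)) t' (hg0sq j)
      have := hcomm (g0 i * wv y (vL j)) (g0 j * wv y (vL i)) (by
        rw [hp, hq]
        show σ (g0 i * g0 j * g0 i) * σ (g0 j * g0 i * g0 j) =
          σ (g0 j * g0 i * g0 j) * σ (g0 i * g0 j * g0 i)
        simp only [map_mul, hσg0 i hi, hσg0 j hj]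
        rw [braid_eq (fg_mul_self i) (fg_mul_self j) (fg_braid i j hij)])
      rw [hp, hq] at this
      exact this
  obtain ⟨c, hcT, hrel⟩ := cox_correct g0 T hT hT2 h4 h6
  refine ⟨fun k => g0 k * c k, ?_, ?_, hrel⟩
  · intro i hi
    show σ (g0 i * c i) = fg i
    rw [map_mul, hσg0 i hi, hTσ _ (hcT i), mul_one]
  · intro i _
    show g0 i * c i * (g0 i * c i) = 1
    have h1 : c i * g0 i = g0 i * c i := (Subgroup.mem_center_iff.1 (hT (hcT i)) (g0 i)).symm
    calc g0 i * c i * (g0 i * c i) = g0 i * (c i * g0 i) * c i := by group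
      _ = g0 i * (g0 i * c i) * c i := by rw [h1]
      _ = (g0 i * g0 i) * (c i * c i) := by group
      _ = 1 := by rw [hg0sq i, hT2 _ (hcT i), one_mul]

end main

end Cfsg.Agent.Lib.H7.Fi22M
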