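import Mathlib
import Cfsg.Agent.Lib.H28.PSp4Defs
import Cfsg.Agent.Lib.H12.SL2Syl2

/-!
# S5320 piece QF (helper7): two facts on a Sylow `2`-subgroup `Q` of `SL₂(F)` from `Syl2Data`
-/

set_option autoImplicit false

namespace Cfsg.Agent.Lib.H7.PSp4

open Matrix Cfsg.Agent.Lib.H9.SqC Cfsg.Agent.Lib.H28.PSp4 Cfsg.Agent.Lib.H12

variable {F : Type*} [Field F]

/-- **QF** (a). Non-central elements of `Q` do not commute with all of `Q`. -/
theorem exists_not_comm (h2 : (2 : F) ≠ 0) {Q : Subgroup (SL2 F)} {x s₀ : SL2 F}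
    (h : Syl2Data Q x s₀) {b : SL2 F} (hb : b ∈ Q) (hb1 : b ≠ 1) (hb2 : b ≠ -1) :
    ∃ d ∈ Q, b * d ≠ d * b := by
  rcases h.mem_or hb with hc | hi
  · refine ⟨s₀, h.sS, ?_⟩
    intro hcomm
    have hinv := (h.dic h2).inv b ⟨hb, hc⟩
    have h1 : s₀ * b * s₀⁻¹ = b := by
      rw [← hcomm, mul_inv_cancel_right]
    rw [h1] at hinv
    have h3 : b * b = 1 := by
      nth_rewrite 2 [hinv]
      exact mul_inv_cancel b
    rcases (sl2_mul_self_eq_one_iff h2 b).mp h3 with h4 | h4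
    · exact hb1 h4
    · exact hb2 h4
  · refine ⟨x, h.xS, ?_⟩
    intro hcomm
    apply h.x_ne_inv h2
    rw [← hi, hcomm, mul_inv_cancel_right]

/-- **QF** (b). `Q` is generated by the products of two of its elements of square `-1`. -/
theorem le_of_mul_mem (h2 : (2 : F) ≠ 0) {Q : Subgroup (SL2 F)} {x s₀ : SL2 F}
    (h : Syl2Data Q x s₀) (T : Subgroup (SL2 F))
    (hT : ∀ a ∈ Q, ∀ b ∈ Q, a * a = -1 → b * b = -1 → a * b ∈ T) : Q ≤ T := by
  have hns := h.nonScalar h2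
  intro t ht
  rcases h.mem_or ht with hc | hi
  · -- t ∈ C(x): t = (t s₀) s₀⁻¹
    have hcx : t * x * t⁻¹ = x := conj_of_mem_centralizer hc
    have h1 : (t * s₀) * x * (t * s₀)⁻¹ = x⁻¹ := by
      calc (t * s₀) * x * (t * s₀)⁻¹ = t * (s₀ * x * s₀⁻¹) * t⁻¹ := by group
        _ = (t * x * t⁻¹)⁻¹ := by rw [h.sx]; group
        _ = x⁻¹ := by rw [hcx]
    have h2' : s₀⁻¹ * x * s₀⁻¹⁻¹ = x⁻¹ := inverting_inv h.sx
    have e : t = (t * s₀) * s₀⁻¹ := by group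
    rw [e]
    exact hT _ (Q.mul_mem ht h.sS) _ (Q.inv_mem h.sS) (mul_self_of_inverts hns h1)
      (mul_self_of_inverts hns h2')
  · -- t inverts x: t = (t x⁻¹) x
    have h1 : (t * x⁻¹) * x * (t * x⁻¹)⁻¹ = x⁻¹ := by
      calc (t * x⁻¹) * x * (t * x⁻¹)⁻¹ = t * x * t⁻¹ := by group
        _ = x⁻¹ := hi
    have e : t = (t * x⁻¹) * x := by group
    rw [e]
    exact hT _ (Q.mul_mem ht (Q.inv_mem h.xS)) _ h.xS (mul_self_of_inverts hns h1) h.xx

end Cfsg.Agent.Lib.H7.PSp4
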