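import Mathlib

set_option autoImplicit false

namespace Cfsg.Agent.Lib.H7.DG

open Subgroup in
/-- the normalizer of a self-centralizing subgroup of order 7 has order `7 r`, `r ∣ 6`. -/
theorem h7syl7_card_normalizer {G : Type*} [Group G] [Finite G] (x : G) (hx : orderOf x = 7)
    (hC : Nat.card (Subgroup.centralizer ({x} : Set G)) = 7) :
    Subgroup.centralizer ({x} : Set G) = Subgroup.zpowers x ∧
    ∃ r : ℕ, r ∣ 6 ∧ Nat.card (Subgroup.normalizer (Subgroup.zpowers x : Set G)) = 7 * r := by
  set P : Subgroup G := Subgroup.zpowers x with hPdef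
  have hPcard : Nat.card P = 7 := by rw [Nat.card_zpowers, hx]
  have hPC : P ≤ Subgroup.centralizer ({x} : Set G) := by
    rw [hPdef, Subgroup.zpowers_le, Subgroup.mem_centralizer_iff]
    rintro h rfl; rfl
  have hCeq : P = Subgroup.centralizer ({x} : Set G) :=
    Subgroup.eq_of_le_of_card_ge hPC (by rw [hC, hPcard])
  refine ⟨hCeq.symm, ?_⟩
  have hCP : Subgroup.centralizer (P : Set G) = P := by
    apply le_antisymm
    · rw [hCeq]
      apply Subgroup.centralizer_le
      intro y hy
      rw [Set.mem_singleton_iff] at hy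
      subst hy
      exact hPC (Subgroup.mem_zpowers y)
    · intro g hg
      rw [Subgroup.mem_centralizer_iff]
      intro h hh
      obtain ⟨a, rfl⟩ := Subgroup.mem_zpowers_iff.mp hg
      obtain ⟨b, rfl⟩ := Subgroup.mem_zpowers_iff.mp hh
      exact (Commute.zpow_zpow_self x b a).eq
  have hcyc : IsCyclic P := isCyclic_of_prime_card (p := 7) (hp := ⟨by norm_num⟩) hPcard
  have key := card_dvd_of_injective _ (QuotientGroup.kerLift_injective P.normalizerMonoidHom)
  rw [normalizerMonoidHom_ker, ← index, ← relIndex, IsCyclic.card_mulAut, hPcard,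
    Nat.totient_prime (by norm_num)] at key
  refine ⟨(centralizer (P : Set G)).relIndex (normalizer (P : Set G)), key, ?_⟩
  have h3 := Subgroup.relIndex_mul_relIndex (⊥ : Subgroup G) (centralizer (P : Set G))
    (normalizer (P : Set G)) bot_le (by rw [hCP]; exact Subgroup.le_normalizer)
  rw [Subgroup.relIndex_bot_left, Subgroup.relIndex_bot_left, hCP, hPcard] at h3
  rw [hCP]
  exact h3.symm


/-- `g x g⁻¹, g⁻¹ x g ∈ ⟨x⟩` implies `g ∈ N(⟨x⟩)`. -/
theorem h7syl7_mem_normalizer {G : Type*} [Group G] (x g : G)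
    (h1 : g * x * g⁻¹ ∈ Subgroup.zpowers x) (h2 : g⁻¹ * x * g ∈ Subgroup.zpowers x) :
    g ∈ Subgroup.normalizer (Subgroup.zpowers x : Set G) := by
  have key : ∀ c : G, c * x * c⁻¹ ∈ Subgroup.zpowers x → ∀ y ∈ Subgroup.zpowers x,
      c * y * c⁻¹ ∈ Subgroup.zpowers x := by
    intro c hc y hy
    obtain ⟨a, rfl⟩ := Subgroup.mem_zpowers_iff.mp hy
    rw [← conj_zpow]
    exact Subgroup.zpow_mem _ hc a
  rw [Subgroup.mem_normalizer_iff]
  intro y
  constructor
  · exact key g h1 y
  · intro hy
    have := key g⁻¹ (by simpa using h2) _ hy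
    have e : g⁻¹ * (g * y * g⁻¹) * g⁻¹⁻¹ = y := by group
    rwa [e] at this

/-- iterated conjugation. -/
theorem h7syl7_conj_pow {G : Type*} [Group G] (x h : G) (k : ℕ) (hk : h * x * h⁻¹ = x ^ k) (j : ℕ) :
    h ^ j * x * (h ^ j)⁻¹ = x ^ (k ^ j) := by
  induction j with
  | zero => simp
  | succ j ih =>
    have e : h ^ (j + 1) * x * (h ^ (j + 1))⁻¹ = h * (h ^ j * x * (h ^ j)⁻¹) * h⁻¹ := by
      rw [pow_succ']; group
    rw [e, ih, ← conj_pow, hk, ← pow_mul, pow_succ']

/-- **SYL7**. -/
theorem syl7 {G : Type*} [Group G] [Finite G] (hcard : Nat.card G = 6048) (x : G) (hx : orderOf x = 7)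
    (hC : Nat.card (Subgroup.centralizer ({x} : Set G)) = 7) :
    (∃ h : G, h * x * h⁻¹ = x ^ 2) ∧ ¬ IsConj x x⁻¹ := by
  have hp7 : Fact (Nat.Prime 7) := ⟨by norm_num⟩
  obtain ⟨hCeq, r, hr6, hNcard⟩ := h7syl7_card_normalizer x hx hC
  set P : Subgroup G := Subgroup.zpowers x with hPdef
  have hPcard : Nat.card P = 7 := by rw [Nat.card_zpowers, hx]
  have hPidx : P.index = 864 := by
    have := P.card_mul_index
    rw [hPcard, hcard] at this
    omega
  have hPp : IsPGroup 7 P := IsPGroup.of_card (n := 1) (by rw [hPcard]; norm_num)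
  let PS : Sylow 7 G := hPp.toSylow (by rw [hPidx]; norm_num)
  have hPS : (PS : Subgroup G) = P := IsPGroup.toSylow_coe _ _
  set N : Subgroup G := Subgroup.normalizer (P : Set G) with hNdef
  have hidx1 : N.index ≡ 1 [MOD 7] := by
    have h1 := card_sylow_modEq_one 7 G
    rw [Sylow.card_eq_index_normalizer PS] at h1
    exact h1
  have hNidx : Nat.card N * N.index = 6048 := by rw [N.card_mul_index, hcard]
  have hr : r = 3 := by
    have hr' : r ∈ Nat.divisors 6 := Nat.mem_divisors.mpr ⟨hr6, by norm_num⟩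
    have hdiv : Nat.divisors 6 = {1, 2, 3, 6} := by decide
    rw [hdiv] at hr'
    simp only [Finset.mem_insert, Finset.mem_singleton] at hr'
    rw [hNcard] at hNidx
    unfold Nat.ModEq at hidx1
    rcases hr' with rfl | rfl | rfl | rfl
    · have : N.index = 864 := by omega
      rw [this] at hidx1; norm_num at hidx1
    · have : N.index = 432 := by omega
      rw [this] at hidx1; norm_num at hidx1
    · rfl
    · have : N.index = 144 := by omega
      rw [this] at hidx1; norm_num at hidx1
  subst hr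
  have hN21 : Nat.card N = 21 := by rw [hNcard]
  have hpowN : ∀ g ∈ N, g ^ 21 = 1 := by
    intro g hg
    have := pow_card_eq_one' (G := ↥N) (x := ⟨g, hg⟩)
    rw [hN21] at this
    simpa using congrArg Subtype.val this
  constructor
  · -- existence of `h`
    have hex : ∃ h ∈ N, h ∉ P := by
      by_contra hcon
      push Not at hcon
      have hle : N ≤ P := hcon
      have := Subgroup.card_le_of_le hle
      omega
    obtain ⟨h, hhN, hhP⟩ := hex
    have hmem : h * x * h⁻¹ ∈ P :=
      (Subgroup.mem_normalizer_iff.mp hhN x).mp (Subgroup.mem_zpowers x)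
    obtain ⟨k0, hk0⟩ := Subgroup.mem_zpowers_iff.mp hmem
    -- reduce the exponent
    have hk1 : x ^ ((k0 % 7).toNat) = h * x * h⁻¹ := by
      rw [← hk0, ← zpow_natCast, Int.toNat_of_nonneg (Int.emod_nonneg _ (by norm_num))]
      have := zpow_mod_orderOf x k0
      rw [hx] at this
      exact this
    set k := (k0 % 7).toNat with hkdef
    have hk7 : k < 7 := by
      have := Int.emod_lt_of_pos k0 (by norm_num : (0 : ℤ) < 7)
      have h0 := Int.emod_nonneg k0 (by norm_num : (7 : ℤ) ≠ 0)
      omega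
    have hconj := h7syl7_conj_pow x h k hk1.symm
    have h21 := hconj 21
    rw [hpowN h hhN] at h21
    simp only [one_mul, inv_one, mul_one] at h21
    have hmod : 1 ≡ k ^ 21 [MOD 7] := by
      have : x ^ 1 = x ^ (k ^ 21) := by rw [pow_one]; exact h21
      rw [pow_eq_pow_iff_modEq, hx] at this
      exact this
    unfold Nat.ModEq at hmod
    interval_cases k
    · norm_num at hmod
    · exfalso
      apply hhP
      rw [pow_one] at hk1
      have : h ∈ Subgroup.centralizer ({x} : Set G) := by
        rw [Subgroup.mem_centralizer_iff]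
        rintro y rfl
        have e : y * h = (h * y * h⁻¹)⁻¹⁻¹ * h := by rw [← hk1]; group
        rw [e]; group
      rwa [hCeq] at this
    · exact ⟨h, hk1.symm⟩
    · norm_num at hmod
    · refine ⟨h ^ 2, ?_⟩
      rw [hconj 2]
      rw [pow_eq_pow_iff_modEq, hx]
      decide
    · norm_num at hmod
    · norm_num at hmod
  · -- `x` is not conjugate to its inverse
    rw [isConj_iff]
    rintro ⟨g, hg⟩
    have hg' : g⁻¹ * x * g = x⁻¹ := by
      have e : x = g⁻¹ * x⁻¹ * g := by rw [← hg]; group
      have e2 : g⁻¹ * x * g = (g⁻¹ * x⁻¹ * g)⁻¹ := by group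
      rw [e2, ← e]
    have hgN : g ∈ N := h7syl7_mem_normalizer x g
      (by rw [hg]; exact Subgroup.inv_mem _ (Subgroup.mem_zpowers x))
      (by rw [hg']; exact Subgroup.inv_mem _ (Subgroup.mem_zpowers x))
    have hg2 : g ^ 2 ∈ P := by
      rw [← hCeq, Subgroup.mem_centralizer_iff]
      rintro y rfl
      have e1 : g * y = y⁻¹ * g := by rw [← hg]; group
      have e2 : g * y⁻¹ = y * g := by
        have e4 : g * y⁻¹ * g⁻¹ = y := by
          have e3 : g * y⁻¹ * g⁻¹ = (g * y * g⁻¹)⁻¹ := by group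
          rw [e3, hg, inv_inv]
        have e5 : g * y⁻¹ = (g * y⁻¹ * g⁻¹) * g := by group
        rw [e5, e4]
      calc y * g ^ 2 = y * g * g := by rw [pow_two, mul_assoc]
        _ = g * y⁻¹ * g := by rw [e2]
        _ = g * (y⁻¹ * g) := by rw [mul_assoc]
        _ = g * (g * y) := by rw [e1]
        _ = g ^ 2 * y := by rw [pow_two, mul_assoc]
    have hg14 : g ^ 14 = 1 := by
      have := pow_card_eq_one' (G := ↥P) (x := ⟨g ^ 2, hg2⟩)
      rw [hPcard] at this
      have := congrArg Subtype.val this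
      simp only [Subgroup.coe_pow, Subgroup.coe_one] at this
      rw [← pow_mul] at this
      exact this
    have hg21 := hpowN g hgN
    have hg7 : g ^ 7 = 1 := by
      have e : g ^ 21 = g ^ 14 * g ^ 7 := by rw [← pow_add]
      rw [e, hg14, one_mul] at hg21
      exact hg21
    have hgP : g ∈ P := by
      have e : g = (g ^ 2) ^ 4 * (g ^ 7)⁻¹ := by group
      rw [e, hg7, inv_one, mul_one]
      exact Subgroup.pow_mem _ hg2 4
    obtain ⟨a, rfl⟩ := Subgroup.mem_zpowers_iff.mp hgP
    have hcomm : x ^ a * x * (x ^ a)⁻¹ = x := by group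
    rw [hcomm] at hg
    have hx2 : x ^ 2 = 1 := by
      rw [pow_two]
      nth_rw 1 [hg]
      exact inv_mul_cancel x
    have := orderOf_dvd_of_pow_eq_one hx2
    rw [hx] at this
    norm_num at this

end Cfsg.Agent.Lib.H7.DG
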