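import Cfsg.Agent.Lib.H2.SpPerfect

/-!
# S2142 (helper7, architect): the minimal index of a proper subgroup of `Sp_{2m}(2)`, `m ≥ 3` — definitions

Setting: `F` a field with two elements, `Sp = Matrix.symplecticGroup (Fin m) F` acting on `VV = Fin m ⊕ Fin m → F` by `mulVec`,
`B = Cfsg.sympForm m F`, transvections `tv m v c` of helper2's `Lib/H2/SpGen` (`tv_mulVec`, `TS_eq_top`, `conj_tv`, ...).
-/

set_option autoImplicit false
set_option linter.unusedSectionVars false
set_option linter.unusedVariables false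

namespace Cfsg.Agent.Lib.H7.SpMin

open Matrix Cfsg.Agent.Lib.H4 Cfsg.Agent.Lib.H2.Sp

variable {F : Type*} [Field F] (m : ℕ)

set_option quotPrecheck false in
local notation "Sp" => ↥(Matrix.symplecticGroup (Fin m) F)

set_option quotPrecheck false in
local notation "MM" => Matrix (Fin m ⊕ Fin m) (Fin m ⊕ Fin m) F

set_option quotPrecheck false in
local notation "VV" => (Fin m ⊕ Fin m → F)

/-- the transvection `x ↦ x + B(x,v) v` -/
def t (v : VV) : Sp := tv m v 1

/-- `s a y = t_a t_y t_{a+y}`; for `B(a,y) = 0` over the field with two elements it is `x ↦ x + B(x,a) y + B(x,y) a` -/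
def s (a y : VV) : Sp := tv m a 1 * tv m y 1 * tv m (a + y) 1

/-- the stabiliser of the vector `a` -/
def Pa (a : VV) : Subgroup Sp where
  carrier := {g | (g : MM) *ᵥ a = a}
  mul_mem' := by
    intro g h hg hh
    show ((g * h : Sp) : MM) *ᵥ a = a
    rw [Submonoid.coe_mul, ← Matrix.mulVec_mulVec, hh, hg]
  one_mem' := by
    show ((1 : Sp) : MM) *ᵥ a = a
    rw [Submonoid.coe_one, Matrix.one_mulVec]
  inv_mem' := by
    intro g hg
    show ((g⁻¹ : Sp) : MM) *ᵥ a = a
    have h1 : ((g⁻¹ : Sp) : MM) *ᵥ ((g : MM) *ᵥ a) = a := by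
      rw [Matrix.mulVec_mulVec, ← Submonoid.coe_mul, inv_mul_cancel, Submonoid.coe_one, Matrix.one_mulVec]
    rwa [hg] at h1

theorem mem_Pa (a : VV) (g : Sp) : g ∈ Pa m a ↔ (g : MM) *ᵥ a = a := Iff.rfl

/-- the radical `Q_a` of the stabiliser of `a`: generated by `t_a` and the `s a y`, `y ⊥ a` -/
def Qa (a : VV) : Subgroup Sp :=
  Subgroup.closure ({g | ∃ y : VV, Cfsg.sympForm m F a y = 0 ∧ g = s m a y} ∪ {t m a})

/-- `H` is transitive on the non-zero vectors -/
def IsTrans (H : Subgroup Sp) : Prop :=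
  ∀ v w : VV, v ≠ 0 → w ≠ 0 → ∃ h ∈ H, (h : MM) *ᵥ v = w

/-- `Q` is a quadratic form polarising to `B` -/
def IsQuad (Q : VV → F) : Prop :=
  ∀ x y : VV, Q (x + y) = Q x + Q y + Cfsg.sympForm m F x y

/-- the isometry group of `Q` inside `Sp` -/
def OQ (Q : VV → F) : Subgroup Sp where
  carrier := {g | ∀ x, Q ((g : MM) *ᵥ x) = Q x}
  mul_mem' := by
    intro g h hg hh x
    show Q (((g * h : Sp) : MM) *ᵥ x) = Q x
    rw [Submonoid.coe_mul, ← Matrix.mulVec_mulVec, hg, hh]
  one_mem' := by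
    intro x
    show Q (((1 : Sp) : MM) *ᵥ x) = Q x
    rw [Submonoid.coe_one, Matrix.one_mulVec]
  inv_mem' := by
    intro g hg x
    show Q (((g⁻¹ : Sp) : MM) *ᵥ x) = Q x
    have h1 := hg (((g⁻¹ : Sp) : MM) *ᵥ x)
    rw [Matrix.mulVec_mulVec, ← Submonoid.coe_mul, mul_inv_cancel, Submonoid.coe_one, Matrix.one_mulVec] at h1
    exact h1.symm

theorem mem_OQ (Q : VV → F) (g : Sp) : g ∈ OQ m Q ↔ ∀ x, Q ((g : MM) *ᵥ x) = Q x := Iff.rfl

/-- the standard minus-type quadratic form (over the field with two elements, where `x² = x`) -/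
def Qminus (hm : 1 ≤ m) (x : VV) : F :=
  ∑ i : Fin m, x (Sum.inl i) * x (Sum.inr i) + x (Sum.inl ⟨0, hm⟩) + x (Sum.inr ⟨0, hm⟩)

/-! ## the field with two elements -/

section Two

variable [Fintype F]

theorem two_eq_zero (hF : Fintype.card F = 2) : (2 : F) = 0 := by
  have := Nat.cast_card_eq_zero F
  rw [hF] at this
  exact_mod_cast this

theorem charP_two (hF : Fintype.card F = 2) : CharP F 2 := by
  have h2 := two_eq_zero hF
  exact CharTwo.of_one_ne_zero_of_two_eq_zero one_ne_zero h2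

theorem eq_zero_or_one (hF : Fintype.card F = 2) (x : F) : x = 0 ∨ x = 1 := by
  by_contra h
  push Not at h
  have h3 : 2 < Fintype.card F := by
    rw [Fintype.two_lt_card_iff]
    exact ⟨0, 1, x, zero_ne_one, h.1.symm, h.2.symm⟩
  omega

theorem eq_one_of_ne_zero (hF : Fintype.card F = 2) {x : F} (hx : x ≠ 0) : x = 1 :=
  (eq_zero_or_one hF x).resolve_left hx

theorem mul_self_eq (hF : Fintype.card F = 2) (x : F) : x * x = x := by
  rcases eq_zero_or_one hF x with rfl | rfl <;> simp

theorem add_self_eq (hF : Fintype.card F = 2) (x : F) : x + x = 0 := by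
  have := two_eq_zero hF
  linear_combination x * this

theorem neg_eq (hF : Fintype.card F = 2) (x : F) : -x = x := by
  have := add_self_eq hF x
  linear_combination -this

theorem sympForm_symm (hF : Fintype.card F = 2) (u v : VV) :
    Cfsg.sympForm m F u v = Cfsg.sympForm m F v u := by
  rw [sympForm_swap, neg_eq hF]

end Two

end Cfsg.Agent.Lib.H7.SpMin
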