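import Mathlib
import Cfsg.Agent.Lib.H7.SunR2

/-!
# R3 `exists_mid` (helper7, for helper8's S2282)

A unitary upper unitriangular matrix acting only on the middle indices, obtained as the Cayley
transform `(1 + η S)(1 + σ η S)⁻¹` of the middle shift `S`.
-/

set_option autoImplicit false

namespace Cfsg.Agent.Lib.H7.SunR

open Matrix Cfsg.Agent.Lib.H8.SUN

variable {F : Type*} [Field F]

/-- the shift on the middle indices `r ≤ i`, `i + 1 + r < n` -/
def midShift (F : Type*) [Field F] (n r : ℕ) : Matrix (Fin n) (Fin n) F :=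
  Matrix.of fun i j => if ((j : ℕ) = (i : ℕ) + 1 ∧ r ≤ (i : ℕ) ∧ (j : ℕ) + r < n) then 1 else 0

theorem midShift_apply (n r : ℕ) (i j : Fin n) :
    midShift F n r i j = if ((j : ℕ) = (i : ℕ) + 1 ∧ r ≤ (i : ℕ) ∧ (j : ℕ) + r < n) then 1 else 0 :=
  rfl

theorem midShift_upper (n r : ℕ) (i j : Fin n) (h : j ≤ i) : midShift F n r i j = 0 := by
  rw [midShift_apply, if_neg]
  rintro ⟨h1, -, -⟩
  rw [Fin.le_def] at h
  omega

theorem midShift_row (n r : ℕ) (i j : Fin n) (h : (i : ℕ) < r ∨ n ≤ (i : ℕ) + r) :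
    midShift F n r i j = 0 := by
  rw [midShift_apply, if_neg]
  rintro ⟨h1, h2, h3⟩
  omega

theorem midShift_col (n r : ℕ) (i j : Fin n) (h : (i : ℕ) < r ∨ n ≤ (i : ℕ) + r) :
    midShift F n r j i = 0 := by
  rw [midShift_apply, if_neg]
  rintro ⟨h1, h2, h3⟩
  omega

theorem dagn_midShift (σ : F →+* F) (n r : ℕ) : dagn σ (midShift F n r) = midShift F n r := by
  ext i j
  rw [dagn_apply, midShift_apply, midShift_apply]
  have hi := i.2
  have hj := j.2
  by_cases h : ((j : ℕ) = (i : ℕ) + 1 ∧ r ≤ (i : ℕ) ∧ (j : ℕ) + r < n)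
  · have h' : ((Fin.rev i : ℕ) = (Fin.rev j : ℕ) + 1 ∧ r ≤ (Fin.rev j : ℕ) ∧
        (Fin.rev i : ℕ) + r < n) := by
      rw [Fin.val_rev, Fin.val_rev]
      omega
    rw [if_pos h, if_pos h', map_one]
  · have h' : ¬ ((Fin.rev i : ℕ) = (Fin.rev j : ℕ) + 1 ∧ r ≤ (Fin.rev j : ℕ) ∧
        (Fin.rev i : ℕ) + r < n) := by
      rw [Fin.val_rev, Fin.val_rev]
      intro h'
      apply h
      omega
    rw [if_neg h, if_neg h', map_zero]

/-- `1 + c • S` is upper unitriangular -/
theorem one_add_smul_upper (n r : ℕ) (c : F) (i j : Fin n) (h : j < i) :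
    (1 + c • midShift F n r) i j = 0 := by
  rw [Matrix.add_apply, Matrix.smul_apply, midShift_upper n r i j (le_of_lt h),
    Matrix.one_apply_ne (ne_of_gt h), smul_zero, add_zero]

theorem one_add_smul_diag (n r : ℕ) (c : F) (i : Fin n) :
    (1 + c • midShift F n r) i i = 1 := by
  rw [Matrix.add_apply, Matrix.smul_apply, midShift_upper n r i i le_rfl,
    Matrix.one_apply_eq, smul_zero, add_zero]

theorem one_add_smul_det (n r : ℕ) (c : F) : (1 + c • midShift F n r).det = 1 := by
  rw [Matrix.det_of_isUpperTriangular]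
  · simp only [one_add_smul_diag, Finset.prod_const_one]
  · intro i j h
    exact one_add_smul_upper n r c i j h

theorem one_add_smul_row (n r : ℕ) (c : F) (i j : Fin n)
    (h : (i : ℕ) < r ∨ n ≤ (i : ℕ) + r) :
    (1 + c • midShift F n r) i j = (1 : Matrix (Fin n) (Fin n) F) i j := by
  rw [Matrix.add_apply, Matrix.smul_apply, midShift_row n r i j h, smul_zero, add_zero]

theorem one_add_smul_col (n r : ℕ) (c : F) (i j : Fin n)
    (h : (i : ℕ) < r ∨ n ≤ (i : ℕ) + r) :
    (1 + c • midShift F n r) j i = (1 : Matrix (Fin n) (Fin n) F) j i := by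
  rw [Matrix.add_apply, Matrix.smul_apply, midShift_col n r i j h, smul_zero, add_zero]

/-- **R3**: a unitary (for the antidiagonal form) upper unitriangular matrix of determinant `1`
acting only on the middle indices `r ≤ i < n - r`, with nonzero first superdiagonal there. -/
theorem exists_mid {σ : F →+* F} (hσ : ∀ x, σ (σ x) = x) {η : F} (hη : σ η ≠ η) (n r : ℕ) :
    ∃ C : Matrix (Fin n) (Fin n) F, dagn σ C * C = 1 ∧ C.det = 1 ∧
      (∀ i j : Fin n, j < i → C i j = 0) ∧ (∀ i, C i i = 1) ∧
      (∀ i j : Fin n, ((i : ℕ) < r ∨ n ≤ (i : ℕ) + r) → i ≠ j → C i j = 0 ∧ C j i = 0) ∧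
      (∀ i j : Fin n, r ≤ (i : ℕ) → (j : ℕ) = (i : ℕ) + 1 → (j : ℕ) + r < n → C i j ≠ 0) := by
  obtain ⟨S, hS⟩ : ∃ S, S = midShift F n r := ⟨_, rfl⟩
  obtain ⟨A, hA⟩ : ∃ A, A = 1 + η • S := ⟨_, rfl⟩
  obtain ⟨B, hB⟩ : ∃ B, B = 1 + σ η • S := ⟨_, rfl⟩
  have hdA : A.det = 1 := by rw [hA, hS]; exact one_add_smul_det n r η
  have hdB : B.det = 1 := by rw [hB, hS]; exact one_add_smul_det n r (σ η)
  have huA : IsUnit A.det := by rw [hdA]; exact isUnit_one
  have huB : IsUnit B.det := by rw [hdB]; exact isUnit_one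
  have hBup : ∀ i j : Fin n, j < i → B i j = 0 := by
    intro i j h; rw [hB, hS]; exact one_add_smul_upper n r _ i j h
  have hBd : ∀ i, B i i = 1 := by
    intro i; rw [hB, hS]; exact one_add_smul_diag n r _ i
  have hAup : ∀ i j : Fin n, j < i → A i j = 0 := by
    intro i j h; rw [hA, hS]; exact one_add_smul_upper n r _ i j h
  have hAd : ∀ i, A i i = 1 := by
    intro i; rw [hA, hS]; exact one_add_smul_diag n r _ i
  have hdagS : dagn σ S = S := by rw [hS]; exact dagn_midShift σ n r
  have hdagA : dagn σ A = B := by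
    rw [hA, hB, dagn_add, dagn_one, dagn_smul, hdagS]
  have hdagB : dagn σ B = A := by
    rw [hA, hB, dagn_add, dagn_one, dagn_smul, hdagS, hσ]
  have hcomm : A * B = B * A := by
    rw [hA, hB]
    simp only [add_mul, mul_add, one_mul, mul_one, smul_mul_assoc, mul_smul_comm]
    rw [smul_add, smul_add, smul_smul, smul_smul, mul_comm (σ η) η]
    abel
  obtain ⟨C, hC⟩ : ∃ C, C = A * B⁻¹ := ⟨_, rfl⟩
  have hCB : C * B = A := by
    rw [hC]
    exact Matrix.nonsing_inv_mul_cancel_right B A huB
  -- upper triangularity of `C`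
  have hBT : Matrix.BlockTriangular B id := by
    intro i j h
    exact hBup i j h
  have hAT : Matrix.BlockTriangular A id := by
    intro i j h
    exact hAup i j h
  have hBinvT : Matrix.BlockTriangular B⁻¹ id := by
    have : Invertible B := Matrix.invertibleOfIsUnitDet B huB
    exact Matrix.blockTriangular_inv_of_blockTriangular hBT
  have hCT : Matrix.BlockTriangular C id := by
    rw [hC]
    exact hAT.mul hBinvT
  have hCup : ∀ i j : Fin n, j < i → C i j = 0 := by
    intro i j h
    exact hCT h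
  -- diagonal of `C`
  have hCd : ∀ i, C i i = 1 := by
    intro i
    have h1 : (C * B) i i = 1 := by rw [hCB, hAd]
    rw [Matrix.mul_apply, Finset.sum_eq_single i] at h1
    · rwa [hBd, mul_one] at h1
    · intro l _ hl
      rcases lt_or_gt_of_ne hl with h | h
      · rw [hCup i l h, zero_mul]
      · rw [hBup l i h, mul_zero]
    · intro h
      exact absurd (Finset.mem_univ _) h
  refine ⟨C, ?_, ?_, hCup, hCd, ?_, ?_⟩
  · -- unitarity
    have h1 : dagn σ B⁻¹ * A = 1 := by
      rw [← hdagB, ← dagn_mul, Matrix.mul_nonsing_inv B huB, dagn_one]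
    have h2 : A⁻¹ = dagn σ B⁻¹ := Matrix.inv_eq_left_inv h1
    have h3 : dagn σ C = A⁻¹ * B := by
      rw [hC, dagn_mul, hdagA, h2]
    rw [h3, hC]
    calc A⁻¹ * B * (A * B⁻¹) = A⁻¹ * (B * A) * B⁻¹ := by simp only [Matrix.mul_assoc]
      _ = A⁻¹ * (A * B) * B⁻¹ := by rw [hcomm]
      _ = (A⁻¹ * A) * (B * B⁻¹) := by simp only [Matrix.mul_assoc]
      _ = 1 := by rw [Matrix.nonsing_inv_mul A huA, Matrix.mul_nonsing_inv B huB, Matrix.one_mul]
  · -- determinant
    have h1 : C.det * B.det = A.det := by rw [← Matrix.det_mul, hCB]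
    rwa [hdB, hdA, mul_one] at h1
  · -- support
    intro i j hi hij
    have hBrow : ∀ l, B i l = (1 : Matrix (Fin n) (Fin n) F) i l := by
      intro l; rw [hB, hS]; exact one_add_smul_row n r _ i l hi
    have hArow : ∀ l, A i l = (1 : Matrix (Fin n) (Fin n) F) i l := by
      intro l; rw [hA, hS]; exact one_add_smul_row n r _ i l hi
    have hBcol : ∀ l, B l i = (1 : Matrix (Fin n) (Fin n) F) l i := by
      intro l; rw [hB, hS]; exact one_add_smul_col n r _ i l hi
    have hAcol : ∀ l, A l i = (1 : Matrix (Fin n) (Fin n) F) l i := by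
      intro l; rw [hA, hS]; exact one_add_smul_col n r _ i l hi
    constructor
    · -- row `i` of `C` is row `i` of `B⁻¹`, which is `e_i`
      have h1 : (B * B⁻¹) i j = 0 := by
        rw [Matrix.mul_nonsing_inv B huB, Matrix.one_apply_ne hij]
      have h2 : (B * B⁻¹) i j = B⁻¹ i j := by
        rw [Matrix.mul_apply, Finset.sum_eq_single i]
        · rw [hBrow, Matrix.one_apply_eq, one_mul]
        · intro l _ hl
          rw [hBrow, Matrix.one_apply_ne (Ne.symm hl), zero_mul]
        · intro h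
          exact absurd (Finset.mem_univ _) h
      rw [hC, Matrix.mul_apply, Finset.sum_eq_single i]
      · rw [hArow, Matrix.one_apply_eq, one_mul, ← h2, h1]
      · intro l _ hl
        rw [hArow, Matrix.one_apply_ne (Ne.symm hl), zero_mul]
      · intro h
        exact absurd (Finset.mem_univ _) h
    · -- column `i` of `B⁻¹` is `e_i`
      have hcol : ∀ l, B⁻¹ l i = (1 : Matrix (Fin n) (Fin n) F) l i := by
        intro l
        have h1 : (B⁻¹ * B) l i = (1 : Matrix (Fin n) (Fin n) F) l i := by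
          rw [Matrix.nonsing_inv_mul B huB]
        rw [← h1, Matrix.mul_apply, Finset.sum_eq_single i]
        · rw [hBcol, Matrix.one_apply_eq, mul_one]
        · intro m _ hm
          rw [hBcol, Matrix.one_apply_ne hm, mul_zero]
        · intro h
          exact absurd (Finset.mem_univ _) h
      rw [hC, Matrix.mul_apply, Finset.sum_eq_single i]
      · rw [hcol, Matrix.one_apply_eq, mul_one, hAcol, Matrix.one_apply_ne (Ne.symm hij)]
      · intro l _ hl
        rw [hcol, Matrix.one_apply_ne hl, mul_zero]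
      · intro h
        exact absurd (Finset.mem_univ _) h
  · -- superdiagonal
    intro i j hri hij hjr
    have h1 := (unitri_mul C B hCup hCd hBup hBd).2.2 i j hij
    rw [hCB] at h1
    have hSij : S i j = 1 := by
      rw [hS, midShift_apply, if_pos ⟨hij, hri, hjr⟩]
    have hAij : A i j = η := by
      rw [hA, Matrix.add_apply, Matrix.smul_apply, hSij, Matrix.one_apply_ne, smul_eq_mul, mul_one,
        zero_add]
      intro h
      rw [h] at hij
      omega
    have hBij : B i j = σ η := by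
      rw [hB, Matrix.add_apply, Matrix.smul_apply, hSij, Matrix.one_apply_ne, smul_eq_mul, mul_one,
        zero_add]
      intro h
      rw [h] at hij
      omega
    rw [hAij, hBij] at h1
    intro h0
    rw [h0, zero_add] at h1
    exact hη h1.symm

end Cfsg.Agent.Lib.H7.SunR
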