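import Mathlib
import Cfsg.Agent.Lib.H4.SLKDefs
import Cfsg.Agent.Lib.H5.SLKP03
import Cfsg.Agent.Lib.H8.SLKP04of
import Cfsg.Agent.Lib.H8.SLKP06
import Cfsg.Agent.Lib.H18.SLKP10

set_option autoImplicit false
open Polynomial

/-!
# S2479, piece P11 (T2): elements of the centraliser with prescribed determinant (helper7)

Assembly of `exists_block`, `exists_nd_eq`, `nd_cyc_pow` (helper8), `nd_quot_mul` (helper5) and
`exists_commuting_end` (helper18).
-/

namespace Cfsg.Agent.Lib.H7.SLK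

open Cfsg.Agent.Lib.H12.Cls Cfsg.Agent.Lib.H4.SLK

universe u v
variable {F : Type u} [Field F]

/-- T2 -/
theorem exists_commute_det [Finite F] {n : ℕ} (A : GL (Fin n) F) (j : Fin n)
    (hj : tupleOf A j ≠ 1) (a : Fˣ) :
    ∃ y : GL (Fin n) F, Commute y A ∧ Matrix.GeneralLinearGroup.det y = a ^ ((j : ℕ) + 1) := by
  classical
  obtain ⟨i, hi⟩ := Cfsg.Agent.Lib.H8.SLK.exists_block A j hj
  obtain ⟨p, hp⟩ :=
    Cfsg.Agent.Lib.H8.SLK.exists_nd_eq ((dataOf A).c i).1 ((dataOf A).irr i) (a : F)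
  have h1 : nd (Cyc F ((dataOf A).c i)) p = (a : F) ^ ((j : ℕ) + 1) := by
    have h2 := Cfsg.Agent.Lib.H8.SLK.nd_cyc_pow_of
      (fun g h hg hh p => Cfsg.Agent.Lib.H5.SLK.nd_quot_mul g h hg hh p)
      ((dataOf A).c i).1 ((dataOf A).monic i) ((dataOf A).c i).2 p
    rw [hp, hi] at h2
    rw [← h2]
    rw [← hi]
  obtain ⟨y, hy, hdet⟩ := Cfsg.Agent.Lib.H18.SLK.exists_commuting_end (dataOf A) i p
  rw [h1] at hdet
  -- the matrix of `y`
  set Y : Matrix (Fin n) (Fin n) F := LinearMap.toMatrix' y with hY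
  have hYdet : Y.det = (a : F) ^ ((j : ℕ) + 1) := by
    rw [hY, LinearMap.det_toMatrix']
    exact hdet
  have hne : Y.det ≠ 0 := by
    rw [hYdet]
    exact pow_ne_zero _ a.ne_zero
  refine ⟨Matrix.GeneralLinearGroup.mkOfDetNeZero Y hne, ?_, ?_⟩
  · show _ * _ = _ * _
    apply Units.ext
    show Y * (A : Matrix (Fin n) (Fin n) F) = (A : Matrix (Fin n) (Fin n) F) * Y
    have h3 : (A : Matrix (Fin n) (Fin n) F) =
        LinearMap.toMatrix' (Matrix.toLin' (A : Matrix (Fin n) (Fin n) F)) :=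
      (LinearMap.toMatrix'_toLin' _).symm
    rw [h3, hY, ← LinearMap.toMatrix'_mul, ← LinearMap.toMatrix'_mul, hy]
  · apply Units.ext
    show Y.det = _
    rw [hYdet]
    simp

end Cfsg.Agent.Lib.H7.SLK
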