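import Cfsg.Agent.Lib.H13.HSDefs2

/-!
# S2535 piece A5-N (helper7): numerics for the prime-degree case
-/

namespace Cfsg.Agent.Lib.H7.HS
open Equiv MulAction Cfsg.Agent.Lib.H13.HS
open scoped Pointwise

/-- A5-N: numerics: n! = n(n-1)(n-2)!, 4 ∣ (n-2)! for n ≥ 6. -/
theorem a5_two_dvd {n m r : ℕ} (h6 : 6 ≤ n) (hm : m ∣ n * (n - 1))
    (hr : 2 * (r * m) = n.factorial) : 2 ∣ r := by
  obtain ⟨k, rfl⟩ : ∃ k, n = k + 2 := ⟨n - 2, by omega⟩
  have hk : 4 ≤ k := by omega
  obtain ⟨t, ht⟩ := hm
  have hfac : (k + 2).factorial = (k + 2) * (k + 2 - 1) * k.factorial := by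
    rw [Nat.factorial_succ, Nat.factorial_succ]
    have : k + 2 - 1 = k + 1 := by omega
    rw [this]; ring
  have hmpos : 0 < m := by
    rcases Nat.eq_zero_or_pos m with h | h
    · subst h
      have := Nat.factorial_pos (k + 2)
      omega
    · exact h
  have h4 : 4 ∣ k.factorial := by
    have h1 : Nat.factorial 4 ∣ k.factorial := Nat.factorial_dvd_factorial hk
    have h2 : (4 : ℕ) ∣ Nat.factorial 4 := by decide
    exact h2.trans h1
  have hkey : 2 * r = t * k.factorial := by
    have h1 : m * (2 * r) = m * (t * k.factorial) := by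
      calc m * (2 * r) = 2 * (r * m) := by ring
        _ = (k + 2).factorial := hr
        _ = (k + 2) * (k + 2 - 1) * k.factorial := hfac
        _ = m * t * k.factorial := by rw [ht]
        _ = m * (t * k.factorial) := by ring
    exact Nat.eq_of_mul_eq_mul_left hmpos h1
  have h4' : 4 ∣ 2 * r := by rw [hkey]; exact Dvd.dvd.mul_left h4 t
  omega

end Cfsg.Agent.Lib.H7.HS
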