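import Mathlib
import Cfsg.Agent.S0942
import Cfsg.Agent.Lib.H23.PPart
import Cfsg.Agent.Lib.H24.CharBasic

/-!
# S1951, piece F2 / CONST (helper7 twin)

Under the binders of S1951 (elementary abelian Sylow `p`-subgroup `P` all of whose nonidentity
elements are conjugate, centralizers of elements of order `p` of `P` with a normal `p`-complement):
a character of the principal block takes the value `χ a` (`a ∈ P`, `a ≠ 1`) at EVERY `p`-singular
element.
-/

set_option autoImplicit false
open Cfsg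

namespace Cfsg.Agent.Lib.H7.AEC

/-- In a finite group with a normal `p`-complement, every `p`-regular element lies in the
`p'`-core. -/
theorem mem_pPrimeCore_of_hasNormalPComplement {C : Type*} [Group C] [Finite C] {p : ℕ}
    [hp : Fact p.Prime] (h : HasNormalPComplement p C) {v : C} (hv : ¬ p ∣ orderOf v) :
    v ∈ pPrimeCore p C := by
  obtain ⟨S, N, hN, hcompl⟩ := h
  have hidx : N.index = Nat.card (S : Subgroup C) := hcompl.symm.index_eq_card
  have hcardN : Nat.card N = (S : Subgroup C).index := (hcompl.index_eq_card).symm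
  have hcop : (Nat.card N).Coprime p := by
    rw [hcardN]
    exact ((Nat.Prime.coprime_iff_not_dvd hp.out).2 S.not_dvd_index).symm
  have hNle : N ≤ pPrimeCore p C := le_sSup ⟨hN, hcop⟩
  apply hNle
  -- the image of `v` in `C ⧸ N` is trivial
  obtain ⟨k, hk⟩ := IsPGroup.iff_card.mp S.isPGroup'
  have hq : Nat.card (C ⧸ N) = p ^ k := by
    rw [← Subgroup.index_eq_card, hidx, hk]
  have h1 : orderOf ((QuotientGroup.mk' N) v) ∣ orderOf v := orderOf_map_dvd _ v
  have h2 : orderOf ((QuotientGroup.mk' N) v) ∣ p ^ k := by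
    rw [← hq]; exact orderOf_dvd_natCard _
  obtain ⟨j, hj, hj'⟩ := (Nat.dvd_prime_pow hp.out).1 h2
  have hj0 : j = 0 := by
    by_contra hne
    apply hv
    have : p ∣ orderOf ((QuotientGroup.mk' N) v) := by
      rw [hj']; exact dvd_pow_self p hne
    exact this.trans h1
  rw [hj0, pow_zero, orderOf_eq_one_iff] at hj'
  exact (QuotientGroup.eq_one_iff v).1 hj'

variable {G : Type*} [Group G] [Finite G] {p : ℕ} [hp : Fact p.Prime]

/-- **F2 / CONST**: every character of the principal block is constant (`= χ a`) on the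
`p`-singular elements. -/
theorem const_on_psingular (P : Sylow p G)
    (hPe : IsElementaryAbelian p (P : Subgroup G))
    (hconj : ∀ x ∈ (P : Subgroup G), ∀ y ∈ (P : Subgroup G), x ≠ 1 → y ≠ 1 →
      ∃ g : G, g * x * g⁻¹ = y)
    (hb : ∀ x ∈ (P : Subgroup G), orderOf x = p →
      HasNormalPComplement p ↥(Subgroup.centralizer ({x} : Set G)))
    {M : Ideal AlgInt} (hM : IsPModular p M) {a : G} (haP : a ∈ (P : Subgroup G)) (ha1 : a ≠ 1)
    (χ : IrrCharacter G) (hχ : χ ∈ principalBlock M G) (g : G) (hg : p ∣ orderOf g) :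
    (χ : G → ℂ) g = (χ : G → ℂ) a := by
  obtain ⟨u, v, huv, hcomm, ⟨k, hk⟩, hv⟩ :=
    Cfsg.Agent.Lib.H23.exists_isPPart hp.out g (isOfFinOrder_of_finite g)
  -- `u ≠ 1`
  have hu1 : u ≠ 1 := by
    rintro rfl
    rw [one_mul] at huv
    rw [huv] at hv
    exact hv hg
  -- conjugate `u` into `P`
  have hupg : IsPGroup p (Subgroup.zpowers u) := by
    apply IsPGroup.of_card (n := k)
    rw [Nat.card_zpowers, hk]
  obtain ⟨Q, hQ⟩ := hupg.exists_le_sylow
  obtain ⟨t, ht⟩ := MulAction.exists_smul_eq G Q P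
  have huQ : u ∈ (Q : Subgroup G) := hQ (Subgroup.mem_zpowers u)
  have hu'P : t * u * t⁻¹ ∈ (P : Subgroup G) := by
    rw [← ht, Sylow.coe_subgroup_smul]
    have := Subgroup.smul_mem_pointwise_smul u (MulAut.conj t) (Q : Subgroup G) huQ
    simpa [MulAut.smul_def, MulAut.conj_apply] using this
  set u' := t * u * t⁻¹ with hu'
  set v' := t * v * t⁻¹ with hv'
  have hu'1 : u' ≠ 1 := by
    intro h
    apply hu1
    have : u = t⁻¹ * u' * t := by rw [hu']; group
    rw [this, h]; group
  have hu'p : orderOf u' = p := orderOf_eq_prime (hPe.2 u' hu'P) hu'1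
  have hprod : u' * v' = t * g * t⁻¹ := by
    rw [hu', hv', ← huv]; group
  have hcomm' : v' * u' = u' * v' := by
    have h1 : u * v = v * u := hcomm
    calc v' * u' = t * (v * u) * t⁻¹ := by rw [hu', hv']; group
      _ = t * (u * v) * t⁻¹ := by rw [h1]
      _ = u' * v' := by rw [hu', hv']; group
  have hv'C : v' ∈ Subgroup.centralizer ({u'} : Set G) :=
    Subgroup.mem_centralizer_singleton_iff.2 hcomm'
  have hv'ord : ¬ p ∣ orderOf v' := by
    have : orderOf v' = orderOf v := (MulAut.conj t).orderOf_eq v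
    rwa [this]
  have hv'core : v' ∈ centralizerPPrimeCore p u' := by
    have hmem : (⟨v', hv'C⟩ : Subgroup.centralizer ({u'} : Set G)) ∈
        pPrimeCore p ↥(Subgroup.centralizer ({u'} : Set G)) := by
      apply mem_pPrimeCore_of_hasNormalPComplement (hb u' hu'P hu'p)
      rwa [Subgroup.orderOf_mk]
    exact Subgroup.mem_map.2 ⟨⟨v', hv'C⟩, hmem, rfl⟩
  have h942 := Cfsg.Agent.S0942.result p M hM u' ⟨1, by rw [hu'p, pow_one]⟩ v' hv'core χ hχ
  obtain ⟨s, hs⟩ := hconj a haP u' hu'P ha1 hu'1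
  calc (χ : G → ℂ) g = (χ : G → ℂ) (t * g * t⁻¹) := (Cfsg.Agent.Lib.H24.irr_conj χ g t).symm
    _ = (χ : G → ℂ) (u' * v') := by rw [hprod]
    _ = (χ : G → ℂ) u' := h942
    _ = (χ : G → ℂ) (s * a * s⁻¹) := by rw [hs]
    _ = (χ : G → ℂ) a := Cfsg.Agent.Lib.H24.irr_conj χ a s

end Cfsg.Agent.Lib.H7.AEC
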