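import Mathlib

/-!
helper7 library (S4719, Part II (II.2) of tools/blueprints/S4719.md): the Brauer-Fowler count.
`G` a normal subgroup of the finite group `Γ`, `v ∈ Γ` an involution with `|C_G(v)| ≤ n` and `2 n ≤ |G|`:
there is `g ∈ G`, `g ≠ 1`, with `|G| ≤ 2 n² |C_G(g)|`.  (`C_G(y) := G ⊓ centralizer {y}`.)
-/

set_option autoImplicit false

namespace Cfsg.Agent.Lib.H7.BF

open Subgroup

variable {Γ : Type*} [Group Γ]

/-- The product of two `G`-conjugates of `v` lies in the normal subgroup `G` when `v * v = 1`. -/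
theorem conj_mul_conj_mem (G : Subgroup Γ) [hG : G.Normal] {v : Γ} (hv2 : v * v = 1) {x y : Γ}
    (hx : x ∈ G) (hy : y ∈ G) : (x * v * x⁻¹) * (y * v * y⁻¹) ∈ G := by
  have hvinv : v⁻¹ = v := inv_eq_of_mul_eq_one_right hv2
  have h1 : v * (x⁻¹ * y) * v⁻¹ ∈ G := hG.conj_mem _ (G.mul_mem (G.inv_mem hx) hy) v
  have h2 : (x * v * x⁻¹) * (y * v * y⁻¹) = x * (v * (x⁻¹ * y) * v⁻¹) * y⁻¹ := by
    rw [hvinv]; group
  rw [h2]
  exact G.mul_mem (G.mul_mem hx h1) (G.inv_mem hy)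

/-- **Brauer-Fowler count.** -/
theorem exists_small_class [Finite Γ] (G : Subgroup Γ) [hGn : G.Normal] {v : Γ} (hv2 : v * v = 1)
    (n : ℕ) (hn : Nat.card (G ⊓ centralizer ({v} : Set Γ) : Subgroup Γ) ≤ n)
    (hGn2 : 2 * n ≤ Nat.card G) :
    ∃ g ∈ G, g ≠ 1 ∧ Nat.card G ≤ 2 * n ^ 2 * Nat.card (G ⊓ centralizer ({g} : Set Γ) : Subgroup Γ) := by
  classical
  haveI : Fintype Γ := Fintype.ofFinite Γ
  by_contra hcon
  push_neg at hcon
  have hvinv : v⁻¹ = v := inv_eq_of_mul_eq_one_right hv2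
  -- finsets
  set T : Finset Γ := Finset.univ.filter (· ∈ G) with hT
  have hTcard : T.card = Nat.card G := by
    rw [Nat.card_eq_fintype_card, Fintype.card_subtype]
  set Cent : Γ → Finset Γ := fun g => Finset.univ.filter (· ∈ (G ⊓ centralizer ({g} : Set Γ) : Subgroup Γ))
    with hCent
  have hCcard : ∀ g, (Cent g).card = Nat.card (G ⊓ centralizer ({g} : Set Γ) : Subgroup Γ) := by
    intro g
    rw [Nat.card_eq_fintype_card, Fintype.card_subtype]
  set φ : Γ → Γ := fun x => x * v * x⁻¹ with hφ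
  set Cl : Finset Γ := T.image φ with hCl
  have hClmem : ∀ s ∈ Cl, ∃ x ∈ G, s = x * v * x⁻¹ := by
    intro s hs
    obtain ⟨x, hx, rfl⟩ := Finset.mem_image.mp hs
    exact ⟨x, (Finset.mem_filter.mp hx).2, rfl⟩
  have hsq : ∀ s ∈ Cl, s * s = 1 := by
    intro s hs
    obtain ⟨x, -, rfl⟩ := hClmem s hs
    calc x * v * x⁻¹ * (x * v * x⁻¹) = x * (v * v) * x⁻¹ := by group
      _ = 1 := by rw [hv2]; group
  have hsinv : ∀ s ∈ Cl, s⁻¹ = s := fun s hs => inv_eq_of_mul_eq_one_right (hsq s hs)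
  have hmul : ∀ s ∈ Cl, ∀ t ∈ Cl, s * t ∈ G := by
    intro s hs t ht
    obtain ⟨x, hx, rfl⟩ := hClmem s hs
    obtain ⟨y, hy, rfl⟩ := hClmem t ht
    exact conj_mul_conj_mem G hv2 hx hy
  -- `|G| ≤ |C_G(v)| * |Cl|`
  have hfib : T.card ≤ (Cent v).card * Cl.card := by
    apply Finset.card_le_mul_card_image
    intro a ha
    obtain ⟨x0, hx0, rfl⟩ := Finset.mem_image.mp ha
    have hx0G : x0 ∈ G := (Finset.mem_filter.mp hx0).2
    apply Finset.card_le_card_of_injOn (fun y => x0⁻¹ * y)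
    · intro y hy
      have hy' := Finset.mem_filter.mp (Finset.mem_coe.mp hy)
      have hyG : y ∈ G := (Finset.mem_filter.mp hy'.1).2
      have heq : y * v * y⁻¹ = x0 * v * x0⁻¹ := hy'.2
      rw [Finset.mem_coe, Finset.mem_filter]
      refine ⟨Finset.mem_univ _, ?_⟩
      rw [Subgroup.mem_inf]
      refine ⟨G.mul_mem (G.inv_mem hx0G) hyG, ?_⟩
      rw [Subgroup.mem_centralizer_iff]
      intro w hw
      rw [Set.mem_singleton_iff] at hw
      subst hw
      have : x0⁻¹ * (y * w * y⁻¹) * x0 = w := by rw [heq]; group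
      calc w * (x0⁻¹ * y) = x0⁻¹ * (y * w * y⁻¹) * x0 * (x0⁻¹ * y) := by rw [this]
        _ = x0⁻¹ * y * w := by group
    · intro y _ y' _ h
      exact mul_left_cancel h
  -- the pairs
  set P : Finset (Γ × Γ) := Cl ×ˢ Cl with hP
  set r : Γ → ℕ := fun g => (P.filter (fun q => q.1 * q.2 = g)).card with hr
  have hsum : P.card = ∑ g ∈ T, r g := by
    apply Finset.card_eq_sum_card_fiberwise
    intro q hq
    have hq' := Finset.mem_product.mp hq
    exact Finset.mem_filter.mpr ⟨Finset.mem_univ _, hmul _ hq'.1 _ hq'.2⟩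
  have hPcard : P.card = Cl.card * Cl.card := Finset.card_product _ _
  have h1T : (1 : Γ) ∈ T := Finset.mem_filter.mpr ⟨Finset.mem_univ _, G.one_mem⟩
  have hr1 : r 1 ≤ Cl.card := by
    apply Finset.card_le_card_of_injOn (fun q => q.1)
    · intro q hq
      exact (Finset.mem_product.mp (Finset.mem_filter.mp (Finset.mem_coe.mp hq)).1).1
    · intro q hq q' hq' h
      have h1 := Finset.mem_filter.mp (Finset.mem_coe.mp hq)
      have h2 := Finset.mem_filter.mp (Finset.mem_coe.mp hq')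
      have e1 : q.2 = q.1⁻¹ := eq_inv_of_mul_eq_one_right h1.2
      have e2 : q'.2 = q'.1⁻¹ := eq_inv_of_mul_eq_one_right h2.2
      have h' : q.1 = q'.1 := h
      exact Prod.ext h' (by rw [e1, e2, h'])
  have hrg : ∀ g, r g ≤ (Cent g).card := by
    intro g
    by_cases hne : (P.filter (fun q => q.1 * q.2 = g)).Nonempty
    · obtain ⟨q0, hq0⟩ := hne
      have hq0' := Finset.mem_filter.mp hq0
      have hq0P := Finset.mem_product.mp hq0'.1
      -- every `s` of a pair inverts `g`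
      have hinvert : ∀ q ∈ P.filter (fun q => q.1 * q.2 = g), q.1 * g * q.1⁻¹ = g⁻¹ := by
        intro q hq
        have hq' := Finset.mem_filter.mp hq
        have hqP := Finset.mem_product.mp hq'.1
        have hs := hsinv _ hqP.1
        have ht := hsinv _ hqP.2
        rw [← hq'.2, mul_inv_rev, hs, ht]
        have := hsq _ hqP.1
        calc q.1 * (q.1 * q.2) * q.1 = (q.1 * q.1) * q.2 * q.1 := by group
          _ = q.2 * q.1 := by rw [this, one_mul]
      apply Finset.card_le_card_of_injOn (fun q => q0.1 * q.1)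
      · intro q hq
        have hq' := Finset.mem_filter.mp (Finset.mem_coe.mp hq)
        have hqP := Finset.mem_product.mp hq'.1
        rw [Finset.mem_coe, Finset.mem_filter]
        refine ⟨Finset.mem_univ _, ?_⟩
        rw [Subgroup.mem_inf]
        refine ⟨hmul _ hq0P.1 _ hqP.1, ?_⟩
        rw [Subgroup.mem_centralizer_iff]
        intro w hw
        rw [Set.mem_singleton_iff] at hw
        subst hw
        have h1 := hinvert q (Finset.mem_coe.mp hq)
        have h2 := hinvert q0 hq0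
        have h3 : q0.1 * q.1 * w * (q0.1 * q.1)⁻¹ = w := by
          calc q0.1 * q.1 * w * (q0.1 * q.1)⁻¹ = q0.1 * (q.1 * w * q.1⁻¹) * q0.1⁻¹ := by group
            _ = q0.1 * w⁻¹ * q0.1⁻¹ := by rw [h1]
            _ = (q0.1 * w * q0.1⁻¹)⁻¹ := by group
            _ = w := by rw [h2, inv_inv]
        calc w * (q0.1 * q.1) = q0.1 * q.1 * w * (q0.1 * q.1)⁻¹ * (q0.1 * q.1) := by rw [h3]
          _ = q0.1 * q.1 * w := by group
      · intro q hq q' hq' h
        have h1 := Finset.mem_filter.mp (Finset.mem_coe.mp hq)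
        have h2 := Finset.mem_filter.mp (Finset.mem_coe.mp hq')
        have h' : q.1 = q'.1 := mul_left_cancel h
        have e : q.2 = q'.2 := by
          have : q.1 * q.2 = q.1 * q'.2 := by rw [h1.2, h', h2.2]
          exact mul_left_cancel this
        exact Prod.ext h' e
    · rw [Finset.not_nonempty_iff_eq_empty] at hne
      simp only [hr, hne, Finset.card_empty, Nat.zero_le]
  -- the sum over `g ≠ 1`
  have hbig : ∀ g ∈ T.erase 1, 2 * n ^ 2 * r g ≤ Nat.card G - 1 := by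
    intro g hg
    have hg' := Finset.mem_erase.mp hg
    have hgG : g ∈ G := (Finset.mem_filter.mp hg'.2).2
    have h1 := hcon g hgG hg'.1
    have h2 := hrg g
    rw [hCcard] at h2
    have : 2 * n ^ 2 * r g ≤ 2 * n ^ 2 * Nat.card (G ⊓ centralizer ({g} : Set Γ) : Subgroup Γ) :=
      Nat.mul_le_mul_left _ h2
    omega
  have hsum2 : ∑ g ∈ T, r g = r 1 + ∑ g ∈ T.erase 1, r g := by
    rw [← Finset.add_sum_erase T r h1T]
  have hle : 2 * n ^ 2 * ∑ g ∈ T.erase 1, r g ≤ (Nat.card G - 1) * (Nat.card G - 1) := by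
    rw [Finset.mul_sum]
    calc ∑ g ∈ T.erase 1, 2 * n ^ 2 * r g ≤ ∑ _g ∈ T.erase 1, (Nat.card G - 1) :=
          Finset.sum_le_sum hbig
      _ = (Nat.card G - 1) * (Nat.card G - 1) := by
          rw [Finset.sum_const, Finset.card_erase_of_mem h1T, hTcard, smul_eq_mul]
  -- arithmetic
  rw [hCcard, hTcard] at hfib
  set cv := Nat.card (G ⊓ centralizer ({v} : Set Γ) : Subgroup Γ) with hcv
  set L := Cl.card with hL
  set Gc := Nat.card G with hGc
  set S := ∑ g ∈ T.erase 1, r g with hS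
  have hLL : L * L ≤ L + S := by
    rw [← hPcard, hsum, hsum2]
    omega
  have hGpos : 0 < Gc := Nat.card_pos
  -- move to ℤ
  have e1 : (L : ℤ) * L ≤ L + S := by exact_mod_cast hLL
  have e2 : 2 * (n : ℤ) ^ 2 * S ≤ ((Gc : ℤ) - 1) * ((Gc : ℤ) - 1) := by
    have : ((Gc - 1 : ℕ) : ℤ) = (Gc : ℤ) - 1 := by omega
    rw [← this]
    exact_mod_cast hle
  have e3 : (Gc : ℤ) ≤ cv * L := by exact_mod_cast hfib
  have e4 : (cv : ℤ) ≤ n := by exact_mod_cast hn
  have e5 : 2 * (n : ℤ) ≤ Gc := by exact_mod_cast hGn2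
  have e6 : (0 : ℤ) ≤ cv := Int.natCast_nonneg _
  have e7 : (0 : ℤ) ≤ L := Int.natCast_nonneg _
  have e8 : (0 : ℤ) < Gc := by exact_mod_cast hGpos
  have e9 : (0 : ℤ) ≤ S := Int.natCast_nonneg _
  -- `n L ≥ cv L ≥ Gc`
  have f1 : (Gc : ℤ) ≤ n * L := le_trans e3 (mul_le_mul_of_nonneg_right e4 e7)
  -- `2 n² (L² - L) ≤ 2 n² S ≤ (Gc - 1)²`
  have f2 : 2 * (n : ℤ) ^ 2 * (L * L - L) ≤ ((Gc : ℤ) - 1) * ((Gc : ℤ) - 1) := by
    have : 2 * (n : ℤ) ^ 2 * (L * L - L) ≤ 2 * (n : ℤ) ^ 2 * S := by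
      apply mul_le_mul_of_nonneg_left _ (by positivity)
      linarith
    linarith
  -- `2 n² (L² - L) = 2 (nL)(nL - n) ≥ 2 Gc (Gc - n) ≥ Gc²`
  have f3 : 2 * (Gc : ℤ) * (Gc - n) ≤ 2 * (n : ℤ) ^ 2 * (L * L - L) := by
    have h1 : (0 : ℤ) ≤ (Gc : ℤ) - n := by linarith
    have h2 : (Gc : ℤ) - n ≤ n * L - n := by linarith
    have h3 : (Gc : ℤ) * (Gc - n) ≤ (n * L) * (n * L - n) :=
      mul_le_mul f1 h2 h1 (by linarith)
    nlinarith
  nlinarith

end Cfsg.Agent.Lib.H7.BF
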