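import Mathlib
import Cfsg.Agent.Lib.H16.BG11j
import Cfsg.Agent.Lib.H7.BG13a
import Cfsg.Agent.Lib.H7.BG14a

/-!
# Common core of BG 12.3(a) and 12.5(e) (for helper16, S1417)

If `A` (elementary abelian of order `p²`, `p ∉ σ(M)`) lies in two distinct maximal subgroups `M`,
`L`, and `L` is either a `σ`-maximal for `p` or exceptional for `(p, A)`, then `A` centralizes
`M_σ ∩ L`.
-/

set_option autoImplicit false
set_option linter.style.haveILetI false
set_option linter.unusedVariables false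
open Cfsg
open Cfsg.Agent.Lib.H16.BG
open Cfsg.Agent.Lib.H7.BG7
open Cfsg.Agent.Lib.H7.BG10
open Cfsg.Agent.Lib.H20.BGS (sigmaCore_isPiCard)
open scoped commutatorElement

namespace Cfsg.Agent.Lib.H7.BG12core

universe u
variable {G : Type u} [Group G] [Finite G]

local notation:max "cj(" g ", " X ")" => Subgroup.map (MulEquiv.toMonoidHom (MulAut.conj g)) X

theorem commutator_sigmaCore_inf_le (hG : IsMinSimpleOddOrder G) {M L : Subgroup G}
    (hM : IsCoatom M) (hL : IsCoatom L) (hne : L ≠ M) {p : ℕ} [hp : Fact p.Prime]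
    (hpM : p ∉ sigma M) {A : Subgroup G} (hAM : A ≤ M) (hAL : A ≤ L)
    (hAe : IsElementaryAbelian p A) (hAc : Nat.card A = p ^ 2)
    (hL' : p ∈ sigma L ∨ ∃ X : Subgroup G, Exc L p A X) :
    sigmaCore M ⊓ L ≤ Subgroup.centralizer (A : Set G) := by
  have hU := Cfsg.Agent.Lib.H20.BGT.uniq3 hG
  have hpp : p.Prime := hp.out
  by_contra hnot
  have hDσ : sigmaCore M ⊓ L ≤ sigmaCore M := inf_le_left
  have hDM : sigmaCore M ⊓ L ≤ M := hDσ.trans (sigmaCore_le M)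
  have hDL : sigmaCore M ⊓ L ≤ L := inf_le_right
  have hAnorm : A ≤ Subgroup.normalizer ((sigmaCore M ⊓ L : Subgroup G) : Set G) :=
    Cfsg.Agent.Lib.H7.le_normalizer_inf (hAM.trans (le_normalizer_sigmaCore M))
      (hAL.trans Subgroup.le_normalizer)
  have hcop : (Nat.card A).Coprime (Nat.card (sigmaCore M ⊓ L : Subgroup G)) := by
    rw [hAc]
    apply Nat.Coprime.pow_left
    rw [Nat.Prime.coprime_iff_not_dvd hpp]
    intro hd
    exact hpM (sigmaCore_isPiCard M p hpp (hd.trans (Subgroup.card_dvd_of_le hDσ)))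
  haveI : Group.IsSolvable ↥(sigmaCore M ⊓ L : Subgroup G) :=
    solvable_of_le_ne_top hG hM.1 hDM
  obtain ⟨q, hq, Q, hQD, hQq, hAQ, hQA⟩ :=
    Cfsg.Agent.Lib.H7.BG13.exists_invariant_pgroup_not_centralized hAnorm hcop hnot
  haveI : Fact q.Prime := ⟨hq⟩
  have hQσ : Q ≤ sigmaCore M := hQD.trans hDσ
  have hQM : Q ≤ M := hQD.trans hDM
  have hQL : Q ≤ L := hQD.trans hDL
  have hQne : Q ≠ ⊥ := by
    rintro rfl
    exact hQA bot_le
  have hqσ : q ∈ sigma M :=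
    sigmaCore_isPiCard M q hq ((Cfsg.Agent.Lib.H7.BG13.dvd_card_of_isPGroup_ne_bot hQq hQne).trans
      (Subgroup.card_dvd_of_le hQσ))
  have hpq : p ≠ q := by
    rintro rfl
    exact hpM hqσ
  have hQ1ne : ⁅Q, A⁆ ≠ ⊥ := by
    intro h
    apply hQA
    rw [Subgroup.commutator_eq_bot_iff_le_centralizer] at h
    exact h
  have hAp : IsPGroup p A := IsPGroup.of_card hAc
  rcases hL' with hpL | ⟨X, hX⟩
  · -- `p ∈ σ(L)`: `L` is conjugate to `M`, so `p ∈ σ(M)`
    obtain ⟨g, hg⟩ := Cfsg.Agent.Lib.H7.BG13.conj_of_commutator_ne_bot hG hM hL hpq hpL hqσ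
      hAL hQL hAp hQq hAQ hQ1ne
    rw [hg, sigma_cj] at hpL
    exact hpM hpL
  · -- `L` exceptional
    have hLn := hX.normalizes' hG
    have hAW : A ≤ sigmaCore L ⊔ A := le_sup_right
    have hQ0W : ⁅Q, A⁆ ≤ sigmaCore L ⊔ A := by
      rw [Subgroup.commutator_le]
      intro x hx a ha
      have hxn := hLn (hQL hx)
      have h1 : x * a * x⁻¹ ∈ (sigmaCore L ⊔ A : Subgroup G) :=
        (Subgroup.mem_normalizer_iff.1 hxn a).1 (hAW ha)
      have h2 : ⁅x, a⁆ = x * a * x⁻¹ * a⁻¹ := commutatorElement_def x a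
      rw [h2]
      exact Subgroup.mul_mem _ h1 (Subgroup.inv_mem _ (hAW ha))
    have hQ1Q : ⁅Q, A⁆ ≤ Q := Subgroup.le_normalizer_iff_commutator_le_left.1 hAQ
    have hQ0q : IsPGroup q (⁅Q, A⁆ : Subgroup G) := hQq.to_le hQ1Q
    have hQ0L : ⁅Q, A⁆ ≤ L := hQ1Q.trans hQL
    have hAn : A ≤ Subgroup.normalizer ((sigmaCore L : Subgroup G) : Set G) :=
      hAL.trans (le_normalizer_sigmaCore L)
    have hqd : q ∣ Nat.card ↥(sigmaCore L) := by
      have h1 := Cfsg.Agent.Lib.H7.BG13.dvd_card_of_isPGroup_ne_bot hQ0q hQ1ne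
      have h2 := h1.trans (Subgroup.card_dvd_of_le hQ0W)
      have h3 := h2.trans (Cfsg.Agent.Lib.H7.card_sup_dvd_mul_of_le_normalizer hAn)
      rw [hAc] at h3
      rcases (Nat.Prime.dvd_mul hq).1 h3 with h | h
      · exact h
      · exact absurd ((Nat.prime_dvd_prime_iff_eq hq hpp).1 (hq.dvd_of_dvd_pow h)).symm hpq
    have hqL : q ∈ sigma L := mem_sigma_of_dvd_card_sigmaCore hq hqd
    have hQ0σL : ⁅Q, A⁆ ≤ sigmaCore L :=
      Cfsg.Agent.Lib.H7.BG14.le_sigmaCore_of_isPGroup hG hU hL hqL hQ0L hQ0q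
    have hQ0σM : ⁅Q, A⁆ ≤ sigmaCore M := hQ1Q.trans hQσ
    have hinf : sigmaCore M ⊓ sigmaCore L ≠ ⊥ := by
      intro h
      apply hQ1ne
      rw [eq_bot_iff, ← h]
      exact le_inf hQ0σM hQ0σL
    exact hne (hX.lemma_11_4 hG hM hAM hinf).symm

end Cfsg.Agent.Lib.H7.BG12core
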