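import Mathlib
import Cfsg.Agent.Lib.H7.BG16g

/-!
# BG Section 16 (helper7), part h: the subgroup `M_s` (`typeCore M`): `S1389` modulo `S1363`
-/

set_option autoImplicit false
set_option linter.style.haveILetI false
set_option linter.unusedSectionVars false
set_option linter.unusedVariables false

open Cfsg
open Cfsg.Agent.Lib.H16.BG
open Cfsg.Agent.Lib.H7.BG7
open Cfsg.Agent.Lib.H19 (IsPiCard)

namespace Cfsg.Agent.Lib.H7.BG16

universe u
variable {G : Type u} [Group G] [Finite G]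

local notation:max "cj(" g ", " X ")" => Subgroup.map (MulEquiv.toMonoidHom (MulAut.conj g)) X

variable {M : Subgroup G}

/-- a Hall subgroup `V` of `M` inside `M_σ`: Sylow normalizers in `M`, and `V` is a Hall subgroup of
`G`. -/
theorem hall_in_sigmaCore (hG : IsMinSimpleOddOrder G) (hM : IsCoatom M) {V : Subgroup G}
    (hV : V ≤ sigmaCore M) (hcop : (Nat.card V).Coprime (V.relIndex M)) :
    (∀ (p : ℕ), p.Prime → ∀ (P : Sylow p ↥V), (P : Subgroup ↥V) ≠ ⊥ →
        Subgroup.normalizer ((((P : Subgroup ↥V).map V.subtype : Subgroup G)) : Set G) ≤ M) ∧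
      (Nat.card V).Coprime V.index := by
  have hU := Cfsg.Agent.Lib.H20.BGT.uniq3 hG
  obtain ⟨hσ, hσG, -⟩ := Cfsg.Agent.Lib.H20.BGS.sigma_core_hall hG hU hM
  have hVM : V ≤ M := hV.trans hσ.1
  constructor
  · intro p hp P hP1
    haveI : Fact p.Prime := ⟨hp⟩
    have hQ : SylIn p ((P : Subgroup ↥V).map V.subtype) V := SylIn.of_sylow P
    have hQ1 : (P : Subgroup ↥V).map V.subtype ≠ ⊥ := by
      intro h
      apply hP1
      rw [eq_bot_iff]
      intro x hx
      have h1 : (x : G) ∈ (P : Subgroup ↥V).map V.subtype := ⟨x, hx, rfl⟩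
      rw [h, Subgroup.mem_bot] at h1
      rw [Subgroup.mem_bot]
      exact Subtype.ext h1
    have hpV : p ∣ Nat.card V :=
      Cfsg.Agent.Lib.H7.BG10.dvd_card_of_ne_bot hQ.isPGroup hQ.le hQ1
    have hpσ : p ∈ sigma M := Cfsg.Agent.Lib.H20.BGS.sigmaCore_isPiCard M p hp
      (hpV.trans (Subgroup.card_dvd_of_le hV))
    have hpr : ¬ p ∣ V.relIndex M := fun hd =>
      hp.one_lt.ne' (Nat.eq_one_of_dvd_coprimes hcop hpV hd)
    have hQM : SylIn p ((P : Subgroup ↥V).map V.subtype) M := by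
      refine ⟨hQ.le.trans hVM, hQ.isPGroup, ?_⟩
      rw [← Subgroup.relIndex_mul_relIndex _ V M hQ.le hVM]
      intro hd
      rcases (Nat.Prime.dvd_mul hp).1 hd with h | h
      · exact hQ.2.2 h
      · exact hpr h
    exact sigma_normalizer_le hpσ hQM
  · rw [← Subgroup.relIndex_mul_index hV]
    apply Nat.Coprime.mul_right
    · rw [← Subgroup.relIndex_mul_relIndex _ _ M hV hσ.1] at hcop
      exact Nat.Coprime.coprime_dvd_right (Dvd.intro _ rfl) hcop
    · apply Nat.coprime_of_dvd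
      intro p hp h1 h2
      exact hσG.2 p hp (Cfsg.Agent.Lib.H20.BGS.sigmaCore_isPiCard M p hp
        (h1.trans (Subgroup.card_dvd_of_le hV))) h2

/-- **`S1389`** modulo `S1363`. -/
theorem s1389_of_hyps (hG : IsMinSimpleOddOrder G) (h63 : Hyp1363 G) (hM : IsCoatom M) :
    (∀ (p : ℕ), p.Prime → ∀ (P : Sylow p ↥(typeCore M)), (P : Subgroup ↥(typeCore M)) ≠ ⊥ →
        Subgroup.normalizer ((((P : Subgroup ↥(typeCore M)).map (typeCore M).subtype :
          Subgroup G)) : Set G) ≤ M) ∧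
      (Nat.card (fittingHallOf M)).Coprime (fittingHallOf M).index ∧
      (Nat.card (typeCore M)).Coprime (typeCore M).index := by
  have hF := hall_in_sigmaCore hG hM (Cfsg.Agent.Lib.H10.BG144.fittingHallOf_le_sigmaCore hG hM)
    (Cfsg.Agent.Lib.H10.BG144.card_fittingHallOf_coprime M)
  by_cases hT : IsOfTypeIII M ∨ IsOfTypeIV M
  · obtain ⟨K, U, hKU⟩ := Cfsg.Agent.Lib.H10.BG152.exists_isSigmaDecomposition hG hM
    have key : ∀ {W₁ UP W₂ : Subgroup G}, IsTypePWith M W₁ UP W₂ →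
        Subgroup.normalizer (UP : Set G) ≤ M → ⁅M, M⁆ = sigmaCore M := by
      intro W₁ UP W₂ hP hN
      have hK1 := K_ne_bot_of_typeP hG hM hKU hP
      have hU := U_eq_bot_of_typeIII_IV hG h63 hM hKU hP hN
      subst hU
      exact commutator_eq_sigmaCore hG hM hKU hK1
    have hM' : ⁅M, M⁆ = sigmaCore M := by
      rcases hT with ⟨W₁, UP, W₂, hP, -, -, -, -, hN⟩ | ⟨W₁, UP, W₂, hP, -, -, -, -, hN⟩
      · exact key hP hN
      · exact key hP hN
    have hc : typeCore M = sigmaCore M := by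
      unfold typeCore
      rw [if_pos hT, hM']
    rw [hc]
    have hS := hall_in_sigmaCore hG hM le_rfl (coprime_sigmaCore hG hM)
    exact ⟨hS.1, hF.2, hS.2⟩
  · have hc : typeCore M = fittingHallOf M := by
      unfold typeCore
      rw [if_neg hT]
    rw [hc]
    exact ⟨hF.1, hF.2, hF.2⟩

end Cfsg.Agent.Lib.H7.BG16
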