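import Mathlib
import Cfsg.Agent.Lib.H8.BQ0
import Cfsg.Agent.Lib.H7.BQNcl

/-!
helper7 library (S4719 Part II, sub-architect helper8), piece G4a `card_le_pow_mul_card_inf_centralizer` in the EXACT
SIGNATURE of `tools/blueprints/S4719_Q_sigs.lean` (wrapper of `card_le_pow_mul_card_centralizer_finset`, Lib/H7/BQNcl).
-/

set_option autoImplicit false

universe u

namespace Cfsg.Agent.Lib.H7.BQ

open Subgroup Cfsg.Agent.Lib.H8.BQ

/-- G4a. Index of an intersection of centralizers. -/
theorem card_le_pow_mul_card_inf_centralizer {Γ : Type u} [Group Γ] [Finite Γ] (G : Subgroup Γ)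
    (S : Finset Γ) (c : ℕ)
    (hS : ∀ y ∈ S, Nat.card G ≤ c * Nat.card ↥(G ⊓ centralizer {y})) :
    Nat.card G ≤ c ^ S.card * Nat.card ↥(G ⊓ centralizer ((S : Finset Γ) : Set Γ)) :=
  card_le_pow_mul_card_centralizer_finset G c S hS

end Cfsg.Agent.Lib.H7.BQ
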