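import Mathlib
import Cfsg.Agent.Lib.H28.CSL2Defs
import Cfsg.Agent.Lib.H12.SL2Syl2
import Cfsg.Agent.Lib.H7.PSp4SC3

/-!
# S3211 piece B1 (helper7): a subgroup isomorphic to `SL₂(q)`, `q` odd, is `SLike`
-/

set_option autoImplicit false

namespace Cfsg.Agent.Lib.H7.CSL2

open Cfsg.Agent.Lib.H28.CSL2 Cfsg.Agent.Lib.H12

variable {F : Type*} [Field F] [Fintype F] {G : Type*} [Group G]

/-- the isomorphism sends the involution `j` to `-1`. -/
theorem b1_map_j (hodd : Odd (Fintype.card F)) (L : Subgroup G)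
    (e : ↥L ≃* Matrix.SpecialLinearGroup (Fin 2) F) (j : G) (hj : orderOf j = 2) (hjL : j ∈ L) :
    e ⟨j, hjL⟩ = -1 := by
  have h2 : (2 : F) ≠ 0 := Cfsg.Agent.Lib.H7.PSp4.two_ne_zero_of_odd_card hodd
  have hj1 : j ≠ 1 := by
    intro h
    rw [h, orderOf_one] at hj
    norm_num at hj
  have hjj : j * j = 1 := by
    rw [← pow_two, ← hj]
    exact pow_orderOf_eq_one j
  have h1 : e ⟨j, hjL⟩ * e ⟨j, hjL⟩ = 1 := by
    rw [← map_mul]
    have : (⟨j, hjL⟩ : ↥L) * ⟨j, hjL⟩ = 1 := Subtype.ext hjj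
    rw [this, map_one]
  rcases (sl2_mul_self_eq_one_iff h2 _).mp h1 with h | h
  · exfalso
    apply hj1
    have := e.injective (h.trans (map_one e).symm)
    exact congrArg Subtype.val this
  · exact h

/-- **B1**. -/
theorem sLike_of_equiv (hodd : Odd (Fintype.card F)) (L : Subgroup G)
    (e : ↥L ≃* Matrix.SpecialLinearGroup (Fin 2) F) (j : G) (hj : orderOf j = 2) (hjL : j ∈ L) :
    SLike L j := by
  have h2 : (2 : F) ≠ 0 := Cfsg.Agent.Lib.H7.PSp4.two_ne_zero_of_odd_card hodd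
  have hj1 : j ≠ 1 := by
    intro h
    rw [h, orderOf_one] at hj
    norm_num at hj
  have hjj : j * j = 1 := by
    rw [← pow_two, ← hj]
    exact pow_orderOf_eq_one j
  have hej := b1_map_j hodd L e j hj hjL
  have key : ∀ a : ↥L, e a = -1 → (a : G) = j :=
    fun a ha => congrArg Subtype.val (e.injective (ha.trans hej.symm))
  have hsq : ∀ (a : G) (ha : a ∈ L), a * a = j → e ⟨a, ha⟩ * e ⟨a, ha⟩ = -1 := by
    intro a ha haa
    rw [← map_mul, ← hej]
    congr 1
    exact Subtype.ext haa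
  refine ⟨hjL, hj1, hjj, ?_, ?_, ?_, ?_⟩
  · intro a ha
    have : (⟨a, ha⟩ : ↥L) * ⟨j, hjL⟩ = ⟨j, hjL⟩ * ⟨a, ha⟩ := by
      apply e.injective
      rw [map_mul, map_mul, hej]
      simp
    exact congrArg Subtype.val this
  · intro a ha haa
    have h1 : e ⟨a, ha⟩ * e ⟨a, ha⟩ = 1 := by
      rw [← map_mul]
      have : (⟨a, ha⟩ : ↥L) * ⟨a, ha⟩ = 1 := Subtype.ext haa
      rw [this, map_one]
    rcases (sl2_mul_self_eq_one_iff h2 _).mp h1 with h | h
    · left
      have := e.injective (h.trans (map_one e).symm)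
      exact congrArg Subtype.val this
    · right
      exact key _ h
  · intro a ha a' ha' haa haa'
    obtain ⟨k, hk⟩ := Cfsg.Agent.Lib.H7.PSp4.exists_conj_of_sq hodd (hsq a ha haa) (hsq a' ha' haa')
    refine ⟨(e.symm k : G), (e.symm k).2, ?_⟩
    have : e.symm k * ⟨a, ha⟩ * (e.symm k)⁻¹ = ⟨a', ha'⟩ := by
      apply e.injective
      rw [map_mul, map_mul, map_inv, e.apply_symm_apply]
      exact hk
    exact congrArg Subtype.val this
  · intro a ha d hd haa hda
    have h1 := hsq a ha haa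
    have hns := nonScalar_of_trace_sq_ne _ (trace_sq_ne_of_mul_self h2 _ h1)
    have h3 : e ⟨d, hd⟩ * e ⟨a, ha⟩ * (e ⟨d, hd⟩)⁻¹ = (e ⟨a, ha⟩)⁻¹ := by
      rw [← map_inv, ← map_inv, ← map_mul, ← map_mul]
      congr 1
      exact Subtype.ext hda
    have h4 := mul_self_of_inverts hns h3
    have : (⟨d, hd⟩ * ⟨d, hd⟩ : ↥L) = ⟨j, hjL⟩ := e.injective (by rw [map_mul, h4, hej])
    exact congrArg Subtype.val this

end Cfsg.Agent.Lib.H7.CSL2
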