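import Mathlib
import Cfsg.Agent.Lib.H28.CSL2Defs
import Cfsg.Agent.Lib.H7.CSL2B1

/-!
# S3211 piece B2, generic part (helper7): transport of the power facts of `SL₂(q)` along an isomorphism
-/

set_option autoImplicit false

namespace Cfsg.Agent.Lib.H7.CSL2

open Cfsg.Agent.Lib.H28.CSL2 Cfsg.Agent.Lib.H12

variable {F : Type*} [Field F] [Fintype F] {G : Type*} [Group G]

/-- transport of A1 + A2 along `e`. -/
theorem sPow_of_facts (hodd : Odd (Fintype.card F)) (L : Subgroup G)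
    (e : ↥L ≃* Matrix.SpecialLinearGroup (Fin 2) F) (j : G) (hj : orderOf j = 2) (hjL : j ∈ L) (M : ℕ)
    (hA1 : ∀ d : Matrix.SpecialLinearGroup (Fin 2) F, d ^ M * d ^ M ≠ -1)
    (hA2 : Even M ∧ ∃ x c y : Matrix.SpecialLinearGroup (Fin 2) F, x * x = -1 ∧ c * x = x * c ∧
      c ^ M = -1 ∧ y * x * y⁻¹ = x⁻¹) : SPow L j M := by
  have hej := b1_map_j hodd L e j hj hjL
  have hsymm : e.symm (-1) = ⟨j, hjL⟩ := by rw [← hej, e.symm_apply_apply]
  refine ⟨hA2.1, ?_, ?_⟩
  · intro d hd hdd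
    apply hA1 (e ⟨d, hd⟩)
    rw [← map_pow, ← map_mul, ← hej]
    congr 1
    exact Subtype.ext hdd
  · obtain ⟨x, c, y, hxx, hcx, hcM, hyx⟩ := hA2.2
    refine ⟨(e.symm x : G), (e.symm x).2, (e.symm c : G), (e.symm c).2, (e.symm y : G), (e.symm y).2,
      ?_, ?_, ?_, ?_⟩
    · have : e.symm x * e.symm x = ⟨j, hjL⟩ := by rw [← map_mul, hxx, hsymm]
      exact congrArg Subtype.val this
    · have : e.symm c * e.symm x = e.symm x * e.symm c := by rw [← map_mul, ← map_mul, hcx]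
      exact congrArg Subtype.val this
    · have : e.symm c ^ M = ⟨j, hjL⟩ := by rw [← map_pow, hcM, hsymm]
      have h1 := congrArg Subtype.val this
      simpa using h1
    · have : e.symm y * e.symm x * (e.symm y)⁻¹ = (e.symm x)⁻¹ := by
        rw [← map_inv, ← map_inv, ← map_mul, ← map_mul, hyx]
      have h1 := congrArg Subtype.val this
      simpa using h1

end Cfsg.Agent.Lib.H7.CSL2
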