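import Mathlib
import Cfsg.Agent.Lib.H28.CSL2Defs
import Cfsg.Agent.Lib.H7.CSL2B2a
import Cfsg.Agent.Lib.H11.CSL2A1
import Cfsg.Agent.Lib.H11.CSL2A2

/-!
# S3211 piece B2 (helper7): `SPow` for a subgroup isomorphic to `SL₂(q)`, `q` odd
-/

set_option autoImplicit false

namespace Cfsg.Agent.Lib.H7.CSL2

open Cfsg.Agent.Lib.H28.CSL2 Cfsg.Agent.Lib.H12

variable {F : Type*} [Field F] [Fintype F] {G : Type*} [Group G]

/-- **B2**. Transport of A1 + A2. -/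
theorem sPow_of_equiv (hodd : Odd (Fintype.card F)) (L : Subgroup G)
    (e : ↥L ≃* Matrix.SpecialLinearGroup (Fin 2) F) (j : G) (hj : orderOf j = 2) (hjL : j ∈ L) :
    ∃ M : ℕ, SPow L j M := by
  obtain ⟨Q⟩ : Nonempty (Sylow 2 (Matrix.SpecialLinearGroup (Fin 2) F)) := inferInstance
  exact ⟨_, sPow_of_facts hodd L e j hj hjL _
    (fun d => Cfsg.Agent.Lib.H11.CSL2.sl2_npow hodd Q d) (Cfsg.Agent.Lib.H11.CSL2.sl2_ex hodd Q)⟩

end Cfsg.Agent.Lib.H7.CSL2
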