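import Cfsg.Agent.Lib.H27.Co2Simple
import Cfsg.Agent.Lib.H27.McLOutGen
import Cfsg.Agent.Lib.H27.SimpleSub

set_option autoImplicit false

/-!
# S2044 (M(Co2) = 1), piece MAX (helper7; architect helper6)

`mc_maximal`: a subgroup of `stabilizer Co0 leechU` (= Co2) containing `MC` (= McL) and an element moving
`WP` is the whole stabilizer.  Suborbit arithmetic `1 + 275 + 2025 + 7128 + 15400 + 22275 = 47104` in helper27's
copy `K2 = stabilizer Co0 V0`, then transport along an element of `Co0` mapping `(V0, W0)` to `(leechU, WP)`.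
-/

namespace Cfsg.Agent.Lib.H7.Co2M

open Cfsg MulAction Cfsg.Agent.Lib.H28 Cfsg.Agent.Lib.H27 Cfsg.Agent.Lib.H27.McLOut

section general

variable {G α : Type*} [Group G] [Finite G] [MulAction G α]
variable {x₀ : α} {ι : Type*} [Fintype ι] [DecidableEq ι] {O : ι → Set α} {c : ι → ℕ} {i₀ : ι}

omit [Finite G] in
/-- the orbit of a subgroup containing the point stabilizer has size dividing the size of the full orbit -/
theorem ncard_orbit_over_dvd (N : Subgroup G) (hle : stabilizer G x₀ ≤ N) :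
    (orbit N x₀).ncard ∣ (orbit G x₀).ncard := by
  have h1 : (stabilizer N x₀).index = (orbit N x₀).ncard := index_stabilizer N x₀
  have h2 : (stabilizer G x₀).index = (orbit G x₀).ncard := index_stabilizer G x₀
  have h3 : stabilizer N x₀ = (stabilizer G x₀).subgroupOf N := by
    ext n
    rw [Subgroup.mem_subgroupOf, mem_stabilizer_iff, mem_stabilizer_iff]
    rfl
  have h4 := Subgroup.relIndex_mul_index hle
  rw [Subgroup.relIndex, ← h3, h1, h2] at h4
  exact Dvd.intro _ h4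

/-- The orbit of `x₀` under a subgroup containing the point stabilizer is a union of suborbits whose total
size divides the size of the full orbit (clone of helper27's `SubData.normal_orbit`). -/
theorem over_orbit (D : SubData G x₀ ι O c i₀) (N : Subgroup G) (hle : stabilizer G x₀ ≤ N) :
    ∃ T : Finset ι, i₀ ∈ T ∧ orbit N x₀ = ⋃ i ∈ T, O i ∧
      (orbit N x₀).ncard = ∑ i ∈ T, c i ∧ (∑ i ∈ T, c i) ∣ ∑ i, c i := by
  classical
  let T : Finset ι := Finset.univ.filter (fun i => (O i ∩ orbit N x₀).Nonempty)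
  have hT : ∀ i, i ∈ T ↔ (O i ∩ orbit N x₀).Nonempty := by
    intro i; simp [T]
  have hB : orbit N x₀ = ⋃ i ∈ T, O i := by
    ext y
    simp only [Set.mem_iUnion, exists_prop]
    constructor
    · intro hy
      have hy' : y ∈ ⋃ i, O i := by
        rw [← D.cover]; exact Cfsg.Agent.Lib.H27.orbit_subgroup_subset N x₀ hy
      obtain ⟨i, hi⟩ := Set.mem_iUnion.1 hy'
      exact ⟨i, (hT i).2 ⟨y, hi, hy⟩, hi⟩
    · rintro ⟨i, hi, hy⟩
      obtain ⟨z, hz, hzN⟩ := (hT i).1 hi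
      obtain ⟨h, hh, rfl⟩ := D.trans i z hz y hy
      obtain ⟨n, rfl⟩ := hzN
      refine ⟨⟨h * n.1, N.mul_mem (hle (mem_stabilizer_iff.2 hh)) n.2⟩, ?_⟩
      change (h * n.1) • x₀ = h • (n.1 • x₀)
      rw [mul_smul]
  have h0 : i₀ ∈ T := by
    rw [hT]
    refine ⟨x₀, ?_, mem_orbit_self (M := N) x₀⟩
    rw [D.base]; rfl
  have hc : (orbit N x₀).ncard = ∑ i ∈ T, c i := by
    rw [hB, (ncard_biUnion_fin O T (fun i _ => D.fin i) D.disj).1]
    exact Finset.sum_congr rfl (fun i _ => D.card i)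
  refine ⟨T, h0, hB, hc, ?_⟩
  rw [← hc, ← D.card_orbit]
  exact ncard_orbit_over_dvd N hle

/-- maximality of the point stabilizer from the suborbit arithmetic -/
theorem eq_top_of_over (D : SubData G x₀ ι O c i₀)
    (harith : ∀ T : Finset ι, i₀ ∈ T → (∑ i ∈ T, c i) ∣ (∑ i, c i) →
      T = {i₀} ∨ T = Finset.univ)
    (N : Subgroup G) (hle : stabilizer G x₀ ≤ N) (n : G) (hn : n ∈ N) (hmove : n • x₀ ≠ x₀) :
    N = ⊤ := by
  classical
  obtain ⟨T, h0, hB, -, hdvd⟩ := over_orbit D N hle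
  rcases harith T h0 hdvd with hT | hT
  · exfalso
    have hBx : orbit N x₀ = {x₀} := by
      rw [hB, hT]
      simp [D.base]
    have : n • x₀ ∈ orbit N x₀ := ⟨⟨n, hn⟩, rfl⟩
    rw [hBx] at this
    exact hmove this
  · apply eq_top_of_transitive_of_stab_le N _ hle
    rw [hB, hT, D.cover]
    ext y; simp

end general

open Co2Data McLData McL2025Data

/-- helper27's suborbit data of `K2 = stabilizer Co0 V0` on the `47104` vectors of `co2Set V0` -/
theorem subData_K2 : SubData ↥K2 W0 (Fin 6) (fun i => dotSub (co2Set V0) W0 (t2 i)) c2 0 :=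
  subData_of_sub K2 W0 (co2Set V0) W0_mem K2_inv K2_tr
    (fun i => dotSub (co2Set V0) W0 (t2 i)) c2 0
    (dotSub_32 _ _ W0_mem (fun y hy => hy.1))
    (dotSub_cover _ _ t2 K2_cases) (dotSub_disj _ _ t2 (by decide))
    K2_trans K2_card

theorem arith_c2 : ∀ T : Finset (Fin 6), 0 ∈ T → (∑ i ∈ T, c2 i) ∣ (∑ i, c2 i) →
    T = {0} ∨ T = Finset.univ := by decide

/-- the maximality of `Stab(V0) ⊓ Stab(W0)` in `K2 = Stab(V0)` -/
theorem k2_maximal (N : Subgroup Co0) (h1 : stabilizer Co0 V0 ⊓ stabilizer Co0 W0 ≤ N)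
    (h2 : N ≤ stabilizer Co0 V0) (e : Co0) (he : e ∈ N) (hne : e • W0 ≠ W0) :
    N = stabilizer Co0 V0 := by
  apply le_antisymm h2
  have hle : stabilizer ↥K2 W0 ≤ N.subgroupOf K2 := by
    intro k hk
    rw [Subgroup.mem_subgroupOf]
    apply h1
    exact Subgroup.mem_inf.2 ⟨k.2, mem_stabilizer_iff.2 (mem_stabilizer_iff.1 hk)⟩
  have htop := eq_top_of_over subData_K2 arith_c2 (N.subgroupOf K2) hle ⟨e, h2 he⟩
    (Subgroup.mem_subgroupOf.2 he) hne
  intro g hg
  have : (⟨g, hg⟩ : ↥K2) ∈ N.subgroupOf K2 := by rw [htop]; exact Subgroup.mem_top _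
  exact Subgroup.mem_subgroupOf.1 this

/-- MAX: the McLaughlin group `MC` is maximal in `stabilizer Co0 leechU` -/
theorem mc_maximal (N : Subgroup Co0) (h1 : MC ≤ N) (h2 : N ≤ stabilizer Co0 Spor.leechU)
    (e : Co0) (he : e ∈ N) (hne : e • WP ≠ WP) : N = stabilizer Co0 Spor.leechU := by
  obtain ⟨h, hV, hW⟩ := trans_pairs' V0 W0 Spor.leechU WP sqNorm_V0 sqNorm_W0 sqNorm_U sqNorm_WP
    (Or.inr rfl) dot_V0_W0 dot_U_WP
  -- the conjugate subgroup
  let N₀ : Subgroup Co0 := N.comap (MulAut.conj h).toMonoidHom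
  have hN₀ : ∀ k : Co0, k ∈ N₀ ↔ h * k * h⁻¹ ∈ N := fun k => Iff.rfl
  have hfixV : ∀ k : Co0, (h * k * h⁻¹) • Spor.leechU = Spor.leechU ↔ k • V0 = V0 := by
    intro k
    rw [← hV, mul_smul, mul_smul, inv_smul_smul, smul_left_cancel_iff]
  have hfixW : ∀ k : Co0, (h * k * h⁻¹) • WP = WP ↔ k • W0 = W0 := by
    intro k
    rw [← hW, mul_smul, mul_smul, inv_smul_smul, smul_left_cancel_iff]
  have h1' : stabilizer Co0 V0 ⊓ stabilizer Co0 W0 ≤ N₀ := by
    intro k hk
    rw [hN₀]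
    apply h1
    rw [MC_eq]
    obtain ⟨hk1, hk2⟩ := Subgroup.mem_inf.1 hk
    exact Subgroup.mem_inf.2 ⟨mem_stabilizer_iff.2 ((hfixV k).2 (mem_stabilizer_iff.1 hk1)),
      mem_stabilizer_iff.2 ((hfixW k).2 (mem_stabilizer_iff.1 hk2))⟩
  have h2' : N₀ ≤ stabilizer Co0 V0 := by
    intro k hk
    exact mem_stabilizer_iff.2 ((hfixV k).1 (mem_stabilizer_iff.1 (h2 ((hN₀ k).1 hk))))
  have he' : h⁻¹ * e * h ∈ N₀ := by
    rw [hN₀]
    have : h * (h⁻¹ * e * h) * h⁻¹ = e := by group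
    rw [this]
    exact he
  have hne' : (h⁻¹ * e * h) • W0 ≠ W0 := by
    intro hc
    apply hne
    have := (hfixW (h⁻¹ * e * h)).2 hc
    have h3 : h * (h⁻¹ * e * h) * h⁻¹ = e := by group
    rwa [h3] at this
  have hmax := k2_maximal N₀ h1' h2' _ he' hne'
  apply le_antisymm h2
  intro g hg
  have hk : h⁻¹ * g * h ∈ stabilizer Co0 V0 := by
    rw [mem_stabilizer_iff, ← hfixV]
    have h3 : h * (h⁻¹ * g * h) * h⁻¹ = g := by group
    rw [h3]
    exact mem_stabilizer_iff.1 hg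
  rw [← hmax, hN₀] at hk
  have h3 : h * (h⁻¹ * g * h) * h⁻¹ = g := by group
  rwa [h3] at hk

end Cfsg.Agent.Lib.H7.Co2M
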