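import Mathlib
import Cfsg.Agent.Lib.H7.CoreOf
import Cfsg.Agent.Lib.H7.PConstrained
import Cfsg.Agent.Lib.H7.CharMap
import Cfsg.Agent.Lib.H7.Coprime

set_option autoImplicit false
set_option linter.unusedSectionVars false
set_option linter.style.haveILetI false

namespace Cfsg.Agent.Lib.H7

open Cfsg

universe u
variable {G : Type u} [Group G] [Finite G]

/-- Solvable `O_{q'}` lemma in ambient form. -/
theorem le_pPrimeCoreOf_of_le_centralizer (q : ℕ) [Fact q.Prime] {K W : Subgroup G} {z : G}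
    (hsol : Group.IsSolvable K) (hzK : Subgroup.zpowers z ≤ Subgroup.normalizer (K : Set G))
    (hz : IsPGroup q (Subgroup.zpowers z))
    (hWK : W ≤ K) (hWz : W ≤ Subgroup.centralizer ({z} : Set G)) (hWc : (Nat.card W).Coprime q)
    (hn : (K ⊔ Subgroup.zpowers z) ⊓ Subgroup.centralizer ({z} : Set G) ≤
      Subgroup.normalizer (W : Set G)) : W ≤ pPrimeCoreOf q K := by
  set Z := Subgroup.zpowers z with hZ
  set Kz := K ⊔ Z with hKz
  have hKzsol : Group.IsSolvable ↥Kz := by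
    apply isSolvable_sup_of_le_normalizer hzK hsol
    have : IsMulCommutative ↥Z := by rw [hZ]; infer_instance
    infer_instance
  have hKle : K ≤ Kz := le_sup_left
  have hZle : Z ≤ Kz := le_sup_right
  have hWle : W ≤ Kz := hWK.trans hKle
  have hPz : IsPGroup q (Z.subgroupOf Kz) := hz.comap_subtype
  have hWzc : (Nat.card (W.subgroupOf Kz)).Coprime q := by
    rw [Nat.card_congr (Subgroup.subgroupOfEquivOfLe hWle).toEquiv]; exact hWc
  have hWP : W.subgroupOf Kz ≤ Subgroup.centralizer ((Z.subgroupOf Kz : Subgroup ↥Kz) : Set ↥Kz) := by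
    intro w hw
    rw [Subgroup.mem_subgroupOf] at hw
    rw [Subgroup.mem_centralizer_iff]
    intro u hu
    rw [SetLike.mem_coe, Subgroup.mem_subgroupOf] at hu
    apply Subtype.ext
    rw [Subgroup.coe_mul, Subgroup.coe_mul]
    have h1 := hWz hw
    rw [centralizer_singleton_eq_centralizer_zpowers, Subgroup.mem_centralizer_iff] at h1
    exact h1 _ hu
  have hn' : Subgroup.centralizer ((Z.subgroupOf Kz : Subgroup ↥Kz) : Set ↥Kz) ≤
      Subgroup.normalizer ((W.subgroupOf Kz : Subgroup ↥Kz) : Set ↥Kz) := by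
    intro y hy
    have hy1 : (y : G) ∈ Subgroup.centralizer ({z} : Set G) := by
      rw [Subgroup.mem_centralizer_singleton_iff]
      have hzmem : (⟨z, hZle (Subgroup.mem_zpowers z)⟩ : ↥Kz) ∈
          ((Z.subgroupOf Kz : Subgroup ↥Kz) : Set ↥Kz) := by
        rw [SetLike.mem_coe, Subgroup.mem_subgroupOf]; exact Subgroup.mem_zpowers z
      have := Subgroup.mem_centralizer_iff.1 hy _ hzmem
      exact (congrArg Subtype.val this).symm
    have hy2 : (y : G) ∈ Subgroup.normalizer (W : Set G) := hn ⟨y.2, hy1⟩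
    rw [Subgroup.mem_normalizer_iff] at hy2 ⊢
    intro w
    rw [Subgroup.mem_subgroupOf, Subgroup.mem_subgroupOf]
    exact hy2 (w : G)
  have key := le_pPrimeCore_of_le_centralizer q
    (centralizer_pCore_quotient_le_of_isSolvable q hKzsol) hPz hWzc hWP hn'
  have hW1 : W ≤ pPrimeCoreOf q Kz ⊓ K := by
    intro w hw
    refine ⟨⟨⟨w, hWle hw⟩, key (Subgroup.mem_subgroupOf.2 hw), rfl⟩, hWK hw⟩
  refine hW1.trans (le_pPrimeCoreOf q inf_le_right ?_ ?_)
  · exact le_normalizer_inf (hKle.trans (le_normalizer_pPrimeCoreOf q Kz)) Subgroup.le_normalizer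
  · exact Nat.Coprime.coprime_dvd_left (Subgroup.card_dvd_of_le inf_le_left)
      (card_pPrimeCoreOf_coprime q Kz)



/-- `O_{q',q}(K)` as a subgroup of the ambient group. -/
abbrev pPrimePCoreOf (q : ℕ) (K : Subgroup G) : Subgroup G :=
  (pPrimePCore q ↥K).map K.subtype

omit [Finite G] in
theorem pPrimePCoreOf_le (q : ℕ) (K : Subgroup G) : pPrimePCoreOf q K ≤ K := by
  rintro _ ⟨x, _, rfl⟩
  exact x.2

omit [Finite G] in
theorem pPrimeCoreOf_le_pPrimePCoreOf (q : ℕ) (K : Subgroup G) :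
    pPrimeCoreOf q K ≤ pPrimePCoreOf q K := by
  rintro _ ⟨x, hx, rfl⟩
  refine ⟨x, ?_, rfl⟩
  show QuotientGroup.mk' (pPrimeCore q ↥K) x ∈ pCore q (↥K ⧸ pPrimeCore q ↥K)
  rw [QuotientGroup.mk'_apply, (QuotientGroup.eq_one_iff x).2 hx]
  exact Subgroup.one_mem _

omit [Finite G] in
theorem normalizer_le_normalizer_pPrimePCoreOf (q : ℕ) [Fact q.Prime] (K : Subgroup G) :
    Subgroup.normalizer (K : Set G) ≤ Subgroup.normalizer (pPrimePCoreOf q K : Set G) :=
  normalizer_le_normalizer_charMap (fun Y _ => pPrimePCore q Y)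
    (fun _ _ _ _ e => pPrimePCore_map_equiv q e) K

omit [Finite G] in
theorem exists_pow_mem_of_mem_pPrimePCoreOf (q : ℕ) [Fact q.Prime] (K : Subgroup G) {x : G}
    (hx : x ∈ pPrimePCoreOf q K) : ∃ n : ℕ, x ^ (q ^ n) ∈ pPrimeCoreOf q K := by
  obtain ⟨k, hk, rfl⟩ := hx
  have hk' : QuotientGroup.mk' (pPrimeCore q ↥K) k ∈ pCore q (↥K ⧸ pPrimeCore q ↥K) := hk
  obtain ⟨n, hn⟩ := (Cfsg.Agent.Lib.H1.pCore_isPGroup q (↥K ⧸ pPrimeCore q ↥K)) ⟨_, hk'⟩
  refine ⟨n, ?_⟩
  have hn' : (QuotientGroup.mk' (pPrimeCore q ↥K) k) ^ q ^ n = 1 := congrArg Subtype.val hn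
  rw [← map_pow, QuotientGroup.mk'_apply, QuotientGroup.eq_one_iff] at hn'
  exact ⟨k ^ q ^ n, hn', by simp⟩

/-- Hall–Higman 1.2.3 in ambient form. -/
theorem mem_pPrimePCoreOf_of_commutator_mem (q : ℕ) [Fact q.Prime] {K : Subgroup G}
    (hsol : Group.IsSolvable K) {k : G} (hk : k ∈ K)
    (hc : ∀ x ∈ pPrimePCoreOf q K, x * k * x⁻¹ * k⁻¹ ∈ pPrimeCoreOf q K) :
    k ∈ pPrimePCoreOf q K := by
  have hHH := centralizer_pCore_quotient_le_of_isSolvable q hsol
  set O := pPrimeCore q ↥K with hO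
  have hOn : O.Normal := Cfsg.Agent.Lib.H22.pPrimeCore_normal q
  have hmem : QuotientGroup.mk' O ⟨k, hk⟩ ∈
      Subgroup.centralizer (pCore q (↥K ⧸ O) : Set (↥K ⧸ O)) := by
    rw [Subgroup.mem_centralizer_iff]
    intro y hy
    obtain ⟨x, rfl⟩ := QuotientGroup.mk'_surjective O y
    have hxQ : (x : G) ∈ pPrimePCoreOf q K := ⟨x, hy, rfl⟩
    obtain ⟨c, hcO, hceq⟩ := hc (x : G) hxQ
    have hc' : x * ⟨k, hk⟩ * x⁻¹ * (⟨k, hk⟩ : ↥K)⁻¹ = c := by
      apply Subtype.ext
      have h0 : (c : G) = ↑x * k * (↑x)⁻¹ * k⁻¹ := hceq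
      rw [h0]
      simp
    have h1 : QuotientGroup.mk' O (x * ⟨k, hk⟩ * x⁻¹ * (⟨k, hk⟩ : ↥K)⁻¹) = 1 := by
      rw [hc', QuotientGroup.mk'_apply, QuotientGroup.eq_one_iff]; exact hcO
    rw [map_mul, map_mul, map_mul, map_inv, map_inv] at h1
    have h2 := mul_inv_eq_one.1 h1
    have h3 := mul_inv_eq_iff_eq_mul.1 h2
    exact h3
  have h4 := hHH hmem
  exact ⟨⟨k, hk⟩, h4, rfl⟩

/-- Step 2: `O_{q'}(C_H(z)) ∩ K ≤ O_{q'}(K)` for a solvable normal subgroup `K ≤ H`. -/
theorem pPrimeCoreOf_centralizer_inf_le (q : ℕ) [Fact q.Prime] {H K : Subgroup G} [hKn : K.Normal] (hKH : K ≤ H)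
    (hsol : Group.IsSolvable K) {z : G} (hzH : z ∈ H) (hz : IsPGroup q (Subgroup.zpowers z)) :
    pPrimeCoreOf q (H ⊓ Subgroup.centralizer ({z} : Set G)) ⊓ K ≤ pPrimeCoreOf q K := by
  have hKtop : Subgroup.normalizer (K : Set G) = ⊤ := Subgroup.normalizer_eq_top_iff.2 hKn
  apply le_pPrimeCoreOf_of_le_centralizer q hsol (z := z)
  · rw [hKtop]; exact le_top
  · exact hz
  · exact inf_le_right
  · exact inf_le_left.trans ((pPrimeCoreOf_le q _).trans inf_le_right)
  · exact Nat.Coprime.coprime_dvd_left (Subgroup.card_dvd_of_le inf_le_left)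
      (card_pPrimeCoreOf_coprime q _)
  · apply le_normalizer_inf
    · refine le_trans ?_ (le_normalizer_pPrimeCoreOf q _)
      apply inf_le_inf_right
      apply sup_le hKH
      rw [Subgroup.zpowers_le]; exact hzH
    · rw [hKtop]; exact le_top

omit [Finite G] in
theorem pPrimeCoreOf_normal_of_normal (q : ℕ) (K : Subgroup G) [hKn : K.Normal] :
    (pPrimeCoreOf q K).Normal := by
  have hKtop : Subgroup.normalizer (K : Set G) = ⊤ := Subgroup.normalizer_eq_top_iff.2 hKn
  apply Subgroup.normalizer_eq_top_iff.1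
  apply top_le_iff.1
  rw [← hKtop]
  exact normalizer_le_normalizer_pPrimeCoreOf q K

omit [Finite G] in
theorem pPrimePCoreOf_normal_of_normal (q : ℕ) [Fact q.Prime] (K : Subgroup G) [hKn : K.Normal] :
    (pPrimePCoreOf q K).Normal := by
  have hKtop : Subgroup.normalizer (K : Set G) = ⊤ := Subgroup.normalizer_eq_top_iff.2 hKn
  apply Subgroup.normalizer_eq_top_iff.1
  apply top_le_iff.1
  rw [← hKtop]
  exact normalizer_le_normalizer_pPrimePCoreOf q K

/-- Step 3: `O_{q'}(C_H(z))` centralizes `O_{q',q}(K) / O_{q'}(K)`. -/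
theorem pPrimeCoreOf_centralizer_comm_mem (q : ℕ) [Fact q.Prime] {H K : Subgroup G} [hKn : K.Normal] (hKH : K ≤ H)
    (hsol : Group.IsSolvable K) {z : G} (hzH : z ∈ H) (hz : IsPGroup q (Subgroup.zpowers z))
    {y x : G} (hy : y ∈ pPrimeCoreOf q (H ⊓ Subgroup.centralizer ({z} : Set G)))
    (hx : x ∈ pPrimePCoreOf q K) : y * x * y⁻¹ * x⁻¹ ∈ pPrimeCoreOf q K := by
  set N := pPrimeCoreOf q K with hN
  set Q := pPrimePCoreOf q K with hQ
  set X := pPrimeCoreOf q (H ⊓ Subgroup.centralizer ({z} : Set G)) with hX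
  set Z := Subgroup.zpowers z with hZ
  haveI hNn : N.Normal := pPrimeCoreOf_normal_of_normal q K
  haveI hQn : Q.Normal := pPrimePCoreOf_normal_of_normal q K
  have hXK : X ⊓ K ≤ N := pPrimeCoreOf_centralizer_inf_le q hKH hsol hzH hz
  have hNc : (Nat.card N).Coprime q := card_pPrimeCoreOf_coprime q K
  have hNQ : N ≤ Q := pPrimeCoreOf_le_pPrimePCoreOf q K
  have hQK : Q ≤ K := pPrimePCoreOf_le q K
  have hXz : X ≤ Subgroup.centralizer ({z} : Set G) := (pPrimeCoreOf_le q _).trans inf_le_right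
  set π := QuotientGroup.mk' N with hπ
  have hπs : Function.Surjective π := QuotientGroup.mk'_surjective N
  have hQp : IsPGroup q (Q.map π) := by
    rintro ⟨_, ⟨x, hx, rfl⟩⟩
    obtain ⟨n, hn⟩ := exists_pow_mem_of_mem_pPrimePCoreOf q K hx
    refine ⟨n, ?_⟩
    apply Subtype.ext
    show (π x) ^ q ^ n = 1
    rw [← map_pow, hπ, QuotientGroup.mk'_apply, QuotientGroup.eq_one_iff]
    exact hn
  have hBp : IsPGroup q (Z.map π) := hz.map π
  have hAc : (Nat.card (X.map π)).Coprime q :=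
    Nat.Coprime.coprime_dvd_left (Subgroup.card_map_dvd X π) (card_pPrimeCoreOf_coprime q _)
  have hAB : ⁅X.map π, Z.map π⁆ = ⊥ := by
    rw [← Subgroup.map_commutator]
    have : ⁅X, Z⁆ = ⊥ := by
      rw [Subgroup.commutator_eq_bot_iff_le_centralizer, hZ,
        ← centralizer_singleton_eq_centralizer_zpowers]
      exact hXz
    rw [this, Subgroup.map_bot]
  have hQmn : (Q.map π).Normal := Subgroup.Normal.map hQn π hπs
  have hQtop : Subgroup.normalizer ((Q.map π : Subgroup (G ⧸ N)) : Set (G ⧸ N)) = ⊤ :=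
    Subgroup.normalizer_eq_top_iff.2 hQmn
  have hC : ⁅X.map π, Q.map π ⊓ Subgroup.centralizer ((Z.map π : Subgroup (G ⧸ N)) : Set (G ⧸ N))⁆ = ⊥ := by
    rw [Subgroup.commutator_eq_bot_iff_le_centralizer]
    rintro _ ⟨y, hy, rfl⟩
    rw [Subgroup.mem_centralizer_iff]
    rintro _ ⟨⟨x, hx, rfl⟩, hxc⟩
    obtain ⟨x', hx'c, hx'⟩ := exists_mem_centralizer_of_mk_mem_centralizer q hNc hz hxc
    have hx'N : x⁻¹ * x' ∈ N := by
      rw [← QuotientGroup.eq]; exact hx'.symm
    have hx'Q : x' ∈ Q := by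
      have := Q.mul_mem hx (hNQ hx'N)
      rwa [mul_inv_cancel_left] at this
    have hx'z : x' ∈ Subgroup.centralizer ({z} : Set G) := by
      rw [centralizer_singleton_eq_centralizer_zpowers]; exact hx'c
    have hx'n : x' ∈ Subgroup.normalizer (X : Set G) :=
      le_normalizer_pPrimeCoreOf q _ ⟨hKH (hQK hx'Q), hx'z⟩
    have h1 : y * x' * y⁻¹ * x'⁻¹ ∈ X := by
      have h2 : x' * y⁻¹ * x'⁻¹ ∈ X := (Subgroup.mem_normalizer_iff.1 hx'n _).1 (X.inv_mem hy)
      have h3 := X.mul_mem hy h2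
      have h4 : y * (x' * y⁻¹ * x'⁻¹) = y * x' * y⁻¹ * x'⁻¹ := by group
      rwa [h4] at h3
    have h2 : y * x' * y⁻¹ * x'⁻¹ ∈ K :=
      K.mul_mem (hKn.conj_mem _ (hQK hx'Q) y) (K.inv_mem (hQK hx'Q))
    have h3 : π (y * x' * y⁻¹ * x'⁻¹) = 1 := by
      rw [hπ, QuotientGroup.mk'_apply, QuotientGroup.eq_one_iff]
      exact hXK ⟨h1, h2⟩
    rw [map_mul, map_mul, map_mul, map_inv, map_inv] at h3
    have h4 := mul_inv_eq_one.1 h3
    have h5 := mul_inv_eq_iff_eq_mul.1 h4
    show π x * π y = π y * π x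
    rw [← hx']
    exact h5.symm
  have hfin := thompson_AxB' q hQp hBp hAc hAB (by rw [hQtop]; exact le_top)
    (by rw [hQtop]; exact le_top) hC
  rw [Subgroup.commutator_eq_bot_iff_le_centralizer] at hfin
  have h1 := Subgroup.mem_centralizer_iff.1 (hfin (Subgroup.mem_map_of_mem π hy)) (π x)
    (Subgroup.mem_map_of_mem π hx)
  rw [← QuotientGroup.eq_one_iff, ← QuotientGroup.mk'_apply, ← hπ]
  rw [map_mul, map_mul, map_mul, map_inv, map_inv]
  rw [← h1]
  group


/-- Main theorem behind S3819. -/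
theorem pPrimeCoreOf_centralizer_control (p q : ℕ) [Fact p.Prime] [Fact q.Prime] {H P : Subgroup G} [hHn : H.Normal]
    (hHc : (Nat.card H).Coprime p) (hP : IsPGroup p P) (hHP : H ⊔ P = ⊤)
    (hsol : Group.IsSolvable ↥⁅H, P⁆) {z : G} (hzH : z ∈ H)
    (hzP : z ∈ Subgroup.centralizer (P : Set G)) (hz : IsPGroup q (Subgroup.zpowers z)) :
    (pPrimeCoreOf q (H ⊓ Subgroup.centralizer ({z} : Set G)) ⊓
        pPrimeCoreOf q (H ⊓ Subgroup.centralizer (P : Set G))) ⊔
      ⁅pPrimeCoreOf q (H ⊓ Subgroup.centralizer ({z} : Set G)), P⁆ ≤ pPrimeCoreOf q H := by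
  set K := ⁅H, P⁆ with hK
  have hKH : K ≤ H := Subgroup.commutator_le_left H P
  haveI hKn : K.Normal := by
    apply Subgroup.normalizer_eq_top_iff.1
    apply top_le_iff.1
    rw [← hHP]
    exact sup_le (Subgroup.normalizer_commutator_ge_left H P)
      (Subgroup.normalizer_commutator_ge_right H P)
  have hHtop : Subgroup.normalizer (H : Set G) = ⊤ := Subgroup.normalizer_eq_top_iff.2 hHn
  have hKtop : Subgroup.normalizer (K : Set G) = ⊤ := Subgroup.normalizer_eq_top_iff.2 hKn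
  set N := pPrimeCoreOf q K with hN
  set Q := pPrimePCoreOf q K with hQ
  set X := pPrimeCoreOf q (H ⊓ Subgroup.centralizer ({z} : Set G)) with hX
  set X' := pPrimeCoreOf q (H ⊓ Subgroup.centralizer (P : Set G)) with hX'
  haveI hNn : N.Normal := pPrimeCoreOf_normal_of_normal q K
  haveI hQn : Q.Normal := pPrimePCoreOf_normal_of_normal q K
  have hNtop : Subgroup.normalizer (N : Set G) = ⊤ := Subgroup.normalizer_eq_top_iff.2 hNn
  have hXK : X ⊓ K ≤ N := pPrimeCoreOf_centralizer_inf_le q hKH hsol hzH hz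
  have hNc : (Nat.card N).Coprime q := card_pPrimeCoreOf_coprime q K
  have hNQ : N ≤ Q := pPrimeCoreOf_le_pPrimePCoreOf q K
  have hQK : Q ≤ K := pPrimePCoreOf_le q K
  have hNK : N ≤ K := pPrimeCoreOf_le q K
  have hXH : X ≤ H := (pPrimeCoreOf_le q _).trans inf_le_left
  have hX'H : X' ≤ H := (pPrimeCoreOf_le q _).trans inf_le_left
  have hNH' : N ≤ pPrimeCoreOf q H :=
    pPrimeCoreOf_le_of_normal q hKH (by rw [hKtop]; exact le_top)
  -- the commutator part
  have hPX : P ≤ Subgroup.normalizer (X : Set G) := by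
    refine le_trans ?_ (normalizer_le_normalizer_pPrimeCoreOf q _)
    apply le_normalizer_inf
    · rw [hHtop]; exact le_top
    · refine le_trans ?_ Subgroup.le_normalizer
      intro u hu
      rw [Subgroup.mem_centralizer_singleton_iff]
      exact Subgroup.mem_centralizer_iff.1 hzP u hu
  have hcomm : ⁅X, P⁆ ≤ pPrimeCoreOf q H := by
    refine le_trans ?_ hNH'
    refine le_trans ?_ hXK
    exact le_inf (Subgroup.le_normalizer_iff_commutator_le_left.1 hPX)
      (Subgroup.commutator_mono hXH le_rfl)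
  refine sup_le ?_ hcomm
  -- the intersection part
  set π := QuotientGroup.mk' N with hπ
  set C := H ⊓ (Subgroup.centralizer ((Q.map π : Subgroup (G ⧸ N)) : Set (G ⧸ N))).comap π with hC
  have hπs : Function.Surjective π := QuotientGroup.mk'_surjective N
  haveI hQmn : (Q.map π).Normal := Subgroup.Normal.map hQn π hπs
  haveI hCn : C.Normal := by
    rw [hC]
    exact Subgroup.normal_inf_normal _ _
  have hCtop : Subgroup.normalizer (C : Set G) = ⊤ := Subgroup.normalizer_eq_top_iff.2 hCn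
  have hCH : C ≤ H := inf_le_left
  -- key property of `C`
  have hCcomm : ∀ c ∈ C, ∀ x ∈ Q, c * x * c⁻¹ * x⁻¹ ∈ N := by
    intro c hc x hx
    have h1 : π c ∈ Subgroup.centralizer ((Q.map π : Subgroup (G ⧸ N)) : Set (G ⧸ N)) := hc.2
    have h2 := Subgroup.mem_centralizer_iff.1 h1 (π x) (Subgroup.mem_map_of_mem π hx)
    rw [← QuotientGroup.eq_one_iff, ← QuotientGroup.mk'_apply, ← hπ]
    rw [map_mul, map_mul, map_mul, map_inv, map_inv, ← h2]
    group
  have hXC : X ≤ C := by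
    intro y hy
    refine ⟨hXH hy, ?_⟩
    show π y ∈ Subgroup.centralizer ((Q.map π : Subgroup (G ⧸ N)) : Set (G ⧸ N))
    rw [Subgroup.mem_centralizer_iff]
    rintro _ ⟨x, hx, rfl⟩
    have h1 := pPrimeCoreOf_centralizer_comm_mem q hKH hsol hzH hz hy hx
    have h3 : π (y * x * y⁻¹ * x⁻¹) = 1 := by
      rw [hπ, QuotientGroup.mk'_apply, QuotientGroup.eq_one_iff]
      exact h1
    rw [map_mul, map_mul, map_mul, map_inv, map_inv] at h3
    have h4 := mul_inv_eq_one.1 h3
    have h5 := mul_inv_eq_iff_eq_mul.1 h4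
    exact h5.symm
  have hNC : N ≤ C := by
    intro n hn
    refine ⟨hKH (hNK hn), ?_⟩
    show π n ∈ Subgroup.centralizer ((Q.map π : Subgroup (G ⧸ N)) : Set (G ⧸ N))
    have : π n = 1 := by
      rw [hπ, QuotientGroup.mk'_apply, QuotientGroup.eq_one_iff]; exact hn
    rw [this]; exact Subgroup.one_mem _
  have hCKQ : C ⊓ K ≤ Q := by
    rintro k ⟨hkC, hkK⟩
    apply mem_pPrimePCoreOf_of_commutator_mem q hsol hkK
    intro x hx
    have h1 := hCcomm k hkC x hx
    have h2 := N.inv_mem h1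
    have h3 : (k * x * k⁻¹ * x⁻¹)⁻¹ = x * k * x⁻¹ * k⁻¹ := by group
    rwa [h3] at h2
  have hCP : ⁅C, P⁆ ≤ C ⊓ K :=
    le_inf (Subgroup.commutator_le_left C P) (Subgroup.commutator_mono hCH le_rfl)
  set CCP := C ⊓ Subgroup.centralizer (P : Set G) with hCCP
  set D := pPrimeCoreOf q CCP with hD
  have hDCCP : D ≤ CCP := pPrimeCoreOf_le q CCP
  have hYD : X ⊓ X' ≤ D := by
    have h1 : X ⊓ X' ≤ X' ⊓ C := le_inf inf_le_right (inf_le_left.trans hXC)
    refine h1.trans (le_pPrimeCoreOf q ?_ ?_ ?_)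
    · exact le_inf inf_le_right (inf_le_left.trans ((pPrimeCoreOf_le q _).trans inf_le_right))
    · apply le_normalizer_inf
      · refine le_trans ?_ (le_normalizer_pPrimeCoreOf q _)
        exact inf_le_inf_right _ hCH
      · rw [hCtop]; exact le_top
    · exact Nat.Coprime.coprime_dvd_left (Subgroup.card_dvd_of_le inf_le_left)
        (card_pPrimeCoreOf_coprime q _)
  set W := N ⊔ D with hW
  have hWc : (Nat.card W).Coprime q := by
    have h1 : Nat.card W ∣ Nat.card N * Nat.card D :=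
      card_sup_dvd_mul_of_le_normalizer (by rw [hNtop]; exact le_top)
    exact Nat.Coprime.coprime_dvd_left h1
      (Nat.Coprime.mul_left hNc (card_pPrimeCoreOf_coprime q CCP))
  have hWC : W ≤ C := sup_le hNC (hDCCP.trans inf_le_left)
  have hCCPW : CCP ≤ Subgroup.normalizer (W : Set G) := by
    intro g hg
    have h1 : g ∈ Subgroup.normalizer (N : Set G) := by rw [hNtop]; exact Subgroup.mem_top g
    have h2 : g ∈ Subgroup.normalizer (D : Set G) := le_normalizer_pPrimeCoreOf q CCP hg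
    rw [Subgroup.mem_normalizer_iff_map_conj_eq] at h1 h2 ⊢
    rw [hW, Subgroup.map_sup, h1, h2]
  have hQCW : Q ⊓ C ≤ Subgroup.normalizer (W : Set G) := by
    rintro u ⟨huQ, huC⟩
    have h0 : Subgroup.zpowers u ≤ Subgroup.normalizer (W : Set G) := by
      apply zpowers_le_normalizer_of_conj_mem
      have h1 : W ≤ W.comap (MulAut.conj u).toMonoidHom := by
        rw [hW]
        apply sup_le
        · intro n hn
          show u * n * u⁻¹ ∈ N ⊔ D
          exact Subgroup.mem_sup_left (hNn.conj_mem n hn u)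
        · intro d hd
          show u * d * u⁻¹ ∈ N ⊔ D
          have hdC : d ∈ C := (hDCCP hd).1
          have h2 := hCcomm d hdC u huQ
          have h3 := N.inv_mem h2
          have h4 : u * d * u⁻¹ = (d * u * d⁻¹ * u⁻¹)⁻¹ * d := by group
          rw [h4]
          exact Subgroup.mul_mem_sup h3 hd
      intro x hx
      exact h1 hx
    exact h0 (Subgroup.mem_zpowers u)
  have hCW : C ≤ Subgroup.normalizer (W : Set G) := by
    intro c hc
    have hCPc : (Nat.card (⁅C, P⁆ : Subgroup G)).Coprime p :=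
      Nat.Coprime.coprime_dvd_left (Subgroup.card_dvd_of_le (hCP.trans (inf_le_left.trans hCH))) hHc
    obtain ⟨n, hn, hcn⟩ := exists_mul_mem_centralizer_of_commutator_mem p hCPc hP
      (Subgroup.normalizer_commutator_ge_right C P)
      (Subgroup.normalizer_commutator_ge_left C P hc)
      (fun u hu => Subgroup.commutator_mem_commutator hc hu)
    have hnQC : n ∈ Q ⊓ C := ⟨hCKQ (hCP hn), (hCP hn).1⟩
    have h1 : c * n ∈ Subgroup.normalizer (W : Set G) := hCCPW ⟨C.mul_mem hc hnQC.2, hcn⟩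
    have h2 : n ∈ Subgroup.normalizer (W : Set G) := hQCW hnQC
    have h3 := Subgroup.mul_mem _ h1 (Subgroup.inv_mem _ h2)
    rwa [mul_inv_cancel_right] at h3
  have hWcore : W ≤ pPrimeCoreOf q C := le_pPrimeCoreOf q hWC hCW hWc
  have hfin : pPrimeCoreOf q C ≤ pPrimeCoreOf q H :=
    pPrimeCoreOf_le_of_normal q hCH (by rw [hCtop]; exact le_top)
  exact hYD.trans ((le_sup_right.trans hWcore).trans hfin)

end Cfsg.Agent.Lib.H7
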