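import Mathlib
import Cfsg.Agent.Lib.H7.CycNorm7

set_option autoImplicit false
open Cfsg
open scoped commutatorElement

namespace Cfsg.Agent.Lib.H7.CycNorm

universe u

variable {G : Type u} [Group G] [Finite G] {p : ℕ} [hp : Fact p.Prime]

/-- W1: the configuration `TData` in `G / Φ(O_p(G))`. -/
theorem tdata_of_quot (hG : IsPSolvable p G) (hO : pPrimeCore p G = ⊥)
    (Q : Subgroup G) [hQn : Q.Normal] (hQ : Q = pCore p G)
    (Φ : Subgroup G) [hΦn : Φ.Normal]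
    (hΦ : Φ = (frattini ↥(pCore p G)).map (pCore p G).subtype)
    {a : G} (haQ : a ∉ Q) (hap : a ^ p ∈ Q)
    (hnorm : ∀ y ∈ Q, y * a * y⁻¹ ∈ Subgroup.zpowers a) :
    TData p (Q.map (QuotientGroup.mk' Φ))
      (((pPrimeCore p (G ⧸ Q)).comap (QuotientGroup.mk' Q)).map (QuotientGroup.mk' Φ))
      (QuotientGroup.mk' Φ a) := by
  have hQp : IsPGroup p ↥(pCore p G) := Cfsg.Agent.Lib.H1.pCore_isPGroup p G
  have hΦQ : Φ ≤ Q := by rw [hΦ, hQ]; exact frattini_map_le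
  have hsurj : Function.Surjective (QuotientGroup.mk' Φ) := QuotientGroup.mk'_surjective Φ
  have hsurjQ : Function.Surjective (QuotientGroup.mk' Q) := QuotientGroup.mk'_surjective Q
  have hN0n : ((pPrimeCore p (G ⧸ Q)).comap (QuotientGroup.mk' Q)).Normal := by
    have := Cfsg.Agent.Lib.H22.pPrimeCore_normal (G := G ⧸ Q) p
    exact Subgroup.Normal.comap this _
  have hQN0 : Q ≤ (pPrimeCore p (G ⧸ Q)).comap (QuotientGroup.mk' Q) := by
    intro q hq
    rw [Subgroup.mem_comap]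
    have : QuotientGroup.mk' Q q = 1 := (QuotientGroup.eq_one_iff q).2 hq
    rw [this]; exact Subgroup.one_mem _
  have hΦN0 : Φ ≤ (pPrimeCore p (G ⧸ Q)).comap (QuotientGroup.mk' Q) := hΦQ.trans hQN0
  -- frattini facts
  have hcomm : ∀ x ∈ Q, ∀ y ∈ Q, x * y * x⁻¹ * y⁻¹ ∈ Φ := by
    intro x hx y hy
    rw [hQ] at hx hy
    have h1 : ⁅(⟨x, hx⟩ : ↥(pCore p G)), ⟨y, hy⟩⁆ ∈ commutator ↥(pCore p G) :=
      Subgroup.commutator_mem_commutator (Subgroup.mem_top _) (Subgroup.mem_top _)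
    have h2 := Cfsg.Agent.Lib.H1.isPGroup_commutator_le_frattini hQp h1
    rw [hΦ]
    refine ⟨_, h2, ?_⟩
    simp [commutatorElement_def]
  have hpow : ∀ x ∈ Q, x ^ p ∈ Φ := by
    intro x hx
    rw [hQ] at hx
    have h2 := Cfsg.Agent.Lib.H1.isPGroup_pow_mem_frattini hQp (⟨x, hx⟩ : ↥(pCore p G))
    rw [hΦ]
    refine ⟨_, h2, ?_⟩
    simp
  refine
    { Vn := Subgroup.Normal.map hQn _ hsurj
      Vc := ?_
      Ve := ?_
      CV := ?_
      Nn := Subgroup.Normal.map hN0n _ hsurj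
      VN := Subgroup.map_mono hQN0
      Np := ?_
      CN := ?_
      aV := ?_
      ap := ?_
      act := ?_ }
  · -- Vc
    rintro _ ⟨x, hx, rfl⟩ _ ⟨y, hy, rfl⟩
    have h1 := hcomm x hx y hy
    have h2 : QuotientGroup.mk' Φ (x * y * x⁻¹ * y⁻¹) = 1 := (QuotientGroup.eq_one_iff _).2 h1
    rw [map_mul, map_mul, map_mul, map_inv, map_inv] at h2
    have h3 := mul_inv_eq_one.1 h2
    exact mul_inv_eq_iff_eq_mul.1 h3
  · -- Ve
    rintro _ ⟨x, hx, rfl⟩
    rw [← map_pow]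
    exact (QuotientGroup.eq_one_iff _).2 (hpow x hx)
  · -- CV
    intro h hh
    obtain ⟨g, rfl⟩ := hsurj h
    refine ⟨g, ?_, rfl⟩
    rw [hQ]
    apply mem_pCore_of_t2 hG hO
    intro v hv
    rw [← hΦ]
    rw [← hQ] at hv
    have h1 := hh _ ⟨v, hv, rfl⟩
    rw [← QuotientGroup.eq_one_iff]
    show QuotientGroup.mk' Φ (g * v * g⁻¹ * v⁻¹) = 1
    rw [map_mul, map_mul, map_mul, map_inv, map_inv, h1]
    group
  · -- Np
    rintro _ ⟨g, hg, rfl⟩ k hk
    rw [← map_pow, mk_mem_map_iff hΦQ] at hk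
    refine ⟨g, ?_, rfl⟩
    have hg : QuotientGroup.mk' Q g ∈ pPrimeCore p (G ⧸ Q) := hg
    have h1 : (QuotientGroup.mk' Q g) ^ (p ^ k) = 1 := by
      rw [← map_pow]; exact (QuotientGroup.eq_one_iff _).2 hk
    have h2 : orderOf (QuotientGroup.mk' Q g) ∣ p ^ k := orderOf_dvd_of_pow_eq_one h1
    have h3 : orderOf (QuotientGroup.mk' Q g) ∣ Nat.card (pPrimeCore p (G ⧸ Q)) :=
      Subgroup.orderOf_dvd_natCard _ hg
    have hcop := Cfsg.Agent.Lib.H22.card_pPrimeCore_coprime (G := G ⧸ Q) p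
    have h4 : orderOf (QuotientGroup.mk' Q g) = 1 :=
      Nat.eq_one_of_dvd_coprimes (Nat.Coprime.pow_right k hcop) h3 h2
    have h5 := orderOf_eq_one_iff.1 h4
    exact (QuotientGroup.eq_one_iff _).1 h5
  · -- CN
    intro h hh
    obtain ⟨g, rfl⟩ := hsurj h
    refine ⟨g, ?_, rfl⟩
    show QuotientGroup.mk' Q g ∈ pPrimeCore p (G ⧸ Q)
    apply Cfsg.Agent.Lib.H1.PSolvDual.centralizer_pPrimeCore_le_of_isPSolvable p
      (Cfsg.Agent.Lib.H10.isPSolvable_quotient hG Q)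
      (Cfsg.Agent.Lib.H7.InvCent.pCore_quotient_eq_bot' p Q hQ)
    rw [Subgroup.mem_centralizer_iff]
    intro y hy
    obtain ⟨x, rfl⟩ := hsurjQ y
    have hx : x ∈ (pPrimeCore p (G ⧸ Q)).comap (QuotientGroup.mk' Q) := hy
    have h1 := hh _ ⟨x, hx, rfl⟩
    have h2 : QuotientGroup.mk' Φ (g * x * g⁻¹ * x⁻¹) ∈ Q.map (QuotientGroup.mk' Φ) := by
      rw [map_mul, map_mul, map_mul, map_inv, map_inv]; exact h1
    rw [mk_mem_map_iff hΦQ] at h2
    have h3 : QuotientGroup.mk' Q (g * x * g⁻¹ * x⁻¹) = 1 := (QuotientGroup.eq_one_iff _).2 h2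
    rw [map_mul, map_mul, map_mul, map_inv, map_inv] at h3
    have h4 := mul_inv_eq_one.1 h3
    exact (mul_inv_eq_iff_eq_mul.1 h4).symm
  · -- aV
    intro h
    rw [mk_mem_map_iff hΦQ] at h
    exact haQ h
  · -- ap
    rw [← map_pow]
    exact ⟨_, hap, rfl⟩
  · -- act
    rintro _ ⟨q, hq, rfl⟩
    have h1 : a * q * a⁻¹ * q⁻¹ ∈ Q := by
      exact Q.mul_mem (hQn.conj_mem q hq a) (Q.inv_mem hq)
    have h2 : a * q * a⁻¹ * q⁻¹ ∈ Subgroup.zpowers a := by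
      have e : a * q * a⁻¹ * q⁻¹ = a * (q * a * q⁻¹)⁻¹ := by group
      rw [e]
      exact Subgroup.mul_mem _ (Subgroup.mem_zpowers a) (Subgroup.inv_mem _ (hnorm q hq))
    obtain ⟨k, hk⟩ := Subgroup.mem_zpowers_iff.1 h2
    -- order of mk a in G/Q is p
    have ho : orderOf (QuotientGroup.mk' Q a) = p := by
      have h3 : (QuotientGroup.mk' Q a) ^ p = 1 := by
        rw [← map_pow]; exact (QuotientGroup.eq_one_iff _).2 hap
      have h4 : orderOf (QuotientGroup.mk' Q a) ∣ p := orderOf_dvd_of_pow_eq_one h3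
      rcases (Nat.dvd_prime hp.out).1 h4 with h5 | h5
      · exfalso
        apply haQ
        exact (QuotientGroup.eq_one_iff _).1 (orderOf_eq_one_iff.1 h5)
      · exact h5
    have h6 : (QuotientGroup.mk' Q a) ^ k = 1 := by
      rw [← map_zpow, hk]; exact (QuotientGroup.eq_one_iff _).2 h1
    have h7 : ((orderOf (QuotientGroup.mk' Q a) : ℕ) : ℤ) ∣ k := orderOf_dvd_iff_zpow_eq_one.2 h6
    rw [ho] at h7
    obtain ⟨j, rfl⟩ := h7
    refine Subgroup.mem_zpowers_iff.2 ⟨j, ?_⟩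
    rw [← map_mul, ← map_inv, ← map_mul, ← map_inv, ← map_mul, ← hk, ← map_pow, ← map_zpow,
      zpow_mul, zpow_natCast]

end Cfsg.Agent.Lib.H7.CycNorm
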