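import Mathlib
import Cfsg.Agent.Lib.H7.CycNorm8
import Cfsg.Agent.Lib.H9.PPrimeCore

set_option autoImplicit false
open Cfsg

namespace Cfsg.Agent.Lib.H7.CycNorm

universe u

variable {G : Type u} [Group G] [Finite G] {p : ℕ} [hp : Fact p.Prime]

/-- W1': the transvection configuration is impossible for odd `p` and forces `S₄` for `p = 2`. -/
theorem false_or_involves (hG : IsPSolvable p G) (hO : pPrimeCore p G = ⊥)
    {a : G} (haQ : a ∉ pCore p G) (hap : a ^ p ∈ pCore p G)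
    (hnorm : ∀ y ∈ pCore p G, y * a * y⁻¹ ∈ Subgroup.zpowers a) :
    p = 2 ∧ Cfsg.Involves (Equiv.Perm (Fin 4)) G := by
  have hQn : (pCore p G).Normal := Cfsg.Agent.Lib.H1.pCore_normal p G
  have hΦn : ((frattini ↥(pCore p G)).map (pCore p G).subtype).Normal := frattini_map_normal
  have hT := tdata_of_quot hG hO (pCore p G) rfl
    ((frattini ↥(pCore p G)).map (pCore p G).subtype) rfl haQ hap hnorm
  by_cases hp2 : p = 2
  · refine ⟨hp2, ?_⟩
    subst hp2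
    have h1 := hT.involves_of_two
    exact Cfsg.Agent.Lib.H14.SFour.involves_of_surj (QuotientGroup.mk' _)
      (QuotientGroup.mk'_surjective _) h1
  · exact (hT.false_of_odd hp2).elim

/-- W2': with `O_{p'}(G) = 1`, a `p`-element generating a cyclic subgroup normalized by a Sylow
`p`-subgroup lies in `O_p(G)`. -/
theorem mem_pCore_of_cyclic_normal (hG : IsPSolvable p G) (hO : pPrimeCore p G = ⊥)
    (P : Sylow p G) {a₀ : G} (ha₀ : a₀ ∈ P)
    (hnorm : ∀ y ∈ P, y * a₀ * y⁻¹ ∈ Subgroup.zpowers a₀)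
    (h : p ≠ 2 ∨ ¬ Cfsg.Involves (Equiv.Perm (Fin 4)) G) : a₀ ∈ pCore p G := by
  by_contra haQ
  have hex : ∃ m : ℕ, a₀ ^ (p ^ m) ∈ pCore p G := by
    obtain ⟨k, hk⟩ := (IsPGroup.iff_orderOf.1 P.isPGroup') ⟨a₀, ha₀⟩
    refine ⟨k, ?_⟩
    have h1 : a₀ ^ (p ^ k) = 1 := by
      have h2 : orderOf a₀ = p ^ k := by
        rw [← hk]; exact (Subgroup.orderOf_mk a₀ ha₀).symm
      rw [← h2]; exact pow_orderOf_eq_one a₀
    rw [h1]; exact Subgroup.one_mem _
  classical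
  have hm := Nat.find_spec hex
  have hmin := fun m => Nat.find_min hex (m := m)
  obtain ⟨m, hmdef⟩ : ∃ m, m = Nat.find hex := ⟨_, rfl⟩
  rw [← hmdef] at hm hmin
  have hm0 : m ≠ 0 := by
    rintro rfl
    apply haQ
    simpa using hm
  obtain ⟨m', rfl⟩ := Nat.exists_eq_succ_of_ne_zero hm0
  have haQ' : a₀ ^ (p ^ m') ∉ pCore p G := hmin m' (Nat.lt_succ_self m')
  have hap : (a₀ ^ (p ^ m')) ^ p ∈ pCore p G := by
    rw [← pow_mul, ← pow_succ]; exact hm
  have hn : ∀ y ∈ pCore p G, y * a₀ ^ (p ^ m') * y⁻¹ ∈ Subgroup.zpowers (a₀ ^ (p ^ m')) := by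
    intro y hy
    have h1 := hnorm y (Cfsg.Agent.Lib.H1.pCore_le_sylow P hy)
    obtain ⟨j, hj⟩ := Subgroup.mem_zpowers_iff.1 h1
    refine Subgroup.mem_zpowers_iff.2 ⟨j, ?_⟩
    rw [← conj_pow, ← hj, ← zpow_natCast, ← zpow_natCast, ← zpow_mul, ← zpow_mul, mul_comm]
  obtain ⟨h2, hinv⟩ := false_or_involves hG hO haQ' hap hn
  rcases h with h | h
  · exact h h2
  · exact h hinv

end Cfsg.Agent.Lib.H7.CycNorm
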