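import Mathlib
import Cfsg.Agent.Lib.H3.DF0

/-!
# S4316 piece D6b (core): `G` normalizes `T = ⟨K_c⟩`

The conclusions of D4a (for `X = K_c`), D4b, D5 and D6a are taken as hypotheses; the exact-signature
wrapper is `Cfsg/Agent/Lib/H7/DFD6b.lean`.
-/

set_option autoImplicit false

universe u

namespace Cfsg.Agent.Lib.H7.DF

open Subgroup Cfsg.Agent.Lib.H3.DF
open scoped commutatorElement

variable {Γ : Type u} [Group Γ] [Finite Γ]

omit [Finite Γ] in
/-- If every element of a subgroup `H` conjugates `T` into `T`, then `H` normalizes `T`. -/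
theorem le_normalizer_of_conj_mem_d6b (H T : Subgroup Γ)
    (h : ∀ x ∈ H, ∀ t ∈ T, x * t * x⁻¹ ∈ T) : H ≤ normalizer (T : Set Γ) := by
  intro x hx
  rw [mem_normalizer_iff]
  intro t
  constructor
  · exact h x hx t
  · intro ht
    have := h x⁻¹ (H.inv_mem hx) _ ht
    simpa [mul_assoc] using this

/-- D6b core. -/
theorem le_normalizer_TT_core {q : ℕ} {G A : Subgroup Γ}
    (hD4a : ∀ c ∈ A, c ≠ 1 → ∀ W : Subgroup Γ,
      (∀ B, IsPlane q A B → c ∈ B → Kc G c ⊓ HB G B ≤ W) → Kc G c ≤ W)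
    (hD4b : ∀ W : Subgroup Γ, (∀ B, IsPlane q A B → HB G B ≤ W) → G ≤ W)
    (hD5 : ∀ B B' : Subgroup Γ, IsPlane q A B → IsPlane q A B' →
      ∃ c ∈ A, c ≠ 1 ∧ ∀ x ∈ HB G B, ∀ k ∈ HB G B', ⁅x, k⁆ ∈ Kc G c)
    (hK : ∀ c ∈ A, c ≠ 1 → Kc G c ≤ TT G A) :
    G ≤ normalizer (TT G A : Set Γ) := by
  apply hD4b
  intro B hB
  apply le_normalizer_of_conj_mem_d6b
  intro x hx
  -- the subgroup of all `t` with `x t x⁻¹ ∈ T`
  have key : TT G A ≤ (TT G A).comap (MulAut.conj x).toMonoidHom := by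
    unfold TT
    rw [iSup₂_le_iff]
    intro c hc
    obtain ⟨hc1, hcA⟩ := Cfsg.Agent.Lib.H16.mem_nz.1 hc
    apply hD4a c hcA hc1
    intro B' hB' _ k hk
    obtain ⟨hkK, hkH⟩ := Subgroup.mem_inf.1 hk
    obtain ⟨c', hc'A, hc'1, hcomm⟩ := hD5 B B' hB hB'
    rw [Subgroup.mem_comap]
    have h1 : ⁅x, k⁆ ∈ TT G A := hK c' hc'A hc'1 (hcomm x hx k hkH)
    have h2 : k ∈ TT G A := hK c hcA hc1 hkK
    have h3 : (MulAut.conj x).toMonoidHom k = ⁅x, k⁆ * k := by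
      simp [commutatorElement_def, MulAut.conj_apply]
    have h4 : ⁅x, k⁆ * k ∈ (⨆ a ∈ Cfsg.Agent.Lib.H16.nz A, Kc G a) := by
      have := (TT G A).mul_mem h1 h2
      unfold TT at this
      exact this
    rw [h3]
    exact h4
  intro t ht
  have := key ht
  rw [Subgroup.mem_comap] at this
  simpa [MulAut.conj_apply] using this

end Cfsg.Agent.Lib.H7.DF
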