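import Mathlib
import Cfsg.Agent.Lib.H3.DF0
import Cfsg.Agent.Lib.H3.DFD6a
import Cfsg.Agent.Lib.H13.DFD4
import Cfsg.Agent.Lib.H25.DFD5
import Cfsg.Agent.Lib.H7.DFD6bCore

/-!
# S4316 piece D6b: `G` normalizes `T = ⟨K_c : c ∈ A, c ≠ 1⟩` (exact signature of
`tools/blueprints/S4316_sigs.lean`)

On helper13's D4a/D4b (`Lib/H13/DFD4`), helper25's D5 (`Lib/H25/DFD5`), helper3's D6a (`Lib/H3/DFD6a`).
-/

set_option autoImplicit false

universe u

namespace Cfsg.Agent.Lib.H7.DF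

open Subgroup Cfsg.Agent.Lib.H3.DF
open scoped commutatorElement

variable {Γ : Type u} [Group Γ] [Finite Γ]

/-- D6b. `T` is normalized by `G`. -/
theorem le_normalizer_TT {q m : ℕ} [Fact q.Prime] {G A : Subgroup Γ} (h : DHyp q m G A) :
    G ≤ normalizer (TT G A : Set Γ) := by
  obtain ⟨_, hK, _, hAK, _⟩ := Cfsg.Agent.Lib.H3.DF.TT_facts h
  refine le_normalizer_TT_core (q := q) ?_ ?_ ?_ hK
  · intro c hc hc1 W hW
    exact Cfsg.Agent.Lib.H13.DF.le_of_inf_HB_le h hc hc1 (Kc G c) W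
      (Cfsg.Agent.Lib.H3.DF.Kc_le_Gc G c) (hAK c hc) hW
  · intro W hW
    exact Cfsg.Agent.Lib.H13.DF.le_of_HB_le h W hW
  · intro B B' hB hB'
    exact Cfsg.Agent.Lib.H25.DF.exists_commutator_mem_Kc h hB hB'

end Cfsg.Agent.Lib.H7.DF
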