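import Mathlib
import Cfsg.Agent.Lib.H1.Hall

/-!
# S4025 piece EXC81A (helper7)

A finite solvable group acting faithfully on an abelian group of order `81` cannot have
order divisible by both `5` and `13`.  Proof by fixed-point counting (Burnside's lemma).
-/

set_option autoImplicit false

namespace Cfsg.Agent.Lib.H7.EOC

section

variable {H V : Type*} [Group H] [Group V]

/-- The fixed-point subgroup of `θ h` on `V`. -/
def e81fix (θ : H →* MulAut V) (h : H) : Subgroup V where
  carrier := {v | θ h v = v}
  mul_mem' := by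
    intro a b ha hb
    simp only [Set.mem_ofPred_eq] at ha hb ⊢
    rw [map_mul, ha, hb]
  one_mem' := by simp
  inv_mem' := by
    intro a ha
    simp only [Set.mem_ofPred_eq] at ha ⊢
    rw [map_inv, ha]

theorem e81_mem_fix (θ : H →* MulAut V) (h : H) (v : V) : v ∈ e81fix θ h ↔ θ h v = v := Iff.rfl

theorem e81_fix_pow_le (θ : H →* MulAut V) (h : H) (k : ℕ) : e81fix θ h ≤ e81fix θ (h ^ k) := by
  intro v hv
  rw [e81_mem_fix] at hv ⊢
  induction k with
  | zero => simp
  | succ n ih =>
    rw [pow_succ, map_mul, MulAut.mul_apply, hv, ih]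

theorem e81_fix_zpow_le (θ : H →* MulAut V) (h : H) (k : ℤ) : e81fix θ h ≤ e81fix θ (h ^ k) := by
  intro v hv
  have hinv : v ∈ e81fix θ h⁻¹ := by
    rw [e81_mem_fix] at hv ⊢
    rw [map_inv]
    calc (θ h)⁻¹ v = (θ h)⁻¹ (θ h v) := by rw [hv]
      _ = v := by simp
  obtain ⟨n, rfl | rfl⟩ := Int.eq_nat_or_neg k
  · rw [zpow_natCast]; exact e81_fix_pow_le θ h n hv
  · rw [zpow_neg, zpow_natCast, ← inv_pow]; exact e81_fix_pow_le θ h⁻¹ n hinv

variable [Finite V]

/-- The number of fixed points. -/
noncomputable def e81n (θ : H →* MulAut V) (h : H) : ℕ := Nat.card (e81fix θ h)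

theorem e81n_dvd (θ : H →* MulAut V) (h : H) : e81n θ h ∣ Nat.card V :=
  Subgroup.card_subgroup_dvd_card _

theorem e81n_eq_card (θ : H →* MulAut V) (hθ : Function.Injective θ) (h : H)
    (hn : e81n θ h = Nat.card V) : h = 1 := by
  have htop : e81fix θ h = ⊤ := (Subgroup.card_eq_iff_eq_top _).1 hn
  apply hθ
  rw [map_one]
  ext v
  have : v ∈ e81fix θ h := by rw [htop]; trivial
  simpa using (e81_mem_fix θ h v).1 this

/-- `p`-elements: the number of fixed points is congruent to `|V|` mod `p`. -/
theorem e81n_modEq (θ : H →* MulAut V) (h : H) (p n : ℕ) [Fact p.Prime] (hp : h ^ (p ^ n) = 1) :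
    Nat.card V ≡ e81n θ h [MOD p] := by
  classical
  have hZ : IsPGroup p (Subgroup.zpowers h) := by
    have hdvd : orderOf h ∣ p ^ n := orderOf_dvd_of_pow_eq_one hp
    obtain ⟨k, -, hk⟩ := (Nat.dvd_prime_pow (Fact.out : p.Prime)).1 hdvd
    exact IsPGroup.of_card (n := k) (by rw [Nat.card_zpowers, hk])
  let _ : MulAction (Subgroup.zpowers h) V :=
    MulAction.compHom V (θ.comp (Subgroup.zpowers h).subtype)
  have hsmul : ∀ (z : Subgroup.zpowers h) (v : V), z • v = θ (z : H) v := fun _ _ => rfl
  have key := hZ.card_modEq_card_fixedPoints V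
  have hfix : Nat.card (MulAction.fixedPoints (Subgroup.zpowers h) V) = e81n θ h := by
    unfold e81n
    apply Nat.card_congr
    apply Equiv.subtypeEquivRight
    intro v
    rw [MulAction.mem_fixedPoints]
    constructor
    · intro hv
      have := hv ⟨h, Subgroup.mem_zpowers h⟩
      rw [hsmul] at this
      exact this
    · intro hv z
      rw [hsmul]
      obtain ⟨k, hk⟩ := Subgroup.mem_zpowers_iff.1 z.2
      rw [← hk]
      exact e81_fix_zpow_le θ h k hv
  rw [hfix] at key
  exact key

/-- Burnside: the group order divides the sum of the fixed-point numbers. -/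
theorem e81_burnside [Fintype H] (θ : H →* MulAut V) :
    Nat.card H ∣ ∑ s : H, e81n θ s := by
  classical
  let _ : MulAction H V := MulAction.compHom V θ
  have hsmul : ∀ (z : H) (v : V), z • v = θ z v := fun _ _ => rfl
  have : Fintype V := Fintype.ofFinite V
  have : Fintype (MulAction.orbitRel.Quotient H V) := Fintype.ofFinite _
  have key := MulAction.sum_card_fixedBy_eq_card_orbits_mul_card_group H V
  have hsum : ∑ s : H, e81n θ s = ∑ s : H, Fintype.card (MulAction.fixedBy V s) := by
    apply Finset.sum_congr rfl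
    intro s _
    rw [Fintype.card_eq_nat_card]
    unfold e81n
    apply Nat.card_congr
    apply Equiv.subtypeEquivRight
    intro v
    rw [MulAction.mem_fixedBy, hsmul]
    exact e81_mem_fix θ s v
  rw [hsum, key, Nat.card_eq_fintype_card]
  exact Dvd.intro_left _ rfl

theorem e81n_one (θ : H →* MulAut V) : e81n θ 1 = Nat.card V := by
  unfold e81n
  have : e81fix θ 1 = ⊤ := by
    ext v
    rw [e81_mem_fix]
    simp
  rw [this, Subgroup.card_top]

theorem e81_five (hV : Nat.card V = 81) (θ : H →* MulAut V) (hθ : Function.Injective θ)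
    (h : H) (n : ℕ) (hp : h ^ (5 ^ n) = 1) (hne : h ≠ 1) : e81n θ h = 1 := by
  have : Fact (Nat.Prime 5) := ⟨by norm_num⟩
  have hd := e81n_dvd θ h
  have hm := e81n_modEq θ h 5 n hp
  have hne' : e81n θ h ≠ Nat.card V := fun hh => hne (e81n_eq_card θ hθ h hh)
  rw [hV] at hd hm hne'
  generalize e81n θ h = m at hd hm hne'
  have hle : m ≤ 81 := Nat.le_of_dvd (by norm_num) hd
  unfold Nat.ModEq at hm
  interval_cases m <;> omega

theorem e81_thirteen (hV : Nat.card V = 81) (θ : H →* MulAut V) (hθ : Function.Injective θ)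
    (h : H) (n : ℕ) (hp : h ^ (13 ^ n) = 1) (hne : h ≠ 1) : e81n θ h = 3 := by
  have : Fact (Nat.Prime 13) := ⟨by norm_num⟩
  have hd := e81n_dvd θ h
  have hm := e81n_modEq θ h 13 n hp
  have hne' : e81n θ h ≠ Nat.card V := fun hh => hne (e81n_eq_card θ hθ h hh)
  rw [hV] at hd hm hne'
  generalize e81n θ h = m at hd hm hne'
  have hle : m ≤ 81 := Nat.le_of_dvd (by norm_num) hd
  unfold Nat.ModEq at hm
  interval_cases m <;> omega

theorem e81_not25 [Finite H] (hV : Nat.card V = 81) (θ : H →* MulAut V)
    (hθ : Function.Injective θ) (hH : Nat.card H = 25) : False := by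
  classical
  have : Fintype H := Fintype.ofFinite H
  have hb := e81_burnside θ
  have hs : ∀ s : H, e81n θ s = 1 + if s = 1 then 80 else 0 := by
    intro s
    by_cases h1 : s = 1
    · subst h1
      rw [e81n_one, hV, if_pos rfl]
    · rw [if_neg h1]
      refine e81_five hV θ hθ s 2 ?_ h1
      have := pow_card_eq_one' (x := s)
      rw [hH] at this
      simpa using this
  have hsum : ∑ s : H, e81n θ s = 105 := by
    rw [Finset.sum_congr rfl (fun s _ => hs s), Finset.sum_add_distrib, Finset.sum_ite_eq']
    simp only [Finset.sum_const, Finset.card_univ, smul_eq_mul, mul_one, Finset.mem_univ, if_true]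
    rw [← Nat.card_eq_fintype_card, hH]
  rw [hsum, hH] at hb
  omega

theorem e81_not169 [Finite H] (hV : Nat.card V = 81) (θ : H →* MulAut V)
    (hθ : Function.Injective θ) (hH : Nat.card H = 169) : False := by
  classical
  have : Fintype H := Fintype.ofFinite H
  have hb := e81_burnside θ
  have hs : ∀ s : H, e81n θ s = 3 + if s = 1 then 78 else 0 := by
    intro s
    by_cases h1 : s = 1
    · subst h1
      rw [e81n_one, hV, if_pos rfl]
    · rw [if_neg h1]
      refine e81_thirteen hV θ hθ s 2 ?_ h1
      have := pow_card_eq_one' (x := s)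
      rw [hH] at this
      simpa using this
  have hsum : ∑ s : H, e81n θ s = 585 := by
    rw [Finset.sum_congr rfl (fun s _ => hs s), Finset.sum_add_distrib, Finset.sum_ite_eq']
    simp only [Finset.sum_const, Finset.card_univ, smul_eq_mul, Finset.mem_univ, if_true]
    rw [← Nat.card_eq_fintype_card, hH]
  rw [hsum, hH] at hb
  omega

theorem e81_not65 [Finite H] (hV : Nat.card V = 81) (θ : H →* MulAut V)
    (hθ : Function.Injective θ) (hH : Nat.card H = 65) : False := by
  classical
  have : Fintype H := Fintype.ofFinite H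
  have : Fact (Nat.Prime 13) := ⟨by norm_num⟩
  have hb := e81_burnside θ
  obtain ⟨P, hP⟩ := Sylow.exists_subgroup_card_pow_prime (G := H) 13 (n := 1)
    (by rw [hH]; norm_num)
  rw [pow_one] at hP
  -- every element of order dividing 13 lies in `P`
  have hin : ∀ s : H, s ^ 13 = 1 → s ∈ P := by
    intro s hs13
    by_contra hsP
    have hs1 : s ≠ 1 := fun h => hsP (h ▸ P.one_mem)
    have hord : orderOf s = 13 := orderOf_eq_prime hs13 hs1
    have hZ : Nat.card (Subgroup.zpowers s) = 13 := by rw [Nat.card_zpowers, hord]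
    have hdvd : Nat.card (Subgroup.zpowers s ⊓ P : Subgroup H) ∣ 13 := by
      rw [← hZ]; exact Subgroup.card_dvd_of_le inf_le_left
    rcases (Nat.dvd_prime (by norm_num : Nat.Prime 13)).1 hdvd with h1 | h13
    · have hdisj : Disjoint (Subgroup.zpowers s) P :=
        disjoint_iff.2 (Subgroup.card_eq_one.1 h1)
      have hinj := Subgroup.mul_injective_of_disjoint hdisj
      have hle := Nat.card_le_card_of_injective _ hinj
      rw [Nat.card_prod, hZ, hP, hH] at hle
      omega
    · have heq : Subgroup.zpowers s ⊓ P = Subgroup.zpowers s :=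
        Subgroup.eq_of_le_of_card_ge inf_le_left (by rw [h13, hZ])
      have hle : Subgroup.zpowers s ≤ P := by rw [← heq]; exact inf_le_right
      exact hsP (hle (Subgroup.mem_zpowers s))
  have hs : ∀ s : H, e81n θ s = 1 + (if s ∈ P then 2 else 0) + (if s = 1 then 78 else 0) := by
    intro s
    by_cases h1 : s = 1
    · subst h1
      rw [e81n_one, hV, if_pos rfl, if_pos P.one_mem]
    · rw [if_neg h1]
      by_cases hsP : s ∈ P
      · rw [if_pos hsP]
        refine e81_thirteen hV θ hθ s 1 ?_ h1
        have := pow_card_eq_one' (x := (⟨s, hsP⟩ : P))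
        rw [hP] at this
        have h2 := congrArg (Subtype.val) this
        simpa using h2
      · rw [if_neg hsP]
        have ht1 : s ^ 13 ≠ 1 := fun h => hsP (hin s h)
        have ht5 : (s ^ 13) ^ (5 ^ 1) = 1 := by
          have := pow_card_eq_one' (x := s)
          rw [hH] at this
          rw [← pow_mul]
          simpa using this
        have hone := e81_five hV θ hθ (s ^ 13) 1 ht5 ht1
        have hdvd : e81n θ s ∣ e81n θ (s ^ 13) := Subgroup.card_dvd_of_le (e81_fix_pow_le θ s 13)
        rw [hone] at hdvd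
        simpa using Nat.dvd_one.1 hdvd
  have hcardP : (Finset.univ.filter (fun s : H => s ∈ P)).card = 13 := by
    rw [← hP, Nat.card_eq_fintype_card, Fintype.card_subtype]
  have hsum : ∑ s : H, e81n θ s = 169 := by
    rw [Finset.sum_congr rfl (fun s _ => hs s), Finset.sum_add_distrib, Finset.sum_add_distrib,
      Finset.sum_ite_eq', Finset.sum_ite]
    simp only [Finset.sum_const, Finset.card_univ, smul_eq_mul, Finset.mem_univ, if_true, hcardP]
    rw [← Nat.card_eq_fintype_card, hH]
    omega
  rw [hsum, hH] at hb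
  omega

end

/-- **EXC81A**. -/
theorem exc81a {H V : Type*} [Group H] [Finite H] [Group V] [Finite V]
    (hV : Nat.card V = 81) (hcomm : ∀ a b : V, a * b = b * a)
    (θ : H →* MulAut V) (hθ : Function.Injective θ) (hsol : Group.IsSolvable H)
    (h5 : 5 ∣ Nat.card H) (h13 : 13 ∣ Nat.card H) : False := by
  have : Fact (Nat.Prime 5) := ⟨by norm_num⟩
  have : Fact (Nat.Prime 13) := ⟨by norm_num⟩
  have : Group.IsSolvable H := hsol
  have hinjS : ∀ S : Subgroup H, Function.Injective (θ.comp S.subtype) := fun S =>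
    hθ.comp S.subtype_injective
  have h25 : ¬ 25 ∣ Nat.card H := by
    intro h
    obtain ⟨S, hS⟩ := Sylow.exists_subgroup_card_pow_prime (G := H) 5 (n := 2) (by norm_num; exact h)
    exact e81_not25 hV (θ.comp S.subtype) (hinjS S) (by rw [hS]; norm_num)
  have h169 : ¬ 169 ∣ Nat.card H := by
    intro h
    obtain ⟨S, hS⟩ := Sylow.exists_subgroup_card_pow_prime (G := H) 13 (n := 2) (by norm_num; exact h)
    exact e81_not169 hV (θ.comp S.subtype) (hinjS S) (by rw [hS]; norm_num)
  have h65 : 65 ∣ Nat.card H :=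
    (Nat.Coprime.mul_dvd_of_dvd_of_dvd (by norm_num : Nat.Coprime 5 13) h5 h13)
  obtain ⟨n', hn'⟩ := h65
  have hcop : Nat.Coprime 65 n' := by
    have c5 : Nat.Coprime 5 n' := by
      rw [Nat.Prime.coprime_iff_not_dvd (by norm_num)]
      intro hd
      apply h25
      rw [hn']
      obtain ⟨k, rfl⟩ := hd
      exact ⟨13 * k, by ring⟩
    have c13 : Nat.Coprime 13 n' := by
      rw [Nat.Prime.coprime_iff_not_dvd (by norm_num)]
      intro hd
      apply h169
      rw [hn']
      obtain ⟨k, rfl⟩ := hd
      exact ⟨5 * k, by ring⟩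
    have : Nat.Coprime (5 * 13) n' := Nat.Coprime.mul_left c5 c13
    simpa using this
  obtain ⟨E, hE⟩ := Cfsg.Agent.Lib.H1.hall_exists hn' hcop
  exact e81_not65 hV (θ.comp E.subtype) (hinjS E) hE

end Cfsg.Agent.Lib.H7.EOC
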