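import Mathlib

/-!
# S4020 piece FUS (helper7): the center of an extraspecial Sylow subgroup is fused to a
noncentral subgroup; two opposite transvection groups on `⟨z,a⟩`.
-/

set_option autoImplicit false

namespace Cfsg.Agent.Lib.H7.EQC

open Subgroup

/-- (L) In a group of order `p^3` every commutator lies in the group generated by a nontrivial
central element of order `p`. -/
theorem eqcfus_comm_pow {H : Type*} [Group H] [Finite H] {p : ℕ} [Fact p.Prime]
    (hH : Nat.card H = p ^ 3) (c : H) (hc : ∀ u : H, u * c = c * u) (hc1 : c ≠ 1)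
    (hcp : c ^ p = 1) (u v : H) : ∃ j : ℕ, u * v * u⁻¹ * v⁻¹ = c ^ j := by
  have hp : p.Prime := Fact.out
  have hN : (zpowers c).Normal := ⟨fun n hn g => by
    obtain ⟨i, rfl⟩ := hn
    have hcm : Commute g (c ^ i) := (show Commute g c from hc g).zpow_right i
    rw [hcm.eq, mul_inv_cancel_right]
    exact ⟨i, rfl⟩⟩
  have hcN : Nat.card (zpowers c) = p := by
    rw [Nat.card_zpowers]; exact orderOf_eq_prime hcp hc1
  have hq : Nat.card (H ⧸ zpowers c) = p ^ 2 := by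
    have h1 := Subgroup.card_eq_card_quotient_mul_card_subgroup (zpowers c)
    rw [hH, hcN] at h1
    have h2 : p ^ 2 * p = Nat.card (H ⧸ zpowers c) * p := by rw [← h1]; ring
    exact (Nat.eq_of_mul_eq_mul_right hp.pos h2).symm
  have hcomm := (IsPGroup.isMulCommutative_of_card_eq_prime_sq hq).is_comm.comm
  have hmem : u * v * u⁻¹ * v⁻¹ ∈ zpowers c := by
    rw [← QuotientGroup.eq_one_iff]
    have := hcomm (QuotientGroup.mk u) (QuotientGroup.mk v)
    simp only [QuotientGroup.mk_mul, QuotientGroup.mk_inv]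
    rw [this]; group
  rw [← mem_powers_iff_mem_zpowers] at hmem
  obtain ⟨j, hj⟩ := hmem
  exact ⟨j, hj.symm⟩

/-- an exponent giving a nontrivial power is prime to `p`. -/
theorem eqcfus_not_dvd {H : Type*} [Group H] {p : ℕ} (c : H) (hcp : c ^ p = 1) (j : ℕ)
    (hj : c ^ j ≠ 1) : ¬ p ∣ j := by
  rintro ⟨d, rfl⟩
  exact hj (by rw [pow_mul, hcp, one_pow])

theorem fus {G : Type*} [Group G] [Finite G] {p : ℕ} [Fact p.Prime]
    (hC : ∀ H K : Subgroup G, IsPGroup p H → IsPGroup p K → Nat.card H = Nat.card K →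
      ∃ g : G, K = H.map (MulAut.conj g).toMonoidHom) (P : Sylow p G)
    (hnc : ¬ IsMulCommutative P) (hcard : Nat.card P = p ^ 3) (hexp : Monoid.exponent P = p) :
    ∃ (z a x y : G) (l k : ℕ), z ≠ 1 ∧ z ^ p = 1 ∧ a ^ p = 1 ∧ x ^ p = 1 ∧ y ^ p = 1 ∧
      z * a = a * z ∧ x * z = z * x ∧ y * a = a * y ∧ ¬ p ∣ l ∧ ¬ p ∣ k ∧
      x * a * x⁻¹ = a * z ^ l ∧ y * z * y⁻¹ = z * a ^ k := by
  have hp : p.Prime := Fact.out
  have hpow : ∀ v : (P : Subgroup G), v ^ p = 1 := fun v => by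
    have h := Monoid.pow_exponent_eq_one v
    rwa [hexp] at h
  have hpowG : ∀ v : G, v ∈ (P : Subgroup G) → v ^ p = 1 := fun v hv => by
    have h := hpow ⟨v, hv⟩
    have h2 := congrArg Subtype.val h
    simpa using h2
  have : Nontrivial (P : Subgroup G) := by
    apply (Finite.one_lt_card_iff_nontrivial).1
    rw [hcard]; exact Nat.one_lt_pow (by norm_num) hp.one_lt
  -- a nontrivial central element
  obtain ⟨z', hz'c, hz'1⟩ : ∃ z' : (P : Subgroup G), z' ∈ Subgroup.center (P : Subgroup G) ∧ z' ≠ 1 := by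
    have := P.isPGroup'.center_nontrivial
    obtain ⟨⟨z', hz'⟩, hne⟩ := exists_ne (1 : Subgroup.center (P : Subgroup G))
    exact ⟨z', hz', fun h => hne (Subtype.ext h)⟩
  have hz'comm : ∀ u : (P : Subgroup G), u * z' = z' * u := fun u => (Subgroup.mem_center_iff.1 hz'c u)
  -- a non-commuting pair
  obtain ⟨a', x', hax⟩ : ∃ a' x' : (P : Subgroup G), x' * a' ≠ a' * x' := by
    by_contra hcon
    push Not at hcon
    exact hnc ⟨⟨fun u v => hcon v u⟩⟩
  -- names in G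
  obtain ⟨z, hzP⟩ := z'
  obtain ⟨a, haP⟩ := a'
  obtain ⟨x, hxP⟩ := x'
  have hz1 : z ≠ 1 := fun h => hz'1 (Subtype.ext h)
  have hzc : ∀ v : G, v ∈ (P : Subgroup G) → v * z = z * v := fun v hv => by
    have := hz'comm ⟨v, hv⟩
    exact congrArg Subtype.val this
  have hxa : x * a ≠ a * x := fun h => hax (Subtype.ext h)
  have hzp : z ^ p = 1 := hpowG z hzP
  have hap : a ^ p = 1 := hpowG a haP
  have hxp : x ^ p = 1 := hpowG x hxP
  have ha1 : a ≠ 1 := by
    rintro rfl; exact hxa (by simp)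
  have hoz : orderOf z = p := orderOf_eq_prime hzp hz1
  have hoa : orderOf a = p := orderOf_eq_prime hap ha1
  -- fusion of `⟨z⟩` and `⟨a⟩`
  have hpz : IsPGroup p (zpowers z) := P.isPGroup'.to_le (by rwa [zpowers_le])
  have hpa : IsPGroup p (zpowers a) := P.isPGroup'.to_le (by rwa [zpowers_le])
  obtain ⟨g, hg⟩ := hC (zpowers z) (zpowers a) hpz hpa (by
    rw [Nat.card_zpowers, Nat.card_zpowers, hoz, hoa])
  obtain ⟨j, hj⟩ : ∃ j : ℤ, a = g * z ^ j * g⁻¹ := by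
    have ha : a ∈ zpowers a := mem_zpowers a
    rw [hg] at ha
    obtain ⟨v, ⟨j, rfl⟩, hv⟩ := ha
    exact ⟨j, by simpa using hv.symm⟩
  -- `z ^ j` is central in `P`
  have hzjc : ∀ v : G, v ∈ (P : Subgroup G) → v * z ^ j = z ^ j * v := fun v hv =>
    ((show Commute v z from hzc v hv).zpow_right j).eq
  -- `g • P` centralises `a`
  have h2 : ↑(g • P) ≤ centralizer ({a} : Set G) := by
    intro w hw
    rw [Sylow.smul_def, Sylow.pointwise_smul_def, mem_smul_pointwise_iff_exists] at hw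
    obtain ⟨v, hv, rfl⟩ := hw
    rw [mem_centralizer_singleton_iff, MulAut.smul_def, MulAut.conj_apply, hj]
    calc g * v * g⁻¹ * (g * z ^ j * g⁻¹) = g * (v * z ^ j) * g⁻¹ := by group
      _ = g * (z ^ j * v) * g⁻¹ := by rw [hzjc v hv]
      _ = g * z ^ j * g⁻¹ * (g * v * g⁻¹) := by group
  have hzC : z ∈ centralizer ({a} : Set G) := by
    rw [mem_centralizer_singleton_iff]; exact (hzc a haP).symm
  -- Sylow in the centraliser
  obtain ⟨Q, hQ⟩ := (P.isPGroup'.comap_subtype (K := centralizer ({a} : Set G))).exists_le_sylow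
  obtain ⟨c, hc⟩ := MulAction.exists_smul_eq (centralizer ({a} : Set G)) ((g • P).subtype h2) Q
  simp_rw [Sylow.smul_subtype, Subgroup.smul_def, smul_smul] at hc
  have hzQ : (⟨z, hzC⟩ : centralizer ({a} : Set G)) ∈ (Q : Subgroup _) := hQ (by
    rw [mem_comap]; exact hzP)
  rw [← hc, ← SetLike.mem_coe, Sylow.coe_subtype, SetLike.mem_coe, mem_subgroupOf,
    Sylow.smul_def, Sylow.pointwise_smul_def, mem_smul_pointwise_iff_exists] at hzQ
  obtain ⟨w, hwP, hw⟩ := hzQ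
  rw [MulAut.smul_def, MulAut.conj_apply] at hw
  simp only at hw
  have hca : (c : G) * a = a * c := mem_centralizer_singleton_iff.1 c.2
  generalize (c : G) = c at hw hca
  -- `h = c * g`: `h w h⁻¹ = z`, `h z^j h⁻¹ = a`
  have hha : c * g * z ^ j * (c * g)⁻¹ = a := by
    calc c * g * z ^ j * (c * g)⁻¹ = c * (g * z ^ j * g⁻¹) * c⁻¹ := by group
      _ = c * a * c⁻¹ := by rw [← hj]
      _ = a := by rw [hca, mul_inv_cancel_right]
  generalize c * g = h at hw hha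
  have hzjP : z ^ j ∈ (P : Subgroup G) := zpow_mem hzP j
  have hzj1 : z ^ j ≠ 1 := by
    intro h1; rw [h1] at hha; apply ha1; rw [← hha]; group
  have hzjp : (z ^ j) ^ p = 1 := hpowG _ hzjP
  -- conjugation by `h`
  have hconj_comm : ∀ u v : G, h * u * h⁻¹ * (h * v * h⁻¹) = h * (u * v) * h⁻¹ := by
    intro u v; group
  -- (L) in `P`, stated in `G`
  have hL : ∀ c₀ : G, c₀ ∈ (P : Subgroup G) → (∀ v : G, v ∈ (P : Subgroup G) → v * c₀ = c₀ * v) →
      c₀ ≠ 1 → ∀ u v : G, u ∈ (P : Subgroup G) → v ∈ (P : Subgroup G) →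
        ∃ n : ℕ, u * v * u⁻¹ * v⁻¹ = c₀ ^ n := by
    intro c₀ hc₀P hc₀c hc₀1 u v hu hv
    obtain ⟨n, hn⟩ := eqcfus_comm_pow (p := p) hcard (⟨c₀, hc₀P⟩ : (P : Subgroup G))
      (fun u => Subtype.ext (hc₀c u u.2)) (fun h => hc₀1 (congrArg Subtype.val h))
      (Subtype.ext (by simpa using hpowG c₀ hc₀P)) ⟨u, hu⟩ ⟨v, hv⟩
    exact ⟨n, by simpa using congrArg Subtype.val hn⟩
  -- `x a x⁻¹ = a z^l`
  obtain ⟨l, hl⟩ := hL z hzP hzc hz1 x a hxP haP
  have hl1 : z ^ l ≠ 1 := by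
    intro h1; rw [h1] at hl; apply hxa
    calc x * a = (x * a * x⁻¹ * a⁻¹) * (a * x) := by group
      _ = a * x := by rw [hl, one_mul]
  have hza : z * a = a * z := (hzc a haP).symm
  have hxa' : x * a * x⁻¹ = a * z ^ l := by
    have hcm : Commute a (z ^ l) := (show Commute a z from hzc a haP).pow_right l
    calc x * a * x⁻¹ = (x * a * x⁻¹ * a⁻¹) * a := by group
      _ = z ^ l * a := by rw [hl]
      _ = a * z ^ l := hcm.eq.symm
  -- `w` is not central in `P`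
  have hw1 : w ≠ 1 := by
    rintro rfl; apply hz1; rw [← hw]; group
  have hwnc : ∃ y₀ : G, y₀ ∈ (P : Subgroup G) ∧ y₀ * w ≠ w * y₀ := by
    by_contra hcon
    push Not at hcon
    obtain ⟨s, hs⟩ := hL (z ^ j) hzjP hzjc hzj1 x a hxP haP
    obtain ⟨t, ht⟩ := hL w hwP hcon hw1 x a hxP haP
    -- conjugate: `a ^ s = z ^ t`
    have hst : a ^ s = z ^ t := by
      have e1 : a ^ s = h * (z ^ j) ^ s * h⁻¹ := by rw [← hha, conj_pow]
      have e2 : z ^ t = h * w ^ t * h⁻¹ := by rw [← hw, conj_pow]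
      rw [e1, e2, ← hs, ← ht]
    have hs1 : (z ^ j) ^ s ≠ 1 := by
      intro h1; rw [h1] at hs; apply hxa
      calc x * a = (x * a * x⁻¹ * a⁻¹) * (a * x) := by group
        _ = a * x := by rw [hs, one_mul]
    have hsp : ¬ p ∣ s := eqcfus_not_dvd (z ^ j) hzjp s hs1
    have hcop : s.Coprime (orderOf a) := by
      rw [hoa]; exact ((Nat.Prime.coprime_iff_not_dvd hp).2 hsp).symm
    obtain ⟨m, hm⟩ := exists_pow_eq_self_of_coprime hcop
    apply hxa
    have hcm : Commute x ((z ^ t) ^ m) :=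
      ((show Commute x z from hzc x hxP).pow_right t).pow_right m
    rw [← hst, hm] at hcm
    exact hcm.eq
  obtain ⟨y₀, hy₀P, hy₀w⟩ := hwnc
  obtain ⟨k, hk⟩ := hL (z ^ j) hzjP hzjc hzj1 y₀ w hy₀P hwP
  have hk1 : (z ^ j) ^ k ≠ 1 := by
    intro h1; rw [h1] at hk; apply hy₀w
    calc y₀ * w = (y₀ * w * y₀⁻¹ * w⁻¹) * (w * y₀) := by group
      _ = w * y₀ := by rw [hk, one_mul]
  have hkp : ¬ p ∣ k := eqcfus_not_dvd (z ^ j) hzjp k hk1
  have hlp : ¬ p ∣ l := eqcfus_not_dvd z hzp l hl1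
  -- `y = h y₀ h⁻¹`
  have hyp : (h * y₀ * h⁻¹) ^ p = 1 := by
    rw [conj_pow, hpowG y₀ hy₀P]; group
  have hya : (h * y₀ * h⁻¹) * a = a * (h * y₀ * h⁻¹) := by
    rw [← hha, hconj_comm, hconj_comm, hzjc y₀ hy₀P]
  have hyz : (h * y₀ * h⁻¹) * z * (h * y₀ * h⁻¹)⁻¹ = z * a ^ k := by
    have hcm : Commute z (a ^ k) := (show Commute z a from hza).pow_right k
    have e1 : a ^ k = h * (z ^ j) ^ k * h⁻¹ := by rw [← hha, conj_pow]
    calc (h * y₀ * h⁻¹) * z * (h * y₀ * h⁻¹)⁻¹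
        = (h * y₀ * h⁻¹) * (h * w * h⁻¹) * (h * y₀ * h⁻¹)⁻¹ := by rw [hw]
      _ = h * (y₀ * w * y₀⁻¹ * w⁻¹) * h⁻¹ * (h * w * h⁻¹) := by group
      _ = a ^ k * z := by rw [hk, ← e1, hw]
      _ = z * a ^ k := hcm.eq.symm
  exact ⟨z, a, x, h * y₀ * h⁻¹, l, k, hz1, hzp, hap, hxp, hyp, hza, hzc x hxP, hya, hlp, hkp,
    hxa', hyz⟩

end Cfsg.Agent.Lib.H7.EQC
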