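import Mathlib
import Cfsg.Agent.Lib.H14.FBNUM
import Cfsg.Agent.Lib.H14.FBPG
import Cfsg.Agent.Lib.H14.FBACT
import Cfsg.Agent.Lib.H4.FBGRP
import Cfsg.Agent.Lib.H21.FBEIG2
import Cfsg.Agent.Lib.H21.FBEIG1

/-!
# The numeric bound for the exceptional case of Feit's theorem (helper7, for S1542)

A Frobenius group `N` of odd order, solvable, with kernel `K` a NONABELIAN `p`-group and
`exp(N/K) ∣ p - 1` has `|K : K'| > 4 |N : K|² + 1`.  Assembled from the farm-out pieces
GRP (helper4), EIG1, EIG2 (helper21), ACT/CARD/PG/NUM (helper14).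
-/

set_option autoImplicit false

namespace Cfsg.Agent.Lib.H7.FB

open Cfsg.Agent.Lib.H14.FB Cfsg.Agent.Lib.H4.FB Cfsg.Agent.Lib.H21.FB

/-- BOUND. -/
theorem frob_index_lt {N : Type*} [Group N] [Finite N] (K : Subgroup N) [K.Normal] (p : ℕ)
    [Fact p.Prime] (hK : IsPGroup p K) (hna : ¬ IsMulCommutative K)
    (hC : ∀ k ∈ K, k ≠ 1 → Subgroup.centralizer ({k} : Set N) ≤ K)
    (hodd : Odd (Nat.card N)) (hsol : Group.IsSolvable N)
    (hexp : Monoid.exponent (N ⧸ K) ∣ p - 1) :
    4 * K.index ^ 2 + 1 < (⁅K, K⁆.subgroupOf K).index := by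
  classical
  have hpp : p.Prime := Fact.out
  -- the abelianization
  have hcardW := card_abelianization_eq K
  have hsq := sq_le_index_commutator K p hK hna
  have hWp : IsPGroup p (Abelianization K) := by
    exact hK.to_quotient (commutator K)
  haveI : Nontrivial (Abelianization K) := by
    rw [← Finite.one_lt_card_iff_nontrivial, hcardW]
    calc 1 < p ^ 2 := Nat.one_lt_pow (by norm_num) hpp.one_lt
      _ ≤ _ := hsq
  obtain ⟨ρ, hfpf⟩ := exists_fpf_action K hC
  -- the quotient
  have hUodd : Odd (Nat.card (N ⧸ K)) := by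
    rw [← Subgroup.index_eq_card]
    exact Odd.of_dvd_nat hodd (Subgroup.index_dvd_card K)
  have hUsol : Group.IsSolvable (N ⧸ K) :=
    Group.isSolvable_of_surjective (QuotientGroup.mk'_surjective K)
  have hUexp : ∀ u : N ⧸ K, u ^ (p - 1) = 1 := by
    intro u
    obtain ⟨c, hc⟩ := hexp
    rw [hc, pow_mul, Monoid.pow_exponent_eq_one, one_pow]
  have hp2 : p ≠ 2 := by
    intro h2
    have h1 : p ∣ Nat.card N := by
      have h3 : p ∣ Nat.card K := by
        by_contra hnd
        have : Nat.card K = 1 := by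
          obtain ⟨j, hj⟩ := (IsPGroup.iff_card).mp hK
          rcases Nat.eq_zero_or_pos j with h0 | h0
          · rw [hj, h0, pow_zero]
          · exact absurd (hj ▸ dvd_pow_self p h0.ne') hnd
        apply hna
        have hb : K = ⊥ := Subgroup.card_eq_one.mp this
        refine ⟨⟨fun a b => ?_⟩⟩
        have ha : (a : N) = 1 := (Subgroup.mem_bot).mp (hb ▸ a.2)
        have hb' : (b : N) = 1 := (Subgroup.mem_bot).mp (hb ▸ b.2)
        apply Subtype.ext
        simp [ha, hb']
      exact h3.trans (Subgroup.card_subgroup_dvd_card K)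
    have := Odd.of_dvd_nat hodd h1
    rw [h2] at this
    exact absurd this (by decide)
  obtain ⟨F, hFn, hFc, hCF⟩ := exists_normal_cyclic_self_centralizing hUodd hUsol
    (fun A hA => (isCyclic_of_fpf p hWp ρ hfpf hUexp A hA).1)
  haveI := hFn
  have hFab : IsMulCommutative F := by
    obtain ⟨g, hg⟩ := hFc.exists_generator
    refine ⟨⟨fun a b => ?_⟩⟩
    obtain ⟨i, rfl⟩ := Subgroup.mem_zpowers_iff.mp (hg a)
    obtain ⟨j, rfl⟩ := Subgroup.mem_zpowers_iff.mp (hg b)
    rw [← zpow_add, ← zpow_add, add_comm]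
  have hf := (isCyclic_of_fpf p hWp ρ hfpf hUexp F hFab).2
  have hpow := pow_index_le_card p hWp ρ hfpf hUexp F hFc hCF
  have hfn : Nat.card F * F.index = K.index := by
    rw [Subgroup.card_mul_index, Subgroup.index_eq_card]
  have hfodd : Odd (Nat.card F) := Odd.of_dvd_nat hUodd (Subgroup.card_subgroup_dvd_card F)
  have hnodd : Odd F.index := Odd.of_dvd_nat hUodd (Subgroup.index_dvd_card F)
  have hf1 : Nat.card F = 1 → F.index = 1 := by
    intro h1
    have hb : F = ⊥ := Subgroup.card_eq_one.mp h1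
    have : (⊤ : Subgroup (N ⧸ K)) ≤ F := by
      refine le_trans ?_ hCF
      intro x _
      rw [Subgroup.mem_centralizer_iff]
      intro y hy
      rw [hb] at hy
      have : y = 1 := hy
      rw [this, one_mul, mul_one]
    rw [top_le_iff.mp this, Subgroup.index_top]
  have hnum := num_bound p (Nat.card F) F.index hpp hp2 hf hfodd hnodd hf1
  rw [hfn] at hnum
  refine lt_of_lt_of_le hnum ?_
  rw [← hcardW]
  rcases le_total F.index 2 with h | h
  · rw [max_eq_right h, hcardW]; exact hsq
  · rw [max_eq_left h]; exact hpow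
end Cfsg.Agent.Lib.H7.FB
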