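import Mathlib

set_option autoImplicit false
set_option linter.unusedVariables false

/-!
# S4404, piece ARITH: divisors of `3 ^ a * p ^ b` (helper7)
-/

namespace Cfsg.Agent.Lib.H7.FG19

/-- ARITH (E). -/
theorem exists_eq_of_dvd {p a b d : ℕ} (hp : p.Prime) (hp3 : p ≠ 3) (h : d ∣ 3 ^ a * p ^ b) :
    ∃ a' b' : ℕ, d = 3 ^ a' * p ^ b' := by
  obtain ⟨d₁, d₂, h₁, h₂, rfl⟩ := (Nat.dvd_mul).1 h
  obtain ⟨a', -, rfl⟩ := (Nat.dvd_prime_pow Nat.prime_three).1 h₁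
  obtain ⟨b', -, rfl⟩ := (Nat.dvd_prime_pow hp).1 h₂
  exact ⟨a', b', rfl⟩

end Cfsg.Agent.Lib.H7.FG19
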