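import Mathlib

set_option autoImplicit false

/-!
# S4404, piece LIFT: a 7-element of the image lifts to a 7-element (helper7)
-/

namespace Cfsg.Agent.Lib.H7.FG19

/-- LIFT (E/M): a 7-element of the image lifts to a 7-element. -/
theorem exists_seven_lift {G G' : Type*} [Group G] [Finite G] [Group G'] (ρ : G →* G') (H : Subgroup G)
    (B : G') (hB : B ∈ H.map ρ) (hB7 : B ^ 7 = 1) : ∃ b ∈ H, ρ b = B ∧ ∃ k : ℕ, b ^ 7 ^ k = 1 := by
  obtain ⟨h, hh, rfl⟩ := Subgroup.mem_map.1 hB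
  have hn : 0 < orderOf h := orderOf_pos h
  obtain ⟨k, m, hm, hkm⟩ := Nat.exists_eq_pow_mul_and_not_dvd hn.ne' 7 (by norm_num)
  have hcop : Nat.Coprime m 7 := by
    rw [Nat.coprime_comm]
    exact (Nat.Prime.coprime_iff_not_dvd (by norm_num)).2 hm
  obtain ⟨u, -, hu⟩ := Nat.exists_mul_mod_eq_one_of_coprime hcop (by norm_num)
  refine ⟨h ^ (m * u), H.pow_mem hh _, ?_, k, ?_⟩
  · rw [map_pow]
    have e : m * u = 7 * (m * u / 7) + 1 := by
      have := Nat.div_add_mod (m * u) 7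
      omega
    rw [e, pow_succ, pow_mul, hB7, one_pow, one_mul]
  · rw [← pow_mul]
    have e : m * u * 7 ^ k = orderOf h * u := by
      rw [hkm]; ring
    rw [e, pow_mul, pow_orderOf_eq_one, one_pow]

end Cfsg.Agent.Lib.H7.FG19
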