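import Mathlib
import Cfsg.Agent.Lib.H5.Glaub.OddCore

/-!
# S4385 piece (A22) `abs_v4`

`K = ⟨a, z, b⟩`, three involutions, `z` central, `|K| = 4 * odd`, `z ≠ b`: then `K / O(K)` is a four-group.
Route: `r := a * b` is inverted by `a`, `b`; a Sylow argument shows `r ^ (2 * m) = 1`;
`O := ⟨r ^ 2⟩` is normal of odd order with `K / O` elementary abelian of order `4`.
-/

set_option autoImplicit false

namespace Cfsg.Agent.Lib.H7.G85

/-- an involution conjugating `s` into `⟨s⟩` normalizes `⟨s⟩` -/
theorem mem_normalizer_zpowers_of_sq {K : Type*} [Group K] {g s : K} (hg : g * g = 1)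
    (h1 : g * s * g⁻¹ ∈ Subgroup.zpowers s) :
    g ∈ Subgroup.normalizer (Subgroup.zpowers s : Set K) := by
  have hginv : g⁻¹ = g := inv_eq_of_mul_eq_one_right hg
  rw [Subgroup.mem_normalizer_iff]
  intro h
  constructor
  · rintro ⟨k, rfl⟩
    have : g * s ^ k * g⁻¹ = (g * s * g⁻¹) ^ k := conj_zpow.symm
    simp only
    rw [this]
    exact Subgroup.zpow_mem _ h1 k
  · rintro ⟨k, hk⟩
    have hk' : s ^ k = g * h * g⁻¹ := hk
    have h3 : h = (g * s * g⁻¹) ^ k := by
      rw [conj_zpow, hk', hginv]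
      calc h = (g * g) * h * (g * g) := by rw [hg, one_mul, mul_one]
        _ = g * (g * h * g) * g := by group
    rw [h3]
    exact Subgroup.zpow_mem _ h1 k

theorem abs_v4 {K : Type*} [Group K] [Finite K] (a z b : K)
    (ha2 : a * a = 1) (hz2 : z * z = 1) (hb2 : b * b = 1)
    (hz : z ≠ 1) (hb : b ≠ 1) (hzb : z ≠ b)
    (haz : a * z = z * a) (hbz : b * z = z * b)
    (hgen : ∀ N : Subgroup K, a ∈ N → z ∈ N → b ∈ N → N = ⊤)
    (hcard : ∃ m : ℕ, ¬ 2 ∣ m ∧ Nat.card K = 4 * m) :
    Nonempty (K ⧸ Cfsg.oddCore K ≃* Multiplicative (ZMod 2) × Multiplicative (ZMod 2)) := by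
  classical
  have : Fact (Nat.Prime 2) := ⟨Nat.prime_two⟩
  obtain ⟨m, hm, hK⟩ := hcard
  have hm0 : m ≠ 0 := fun h => hm (h ▸ dvd_zero 2)
  have hainv : a⁻¹ = a := inv_eq_of_mul_eq_one_right ha2
  have hbinv : b⁻¹ = b := inv_eq_of_mul_eq_one_right hb2
  have hzinv : z⁻¹ = z := inv_eq_of_mul_eq_one_right hz2
  set r : K := a * b with hr
  have hrinv : r⁻¹ = b * a := by rw [hr, mul_inv_rev, hainv, hbinv]
  have har : a * r * a⁻¹ = r⁻¹ := by
    rw [hrinv, hainv, hr, ← mul_assoc, ha2, one_mul]
  have hbr : b * r * b⁻¹ = r⁻¹ := by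
    rw [hrinv, hbinv, hr, mul_assoc, mul_assoc, hb2, mul_one]
  have hzr : Commute z r := Commute.mul_right haz.symm hbz.symm
  -- conjugates of powers
  have harp : ∀ n : ℕ, a * r ^ n * a⁻¹ = (r ^ n)⁻¹ := fun n => by
    rw [← conj_pow, har, inv_pow]
  have hbrp : ∀ n : ℕ, b * r ^ n * b⁻¹ = (r ^ n)⁻¹ := fun n => by
    rw [← conj_pow, hbr, inv_pow]
  have hzrp : ∀ n : ℕ, z * r ^ n * z⁻¹ = r ^ n := fun n => by
    rw [(hzr.pow_right n).eq, mul_inv_cancel_right]
  -- every `⟨r ^ n⟩` is normal
  have hnormal : ∀ n : ℕ, (Subgroup.zpowers (r ^ n)).Normal := by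
    intro n
    apply Subgroup.normalizer_eq_top_iff.mp
    apply hgen
    · exact mem_normalizer_zpowers_of_sq ha2
        (by rw [harp]; exact Subgroup.inv_mem _ (Subgroup.mem_zpowers _))
    · exact mem_normalizer_zpowers_of_sq hz2
        (by rw [hzrp]; exact Subgroup.mem_zpowers _)
    · exact mem_normalizer_zpowers_of_sq hb2
        (by rw [hbrp]; exact Subgroup.inv_mem _ (Subgroup.mem_zpowers _))
  -- an involution (or `1`) generates a `2`-group
  have h2grp : ∀ g : K, g * g = 1 → IsPGroup 2 (Subgroup.zpowers g) := by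
    intro g hg x
    refine ⟨1, ?_⟩
    obtain ⟨x, k, rfl⟩ := x
    apply Subtype.ext
    simp only [pow_one, Subgroup.coe_pow, Subgroup.coe_one]
    rw [← zpow_natCast, ← zpow_mul, mul_comm, zpow_mul, zpow_natCast, pow_two, hg, one_zpow]
  -- (F3) `r ^ (2 * m) = 1`
  have hr2m : (r ^ 2) ^ m = 1 := by
    by_contra hne
    set s : K := r ^ m with hs
    have hs2 : ¬ s ^ 2 ^ 1 = 1 := by
      rw [pow_one, hs, ← pow_mul, mul_comm, pow_mul]; exact hne
    have hs4 : s ^ 2 ^ (1 + 1) = 1 := by
      have : (2 : ℕ) ^ (1 + 1) = 4 := by norm_num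
      rw [this, hs, ← pow_mul, mul_comm, ← hK]
      exact pow_card_eq_one'
    have hord : orderOf s = 4 := by
      have := orderOf_eq_prime_pow hs2 hs4
      rw [this]; norm_num
    have hc4 : Nat.card (Subgroup.zpowers s) = 2 ^ 2 := by
      rw [Nat.card_zpowers, hord]; norm_num
    have hidx : ¬ 2 ∣ (Subgroup.zpowers s).index := by
      have h1 := Subgroup.card_mul_index (Subgroup.zpowers s)
      rw [hc4, hK] at h1
      have : (Subgroup.zpowers s).index = m := by omega
      rw [this]; exact hm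
    let P : Sylow 2 K := (IsPGroup.of_card hc4).toSylow hidx
    have hP : (P : Subgroup K) = Subgroup.zpowers s := rfl
    have hmem : ∀ g : K, g * g = 1 → g * s * g⁻¹ ∈ Subgroup.zpowers s → g ∈ Subgroup.zpowers s := by
      intro g hg hgs
      have h2 := (h2grp g hg).inf_normalizer_sylow P
      have h3 : g ∈ Subgroup.zpowers g ⊓ (P : Subgroup K) := by
        rw [← h2]
        exact ⟨Subgroup.mem_zpowers g, mem_normalizer_zpowers_of_sq hg hgs⟩
      exact h3.2
    have ha_mem : a ∈ Subgroup.zpowers s :=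
      hmem a ha2 (by rw [hs, harp]; exact Subgroup.inv_mem _ (Subgroup.mem_zpowers _))
    have hb_mem : b ∈ Subgroup.zpowers s :=
      hmem b hb2 (by rw [hs, hbrp]; exact Subgroup.inv_mem _ (Subgroup.mem_zpowers _))
    obtain ⟨i, hi⟩ := ha_mem
    obtain ⟨j, hj⟩ := hb_mem
    have hab : a * b = b * a := by
      rw [← hi, ← hj]
      simp only
      rw [← zpow_add, ← zpow_add, add_comm]
    apply hne
    have : r ^ 2 = 1 := by
      rw [pow_two, hr]
      calc a * b * (a * b) = a * (b * a) * b := by group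
        _ = a * (a * b) * b := by rw [hab]
        _ = (a * a) * (b * b) := by group
        _ = 1 := by rw [ha2, hb2, one_mul]
    rw [this, one_pow]
  -- the subgroup `O`
  set O : Subgroup K := Subgroup.zpowers (r ^ 2) with hO
  have hOn : O.Normal := hnormal 2
  have hOdvd : Nat.card O ∣ m := by
    rw [hO, Nat.card_zpowers]
    exact orderOf_dvd_of_pow_eq_one hr2m
  have hOodd : (Nat.card O).Coprime 2 :=
    Nat.Coprime.coprime_dvd_left hOdvd
      ((Nat.Prime.coprime_iff_not_dvd Nat.prime_two).mpr hm).symm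
  -- `K / O` is commutative
  let π : K →* K ⧸ O := QuotientGroup.mk' O
  have hπab : π a * π b = π b * π a := by
    rw [← map_mul, ← map_mul]
    apply (QuotientGroup.eq).mpr
    -- `(a * b)⁻¹ * (b * a) = (r ^ 2)⁻¹`
    have : (a * b)⁻¹ * (b * a) = (r ^ 2)⁻¹ := by
      rw [← hr, hrinv, pow_two, mul_inv_rev, hrinv]
    rw [this]
    exact Subgroup.inv_mem _ (Subgroup.mem_zpowers _)
  have hπaz : π a * π z = π z * π a := by rw [← map_mul, ← map_mul, haz]
  have hπbz : π b * π z = π z * π b := by rw [← map_mul, ← map_mul, hbz]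
  have key : ∀ g : K, π g * π a = π a * π g → π g * π z = π z * π g → π g * π b = π b * π g →
      ∀ x : K, π g * π x = π x * π g := by
    intro g h1 h2 h3 x
    have htop := hgen ((Subgroup.centralizer {π g}).comap π)
      (by
        rw [Subgroup.mem_comap, Subgroup.mem_centralizer_iff]
        intro h hh; rw [Set.mem_singleton_iff] at hh; subst hh; exact h1)
      (by
        rw [Subgroup.mem_comap, Subgroup.mem_centralizer_iff]
        intro h hh; rw [Set.mem_singleton_iff] at hh; subst hh; exact h2)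
      (by
        rw [Subgroup.mem_comap, Subgroup.mem_centralizer_iff]
        intro h hh; rw [Set.mem_singleton_iff] at hh; subst hh; exact h3)
    have hx : x ∈ (Subgroup.centralizer {π g}).comap π := by rw [htop]; exact Subgroup.mem_top x
    rw [Subgroup.mem_comap, Subgroup.mem_centralizer_iff] at hx
    exact hx (π g) (Set.mem_singleton _)
  have hA : ∀ x : K, π a * π x = π x * π a := key a rfl hπaz hπab
  have hZ : ∀ x : K, π z * π x = π x * π z := key z hπaz.symm rfl hπbz.symm
  have hB : ∀ x : K, π b * π x = π x * π b := key b hπab.symm hπbz rfl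
  have hcomm : ∀ x y : K, π x * π y = π y * π x :=
    fun x => key x (hA x).symm (hZ x).symm (hB x).symm
  -- squares lie in `O`
  let sq : K →* K ⧸ O :=
    { toFun := fun x => π x * π x
      map_one' := by simp
      map_mul' := fun x y => by
        rw [map_mul]
        calc π x * π y * (π x * π y) = π x * (π y * π x) * π y := by group
          _ = π x * (π x * π y) * π y := by rw [hcomm y x]
          _ = π x * π x * (π y * π y) := by group }
  have hsq : ∀ x : K, π x * π x = 1 := by
    have htop := hgen sq.ker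
      (by rw [MonoidHom.mem_ker]; change π a * π a = 1; rw [← map_mul, ha2, map_one])
      (by rw [MonoidHom.mem_ker]; change π z * π z = 1; rw [← map_mul, hz2, map_one])
      (by rw [MonoidHom.mem_ker]; change π b * π b = 1; rw [← map_mul, hb2, map_one])
    intro x
    have hx : x ∈ sq.ker := by rw [htop]; exact Subgroup.mem_top x
    exact MonoidHom.mem_ker.mp hx
  have hexp : ∀ x : K, x ^ 2 ∈ O := by
    intro x
    have := hsq x
    rw [← map_mul, ← pow_two] at this
    exact (QuotientGroup.eq_one_iff _).mp this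
  -- the index
  have hpg : IsPGroup 2 (K ⧸ O) := by
    intro y
    refine ⟨1, ?_⟩
    induction y using QuotientGroup.induction_on with
    | H x =>
      rw [pow_one, pow_two]
      exact hsq x
  obtain ⟨k, hk⟩ := IsPGroup.iff_card.mp hpg
  have hidx : O.index = 4 := by
    have h1 := Subgroup.card_mul_index O
    rw [Subgroup.index_eq_card, hk, hK] at h1
    rw [Subgroup.index_eq_card, hk]
    obtain ⟨c, hc⟩ := hOdvd
    have hO0 : 0 < Nat.card O := Nat.card_pos
    have h2 : 2 ^ k = 4 * c := by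
      have : Nat.card O * 2 ^ k = Nat.card O * (4 * c) := by rw [h1, hc]; ring
      exact Nat.eq_of_mul_eq_mul_left hO0 this
    have hcodd : ¬ 2 ∣ c := fun h => hm (hc ▸ (h.trans (dvd_mul_left c _)))
    have hc2 : c ∣ 2 ^ k := ⟨4, by rw [h2]; ring⟩
    obtain ⟨i, -, hi⟩ := (Nat.dvd_prime_pow Nat.prime_two).mp hc2
    have hi0 : i = 0 := by
      by_contra hne
      apply hcodd
      rw [hi]
      exact dvd_pow_self 2 hne
    rw [hi0, pow_zero] at hi
    rw [h2, hi, mul_one]
  have := hOn
  exact Cfsg.Agent.Lib.H5.Glaub.quot_oddCore_v4 O hOodd hidx hexp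

end Cfsg.Agent.Lib.H7.G85
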