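import Mathlib

/-!
# S4385 piece (A34): two sub-lemmas

* `abs34_indep`: `Q = ⟨u, z, v⟩` of order `8` with commuting involutions `u, z, v` is abelian and is
  exactly the set of the eight distinct products `u ^ i * z ^ j * v ^ k`.
* `abs34_case12_false`: the cases `(c, c') = (v, z)` and `(c, c') = (z, u)` of (A34) are impossible.
-/

set_option autoImplicit false

namespace Cfsg.Agent.Lib.H7.G85

/-- exponent arithmetic in `Fin 2` for an involution -/
theorem pow_fin2_add {K : Type*} [Group K] {x : K} (hx : x * x = 1) (i i' : Fin 2) :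
    x ^ ((i + i' : Fin 2) : ℕ) = x ^ (i : ℕ) * x ^ (i' : ℕ) := by
  rw [← pow_add, Fin.val_add]
  exact (pow_eq_pow_mod _ (by rw [pow_two]; exact hx)).symm

/-- multiplication of the normal forms -/
theorem abs34_mul {K : Type*} [Group K] (u z v : K)
    (hu2 : u * u = 1) (hz2 : z * z = 1) (hv2 : v * v = 1)
    (huz : u * z = z * u) (huv : u * v = v * u) (hzv : z * v = v * z)
    (i j k i' j' k' : Fin 2) :
    u ^ (i : ℕ) * z ^ (j : ℕ) * v ^ (k : ℕ) * (u ^ (i' : ℕ) * z ^ (j' : ℕ) * v ^ (k' : ℕ)) =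
      u ^ ((i + i' : Fin 2) : ℕ) * z ^ ((j + j' : Fin 2) : ℕ) * v ^ ((k + k' : Fin 2) : ℕ) := by
  have cuz : Commute u z := huz
  have cuv : Commute u v := huv
  have czv : Commute z v := hzv
  rw [pow_fin2_add hu2, pow_fin2_add hz2, pow_fin2_add hv2]
  have h1 : Commute (v ^ (k : ℕ)) (u ^ (i' : ℕ) * z ^ (j' : ℕ)) :=
    Commute.mul_right (cuv.symm.pow_pow _ _) (czv.symm.pow_pow _ _)
  have h2 : Commute (z ^ (j : ℕ)) (u ^ (i' : ℕ)) := cuz.symm.pow_pow _ _
  rw [h1.mul_mul_mul_comm, h2.mul_mul_mul_comm]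

theorem abs34_indep {K : Type*} [Group K] [Finite K] (Q : Subgroup K) (u z v : K)
    (huQ : u ∈ Q) (hzQ : z ∈ Q) (hvQ : v ∈ Q)
    (hQle : ∀ N : Subgroup K, u ∈ N → z ∈ N → v ∈ N → Q ≤ N) (hQcard : Nat.card Q = 8)
    (hu2 : u * u = 1) (hz2 : z * z = 1) (hv2 : v * v = 1)
    (huz : u * z = z * u) (huv : u * v = v * u) (hzv : z * v = v * z) :
    (∀ x ∈ Q, ∀ y ∈ Q, x * y = y * x) ∧
    (∀ g : K, g ∈ Q ↔ ∃ i j k : Fin 2, g = u ^ (i : ℕ) * z ^ (j : ℕ) * v ^ (k : ℕ)) ∧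
    (∀ i j k i' j' k' : Fin 2,
      u ^ (i : ℕ) * z ^ (j : ℕ) * v ^ (k : ℕ) = u ^ (i' : ℕ) * z ^ (j' : ℕ) * v ^ (k' : ℕ) →
        i = i' ∧ j = j' ∧ k = k') := by
  classical
  have hmul := abs34_mul u z v hu2 hz2 hv2 huz huv hzv
  let f : Fin 2 × Fin 2 × Fin 2 → K := fun p => u ^ (p.1 : ℕ) * z ^ (p.2.1 : ℕ) * v ^ (p.2.2 : ℕ)
  have hfmul : ∀ p q : Fin 2 × Fin 2 × Fin 2, f p * f q = f (p + q) := by
    intro p q
    exact hmul p.1 p.2.1 p.2.2 q.1 q.2.1 q.2.2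
  have hf0 : f 0 = 1 := by simp [f]
  have hdouble : ∀ p : Fin 2 × Fin 2 × Fin 2, p + p = 0 := by decide
  let S : Subgroup K :=
    { carrier := Set.range f
      one_mem' := ⟨0, hf0⟩
      mul_mem' := by
        rintro _ _ ⟨p, rfl⟩ ⟨q, rfl⟩
        exact ⟨p + q, (hfmul p q).symm⟩
      inv_mem' := by
        rintro _ ⟨p, rfl⟩
        refine ⟨p, ?_⟩
        have : f p * f p = 1 := by rw [hfmul, hdouble, hf0]
        exact (inv_eq_of_mul_eq_one_right this).symm }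
  have hQS : Q ≤ S := by
    apply hQle
    · exact ⟨(1, 0, 0), by simp [f]⟩
    · exact ⟨(0, 1, 0), by simp [f]⟩
    · exact ⟨(0, 0, 1), by simp [f]⟩
  have hfQ : ∀ p, f p ∈ Q := fun p =>
    Q.mul_mem (Q.mul_mem (Q.pow_mem huQ _) (Q.pow_mem hzQ _)) (Q.pow_mem hvQ _)
  have hmem : ∀ g : K, g ∈ Q ↔ ∃ p, f p = g := by
    intro g
    constructor
    · intro hg; exact hQS hg
    · rintro ⟨p, rfl⟩; exact hfQ p
  -- the surjection onto `Q`
  let f' : Fin 2 × Fin 2 × Fin 2 → Q := fun p => ⟨f p, hfQ p⟩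
  have hsurj : Function.Surjective f' := by
    rintro ⟨g, hg⟩
    obtain ⟨p, hp⟩ := (hmem g).mp hg
    exact ⟨p, Subtype.ext hp⟩
  have hbij : Function.Bijective f' := by
    apply hsurj.bijective_of_nat_card_le
    rw [hQcard]
    simp [Nat.card_eq_fintype_card]
  refine ⟨?_, ?_, ?_⟩
  · intro x hx y hy
    obtain ⟨p, rfl⟩ := (hmem x).mp hx
    obtain ⟨q, rfl⟩ := (hmem y).mp hy
    rw [hfmul, hfmul, add_comm]
  · intro g
    rw [hmem]
    constructor
    · rintro ⟨p, rfl⟩; exact ⟨p.1, p.2.1, p.2.2, rfl⟩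
    · rintro ⟨i, j, k, rfl⟩; exact ⟨(i, j, k), rfl⟩
  · intro i j k i' j' k' h
    have h1 : f' (i, j, k) = f' (i', j', k') := Subtype.ext h
    have h2 := hbij.1 h1
    simp only [Prod.mk.injEq] at h2
    exact h2

/-- odd powers of a conjugation that multiplies `x` by a fixed involution `z` -/
theorem conj_pow_odd {K : Type*} [Group K] (g x z : K) (hgx : g * x * g⁻¹ = x * z)
    (hgz : g * z * g⁻¹ = z) (hz2 : z * z = 1) (k : ℕ) :
    g ^ (2 * k + 1) * x * (g ^ (2 * k + 1))⁻¹ = x * z := by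
  have h1 : MulAut.conj g x = x * z := by rw [MulAut.conj_apply]; exact hgx
  have h2 : MulAut.conj g z = z := by rw [MulAut.conj_apply]; exact hgz
  have h4 : ∀ k : ℕ, (MulAut.conj g ^ (2 * k + 1)) x = x * z := by
    intro k
    induction k with
    | zero => simpa using h1
    | succ k ih =>
      have e : 2 * (k + 1) + 1 = (2 * k + 1) + 1 + 1 := by ring
      rw [e, pow_succ', pow_succ', MulAut.mul_apply, MulAut.mul_apply, ih]
      calc MulAut.conj g (MulAut.conj g (x * z))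
          = MulAut.conj g (x * z * z) := by rw [map_mul, h1, h2]
        _ = MulAut.conj g x := by rw [mul_assoc, hz2, mul_one]
        _ = x * z := h1
  have := h4 k
  rw [← map_pow, MulAut.conj_apply] at this
  exact this

/-- the cases `(c, c') = (v, z)`, `(z, u)` of (A34) do not occur -/
theorem abs34_case12_false {K : Type*} [Group K] [Finite K] (Q : Subgroup K) [Q.Normal]
    (u z v a b c c' : K)
    (huQ : u ∈ Q) (hzQ : z ∈ Q) (hvQ : v ∈ Q)
    (hQle : ∀ N : Subgroup K, u ∈ N → z ∈ N → v ∈ N → Q ≤ N) (hQcard : Nat.card Q = 8)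
    (hu2 : u * u = 1) (hz2 : z * z = 1) (hv2 : v * v = 1) (ha2 : a * a = 1) (hb2 : b * b = 1)
    (huz : u * z = z * u) (huv : u * v = v * u) (hzv : z * v = v * z)
    (haz : a * z = z * a) (hav : a * v = v * a) (hbz : b * z = z * b) (hbu : b * u = u * b)
    (hau : a * u * a⁻¹ = u * c) (hbv : b * v * b⁻¹ = v * c')
    (hcc : (c = v ∧ c' = z) ∨ (c = z ∧ c' = u))
    (hcard : ∃ m : ℕ, ¬ 2 ∣ m ∧ Nat.card K = 16 * m) : False := by
  obtain ⟨hQcomm, -, hinj⟩ :=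
    abs34_indep Q u z v huQ hzQ hvQ hQle hQcard hu2 hz2 hv2 huz huv hzv
  have hz1 : z ≠ 1 := by
    intro h
    have := hinj 0 1 0 0 0 0 (by simp [h])
    exact absurd this.2.1 (by decide)
  obtain ⟨m, hm, hK⟩ := hcard
  have hidx : Q.index = 2 * m := by
    have := Subgroup.card_mul_index Q
    rw [hQcard, hK] at this
    omega
  set r : K := a * b with hr
  have hrQ : r ^ (2 * m) ∈ Q := by rw [← hidx]; exact Subgroup.pow_index_mem Q r
  have hcz_a : a * z * a⁻¹ = z := by rw [haz, mul_inv_cancel_right]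
  have hcv_a : a * v * a⁻¹ = v := by rw [hav, mul_inv_cancel_right]
  have hcz_b : b * z * b⁻¹ = z := by rw [hbz, mul_inv_cancel_right]
  have hcu_b : b * u * b⁻¹ = u := by rw [hbu, mul_inv_cancel_right]
  have hconj_r : ∀ x : K, r * x * r⁻¹ = a * (b * x * b⁻¹) * a⁻¹ := by
    intro x; rw [hr]; group
  have hrz : r * z * r⁻¹ = z := by rw [hconj_r, hcz_b, hcz_a]
  have hconj_mul : ∀ g x y : K, g * (x * y) * g⁻¹ = (g * x * g⁻¹) * (g * y * g⁻¹) := by
    intros; group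
  have hconj_sq : ∀ x : K, r ^ 2 * x * (r ^ 2)⁻¹ = r * (r * x * r⁻¹) * r⁻¹ := by
    intro x; rw [pow_two]; group
  have hr2z : r ^ 2 * z * (r ^ 2)⁻¹ = z := by rw [hconj_sq, hrz, hrz]
  obtain ⟨k, hk⟩ : ∃ k, m = 2 * k + 1 := Nat.odd_iff.mpr (by omega)
  have hpow : r ^ (2 * m) = (r ^ 2) ^ (2 * k + 1) := by rw [← pow_mul, hk]
  have hkey : ∃ x ∈ Q, r ^ 2 * x * (r ^ 2)⁻¹ = x * z := by
    rcases hcc with ⟨rfl, rfl⟩ | ⟨rfl, rfl⟩
    · refine ⟨u, huQ, ?_⟩
      have hru : r * u * r⁻¹ = u * c := by rw [hconj_r, hcu_b, hau]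
      have hrv : r * c * r⁻¹ = c * c' := by rw [hconj_r, hbv, hconj_mul, hcv_a, hcz_a]
      rw [hconj_sq, hru, hconj_mul, hru, hrv, mul_assoc, ← mul_assoc c c c', hv2, one_mul]
    · refine ⟨v, hvQ, ?_⟩
      have hru : r * c' * r⁻¹ = c' * c := by rw [hconj_r, hcu_b, hau]
      have hrv : r * v * r⁻¹ = v * (c' * c) := by rw [hconj_r, hbv, hconj_mul, hcv_a, hau]
      rw [hconj_sq, hrv, hconj_mul, hrv, hconj_mul, hru, hrz]
      calc v * (c' * c) * (c' * c * c) = v * (c' * c) * (c' * (c * c)) := by rw [mul_assoc c' c c]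
        _ = v * (c * c') * c' := by rw [hz2, mul_one, huz]
        _ = v * c * (c' * c') := by simp only [mul_assoc]
        _ = v * c := by rw [hu2, mul_one]
  obtain ⟨x, hxQ, hx⟩ := hkey
  have h1 := conj_pow_odd (r ^ 2) x z hx hr2z hz2 k
  rw [← hpow] at h1
  have h2 : r ^ (2 * m) * x = x * r ^ (2 * m) := hQcomm _ hrQ _ hxQ
  rw [h2, mul_inv_cancel_right] at h1
  apply hz1
  have : x * 1 = x * z := by rw [mul_one]; exact h1
  exact (mul_left_cancel this).symm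

end Cfsg.Agent.Lib.H7.G85
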