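import Mathlib

/-!
# S4385 piece (NC): an odd normal complement to a self-centralizing-up-to-odd abelian 2-subgroup

If `Q ⊴ K` is an abelian `2`-group with `|C_K(Q) : Q|` odd then `C_K(Q) = Q × O` with `O`
a normal subgroup of `K` of odd order.  (Transfer into the centre, `c ↦ c ^ (j * k)`.)
-/

namespace Cfsg.Agent.Lib.H7.G85

theorem exists_odd_complement {K : Type*} [Group K] [Finite K] (Q : Subgroup K) [Q.Normal]
    (hQ : IsPGroup 2 Q) (hQc : ∀ a ∈ Q, ∀ b ∈ Q, a * b = b * a)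
    (hodd : ¬ 2 ∣ Q.relIndex (Subgroup.centralizer (Q : Set K))) :
    ∃ O : Subgroup K, O.Normal ∧ (Nat.card O).Coprime 2 ∧
      Subgroup.centralizer (Q : Set K) ≤ Q ⊔ O ∧
      O.index = (Subgroup.centralizer (Q : Set K)).index * Nat.card Q := by
  classical
  set C : Subgroup K := Subgroup.centralizer (Q : Set K) with hC
  have hCn : C.Normal := by rw [hC]; infer_instance
  have hQC : Q ≤ C := fun a ha =>
    Subgroup.mem_centralizer_iff.mpr fun b hb => hQc b hb a ha
  set k := Q.relIndex C with hk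
  set j := (Subgroup.center C).index with hj
  -- `Q ≤ Z(C)`
  have hQZ : Q.subgroupOf C ≤ Subgroup.center C := by
    intro c hc
    rw [Subgroup.mem_center_iff]
    intro d
    have hd : (d : K) ∈ Subgroup.centralizer (Q : Set K) := d.2
    rw [Subgroup.mem_centralizer_iff] at hd
    have := hd (c : K) (Subgroup.mem_subgroupOf.mp hc)
    exact Subtype.ext (by simpa using this.symm)
  have hjk : j ∣ k := by
    rw [hj, hk, Subgroup.relIndex]
    exact Subgroup.index_dvd_of_le hQZ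
  have hkodd : ¬ 2 ∣ k := hodd
  have hjodd : ¬ 2 ∣ j := fun h => hkodd (h.trans hjk)
  have hmodd : ¬ 2 ∣ j * k := by
    intro h
    rcases (Nat.Prime.dvd_mul Nat.prime_two).mp h with h | h
    · exact hjodd h
    · exact hkodd h
  have hkpos : k ≠ 0 := fun h => hkodd (h ▸ dvd_zero 2)
  -- the homomorphism
  let φ : C →* Subgroup.center C :=
    { toFun := fun c => (MonoidHom.transferCenterPow C c) ^ k
      map_one' := by simp
      map_mul' := fun a b => by
        rw [map_mul]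
        refine Commute.mul_pow ?_ k
        exact Subtype.ext
          (Subgroup.mem_center_iff.mp (MonoidHom.transferCenterPow C b).2
            (MonoidHom.transferCenterPow C a : C)) }
  have hφ : ∀ c : C, ((φ c : C) : K) = (c : K) ^ (j * k) := by
    intro c
    simp [φ, pow_mul, hj]
  have hker : ∀ c : C, c ∈ φ.ker ↔ (c : K) ^ (j * k) = 1 := by
    intro c
    rw [MonoidHom.mem_ker, ← hφ]
    constructor
    · intro h; rw [h]; rfl
    · intro h
      apply Subtype.ext; apply Subtype.ext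
      simpa using h
  let O : Subgroup K := φ.ker.map C.subtype
  have hO : ∀ x : K, x ∈ O ↔ x ∈ C ∧ x ^ (j * k) = 1 := by
    intro x
    constructor
    · rintro ⟨c, hc, rfl⟩
      exact ⟨c.2, (hker c).mp hc⟩
    · rintro ⟨hx, hx1⟩
      exact ⟨⟨x, hx⟩, (hker ⟨x, hx⟩).mpr hx1, rfl⟩
  have hOC : O ≤ C := fun x hx => ((hO x).mp hx).1
  have hOn : O.Normal := by
    refine ⟨fun x hx g => ?_⟩
    rw [hO] at hx ⊢
    refine ⟨hCn.conj_mem x hx.1 g, ?_⟩
    rw [conj_pow, hx.2]; simp
  -- `Q ⊓ O = ⊥`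
  have hQO : O ⊓ Q = ⊥ := by
    rw [eq_bot_iff]
    intro x hx
    rw [Subgroup.mem_bot]
    obtain ⟨hxO, hxQ⟩ := Subgroup.mem_inf.mp hx
    have h1 : orderOf x ∣ j * k := orderOf_dvd_of_pow_eq_one ((hO x).mp hxO).2
    obtain ⟨n, hn⟩ := hQ ⟨x, hxQ⟩
    have hn' : x ^ 2 ^ n = 1 := by simpa using congrArg Subtype.val hn
    have h2 : orderOf x ∣ 2 ^ n := orderOf_dvd_of_pow_eq_one hn'
    have hcop : Nat.Coprime (2 ^ n) (j * k) :=
      Nat.Coprime.pow_left n ((Nat.Prime.coprime_iff_not_dvd Nat.prime_two).mpr hmodd)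
    have : orderOf x = 1 := Nat.eq_one_of_dvd_coprimes hcop h2 h1
    exact orderOf_eq_one_iff.mp this
  -- `|O|` odd
  have hOodd : (Nat.card O).Coprime 2 := by
    rw [Nat.coprime_comm, Nat.Prime.coprime_iff_not_dvd Nat.prime_two]
    intro h2
    obtain ⟨x, hx⟩ := exists_prime_orderOf_dvd_card' 2 h2
    have h1 : (x : K) ^ (j * k) = 1 := ((hO x).mp x.2).2
    have h3 : orderOf (x : K) ∣ j * k := orderOf_dvd_of_pow_eq_one h1
    rw [Subgroup.orderOf_coe, hx] at h3
    exact hmodd h3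
  -- `c ^ k ∈ Q` for `c ∈ C`
  have hpowQ : ∀ c ∈ C, c ^ k ∈ Q := by
    intro c hc
    have : (Q.subgroupOf C).Normal := Subgroup.normal_subgroupOf
    have := Subgroup.pow_index_mem (Q.subgroupOf C) (⟨c, hc⟩ : C)
    rw [Subgroup.mem_subgroupOf] at this
    simpa [hk, Subgroup.relIndex] using this
  -- `|C| = |Q| * k`
  have hcardC : Nat.card C = Nat.card Q * k := by
    have h1 := Subgroup.card_mul_index (Q.subgroupOf C)
    have h2 : Nat.card (Q.subgroupOf C) = Nat.card Q :=
      Nat.card_congr (Subgroup.subgroupOfEquivOfLe hQC).toEquiv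
    rw [h2] at h1
    exact h1.symm
  have hsup : C ≤ Q ⊔ O := by
    intro c hc
    obtain ⟨n, hn⟩ := IsPGroup.iff_card.mp hQ
    have hcop : Nat.Coprime (2 ^ n) (j * k) :=
      Nat.Coprime.pow_left n ((Nat.Prime.coprime_iff_not_dvd Nat.prime_two).mpr hmodd)
    have hb := Nat.gcd_eq_gcd_ab (2 ^ n) (j * k)
    rw [hcop.gcd_eq_one] at hb
    have h1 : c ^ (j * k) ∈ Q := by
      rw [mul_comm, pow_mul]
      exact Q.pow_mem (hpowQ c hc) j
    have h2 : c ^ (2 ^ n) ∈ O := by
      rw [hO]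
      refine ⟨C.pow_mem hc _, ?_⟩
      rw [← pow_mul, ← mul_assoc, mul_comm (2 ^ n) j, mul_assoc, ← hn, ← hcardC,
        mul_comm, pow_mul]
      have : (⟨c, hc⟩ : C) ^ Nat.card C = 1 := pow_card_eq_one'
      have := congrArg Subtype.val this
      simp only [Subgroup.coe_pow, Subgroup.coe_one] at this
      rw [this, one_pow]
    have : c = (c ^ (2 ^ n)) ^ (Nat.gcdA (2 ^ n) (j * k)) *
        (c ^ (j * k)) ^ (Nat.gcdB (2 ^ n) (j * k)) := by
      rw [← zpow_natCast, ← zpow_natCast, ← zpow_mul, ← zpow_mul, ← zpow_add]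
      push_cast at hb ⊢
      rw [← hb]; simp
    rw [this, sup_comm]
    exact Subgroup.mul_mem_sup (O.zpow_mem h2 _) (Q.zpow_mem h1 _)
  refine ⟨O, hOn, hOodd, hsup, ?_⟩
  have hCeq : C = Q ⊔ O := le_antisymm hsup (sup_le hQC hOC)
  have h1 : O.relIndex C = Nat.card Q := by
    rw [hCeq, Subgroup.relIndex_sup_right, ← Subgroup.inf_relIndex_right, hQO,
      Subgroup.relIndex_bot_left]
  rw [← Subgroup.relIndex_mul_index hOC, h1, mul_comm]

end Cfsg.Agent.Lib.H7.G85
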