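import Mathlib
import Cfsg.Prelude.Def_Transfer
import Cfsg.Agent.Lib.H1.PGroupBasic

/-!
# S5233 piece D8 (helper7 twin): `P` with `Φ(P) = P'` of order `2` and an elementary abelian
subgroup of index `2` is `D₈ × A`.
-/

set_option autoImplicit false

namespace Cfsg.Agent.Lib.H7.GXS

section PowZ4

variable {P : Type*} [Group P]

/-- `i ↦ ρ ^ i` on `ZMod 4`. -/
def powZ4 (ρ : P) (i : ZMod 4) : P := ρ ^ i.val

theorem powZ4_add (ρ : P) (h : ρ ^ 4 = 1) (i j : ZMod 4) :
    powZ4 ρ (i + j) = powZ4 ρ i * powZ4 ρ j := by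
  unfold powZ4
  rw [ZMod.val_add, ← pow_add, ← pow_eq_pow_mod _ h]

theorem powZ4_zero (ρ : P) : powZ4 ρ 0 = 1 := by
  simp [powZ4]

theorem powZ4_sub (ρ : P) (h : ρ ^ 4 = 1) (i j : ZMod 4) :
    powZ4 ρ (j - i) = (powZ4 ρ i)⁻¹ * powZ4 ρ j := by
  have h1 : powZ4 ρ i * powZ4 ρ (j - i) = powZ4 ρ j := by
    rw [← powZ4_add ρ h]; congr 1; ring
  rw [← h1]; group

theorem powZ4_conj (ρ x : P) (hx : x * ρ = ρ⁻¹ * x) (i : ZMod 4) :
    x * powZ4 ρ i = (powZ4 ρ i)⁻¹ * x := by
  unfold powZ4
  induction i.val with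
  | zero => simp
  | succ n ih =>
    rw [pow_succ, ← mul_assoc, ih, mul_assoc, hx, mul_inv_rev, mul_assoc]
    rw [← mul_assoc, ← mul_assoc]; congr 1
    rw [← mul_inv_rev, ← mul_inv_rev, ← pow_succ, ← pow_succ']

/-- The map `D₈ → P` attached to `x, ρ` with `x² = 1`, `ρ⁴ = 1`, `x ρ = ρ⁻¹ x`. -/
def dihFun (x ρ : P) : DihedralGroup 4 → P
  | DihedralGroup.r i => powZ4 ρ i
  | DihedralGroup.sr i => x * powZ4 ρ i

/-- `dihFun` as a homomorphism. -/
def dihHom (x ρ : P) (hx2 : x * x = 1) (h4 : ρ ^ 4 = 1) (hx : x * ρ = ρ⁻¹ * x) :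
    DihedralGroup 4 →* P :=
  MonoidHom.mk' (dihFun x ρ) (by
    rintro (i | i) (j | j)
    · rw [DihedralGroup.r_mul_r]; exact powZ4_add ρ h4 i j
    · rw [DihedralGroup.r_mul_sr]
      show x * powZ4 ρ (j - i) = powZ4 ρ i * (x * powZ4 ρ j)
      have h1 : powZ4 ρ i * x = x * (powZ4 ρ i)⁻¹ := by
        have := powZ4_conj ρ x hx i
        have h2 : x * powZ4 ρ i * x = (powZ4 ρ i)⁻¹ := by
          rw [this, mul_assoc, hx2, mul_one]
        calc powZ4 ρ i * x = (x * x) * powZ4 ρ i * x := by rw [hx2, one_mul]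
          _ = x * (x * powZ4 ρ i * x) := by group
          _ = x * (powZ4 ρ i)⁻¹ := by rw [h2]
      rw [powZ4_sub ρ h4, ← mul_assoc (powZ4 ρ i), h1]; group
    · rw [DihedralGroup.sr_mul_r]
      show x * powZ4 ρ (i + j) = x * powZ4 ρ i * powZ4 ρ j
      rw [powZ4_add ρ h4, mul_assoc]
    · rw [DihedralGroup.sr_mul_sr]
      show powZ4 ρ (j - i) = x * powZ4 ρ i * (x * powZ4 ρ j)
      have := powZ4_conj ρ x hx i
      rw [powZ4_sub ρ h4, this]
      calc (powZ4 ρ i)⁻¹ * powZ4 ρ j = (powZ4 ρ i)⁻¹ * (x * x) * powZ4 ρ j := by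
            rw [hx2, mul_one]
        _ = (powZ4 ρ i)⁻¹ * x * (x * powZ4 ρ j) := by group)

theorem dihHom_r (x ρ : P) (hx2 : x * x = 1) (h4 : ρ ^ 4 = 1) (hx : x * ρ = ρ⁻¹ * x)
    (i : ZMod 4) : dihHom x ρ hx2 h4 hx (DihedralGroup.r i) = powZ4 ρ i := rfl

theorem dihHom_sr (x ρ : P) (hx2 : x * x = 1) (h4 : ρ ^ 4 = 1) (hx : x * ρ = ρ⁻¹ * x)
    (i : ZMod 4) : dihHom x ρ hx2 h4 hx (DihedralGroup.sr i) = x * powZ4 ρ i := rfl

end PowZ4

/-- D8.  `p = 2`: `P ≅ D₈ × A`. -/
theorem exists_dihedral_decomp {P : Type*} [Group P] [Finite P]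
    (hfr : frattini P = commutator P) (hc : Nat.card (commutator P) = 2)
    (B : Subgroup P) (hBi : B.index = 2) (hBc : ∀ a ∈ B, ∀ b ∈ B, a * b = b * a)
    (hBe : ∀ a ∈ B, a ^ 2 = 1) :
    ∃ (A : Type) (_ : CommGroup A), (∀ a : A, a ^ 2 = 1) ∧ Nonempty (P ≃* DihedralGroup 4 × A) := by
  classical
  -- `P` is a 2-group
  have h2 : IsPGroup 2 P := by
    intro g
    refine ⟨2, ?_⟩
    have hg2 : g * g ∈ B := (Subgroup.mul_mem_iff_of_index_two hBi).2 Iff.rfl
    have h3 := hBe _ hg2
    calc g ^ 2 ^ 2 = (g * g) ^ 2 := by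
          rw [show (2 : ℕ) ^ 2 = 2 * 2 from rfl, pow_mul, pow_two g]
      _ = 1 := h3
  have : Fact (Nat.Prime 2) := ⟨Nat.prime_two⟩
  have hsq : ∀ g : P, g * g ∈ commutator P := fun g => by
    rw [← hfr, ← pow_two]; exact Cfsg.Agent.Lib.H1.isPGroup_pow_mem_frattini h2 g
  -- the nonidentity element `z` of `P'`
  obtain ⟨⟨z, hzmem⟩, hz1', hzu⟩ := (Nat.card_eq_two_iff' (1 : ↥(commutator P))).1 hc
  have hz1 : z ≠ 1 := fun h => hz1' (Subtype.ext h)
  have hZ : ∀ g ∈ commutator P, g = 1 ∨ g = z := by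
    intro g hg
    by_cases h : g = 1
    · exact Or.inl h
    · right
      have := hzu ⟨g, hg⟩ (fun h' => h (congrArg Subtype.val h'))
      exact congrArg Subtype.val this
  have hzz : z * z = 1 := by
    rcases hZ _ ((commutator P).mul_mem hzmem hzmem) with h | h
    · exact h
    · exact absurd (mul_eq_left.mp h) hz1
  have hzinv : z⁻¹ = z := inv_eq_of_mul_eq_one_right hzz
  have hzc : ∀ g : P, g * z = z * g := by
    intro g
    have hn : g * z * g⁻¹ ∈ commutator P :=
      (inferInstance : (commutator P).Normal).conj_mem z hzmem g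
    rcases hZ _ hn with h | h
    · exfalso; apply hz1
      have : g * z = g := by
        calc g * z = g * z * g⁻¹ * g := by group
          _ = g := by rw [h, one_mul]
      exact mul_eq_left.mp this
    · calc g * z = g * z * g⁻¹ * g := by group
        _ = z * g := by rw [h]
  -- commutators are `1` or `z`
  have hcomm : ∀ a b : P, a * b * a⁻¹ * b⁻¹ = 1 ∨ a * b * a⁻¹ * b⁻¹ = z := fun a b =>
    hZ _ (by
      rw [← commutatorElement_def]
      exact Subgroup.commutator_mem_commutator (Subgroup.mem_top a) (Subgroup.mem_top b))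
  -- an element outside `B`
  obtain ⟨x₀, hx₀⟩ : ∃ x : P, x ∉ B := by
    by_contra hcon
    push Not at hcon
    have : B = ⊤ := (Subgroup.eq_top_iff' B).2 hcon
    rw [this, Subgroup.index_top] at hBi
    omega
  have hdec : ∀ (x : P), x ∉ B → ∀ g : P, g ∈ B ∨ ∃ b ∈ B, g = x * b := by
    intro x hx g
    by_cases hg : g ∈ B
    · exact Or.inl hg
    · right
      refine ⟨x⁻¹ * g, ?_, by group⟩
      rw [Subgroup.mul_mem_iff_of_index_two hBi, inv_mem_iff]
      exact ⟨fun h => absurd h hx, fun h => absurd h hg⟩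
  -- some `t ∈ B` does not commute with `x₀`
  obtain ⟨t, htB, hxt₀⟩ : ∃ t ∈ B, x₀ * t ≠ t * x₀ := by
    by_contra hcon
    push Not at hcon
    -- then `P` is abelian
    have hBcen : ∀ b ∈ B, b ∈ Subgroup.center P := by
      intro b hb
      rw [Subgroup.mem_center_iff]
      intro g
      rcases hdec x₀ hx₀ g with hg | ⟨b', hb', rfl⟩
      · exact hBc g hg b hb
      · rw [mul_assoc, hBc b' hb' b hb, ← mul_assoc, hcon b hb, mul_assoc]
    have hxcen : x₀ ∈ Subgroup.center P := by
      rw [Subgroup.mem_center_iff]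
      intro g
      rcases hdec x₀ hx₀ g with hg | ⟨b', hb', rfl⟩
      · exact (hcon g hg).symm
      · rw [mul_assoc, ← hcon b' hb', ← mul_assoc]
    have hcen : Subgroup.center P = ⊤ := by
      rw [Subgroup.eq_top_iff']
      intro g
      rcases hdec x₀ hx₀ g with hg | ⟨b', hb', rfl⟩
      · exact hBcen g hg
      · exact (Subgroup.center P).mul_mem hxcen (hBcen b' hb')
    have := (commutator_eq_bot_iff_center_eq_top P).2 hcen
    rw [this, Subgroup.card_bot] at hc
    omega
  have htt : t * t = 1 := by rw [← pow_two]; exact hBe t htB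
  have htinv : t⁻¹ = t := inv_eq_of_mul_eq_one_right htt
  -- relation `x₀ t = z t x₀`
  have hrel₀ : x₀ * t = z * (t * x₀) := by
    rcases hcomm x₀ t with h | h
    · exfalso; apply hxt₀
      calc x₀ * t = x₀ * t * x₀⁻¹ * t⁻¹ * (t * x₀) := by group
        _ = t * x₀ := by rw [h, one_mul]
    · calc x₀ * t = x₀ * t * x₀⁻¹ * t⁻¹ * (t * x₀) := by group
        _ = z * (t * x₀) := by rw [h]
  -- normalise `x` to an involution
  obtain ⟨x, hxB, hxx, hrel⟩ : ∃ x : P, x ∉ B ∧ x * x = 1 ∧ x * t = z * (t * x) := by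
    rcases hZ _ (hsq x₀) with h | h
    · exact ⟨x₀, hx₀, h, hrel₀⟩
    · refine ⟨t * x₀, ?_, ?_, ?_⟩
      · rw [Subgroup.mul_mem_iff_of_index_two hBi]
        exact fun hh => hx₀ (hh.1 htB)
      · calc t * x₀ * (t * x₀) = t * (x₀ * t) * x₀ := by group
          _ = t * (z * (t * x₀)) * x₀ := by rw [hrel₀]
          _ = t * ((t * x₀) * z) * x₀ := by rw [hzc (t * x₀)]
          _ = (t * t) * x₀ * (z * x₀) := by group
          _ = (t * t) * x₀ * (x₀ * z) := by rw [hzc x₀]
          _ = (t * t) * (x₀ * x₀) * z := by group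
          _ = 1 := by rw [htt, h, one_mul, hzz]
      · calc t * x₀ * t = t * (x₀ * t) := by group
          _ = t * (z * (t * x₀)) := by rw [hrel₀]
          _ = t * ((t * x₀) * z) := by rw [hzc (t * x₀)]
          _ = t * (t * x₀) * z := by group
          _ = z * (t * (t * x₀)) := by rw [hzc]
  have hxinv : x⁻¹ = x := inv_eq_of_mul_eq_one_right hxx
  have hrel' : t * x = z * (x * t) := by
    rw [hrel, ← mul_assoc, hzz, one_mul]
  -- the rotation
  obtain ⟨ρ, hρ⟩ : ∃ ρ : P, ρ = x * t := ⟨_, rfl⟩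
  have hρ2 : ρ * ρ = z := by
    calc ρ * ρ = x * (t * x) * t := by rw [hρ]; group
      _ = x * (z * (x * t)) * t := by rw [hrel']
      _ = x * ((x * t) * z) * t := by rw [hzc (x * t)]
      _ = (x * x) * (t * (z * t)) := by group
      _ = (x * x) * (t * (t * z)) := by rw [hzc t]
      _ = (x * x) * ((t * t) * z) := by group
      _ = z := by rw [hxx, htt, one_mul, one_mul]
  have hρ4 : ρ ^ 4 = 1 := by
    calc ρ ^ 4 = (ρ * ρ) * (ρ * ρ) := by
          simp only [pow_succ, pow_zero, one_mul, mul_assoc]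
      _ = 1 := by rw [hρ2, hzz]
  have hρinv : ρ⁻¹ = t * x := by
    rw [hρ, mul_inv_rev, hxinv, htinv]
  have hxρ : x * ρ = ρ⁻¹ * x := by
    rw [hρinv, hρ]
    calc x * (x * t) = (x * x) * t := by group
      _ = t * (x * x) := by rw [hxx, one_mul, mul_one]
      _ = t * x * x := by group
  -- the centre lies in `B`
  have hxt : x * t ≠ t * x := by
    intro h
    rw [hrel] at h
    exact hz1 (mul_eq_right.mp h)
  have hcenB : Subgroup.center P ≤ B := by
    intro g hg
    by_contra hgB
    rcases hdec g hgB x with hx' | ⟨b, hb, hxb⟩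
    · exact hxB hx'
    · apply hxt
      rw [Subgroup.mem_center_iff] at hg
      calc x * t = g * (b * t) := by rw [hxb]; group
        _ = g * (t * b) := by rw [hBc b hb t htB]
        _ = (g * t) * b := by group
        _ = (t * g) * b := by rw [hg t]
        _ = t * x := by rw [hxb]; group
  -- a maximal subgroup of the centre avoiding `z`
  obtain ⟨H, -, hHmax⟩ := Finite.exists_le_maximal
    (p := fun H : Subgroup P => H ≤ Subgroup.center P ∧ z ∉ H) (a := ⊥)
    ⟨bot_le, fun h => hz1 (Subgroup.mem_bot.1 h)⟩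
  obtain ⟨⟨hHc, hzH⟩, hHm⟩ := hHmax
  have hzcen : z ∈ Subgroup.center P := by
    rw [Subgroup.mem_center_iff]; intro g; exact hzc g
  have hHsplit : ∀ g ∈ Subgroup.center P, g ∈ H ∨ g * z ∈ H := by
    intro g hg
    by_contra hcon
    push Not at hcon
    obtain ⟨hg1, hg2⟩ := hcon
    have hgg : g * g = 1 := by rw [← pow_two]; exact hBe g (hcenB hg)
    have hgc : ∀ a : P, a * g = g * a := fun a => by
      rw [Subgroup.mem_center_iff] at hg; exact hg a
    let H' : Subgroup P :=
      { carrier := {h | h ∈ H ∨ h * g ∈ H}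
        one_mem' := Or.inl H.one_mem
        mul_mem' := by
          rintro a b (ha | ha) (hb | hb)
          · exact Or.inl (H.mul_mem ha hb)
          · right; rw [mul_assoc]; exact H.mul_mem ha hb
          · right
            have : a * b * g = (a * g) * b := by rw [mul_assoc, hgc b, ← mul_assoc]
            rw [this]; exact H.mul_mem ha hb
          · left
            have : a * b = (a * g) * (b * g) := by
              calc a * b = a * b * (g * g) := by rw [hgg, mul_one]
                _ = a * (b * g) * g := by group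
                _ = a * (g * b) * g := by rw [hgc b]
                _ = (a * g) * (b * g) := by group
            rw [this]; exact H.mul_mem ha hb
        inv_mem' := by
          rintro a (ha | ha)
          · exact Or.inl (H.inv_mem ha)
          · right
            have : a⁻¹ * g = (a * g)⁻¹ := by
              have hginv : g⁻¹ = g := inv_eq_of_mul_eq_one_right hgg
              rw [mul_inv_rev, hginv, hgc]
            rw [this]; exact H.inv_mem ha }
    have hH'1 : H ≤ H' := fun h hh => Or.inl hh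
    have hH'2 : H' ≤ Subgroup.center P := by
      rintro a (ha | ha)
      · exact hHc ha
      · have : a = (a * g) * g⁻¹ := by group
        rw [this]
        exact (Subgroup.center P).mul_mem (hHc ha) ((Subgroup.center P).inv_mem hg)
    have hH'3 : z ∉ H' := by
      rintro (h | h)
      · exact hzH h
      · rw [← hzc g] at h; exact hg2 h
    have := hHm ⟨hH'2, hH'3⟩ hH'1
    exact hg1 (this (Or.inr (by rw [hgg]; exact H.one_mem)))
  -- the two homomorphisms
  let f : DihedralGroup 4 →* P := dihHom x ρ hxx hρ4 hxρ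
  have hfcomm : ∀ (d : DihedralGroup 4) (a : ↥H), Commute (f d) (H.subtype a) := by
    intro d a
    have := hHc a.2
    rw [Subgroup.mem_center_iff] at this
    exact this (f d)
  let Ψ : DihedralGroup 4 × ↥H →* P := f.noncommCoprod H.subtype hfcomm
  have hΨ : ∀ (d : DihedralGroup 4) (a : ↥H), Ψ (d, a) = f d * (a : P) := fun d a => rfl
  -- values of `f`
  have hp0 : powZ4 ρ 0 = 1 := powZ4_zero ρ
  have hp1 : powZ4 ρ 1 = ρ := by
    have : (1 : ZMod 4).val = 1 := rfl
    simp only [powZ4, this, pow_one]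
  have hp2 : powZ4 ρ 2 = z := by
    have : (2 : ZMod 4).val = 2 := rfl
    simp only [powZ4, this]; rw [pow_two, hρ2]
  -- central values of `f`
  have hfcen : ∀ d : DihedralGroup 4, f d ∈ Subgroup.center P → d = 1 ∨ f d = z := by
    intro d hd
    rw [Subgroup.mem_center_iff] at hd
    rcases d with i | i
    · -- rotation
      have h1 : x * powZ4 ρ i = (powZ4 ρ i)⁻¹ * x := powZ4_conj ρ x hxρ i
      have h2 : powZ4 ρ i = (powZ4 ρ i)⁻¹ := by
        have h3 : x * powZ4 ρ i = powZ4 ρ i * x := hd x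
        rw [h1] at h3
        exact (mul_right_cancel h3).symm
      have h4 : powZ4 ρ i * powZ4 ρ i = 1 := by
        nth_rewrite 1 [h2]; exact inv_mul_cancel _
      have key : i = 0 ∨ i = 2 := by
        fin_cases i
        · exact Or.inl rfl
        · exfalso
          have : powZ4 ρ (1 : ZMod 4) * powZ4 ρ (1 : ZMod 4) = 1 := h4
          rw [hp1, hρ2] at this; exact hz1 this
        · exact Or.inr rfl
        · exfalso
          have h5 : powZ4 ρ (3 : ZMod 4) = ρ * z := by
            have : (3 : ZMod 4) = 1 + 2 := by decide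
            rw [this, powZ4_add ρ hρ4, hp1, hp2]
          have : powZ4 ρ (3 : ZMod 4) * powZ4 ρ (3 : ZMod 4) = 1 := h4
          rw [h5] at this
          have h6 : ρ * z * (ρ * z) = z := by
            calc ρ * z * (ρ * z) = ρ * (z * ρ) * z := by group
              _ = ρ * (ρ * z) * z := by rw [hzc ρ]
              _ = (ρ * ρ) * (z * z) := by group
              _ = z := by rw [hρ2, hzz, mul_one]
          rw [h6] at this; exact hz1 this
      rcases key with rfl | rfl
      · left; exact DihedralGroup.r_zero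
      · right; exact hp2
    · -- reflection: does not commute with `ρ`
      exfalso
      have h1 : x * powZ4 ρ i * ρ = ρ * (x * powZ4 ρ i) := (hd ρ).symm
      have h2 : powZ4 ρ i * ρ = ρ * powZ4 ρ i := by
        unfold powZ4; rw [← pow_succ, ← pow_succ']
      have h3 : x * powZ4 ρ i * ρ = ρ⁻¹ * (x * powZ4 ρ i) := by
        rw [mul_assoc, h2, ← mul_assoc, hxρ, mul_assoc]
      rw [h3] at h1
      have h4 : ρ⁻¹ = ρ := mul_right_cancel h1
      have h5 : ρ * ρ = 1 := by nth_rewrite 1 [← h4]; exact inv_mul_cancel _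
      rw [hρ2] at h5; exact hz1 h5
  -- injectivity
  have hinj : Function.Injective Ψ := by
    rw [injective_iff_map_eq_one]
    rintro ⟨d, a⟩ hda
    rw [hΨ] at hda
    have h1 : f d = (a : P)⁻¹ := eq_inv_of_mul_eq_one_left hda
    have h2 : f d ∈ H := by rw [h1]; exact H.inv_mem a.2
    rcases hfcen d (hHc h2) with h3 | h3
    · subst h3
      rw [map_one, one_mul] at hda
      exact Prod.ext rfl (Subtype.ext hda)
    · rw [h3] at h2; exact absurd h2 hzH
  -- surjectivity
  have hsurj : Function.Surjective Ψ := by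
    intro g
    rw [← MonoidHom.mem_range]
    have hxr : x ∈ Ψ.range := ⟨(DihedralGroup.sr 0, 1), by
      rw [hΨ]; show x * powZ4 ρ 0 * ((1 : ↥H) : P) = x
      rw [hp0, mul_one, Subgroup.coe_one, mul_one]⟩
    have htr : t ∈ Ψ.range := ⟨(DihedralGroup.sr 1, 1), by
      rw [hΨ]; show x * powZ4 ρ 1 * ((1 : ↥H) : P) = t
      rw [hp1, Subgroup.coe_one, mul_one, hρ, ← mul_assoc, hxx, one_mul]⟩
    have hzr : z ∈ Ψ.range := ⟨(DihedralGroup.r 2, 1), by
      rw [hΨ]; show powZ4 ρ 2 * ((1 : ↥H) : P) = z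
      rw [hp2, Subgroup.coe_one, mul_one]⟩
    have hHr : ∀ a ∈ H, a ∈ Ψ.range := fun a ha => ⟨(1, ⟨a, ha⟩), by
      rw [hΨ, map_one, one_mul]⟩
    have hcr : ∀ c ∈ Subgroup.center P, c ∈ Ψ.range := by
      intro c hcc
      rcases hHsplit c hcc with h | h
      · exact hHr c h
      · have : c = (c * z) * z := by rw [mul_assoc, hzz, mul_one]
        rw [this]; exact Ψ.range.mul_mem (hHr _ h) hzr
    have hBr : ∀ b ∈ B, b ∈ Ψ.range := by
      intro b hb
      -- `b` central or `t * b` central
      have hcenb : ∀ c ∈ B, x * c = c * x → c ∈ Subgroup.center P := by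
        intro c hcB hcx
        rw [Subgroup.mem_center_iff]
        intro g'
        rcases hdec x hxB g' with hg | ⟨b', hb', rfl⟩
        · exact hBc g' hg c hcB
        · rw [mul_assoc, hBc b' hb' c hcB, ← mul_assoc, hcx, mul_assoc]
      by_cases hbx : x * b = b * x
      · exact hcr b (hcenb b hb hbx)
      · have hrelb : x * b = z * (b * x) := by
          rcases hcomm x b with h | h
          · exfalso; apply hbx
            calc x * b = x * b * x⁻¹ * b⁻¹ * (b * x) := by group
              _ = b * x := by rw [h, one_mul]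
          · calc x * b = x * b * x⁻¹ * b⁻¹ * (b * x) := by group
              _ = z * (b * x) := by rw [h]
        have htb : x * (t * b) = (t * b) * x := by
          calc x * (t * b) = (x * t) * b := by group
            _ = z * (t * x) * b := by rw [hrel]
            _ = z * t * (x * b) := by group
            _ = z * t * (z * (b * x)) := by rw [hrelb]
            _ = z * (t * z) * (b * x) := by group
            _ = z * (z * t) * (b * x) := by rw [hzc t]
            _ = (z * z) * (t * b * x) := by group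
            _ = (t * b) * x := by rw [hzz, one_mul]
        have h1 := hcr (t * b) (hcenb (t * b) (B.mul_mem htB hb) htb)
        have : b = t * (t * b) := by rw [← mul_assoc, htt, one_mul]
        rw [this]; exact Ψ.range.mul_mem htr h1
    rcases hdec x hxB g with hg | ⟨b, hb, rfl⟩
    · exact hBr g hg
    · exact Ψ.range.mul_mem hxr (hBr b hb)
  -- the abstract copy of `H`
  have hHcomm : ∀ a b : ↥H, a * b = b * a := fun a b => Subtype.ext (by
    have := hHc a.2
    rw [Subgroup.mem_center_iff] at this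
    exact (this b.1).symm)
  let eM : Shrink.{0} ↥H ≃* ↥H := Shrink.mulEquiv
  have hAcomm : ∀ a b : Shrink.{0} ↥H, a * b = b * a := fun a b => by
    apply eM.injective
    rw [map_mul, map_mul]
    exact hHcomm _ _
  let instA : CommGroup (Shrink.{0} ↥H) :=
    { (inferInstance : Group (Shrink.{0} ↥H)) with mul_comm := hAcomm }
  refine ⟨Shrink.{0} ↥H, instA, ?_, ⟨?_⟩⟩
  · intro a
    have h1 : eM (a * a) = 1 := by
      rw [map_mul]
      apply Subtype.ext
      rw [Subgroup.coe_mul, Subgroup.coe_one, ← pow_two]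
      exact hBe _ (hcenB (hHc (eM a).2))
    have h2 : a * a = 1 := eM.injective (by rw [h1, map_one])
    rw [pow_two]
    exact h2
  · exact (MulEquiv.ofBijective Ψ ⟨hinj, hsurj⟩).symm.trans
      (MulEquiv.prodCongr (MulEquiv.refl _) eM.symm)

end Cfsg.Agent.Lib.H7.GXS
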