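import Mathlib
import Cfsg.Agent.Lib.H7.GorT9
import Cfsg.Agent.Lib.H7.BG7d
import Cfsg.Agent.S1282

/-! # The transitivity theorem for groups with `p`-constrained `p`-locals (helper7) -/

set_option autoImplicit false
set_option linter.unusedSectionVars false
set_option linter.style.haveILetI false
set_option linter.deprecated false
set_option linter.unusedVariables false
open scoped commutatorElement
open Cfsg

namespace Cfsg.Agent.Lib.H7.GorT

open Cfsg.Agent.Lib.H19 (IsPiCard)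
open Cfsg.Agent.Lib.H7 (map_conj_map_conj map_conj_one)
open Cfsg.Agent.Lib.H7.BG7 (IsMaxInv exists_isMaxInv_ge isMaxInv_map_conj piCoreOf_le
  le_normalizer_piCoreOf piCoreOf_isPiCard coprime_of_isPiCard)

universe u
variable {G : Type u} [Group G] [Finite G]

theorem class_two {P : Type*} [Group P] [hn : Group.IsNilpotent P]
    (h : Group.nilpotencyClass P ≤ 2) (x y z : P) : ⁅⁅x, y⁆, z⁆ = 1 := by
  have h1 : (⊤ : Subgroup P).lowerCentralSeries 2 = ⊥ := by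
    rw [eq_bot_iff, ← Subgroup.lowerCentralSeries_nilpotencyClass (G := P)]
    exact Subgroup.lowerCentralSeries_antitone _ h
  have h2 : ⁅⁅x, y⁆, z⁆ ∈ (⊤ : Subgroup P).lowerCentralSeries 2 := by
    rw [Subgroup.lowerCentralSeries_succ, Subgroup.lowerCentralSeries_succ,
      Subgroup.lowerCentralSeries_zero]
    exact Subgroup.commutator_mem_commutator
      (Subgroup.commutator_mem_commutator (Subgroup.mem_top x) (Subgroup.mem_top y))
      (Subgroup.mem_top z)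
  rw [h1, Subgroup.mem_bot] at h2
  exact h2

theorem le_normalizer_sup {E X Y : Subgroup G} (hX : E ≤ Subgroup.normalizer (X : Set G))
    (hY : E ≤ Subgroup.normalizer (Y : Set G)) :
    E ≤ Subgroup.normalizer ((X ⊔ Y : Subgroup G) : Set G) := by
  intro e he
  rw [Subgroup.mem_normalizer_iff_map_conj_eq, Subgroup.map_sup,
    Subgroup.mem_normalizer_iff_map_conj_eq.1 (hX he),
    Subgroup.mem_normalizer_iff_map_conj_eq.1 (hY he)]

/-- The data needed for the transitivity argument. -/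
structure TransSetup (p : ℕ) (E : Subgroup G) : Prop where
  abelian : ∀ x ∈ E, ∀ y ∈ E, x * y = y * x
  /-- `E`-invariant `p'`-subgroups of `C_G(a)` lie in `O_{p'}(C_G(a))` -/
  local_core : ∀ a ∈ E, a ≠ 1 → ∀ Y : Subgroup G, Y ≤ Subgroup.centralizer {a} →
    (Nat.card Y).Coprime p → E ≤ Subgroup.normalizer (Y : Set G) →
    Y ≤ piCoreOf (primesNotDvd p) (Subgroup.centralizer {a})
  /-- `p'`-subgroups of `C_G(E)` lie in `O_{p'}(C_G(E))` -/
  global_core : ∀ Y : Subgroup G, Y ≤ Subgroup.centralizer (E : Set G) →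
    (Nat.card Y).Coprime p → Y ≤ piCoreOf (primesNotDvd p) (Subgroup.centralizer (E : Set G))

theorem TransSetup.conj {p : ℕ} [hp : Fact p.Prime] {E : Subgroup G} (hS : TransSetup p E)
    (hEp : IsPGroup p E) {A : Subgroup G} (hAE : A ≤ E) (hA : IsElementaryAbelian p A)
    (hA3 : p ^ 3 ≤ Nat.card A) {q : ℕ} [hq : Fact q.Prime] (hqp : q ≠ p) :
    ∀ (n : ℕ) (Q₁ Q₂ : Subgroup G), IsMaxInv E q Q₁ → IsMaxInv E q Q₂ →
      Nat.card G - Nat.card (Q₁ ⊓ Q₂ : Subgroup G) ≤ n →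
      ∃ k ∈ piCoreOf (primesNotDvd p) (Subgroup.centralizer (E : Set G)),
        Q₁.map (MulAut.conj k).toMonoidHom = Q₂ := by
  intro n
  induction n using Nat.strong_induction_on with
  | _ n ih =>
  intro Q₁ Q₂ hQ₁ hQ₂ hn
  obtain ⟨hQ₁q, hQ₁E, hQ₁max⟩ := id hQ₁
  obtain ⟨hQ₂q, hQ₂E, hQ₂max⟩ := id hQ₂
  set KE := piCoreOf (primesNotDvd p) (Subgroup.centralizer (E : Set G)) with hKE
  by_cases h1 : Q₁ ⊓ Q₂ = Q₁
  · have hle : Q₁ ≤ Q₂ := inf_eq_left.1 h1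
    have := hQ₁max Q₂ hQ₂q hQ₂E hle
    exact ⟨1, Subgroup.one_mem _, by rw [map_conj_one, this]⟩
  by_cases h2 : Q₁ ⊓ Q₂ = Q₂
  · have hle : Q₂ ≤ Q₁ := inf_eq_right.1 h2
    have := hQ₂max Q₁ hQ₁q hQ₁E hle
    exact ⟨1, Subgroup.one_mem _, by rw [map_conj_one, this]⟩
  set D : Subgroup G := Q₁ ⊓ Q₂ with hD
  have hDq : IsPGroup q D := hQ₁q.to_le inf_le_left
  have hED : E ≤ Subgroup.normalizer (D : Set G) :=
    Cfsg.Agent.Lib.H7.le_normalizer_inf hQ₁E hQ₂E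
  have hqcop : ∀ {L : Subgroup G}, IsPGroup q L → (Nat.card L).Coprime p := by
    intro L hL
    obtain ⟨k, hk⟩ := IsPGroup.iff_card.1 hL
    rw [hk]
    exact Nat.Coprime.pow_left k ((Nat.coprime_primes hq.out hp.out).2 hqp)
  obtain ⟨a, haA, ha1, hR₁, hR₂⟩ := Cfsg.Agent.S1282.result p A hA hA3 q hqp Q₁ Q₂ hQ₁q hQ₂q
    (hAE.trans hQ₁E) (hAE.trans hQ₂E) h1 h2
  have haE : a ∈ E := hAE haA
  set Ca : Subgroup G := Subgroup.centralizer {a} with hCa
  have hECa : E ≤ Ca := by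
    intro e he
    rw [hCa, Subgroup.mem_centralizer_iff]
    intro y hy
    rw [Set.mem_singleton_iff] at hy
    rw [hy]; exact hS.abelian _ haE _ he
  set θ : Subgroup G := piCoreOf (primesNotDvd p) Ca with hθ
  have hEθ : E ≤ Subgroup.normalizer (θ : Set G) := hECa.trans (le_normalizer_piCoreOf _ _)
  have hθcop : (Nat.card θ).Coprime p :=
    (coprime_of_isPiCard p (piCoreOf_isPiCard _ _)).symm
  have hENCa : E ≤ Subgroup.normalizer (Ca : Set G) := hECa.trans Subgroup.le_normalizer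
  have hEND : E ≤ Subgroup.normalizer ((Subgroup.normalizer (D : Set G) : Subgroup G) : Set G) :=
    hED.trans Subgroup.le_normalizer
  set R₁ : Subgroup G := Subgroup.normalizer (D : Set G) ⊓ Q₁ ⊓ Ca with hR₁def
  set R₂ : Subgroup G := Subgroup.normalizer (D : Set G) ⊓ Q₂ ⊓ Ca with hR₂def
  have hER₁ : E ≤ Subgroup.normalizer (R₁ : Set G) :=
    Cfsg.Agent.Lib.H7.le_normalizer_inf (Cfsg.Agent.Lib.H7.le_normalizer_inf hEND hQ₁E) hENCa
  have hER₂ : E ≤ Subgroup.normalizer (R₂ : Set G) :=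
    Cfsg.Agent.Lib.H7.le_normalizer_inf (Cfsg.Agent.Lib.H7.le_normalizer_inf hEND hQ₂E) hENCa
  have hR₁q : IsPGroup q R₁ := hQ₁q.to_le (inf_le_left.trans inf_le_right)
  have hR₂q : IsPGroup q R₂ := hQ₂q.to_le (inf_le_left.trans inf_le_right)
  have hR₁θ : R₁ ≤ θ := hS.local_core a haE ha1 R₁ inf_le_right (hqcop hR₁q) hER₁
  have hR₂θ : R₂ ≤ θ := hS.local_core a haE ha1 R₂ inf_le_right (hqcop hR₂q) hER₂
  set M : Subgroup G := θ ⊓ Subgroup.normalizer (D : Set G) with hM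
  have hEM : E ≤ Subgroup.normalizer (M : Set G) := Cfsg.Agent.Lib.H7.le_normalizer_inf hEθ hEND
  have hMD : M ≤ Subgroup.normalizer (D : Set G) := inf_le_right
  set L : Subgroup G := D ⊔ M with hL
  have hEL : E ≤ Subgroup.normalizer (L : Set G) := le_normalizer_sup hED hEM
  have hLcop : (Nat.card L).Coprime p := by
    have h3 := Cfsg.Agent.Lib.H7.card_sup_dvd_mul_of_le_normalizer hMD
    apply Nat.Coprime.coprime_dvd_left h3
    apply Nat.Coprime.mul_left (hqcop hDq)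
    exact Nat.Coprime.coprime_dvd_left (Subgroup.card_dvd_of_le inf_le_left) hθcop
  have hEsolv : Group.IsSolvable ↥E := by
    haveI := hEp.isNilpotent
    infer_instance
  have hact : Cfsg.Agent.Lib.H1.CoprimeAction E L := by
    refine ⟨hEL, ?_, Or.inl hEsolv⟩
    obtain ⟨k, hk⟩ := IsPGroup.iff_card.1 hEp
    rw [hk]
    exact (Nat.Coprime.pow_right k hLcop).symm
  have hU₁L : R₁ ⊔ D ≤ L := sup_le (le_sup_of_le_right (le_inf hR₁θ (inf_le_left.trans inf_le_left)))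
    le_sup_left
  have hU₂L : R₂ ⊔ D ≤ L := sup_le (le_sup_of_le_right (le_inf hR₂θ (inf_le_left.trans inf_le_left)))
    le_sup_left
  have hU₁Q : R₁ ⊔ D ≤ Q₁ := sup_le (inf_le_left.trans inf_le_right) inf_le_left
  have hU₂Q : R₂ ⊔ D ≤ Q₂ := sup_le (inf_le_left.trans inf_le_right) inf_le_right
  obtain ⟨S₁, hS₁, hUS₁, hES₁⟩ := Cfsg.Agent.Lib.H1.coprime_invariant_psubgroup_le_sylow hact
    hU₁L (hQ₁q.to_le hU₁Q) (le_normalizer_sup hER₁ hED)
  obtain ⟨S₂, hS₂, hUS₂, hES₂⟩ := Cfsg.Agent.Lib.H1.coprime_invariant_psubgroup_le_sylow hact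
    hU₂L (hQ₂q.to_le hU₂Q) (le_normalizer_sup hER₂ hED)
  obtain ⟨c, hc, hcS⟩ := Cfsg.Agent.Lib.H1.coprime_invariant_sylow_conj hact hS₁ hS₂ hES₁ hES₂
  have hcS' : S₁.map (MulAut.conj c).toMonoidHom = S₂ := hcS
  -- `c` lies in `KE`
  have hcKE : c ∈ KE := by
    have hzc : Subgroup.zpowers c ≤ L := by
      rw [Subgroup.zpowers_le]; exact hc.1
    apply hS.global_core (Subgroup.zpowers c)
    · rw [Subgroup.zpowers_le]; exact hc.2
    · exact Nat.Coprime.coprime_dvd_left (Subgroup.card_dvd_of_le hzc) hLcop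
    · exact Subgroup.mem_zpowers c
  have hcC : c ∈ Subgroup.centralizer (E : Set G) := hc.2
  obtain ⟨T₁, hT₁, hST₁⟩ := exists_isMaxInv_ge hS₁.isPGroup hES₁
  obtain ⟨T₂, hT₂, hST₂⟩ := exists_isMaxInv_ge hS₂.isPGroup hES₂
  have hG' : ∀ K : Subgroup G, Nat.card K ≤ Nat.card G := fun K => Subgroup.card_le_card_group K
  -- strict growth
  have grow : ∀ {R V : Subgroup G}, ¬ R ≤ D → R ⊔ D ≤ V → Nat.card D < Nat.card V := by
    intro R V hRD hRV
    obtain ⟨x, hxR, hxD⟩ := SetLike.not_le_iff_exists.1 hRD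
    exact Cfsg.Agent.Lib.H7.card_lt_card_of_le_of_mem_of_notMem (le_sup_right.trans hRV)
      (hRV (Subgroup.mem_sup_left hxR)) hxD
  have g₁ : Nat.card D < Nat.card (Q₁ ⊓ T₁ : Subgroup G) :=
    grow hR₁ (le_inf hU₁Q (hUS₁.trans hST₁))
  have g₂ : Nat.card D < Nat.card (Q₂ ⊓ T₂ : Subgroup G) :=
    grow hR₂ (le_inf hU₂Q (hUS₂.trans hST₂))
  have hT₁c := isMaxInv_map_conj hT₁ hcC
  have g₃ : Nat.card D < Nat.card (T₁.map (MulAut.conj c).toMonoidHom ⊓ T₂ : Subgroup G) := by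
    apply grow hR₂
    refine le_inf ?_ (hUS₂.trans hST₂)
    refine hUS₂.trans ?_
    rw [← hcS']
    exact Subgroup.map_mono hST₁
  obtain ⟨k₁, hk₁, hk₁Q⟩ := ih (Nat.card G - Nat.card (Q₁ ⊓ T₁ : Subgroup G))
    (by have := hG' (Q₁ ⊓ T₁); have := hG' D; omega) Q₁ T₁ hQ₁ hT₁ le_rfl
  obtain ⟨k₂, hk₂, hk₂Q⟩ := ih (Nat.card G - Nat.card (Q₂ ⊓ T₂ : Subgroup G))
    (by have := hG' (Q₂ ⊓ T₂); have := hG' D; omega) Q₂ T₂ hQ₂ hT₂ le_rfl
  obtain ⟨k₃, hk₃, hk₃Q⟩ := ih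
    (Nat.card G - Nat.card (T₁.map (MulAut.conj c).toMonoidHom ⊓ T₂ : Subgroup G))
    (by have := hG' (T₁.map (MulAut.conj c).toMonoidHom ⊓ T₂); have := hG' D; omega) _ T₂ hT₁c hT₂
    le_rfl
  refine ⟨k₂⁻¹ * (k₃ * (c * k₁)), ?_, ?_⟩
  · exact Subgroup.mul_mem _ (Subgroup.inv_mem _ hk₂) (Subgroup.mul_mem _ hk₃
      (Subgroup.mul_mem _ hcKE hk₁))
  · rw [← map_conj_map_conj, ← map_conj_map_conj, ← map_conj_map_conj, hk₁Q, hk₃Q, ← hk₂Q,
      map_conj_map_conj, inv_mul_cancel, map_conj_one]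

end Cfsg.Agent.Lib.H7.GorT
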