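import Mathlib
import Cfsg.Agent.Lib.H7.GorT10
import Cfsg.Agent.Lib.H7.BG7c

/-! # The transitivity theorem: building the setup from `p`-constrained `p`-locals (helper7) -/

set_option autoImplicit false
set_option linter.unusedSectionVars false
set_option linter.style.haveILetI false
set_option linter.deprecated false
set_option linter.unusedVariables false
open scoped commutatorElement
open Cfsg

namespace Cfsg.Agent.Lib.H7.GorT

universe u
variable {G : Type u} [Group G] [Finite G]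

theorem transSetup_of_constrained (p : ℕ) [hp : Fact p.Prime]
    (hloc : ∀ T : Subgroup G, IsPGroup p T → T ≠ ⊥ →
      IsPConstrained p ↥(Subgroup.normalizer (T : Set G)))
    (hcase : p ≠ 2 ∨ ∀ S : Subgroup G, IsPGroup p S →
      ∀ x ∈ S, ∀ y ∈ S, ∀ z ∈ S, ⁅⁅x, y⁆, z⁆ = 1)
    (E : Subgroup G) (hEp : IsPGroup p E) (hEc : ∀ x ∈ E, ∀ y ∈ E, x * y = y * x)
    (hE1 : E ≠ ⊥)
    (hEfull : ∀ x ∈ Subgroup.centralizer (E : Set G), IsPGroup p (Subgroup.zpowers x) → x ∈ E) :
    TransSetup p E := by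
  refine ⟨hEc, ?_, ?_⟩
  · intro a haE ha1 Y hY hYcop hEY
    have hza : Subgroup.zpowers a ≤ E := (Subgroup.zpowers_le).2 haE
    have hX := hloc (Subgroup.zpowers a) (hEp.to_le hza) (by
      rw [Ne, Subgroup.zpowers_eq_bot]; exact ha1)
    have hCeq := Cfsg.Agent.Lib.H7.centralizer_singleton_eq_centralizer_zpowers a
    have hECa : E ≤ Subgroup.centralizer {a} := by
      intro e he
      rw [Subgroup.mem_centralizer_iff]
      intro y hy
      rw [Set.mem_singleton_iff] at hy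
      rw [hy]; exact hEc _ haE _ he
    have hCX : Subgroup.centralizer {a} ≤ Subgroup.normalizer ((Subgroup.zpowers a : Subgroup G) : Set G) := by
      rw [hCeq]; exact Subgroup.centralizer_le_normalizer _
    have hXC : Subgroup.normalizer ((Subgroup.zpowers a : Subgroup G) : Set G) ≤
        Subgroup.normalizer ((Subgroup.centralizer {a} : Subgroup G) : Set G) := by
      rw [hCeq]; exact Cfsg.Agent.Lib.H7.BG7.normalizer_le_normalizer_centralizer _
    exact le_piCoreOf_of_invariant _ hX _ hCX hXC E (hECa.trans hCX) hEp hEc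
      (fun x hx => hEfull x hx.2) Y hY hYcop hEY hcase
  · intro Y hY hYcop
    have hX := hloc E hEp hE1
    have hEY : E ≤ Subgroup.normalizer (Y : Set G) :=
      (Subgroup.le_centralizer_iff.1 hY).trans (Subgroup.centralizer_le_normalizer _)
    have hEX : E ≤ Subgroup.normalizer (E : Set G) := Subgroup.le_normalizer
    exact le_piCoreOf_of_invariant _ hX _ (Subgroup.centralizer_le_normalizer _)
      (Cfsg.Agent.Lib.H7.BG7.normalizer_le_normalizer_centralizer _) E hEX hEp hEc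
      (fun x hx => hEfull x hx.2) Y hY hYcop hEY hcase

/-- The transitivity theorem (statement S1480, in `IsMaxInv` form). -/
theorem transitivity_thm (p : ℕ) [hp : Fact p.Prime]
    (hloc : ∀ T : Subgroup G, IsPGroup p T → T ≠ ⊥ →
      IsPConstrained p ↥(Subgroup.normalizer (T : Set G)))
    (hcase : p ≠ 2 ∨ ∀ S : Subgroup G, IsPGroup p S →
      ∀ x ∈ S, ∀ y ∈ S, ∀ z ∈ S, ⁅⁅x, y⁆, z⁆ = 1)
    (E : Subgroup G) (hEp : IsPGroup p E) (hEc : ∀ x ∈ E, ∀ y ∈ E, x * y = y * x)
    (hE3 : ∃ A : Subgroup G, A ≤ E ∧ IsElementaryAbelian p A ∧ p ^ 3 ≤ Nat.card A)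
    (hEfull : ∀ x ∈ Subgroup.centralizer (E : Set G), IsPGroup p (Subgroup.zpowers x) → x ∈ E)
    (q : ℕ) [hq : Fact q.Prime] (hqp : q ≠ p) (Q₁ Q₂ : Subgroup G)
    (hQ₁ : Cfsg.Agent.Lib.H7.BG7.IsMaxInv E q Q₁) (hQ₂ : Cfsg.Agent.Lib.H7.BG7.IsMaxInv E q Q₂) :
    ∃ k ∈ piCoreOf (primesNotDvd p) (Subgroup.centralizer (E : Set G)),
      Q₁.map (MulAut.conj k).toMonoidHom = Q₂ := by
  obtain ⟨A, hAE, hA, hA3⟩ := hE3
  have hE1 : E ≠ ⊥ := by
    rintro rfl
    have h1 : A = ⊥ := le_bot_iff.1 hAE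
    rw [h1, Subgroup.card_bot] at hA3
    have : 1 < p ^ 3 := Nat.one_lt_pow (by norm_num) hp.out.one_lt
    omega
  have hS := transSetup_of_constrained p hloc hcase E hEp hEc hE1 hEfull
  exact hS.conj hEp hAE hA hA3 hqp _ Q₁ Q₂ hQ₁ hQ₂ le_rfl

end Cfsg.Agent.Lib.H7.GorT
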