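import Cfsg.Agent.Lib.H13.HSDefs2

/-!
# S2535 piece A5-E (helper7): `A_5` has no subgroup of index 3
-/

namespace Cfsg.Agent.Lib.H7.HS
open Equiv MulAction Cfsg.Agent.Lib.H13.HS
open scoped Pointwise

/-- a simple group with a subgroup of index `k > 1` has order dividing `k!`. -/
theorem a5e_card_dvd_factorial {A : Type*} [Group A] [Finite A] [IsSimpleGroup A] (K : Subgroup A)
    (hK : K.index ≠ 1) : Nat.card A ∣ (K.index).factorial := by
  have h : K.normalCore.index ∣ (K.index).factorial := by
    rw [Subgroup.normalCore_eq_ker, Subgroup.index_ker, Subgroup.index_eq_card, ← Nat.card_perm]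
    exact Subgroup.card_subgroup_dvd_card (toPermHom A (A ⧸ K)).range
  rcases (K.normalCore_normal).eq_bot_or_eq_top with h0 | h1
  · rwa [h0, Subgroup.index_bot] at h
  · exfalso
    apply hK
    have : K = ⊤ := top_le_iff.1 (h1 ▸ K.normalCore_le)
    rw [this, Subgroup.index_top]

set_option linter.unusedVariables false in
/-- A5-E: A_5 has no subgroup of index 3 (A_5 simple; normalCore = kernel of the action on the 3 cosets,
image in a group of order 6). -/
theorem a5_no_index_three {α : Type*} [Finite α] (h5 : Nat.card α = 5) (M : Subgroup (Perm α))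
    (hle : M ≤ altSub α) (h : M.relIndex (altSub α) = 3) : False := by
  let _ : Fintype α := Fintype.ofFinite α
  let _ : DecidableEq α := Classical.decEq α
  have hA : altSub α = alternatingGroup α := altSub_eq α
  rw [hA] at h
  have : IsSimpleGroup (alternatingGroup α) := alternatingGroup.isSimpleGroup (by omega)
  have : Nontrivial α := by
    apply (Finite.one_lt_card_iff_nontrivial).1; omega
  have hcard : Nat.card (alternatingGroup α) = 60 := by
    rw [nat_card_alternatingGroup, h5]; decide
  have hd := a5e_card_dvd_factorial (M.subgroupOf (alternatingGroup α)) (by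
    change M.relIndex (alternatingGroup α) ≠ 1
    omega)
  change Nat.card (alternatingGroup α) ∣ (M.relIndex (alternatingGroup α)).factorial at hd
  rw [h, hcard] at hd
  revert hd; decide

end Cfsg.Agent.Lib.H7.HS
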