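import Mathlib
import Cfsg.Agent.Lib.H7.InvCent4
import Cfsg.Agent.Lib.H8.CNSolv

set_option autoImplicit false
open Cfsg

namespace Cfsg.Agent.Lib.H7.InvCent

open Cfsg.Agent.Lib.H7

universe u

variable {H : Type u} [Group H] [Finite H]

section quot

variable {Y : Subgroup H} [hYn : Y.Normal]

/-- `C_Q(F(Q)) ≤ F(Q)` for `Q = H / O₂(H)`. -/
theorem Hyp.centralizer_fitting_quotient_le (h : Hyp H) :
    Subgroup.centralizer (fittingSubgroup (H ⧸ Y) : Set (H ⧸ Y)) ≤ fittingSubgroup (H ⧸ Y) := by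
  have := h.sol
  have : Group.IsSolvable (H ⧸ Y) :=
    Group.isSolvable_of_surjective (f := QuotientGroup.mk' Y) (QuotientGroup.mk'_surjective Y)
  exact centralizer_fittingSubgroup_le_of_isSolvable (H ⧸ Y)

/-- The product of two involutions of `H / O₂(H)` lies in `F(H / O₂(H))`. -/
theorem Hyp.mul_mem_fitting (h : Hyp H) (hY : Y = pCore 2 H) {e₁ e₂ : H ⧸ Y}
    (he₁ : orderOf e₁ = 2) (he₂ : orderOf e₂ = 2) : e₁ * e₂ ∈ fittingSubgroup (H ⧸ Y) := by
  apply h.centralizer_fitting_quotient_le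
  rw [Subgroup.mem_centralizer_iff]
  intro f hf
  have h1 := h.conj_eq_inv_of_mem_fitting hY he₂ hf
  have h2 := h.conj_eq_inv_of_mem_fitting hY he₁ (Subgroup.inv_mem _ hf)
  rw [inv_inv] at h2
  have h3 : e₁ * e₂ * f * (e₁ * e₂)⁻¹ = f := by
    calc e₁ * e₂ * f * (e₁ * e₂)⁻¹ = e₁ * (e₂ * f * e₂⁻¹) * e₁⁻¹ := by group
      _ = f := by rw [h1, h2]
  calc f * (e₁ * e₂) = (e₁ * e₂ * f * (e₁ * e₂)⁻¹) * (e₁ * e₂) := by rw [h3]
    _ = e₁ * e₂ * f := by group

/-- `F(H / O₂(H))` lies in the image of a Hall `2'`-subgroup. -/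
theorem fitting_quotient_le_map (hY : Y = pCore 2 H) (X : Subgroup H) (hXodd : Odd (Nat.card X))
    (hXidx : ∃ k : ℕ, X.index = 2 ^ k) :
    fittingSubgroup (H ⧸ Y) ≤ X.map (QuotientGroup.mk' Y) := by
  set π := QuotientGroup.mk' Y with hπ
  set F := fittingSubgroup (H ⧸ Y) with hF
  have hFn : F.Normal := fittingSubgroup_normal
  have hFodd : Odd (Nat.card F) := odd_card_fitting_quotient Y hY
  have hXodd' : Odd (Nat.card (X.map π)) :=
    Odd.of_dvd_nat hXodd (Subgroup.card_map_dvd X π)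
  obtain ⟨k, hk⟩ := hXidx
  have hidx : (X.map π).index ∣ 2 ^ k := by
    rw [← hk]
    exact Subgroup.index_map_dvd X (QuotientGroup.mk'_surjective Y)
  have hJ : Odd (Nat.card (X.map π ⊔ F : Subgroup (H ⧸ Y))) :=
    Odd.of_dvd_nat (hXodd'.mul hFodd) (Cfsg.Agent.Lib.H22.card_sup_dvd_mul _ _)
  have h1 : (X.map π).relIndex (X.map π ⊔ F) ∣ 2 ^ k :=
    (Subgroup.relIndex_dvd_index_of_le le_sup_left).trans hidx
  have h2 : (X.map π).relIndex (X.map π ⊔ F) ∣ Nat.card (X.map π ⊔ F : Subgroup (H ⧸ Y)) :=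
    Subgroup.relIndex_dvd_card _ _
  have h3 : (Nat.card (X.map π ⊔ F : Subgroup (H ⧸ Y))).Coprime (2 ^ k) :=
    Nat.Coprime.pow_right k (Nat.coprime_two_right.2 hJ)
  have h4 : (X.map π).relIndex (X.map π ⊔ F) = 1 := Nat.eq_one_of_dvd_coprimes h3 h2 h1
  rw [Subgroup.relIndex_eq_one] at h4
  exact le_sup_right.trans h4

/-- `F(H / O₂(H))` is cyclic. -/
theorem Hyp.isCyclic_fitting_quotient (h : Hyp H) (hY : Y = pCore 2 H) (hY1 : Y ≠ ⊥)
    (X : Subgroup H) (hXodd : Odd (Nat.card X)) (hXidx : ∃ k : ℕ, X.index = 2 ^ k) :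
    IsCyclic ↥(fittingSubgroup (H ⧸ Y)) := by
  have h2 : Fact (Nat.Prime 2) := ⟨Nat.prime_two⟩
  set π := QuotientGroup.mk' Y with hπ
  set F := fittingSubgroup (H ⧸ Y) with hF
  have hYp : IsPGroup 2 Y := by rw [hY]; exact Cfsg.Agent.Lib.H1.pCore_isPGroup 2 H
  set X₀ := X ⊓ F.comap π with hX₀
  have hX₀odd : Odd (Nat.card X₀) :=
    Odd.of_dvd_nat hXodd (Subgroup.card_dvd_of_le inf_le_left)
  have hmap : X₀.map π = F := by
    apply le_antisymm
    · rintro _ ⟨x, hx, rfl⟩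
      exact (Subgroup.mem_inf.1 hx).2
    · intro f hf
      obtain ⟨x, hx, rfl⟩ := fitting_quotient_le_map hY X hXodd hXidx hf
      exact ⟨x, Subgroup.mem_inf.2 ⟨hx, hf⟩, rfl⟩
  have hdisj : X₀ ⊓ Y = ⊥ := by
    apply (Subgroup.disjoint_of_coprime_natCard ?_).eq_bot
    obtain ⟨k, hk⟩ := IsPGroup.iff_card.1 hYp
    rw [hk]
    exact Nat.Coprime.pow_right k (Nat.coprime_two_right.2 hX₀odd)
  -- `X₀` is nilpotent
  have hnil : Group.IsNilpotent ↥X₀ := by
    let g : ↥X₀ →* ↥F := (π.comp X₀.subtype).codRestrict F (fun x => (Subgroup.mem_inf.1 x.2).2)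
    have hFnil : Group.IsNilpotent ↥F := fittingSubgroup_isNilpotent
    refine Subgroup.isNilpotent_of_ker_le_center g ?_
    · intro x hx
      have h1 : π (x : H) = 1 := by
        have h0 : ((g x : ↥F) : H ⧸ Y) = ((1 : ↥F) : H ⧸ Y) :=
          congrArg Subtype.val (MonoidHom.mem_ker.1 hx)
        exact h0
      have h2 : (x : H) ∈ Y := (QuotientGroup.eq_one_iff _).1 h1
      have h3 : (x : H) ∈ X₀ ⊓ Y := Subgroup.mem_inf.2 ⟨x.2, h2⟩
      rw [hdisj, Subgroup.mem_bot] at h3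
      have : x = 1 := Subtype.ext h3
      rw [this]
      exact Subgroup.one_mem _
  have hcyc : IsCyclic ↥X₀ := by
    apply Cfsg.Agent.Lib.H8.isCyclic_of_fpf_nilpotent_odd hY1 _ _ hnil hX₀odd
    · rw [Subgroup.normalizer_eq_top]; exact le_top
    · intro d hd hd1
      rw [eq_bot_iff]
      intro y hy
      obtain ⟨hyY, hyd⟩ := Subgroup.mem_inf.1 hy
      rw [Subgroup.mem_bot]
      by_contra hy1
      apply hd1
      have hdodd : Odd (orderOf d) :=
        Odd.of_dvd_nat hX₀odd (Subgroup.orderOf_dvd_natCard _ hd)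
      apply h.eq_one_of_commute_pCore hdodd (by rw [← hY]; exact hyY) hy1
      exact (Subgroup.mem_centralizer_singleton_iff.1 hyd).symm
  rw [← hmap]
  exact isCyclic_of_surjective (π.subgroupMap X₀) (π.subgroupMap_surjective X₀)

/-- Commutators of `H / O₂(H)` lie in `F(H / O₂(H))`. -/
theorem Hyp.commutator_mem_fitting (h : Hyp H) (hcyc : IsCyclic ↥(fittingSubgroup (H ⧸ Y)))
    (a b : H ⧸ Y) : a * b * a⁻¹ * b⁻¹ ∈ fittingSubgroup (H ⧸ Y) := by
  apply h.centralizer_fitting_quotient_le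
  set F := fittingSubgroup (H ⧸ Y) with hF
  have hFn : F.Normal := fittingSubgroup_normal
  have hcomm : ∀ φ ψ : MulAut ↥F, φ * ψ = ψ * φ := by
    intro φ ψ
    apply (IsCyclic.mulAutMulEquiv ↥F).injective
    rw [map_mul, map_mul, mul_comm]
  have h1 : (MulAut.conjNormal (a * b * a⁻¹ * b⁻¹) : MulAut ↥F) = 1 := by
    rw [map_mul, map_mul, map_mul, map_inv, map_inv]
    rw [hcomm (MulAut.conjNormal a) (MulAut.conjNormal b)]
    group
  rw [Subgroup.mem_centralizer_iff]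
  intro f hf
  have h2 := MulAut.conjNormal_apply (a * b * a⁻¹ * b⁻¹) (⟨f, hf⟩ : ↥F)
  rw [h1] at h2
  simp only [MulAut.one_apply] at h2
  calc f * (a * b * a⁻¹ * b⁻¹) = (a * b * a⁻¹ * b⁻¹ * f * (a * b * a⁻¹ * b⁻¹)⁻¹) *
        (a * b * a⁻¹ * b⁻¹) := by rw [← h2]
    _ = a * b * a⁻¹ * b⁻¹ * f := by group

end quot

end Cfsg.Agent.Lib.H7.InvCent
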