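import Mathlib
import Cfsg.Agent.Lib.H7.InvCent5
import Cfsg.Agent.Lib.H22.UniqueOrderP

set_option autoImplicit false
open Cfsg

namespace Cfsg.Agent.Lib.H7.InvCent

open Cfsg.Agent.Lib.H7

universe u

variable {H : Type u} [Group H] [Finite H]

/-- Everything is trivial when `H` is trivial. -/
theorem main_of_subsingleton [Subsingleton H] (X Y : Subgroup H) :
    (∀ x ∈ X, x ≠ 1 → ∀ y ∈ Y, y ≠ 1 → x * y ≠ y * x) ∧
      (∀ (p : ℕ) [Fact p.Prime] (P : Sylow p ↥X), IsCyclic ↥(P : Subgroup ↥X)) ∧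
      (X ⊔ Y).Normal ∧
      ∀ hN : (X ⊔ Y).Normal, IsCyclic (H ⧸ (X ⊔ Y)) ∧ IsPGroup 2 (H ⧸ (X ⊔ Y)) := by
  refine ⟨?_, ?_, ?_, ?_⟩
  · intro x _ hx1
    exact absurd (Subsingleton.elim x 1) hx1
  · intro p _ P
    exact isCyclic_of_subsingleton
  · refine ⟨fun n hn g => ?_⟩
    rw [Subsingleton.elim (g * n * g⁻¹) n]
    exact hn
  · intro hN
    have hs : Subsingleton (H ⧸ (X ⊔ Y)) := by
      refine ⟨fun a b => ?_⟩
      obtain ⟨a, rfl⟩ := QuotientGroup.mk'_surjective _ a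
      obtain ⟨b, rfl⟩ := QuotientGroup.mk'_surjective _ b
      rw [Subsingleton.elim a b]
    refine ⟨isCyclic_of_subsingleton, fun g => ⟨0, Subsingleton.elim _ _⟩⟩

/-- Sylow subgroups of `X` are cyclic. -/
theorem Hyp.isCyclic_sylow (h : Hyp H) (X : Subgroup H) (hXodd : Odd (Nat.card X))
    (hY1 : pCore 2 H ≠ ⊥) (p : ℕ) [Fact p.Prime] (P : Sylow p ↥X) :
    IsCyclic ↥(P : Subgroup ↥X) := by
  have h2 : Fact (Nat.Prime 2) := ⟨Nat.prime_two⟩
  have hYn : (pCore 2 H).Normal := Cfsg.Agent.Lib.H1.pCore_normal 2 H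
  set D := (P : Subgroup ↥X).map X.subtype with hD
  have hDX : D ≤ X := by
    rintro _ ⟨x, -, rfl⟩
    exact x.2
  have hDodd : Odd (Nat.card D) :=
    Odd.of_dvd_nat hXodd (Subgroup.card_dvd_of_le hDX)
  have hDp : IsPGroup p D := P.isPGroup'.map X.subtype
  have hnil : Group.IsNilpotent ↥D := hDp.isNilpotent
  have hcyc : IsCyclic ↥D := by
    apply Cfsg.Agent.Lib.H8.isCyclic_of_fpf_nilpotent_odd hY1 _ _ hnil hDodd
    · rw [Subgroup.normalizer_eq_top]; exact le_top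
    · intro d hd hd1
      rw [eq_bot_iff]
      intro y hy
      obtain ⟨hyY, hyd⟩ := Subgroup.mem_inf.1 hy
      rw [Subgroup.mem_bot]
      by_contra hy1
      apply hd1
      have hdodd : Odd (orderOf d) :=
        Odd.of_dvd_nat hDodd (Subgroup.orderOf_dvd_natCard _ hd)
      apply h.eq_one_of_commute_pCore hdodd hyY hy1
      exact (Subgroup.mem_centralizer_singleton_iff.1 hyd).symm
  exact isCyclic_of_surjective _
    ((P : Subgroup ↥X).equivMapOfInjective X.subtype X.subtype_injective).symm.surjective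

section quot

variable {Y : Subgroup H} [hYn : Y.Normal]

omit [Finite H] in
theorem sup_eq_comap_map' (X : Subgroup H) :
    X ⊔ Y = (X.map (QuotientGroup.mk' Y)).comap (QuotientGroup.mk' Y) := by
  rw [Subgroup.comap_map_eq, QuotientGroup.ker_mk']

/-- an element of `H` whose image mod `XY` is an involution can be adjusted to have an
involution as image in `H / Y`. -/
theorem exists_involution_lift (X : Subgroup H) (hXodd : Odd (Nat.card X))
    [hN : (X ⊔ Y).Normal] {a : H ⧸ (X ⊔ Y)} (ha : orderOf a = 2) :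
    ∃ g : H, QuotientGroup.mk' (X ⊔ Y) g = a ∧ orderOf (QuotientGroup.mk' Y g) = 2 := by
  obtain ⟨h₁, rfl⟩ := QuotientGroup.mk'_surjective (X ⊔ Y) a
  have hn0 : orderOf h₁ ≠ 0 := (orderOf_pos h₁).ne'
  obtain ⟨k, m, hm, hnm⟩ := Nat.exists_eq_pow_mul_and_not_dvd hn0 2 (by norm_num)
  have hmodd : Odd m := Nat.odd_iff.2 (Nat.two_dvd_ne_zero.1 hm)
  have hm0 : m ≠ 0 := by
    rintro rfl
    exact hm (dvd_zero 2)
  have hco : orderOf (h₁ ^ m) = 2 ^ k := by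
    rw [orderOf_pow_of_dvd hm0 (Dvd.intro_left _ hnm.symm), hnm,
      Nat.mul_div_cancel _ (Nat.pos_of_ne_zero hm0)]
  have ha2 : (QuotientGroup.mk' (X ⊔ Y) h₁) ^ 2 = 1 := by
    rw [← ha]; exact pow_orderOf_eq_one _
  have ha1 : QuotientGroup.mk' (X ⊔ Y) h₁ ≠ 1 := by
    intro h1
    rw [h1, orderOf_one] at ha
    norm_num at ha
  refine ⟨h₁ ^ m, ?_, ?_⟩
  · obtain ⟨j, rfl⟩ := hmodd
    rw [map_pow, pow_succ, pow_mul, ha2, one_pow, one_mul]
  · set g := h₁ ^ m with hg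
    have hga : QuotientGroup.mk' (X ⊔ Y) g = QuotientGroup.mk' (X ⊔ Y) h₁ := by
      obtain ⟨j, hj⟩ := hmodd
      rw [hg, hj, map_pow, pow_succ, pow_mul, ha2, one_pow, one_mul]
    set e := QuotientGroup.mk' Y g with he
    have he2pow : orderOf e ∣ 2 ^ k := by
      rw [← hco]; exact orderOf_map_dvd _ g
    have hg2 : g ^ 2 ∈ X ⊔ Y := by
      rw [← QuotientGroup.eq_one_iff, ← QuotientGroup.mk'_apply, map_pow, hga, ha2]
    rw [sup_eq_comap_map' X] at hg2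
    have he2 : e ^ 2 ∈ X.map (QuotientGroup.mk' Y) := by
      rw [he, ← map_pow]; exact hg2
    have hXodd' : Odd (Nat.card (X.map (QuotientGroup.mk' Y))) :=
      Odd.of_dvd_nat hXodd (Subgroup.card_map_dvd X _)
    have h1 : orderOf (e ^ 2) ∣ Nat.card (X.map (QuotientGroup.mk' Y)) :=
      Subgroup.orderOf_dvd_natCard _ he2
    have h2 : orderOf (e ^ 2) ∣ 2 ^ k := (orderOf_pow_dvd 2).trans he2pow
    have h3 : (Nat.card (X.map (QuotientGroup.mk' Y))).Coprime (2 ^ k) :=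
      Nat.Coprime.pow_right k (Nat.coprime_two_right.2 hXodd')
    have h4 : orderOf (e ^ 2) = 1 := Nat.eq_one_of_dvd_coprimes h3 h1 h2
    rw [orderOf_eq_one_iff] at h4
    have he1 : e ≠ 1 := by
      intro h5
      apply ha1
      rw [← hga]
      have h6 : g ∈ Y := (QuotientGroup.eq_one_iff g).1 h5
      exact (QuotientGroup.eq_one_iff g).2 (le_sup_right (a := X) h6)
    exact orderOf_eq_prime h4 he1

/-- `H / XY` is a cyclic 2-group. -/
theorem Hyp.quotient_sup (h : Hyp H) (hY : Y = pCore 2 H) (hY1 : Y ≠ ⊥)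
    (X : Subgroup H) (hXodd : Odd (Nat.card X)) (hXidx : ∃ k : ℕ, X.index = 2 ^ k)
    [hN : (X ⊔ Y).Normal] : IsCyclic (H ⧸ (X ⊔ Y)) ∧ IsPGroup 2 (H ⧸ (X ⊔ Y)) := by
  have h2 : Fact (Nat.Prime 2) := ⟨Nat.prime_two⟩
  have hcyc := h.isCyclic_fitting_quotient hY hY1 X hXodd hXidx
  have hFle := fitting_quotient_le_map hY X hXodd hXidx
  have hmemW : ∀ g : H, QuotientGroup.mk' Y g ∈ fittingSubgroup (H ⧸ Y) → g ∈ X ⊔ Y := by
    intro g hg
    rw [sup_eq_comap_map' X]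
    exact hFle hg
  have hP : IsPGroup 2 (H ⧸ (X ⊔ Y)) := by
    obtain ⟨k, hk⟩ := hXidx
    have h1 : (X ⊔ Y).index ∣ 2 ^ k := by
      rw [← hk]; exact Subgroup.index_dvd_of_le le_sup_left
    obtain ⟨j, -, hj⟩ := (Nat.dvd_prime_pow Nat.prime_two).1 h1
    apply IsPGroup.of_card (n := j)
    rw [← hj, Subgroup.index_eq_card]
  refine ⟨?_, hP⟩
  have hcomm : ∀ a b : H ⧸ (X ⊔ Y), a * b = b * a := by
    intro a b
    obtain ⟨g₁, rfl⟩ := QuotientGroup.mk'_surjective _ a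
    obtain ⟨g₂, rfl⟩ := QuotientGroup.mk'_surjective _ b
    have h1 : g₁ * g₂ * g₁⁻¹ * g₂⁻¹ ∈ X ⊔ Y := by
      apply hmemW
      have := h.commutator_mem_fitting hcyc (QuotientGroup.mk' Y g₁) (QuotientGroup.mk' Y g₂)
      simpa only [map_mul, map_inv] using this
    have h3 : QuotientGroup.mk' (X ⊔ Y) (g₁ * g₂ * g₁⁻¹ * g₂⁻¹) = 1 :=
      (QuotientGroup.eq_one_iff _).2 h1
    rw [map_mul, map_mul, map_mul, map_inv, map_inv] at h3
    calc QuotientGroup.mk' (X ⊔ Y) g₁ * QuotientGroup.mk' (X ⊔ Y) g₂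
        = (QuotientGroup.mk' (X ⊔ Y) g₁ * QuotientGroup.mk' (X ⊔ Y) g₂ *
          (QuotientGroup.mk' (X ⊔ Y) g₁)⁻¹ * (QuotientGroup.mk' (X ⊔ Y) g₂)⁻¹) *
          (QuotientGroup.mk' (X ⊔ Y) g₂ * QuotientGroup.mk' (X ⊔ Y) g₁) := by group
      _ = QuotientGroup.mk' (X ⊔ Y) g₂ * QuotientGroup.mk' (X ⊔ Y) g₁ := by rw [h3, one_mul]
  have hinv : ∀ a b : H ⧸ (X ⊔ Y), orderOf a = 2 → orderOf b = 2 → a = b := by
    intro a b ha hb
    obtain ⟨g₁, rfl, he₁⟩ := exists_involution_lift X hXodd ha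
    obtain ⟨g₂, rfl, he₂⟩ := exists_involution_lift X hXodd hb
    have h1 := h.mul_mem_fitting hY he₁ he₂
    rw [← map_mul] at h1
    have h3 : QuotientGroup.mk' (X ⊔ Y) (g₁ * g₂) = 1 :=
      (QuotientGroup.eq_one_iff _).2 (hmemW _ h1)
    rw [map_mul] at h3
    have h4 : (QuotientGroup.mk' (X ⊔ Y) g₂) ^ 2 = 1 := by
      rw [← hb]; exact pow_orderOf_eq_one _
    rw [pow_two] at h4
    calc QuotientGroup.mk' (X ⊔ Y) g₁
        = (QuotientGroup.mk' (X ⊔ Y) g₁ * QuotientGroup.mk' (X ⊔ Y) g₂) *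
          (QuotientGroup.mk' (X ⊔ Y) g₂)⁻¹ := by group
      _ = QuotientGroup.mk' (X ⊔ Y) g₂ := by
          rw [h3, one_mul]; exact inv_eq_of_mul_eq_one_left h4
  apply Cfsg.Agent.Lib.H22.isCyclic_of_comm_of_atMostOne hP _ hcomm
  intro A₁ A₂ hA₁ hA₂
  obtain ⟨a₁, ha₁⟩ := exists_prime_orderOf_dvd_card' (G := ↥A₁) 2 (by rw [hA₁])
  obtain ⟨a₂, ha₂⟩ := exists_prime_orderOf_dvd_card' (G := ↥A₂) 2 (by rw [hA₂])
  have hb₁ : orderOf (a₁ : H ⧸ (X ⊔ Y)) = 2 := by rw [Subgroup.orderOf_coe]; exact ha₁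
  have hb₂ : orderOf (a₂ : H ⧸ (X ⊔ Y)) = 2 := by rw [Subgroup.orderOf_coe]; exact ha₂
  have hz₁ : Subgroup.zpowers (a₁ : H ⧸ (X ⊔ Y)) = A₁ := by
    apply Subgroup.eq_of_le_of_card_ge
    · rw [Subgroup.zpowers_le]; exact a₁.2
    · rw [Nat.card_zpowers, hb₁, hA₁]
  have hz₂ : Subgroup.zpowers (a₂ : H ⧸ (X ⊔ Y)) = A₂ := by
    apply Subgroup.eq_of_le_of_card_ge
    · rw [Subgroup.zpowers_le]; exact a₂.2
    · rw [Nat.card_zpowers, hb₂, hA₂]
  rw [← hz₁, ← hz₂, hinv _ _ hb₁ hb₂]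




/-- `XY` is normal. -/
theorem Hyp.sup_normal (h : Hyp H) (hY : Y = pCore 2 H) (hY1 : Y ≠ ⊥)
    (X : Subgroup H) (hXodd : Odd (Nat.card X)) (hXidx : ∃ k : ℕ, X.index = 2 ^ k) :
    (X ⊔ Y).Normal := by
  have hcyc := h.isCyclic_fitting_quotient hY hY1 X hXodd hXidx
  have hFle := fitting_quotient_le_map hY X hXodd hXidx
  rw [sup_eq_comap_map' X]
  have : (X.map (QuotientGroup.mk' Y)).Normal := by
    refine ⟨fun z hz g => ?_⟩
    have h1 : g * z * g⁻¹ = (g * z * g⁻¹ * z⁻¹) * z := by group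
    rw [h1]
    exact Subgroup.mul_mem _ (hFle (h.commutator_mem_fitting hcyc g z)) hz
  exact Subgroup.Normal.comap this _

end quot

end Cfsg.Agent.Lib.H7.InvCent
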