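import Mathlib
import Cfsg.Prelude.Def_Local

set_option autoImplicit false

namespace Cfsg.Agent.Lib.H7

open Cfsg
open scoped commutatorElement

universe u
variable {G : Type u} [Group G]

section InvExt

variable {H : Subgroup G} {t : G}

theorem conj_mem_of_involution (htt : t * t = 1) (htH : t ∈ Subgroup.normalizer (H : Set G))
    {h : G} (hh : h ∈ H) : t * h * t ∈ H := by
  have hinv : t⁻¹ = t := inv_eq_of_mul_eq_one_right htt
  have := (Subgroup.mem_normalizer_iff.1 htH h).1 hh
  rwa [hinv] at this

/-- The subgroup `H ∪ H t` for an involution `t` normalizing `H`. -/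
def involutionExt (H : Subgroup G) (t : G) (htt : t * t = 1)
    (htH : t ∈ Subgroup.normalizer (H : Set G)) : Subgroup G where
  carrier := {m | m ∈ H ∨ m * t ∈ H}
  one_mem' := Or.inl H.one_mem
  mul_mem' := by
    rintro a b (ha | ha) (hb | hb)
    · exact Or.inl (H.mul_mem ha hb)
    · right
      have : a * b * t = a * (b * t) := by group
      rw [this]; exact H.mul_mem ha hb
    · right
      have : a * b * t = (a * t) * (t * b * t) := by
        calc a * b * t = a * (t * t) * b * t := by rw [htt, mul_one]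
          _ = (a * t) * (t * b * t) := by group
      rw [this]; exact H.mul_mem ha (conj_mem_of_involution htt htH hb)
    · left
      have : a * b = (a * t) * (t * (b * t) * t) := by
        calc a * b = a * (t * t) * b * (t * t) := by rw [htt, mul_one, mul_one]
          _ = (a * t) * (t * (b * t) * t) := by group
      rw [this]; exact H.mul_mem ha (conj_mem_of_involution htt htH hb)
  inv_mem' := by
    rintro a (ha | ha)
    · exact Or.inl (H.inv_mem ha)
    · right
      have hinv : t⁻¹ = t := inv_eq_of_mul_eq_one_right htt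
      have h1 : t * a⁻¹ ∈ H := by
        have := H.inv_mem ha
        rwa [mul_inv_rev, hinv] at this
      have h2 := conj_mem_of_involution htt htH h1
      have : t * (t * a⁻¹) * t = a⁻¹ * t := by
        calc t * (t * a⁻¹) * t = (t * t) * a⁻¹ * t := by group
          _ = a⁻¹ * t := by rw [htt, one_mul]
      rwa [this] at h2

theorem mem_or_mul_mem_of_mem_sup_zpowers (htt : t * t = 1)
    (htH : t ∈ Subgroup.normalizer (H : Set G)) {m : G} (hm : m ∈ H ⊔ Subgroup.zpowers t) :
    m ∈ H ∨ m * t ∈ H := by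
  have h1 : H ⊔ Subgroup.zpowers t ≤ involutionExt H t htt htH := by
    apply sup_le
    · intro h hh; exact Or.inl hh
    · rw [Subgroup.zpowers_le]
      right
      rw [htt]; exact H.one_mem
  exact h1 hm

theorem sup_zpowers_le_normalizer (htH : t ∈ Subgroup.normalizer (H : Set G)) :
    H ⊔ Subgroup.zpowers t ≤ Subgroup.normalizer (H : Set G) :=
  sup_le Subgroup.le_normalizer (Subgroup.zpowers_le.2 htH)

/-- Commutators of `H⟨t⟩` lie in `H`. -/
theorem commutator_mem_of_mem_sup_zpowers (htt : t * t = 1)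
    (htH : t ∈ Subgroup.normalizer (H : Set G)) {a b : G} (ha : a ∈ H ⊔ Subgroup.zpowers t)
    (hb : b ∈ H ⊔ Subgroup.zpowers t) : ⁅a, b⁆ ∈ H := by
  have hN := sup_zpowers_le_normalizer htH
  have hinv : t⁻¹ = t := inv_eq_of_mul_eq_one_right htt
  rw [commutatorElement_def]
  rcases mem_or_mul_mem_of_mem_sup_zpowers htt htH ha with ha' | ha'
  · have h1 : b * a⁻¹ * b⁻¹ ∈ H := (Subgroup.mem_normalizer_iff.1 (hN hb) _).1 (H.inv_mem ha')
    have : a * b * a⁻¹ * b⁻¹ = a * (b * a⁻¹ * b⁻¹) := by group
    rw [this]; exact H.mul_mem ha' h1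
  · rcases mem_or_mul_mem_of_mem_sup_zpowers htt htH hb with hb' | hb'
    · have h1 : a * b * a⁻¹ ∈ H := (Subgroup.mem_normalizer_iff.1 (hN ha) _).1 hb'
      exact H.mul_mem h1 (H.inv_mem hb')
    · -- a = h t, b = h' t
      have h1 : t * ((b * t) * (a * t)⁻¹) * t ∈ H :=
        conj_mem_of_involution htt htH (H.mul_mem hb' (H.inv_mem ha'))
      have h2 : a * b * a⁻¹ * b⁻¹ = (a * t) * (t * ((b * t) * (a * t)⁻¹) * t) * (b * t)⁻¹ := by
        have e1 : t * ((b * t) * (a * t)⁻¹) * t = t * b * a⁻¹ * t := by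
          rw [mul_inv_rev, hinv]
          calc t * ((b * t) * (t * a⁻¹)) * t = t * b * (t * t) * a⁻¹ * t := by group
            _ = t * b * a⁻¹ * t := by rw [htt, mul_one]
        rw [e1, mul_inv_rev, hinv]
        calc a * b * a⁻¹ * b⁻¹ = a * (t * t) * b * a⁻¹ * (t * t) * b⁻¹ := by
              rw [htt, mul_one, mul_one]
          _ = (a * t) * (t * b * a⁻¹ * t) * (t * b⁻¹) := by group
      rw [h2]
      exact H.mul_mem (H.mul_mem ha' h1) (H.inv_mem hb')

end InvExt

end Cfsg.Agent.Lib.H7
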