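import Mathlib
import Cfsg.Prelude.Def_Local
import Cfsg.Agent.Lib.H7.InvExt
import Cfsg.Agent.Lib.H22.PPrimeCore
import Cfsg.Agent.Lib.H6.PResidual

set_option autoImplicit false

namespace Cfsg.Agent.Lib.H7

open Cfsg
open scoped commutatorElement

universe u
variable {G : Type u} [Group G]

section InvExt2

variable [Finite G] {H : Subgroup G} {t : G}

/-- `O(H⟨t⟩) = 1` when `O(H) = 1`. -/
theorem oddCore_sup_zpowers_eq_bot (htt : t * t = 1) (htH : t ∈ Subgroup.normalizer (H : Set G))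
    (hO : pPrimeCore 2 ↥H = ⊥) : pPrimeCore 2 ↥(H ⊔ Subgroup.zpowers t) = ⊥ := by
  set M := H ⊔ Subgroup.zpowers t with hM
  set N := pPrimeCore 2 ↥M with hN
  have hNn : N.Normal := Cfsg.Agent.Lib.H22.pPrimeCore_normal 2
  have hNc : (Nat.card ↥N).Coprime 2 := Cfsg.Agent.Lib.H22.card_pPrimeCore_coprime 2
  have h1 : ∀ n ∈ N, (n : G) ∈ H := by
    intro n hn
    have hco : (orderOf (n : G)).Coprime 2 := by
      rw [Subgroup.orderOf_coe]
      exact Nat.Coprime.coprime_dvd_left (Subgroup.orderOf_dvd_natCard _ hn) hNc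
    have h2 : (n : G) ^ orderOf (n : G) ∈ H := by
      rw [pow_orderOf_eq_one]; exact H.one_mem
    have h3 : (n : G) ^ 2 ∈ H := by
      rw [pow_two]
      rcases mem_or_mul_mem_of_mem_sup_zpowers htt htH n.2 with h | h
      · exact H.mul_mem h h
      · have h4 := conj_mem_of_involution htt htH h
        have e : (n : G) * (n : G) = ((n : G) * t) * (t * ((n : G) * t) * t) := by
          calc (n : G) * (n : G) = (n : G) * (t * t) * (n : G) * (t * t) := by
                rw [htt, mul_one, mul_one]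
            _ = ((n : G) * t) * (t * ((n : G) * t) * t) := by group
        rw [e]; exact H.mul_mem h h4
    exact Cfsg.Agent.Lib.H6.mem_of_pow_mem_of_coprime hco h2 h3
  have hNH : N.map M.subtype ≤ H := by
    rintro _ ⟨n, hn, rfl⟩
    exact h1 n hn
  set K : Subgroup ↥H := (N.map M.subtype).subgroupOf H with hK
  have hKn : K.Normal := by
    constructor
    intro k hk h
    rw [hK, Subgroup.mem_subgroupOf] at hk ⊢
    obtain ⟨n, hn, hnk⟩ := hk
    have hhM : (h : G) ∈ M := (le_sup_left : H ≤ M) h.2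
    refine ⟨⟨h, hhM⟩ * n * ⟨h, hhM⟩⁻¹, hNn.conj_mem n hn _, ?_⟩
    simp only [Subgroup.coe_subtype, Subgroup.coe_mul, Subgroup.coe_inv]
    have : (n : G) = (k : G) := hnk
    rw [this]
  have hKc : (Nat.card ↥K).Coprime 2 := by
    have e1 : ↥K ≃* ↥(N.map M.subtype) := Subgroup.subgroupOfEquivOfLe hNH
    have e2 : ↥N ≃* ↥(N.map M.subtype) :=
      N.equivMapOfInjective M.subtype (Subgroup.subtype_injective M)
    rw [Nat.card_congr e1.toEquiv, ← Nat.card_congr e2.toEquiv]
    exact hNc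
  have hKle := Cfsg.Agent.Lib.H22.le_pPrimeCore 2 K hKn hKc
  rw [hO] at hKle
  rw [eq_bot_iff]
  intro n hn
  have h5 : (⟨(n : G), h1 n hn⟩ : ↥H) ∈ K := by
    rw [hK, Subgroup.mem_subgroupOf]
    exact ⟨n, hn, rfl⟩
  have h6 := hKle h5
  rw [Subgroup.mem_bot] at h6 ⊢
  have h7 : (n : G) = 1 := congrArg Subtype.val h6
  exact Subtype.ext h7

/-- `O(C_H(t)) ≤ O(C_{H⟨t⟩}(t))`. -/
theorem subgroupOf_le_cppc_sup_zpowers (htt : t * t = 1)
    (htH : t ∈ Subgroup.normalizer (H : Set G)) :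
    ((pPrimeCore 2 ↥(H ⊓ Subgroup.centralizer ({t} : Set G))).map
      (H ⊓ Subgroup.centralizer ({t} : Set G)).subtype).subgroupOf (H ⊔ Subgroup.zpowers t) ≤
    centralizerPPrimeCore 2 (⟨t, (le_sup_right : Subgroup.zpowers t ≤ H ⊔ Subgroup.zpowers t)
      (Subgroup.mem_zpowers t)⟩ : ↥(H ⊔ Subgroup.zpowers t)) := by
  set M := H ⊔ Subgroup.zpowers t with hM
  set C₀ := H ⊓ Subgroup.centralizer ({t} : Set G) with hC₀
  set D₀ := (pPrimeCore 2 ↥C₀).map C₀.subtype with hD₀
  have htM : t ∈ M := (le_sup_right : Subgroup.zpowers t ≤ M) (Subgroup.mem_zpowers t)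
  set tM : ↥M := ⟨t, htM⟩ with htMdef
  set C' := Subgroup.centralizer ({tM} : Set ↥M) with hC'
  have hOn : (pPrimeCore 2 ↥C₀).Normal := Cfsg.Agent.Lib.H22.pPrimeCore_normal 2
  have hinv : t⁻¹ = t := inv_eq_of_mul_eq_one_right htt
  -- conjugation by elements of `C_M(t)` preserves `D₀`
  have hconj : ∀ c ∈ M, c * t = t * c → ∀ k ∈ D₀, c * k * c⁻¹ ∈ D₀ := by
    intro c hc hct k hk
    have hD₀conj : ∀ c' ∈ C₀, ∀ k ∈ D₀, c' * k * c'⁻¹ ∈ D₀ := by
      intro c' hc' k hk
      obtain ⟨k₀, hk₀, rfl⟩ := hk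
      exact ⟨⟨c', hc'⟩ * k₀ * ⟨c', hc'⟩⁻¹, hOn.conj_mem k₀ hk₀ _, rfl⟩
    rcases mem_or_mul_mem_of_mem_sup_zpowers htt htH hc with h | h
    · exact hD₀conj c (Subgroup.mem_inf.2 ⟨h, Subgroup.mem_centralizer_singleton_iff.2 hct⟩) k hk
    · have hcc : c * t ∈ Subgroup.centralizer ({t} : Set G) := by
        rw [Subgroup.mem_centralizer_singleton_iff]
        calc c * t * t = (t * c) * t := by rw [hct]
          _ = t * (c * t) := by group
      have hctC : c * t ∈ C₀ := Subgroup.mem_inf.2 ⟨h, hcc⟩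
      have hkt : t * k * t⁻¹ = k := by
        obtain ⟨k₀, -, rfl⟩ := hk
        have := (Subgroup.mem_inf.1 k₀.2).2
        rw [Subgroup.mem_centralizer_singleton_iff] at this
        have e : (C₀.subtype k₀) = (k₀ : G) := rfl
        rw [e, ← this]; group
      have := hD₀conj (c * t) hctC k hk
      have e : c * t * k * (c * t)⁻¹ = c * (t * k * t⁻¹) * c⁻¹ := by group
      rw [e, hkt] at this
      exact this
  have hD₀t : ∀ k ∈ D₀, k * t = t * k := by
    rintro _ ⟨k₀, -, rfl⟩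
    have := (Subgroup.mem_inf.1 k₀.2).2
    rw [Subgroup.mem_centralizer_singleton_iff] at this
    exact this
  set K' : Subgroup ↥C' := (D₀.subgroupOf M).subgroupOf C' with hK'
  have hK'n : K'.Normal := by
    constructor
    intro k hk c
    rw [hK', Subgroup.mem_subgroupOf, Subgroup.mem_subgroupOf] at hk ⊢
    have hc : (c : ↥M) ∈ Subgroup.centralizer ({tM} : Set ↥M) := c.2
    rw [Subgroup.mem_centralizer_singleton_iff] at hc
    have hc' : ((c : ↥M) : G) * t = t * ((c : ↥M) : G) := congrArg Subtype.val hc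
    have := hconj _ (c : ↥M).2 hc' _ hk
    simpa using this
  have hK'c : (Nat.card ↥K').Coprime 2 := by
    have hD₀c : (Nat.card ↥D₀).Coprime 2 := by
      rw [hD₀, Subgroup.card_map_of_injective (Subgroup.subtype_injective C₀)]
      exact Cfsg.Agent.Lib.H22.card_pPrimeCore_coprime 2
    let f : ↥K' →* ↥D₀ :=
      { toFun := fun k => ⟨((k : ↥C') : ↥M), by
          have h0 : k.1 ∈ (D₀.subgroupOf M).subgroupOf C' := k.2
          rw [Subgroup.mem_subgroupOf, Subgroup.mem_subgroupOf] at h0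
          exact h0⟩
        map_one' := rfl
        map_mul' := fun _ _ => rfl }
    have hf : Function.Injective f := by
      intro a b hab
      have h1 : (((a : ↥C') : ↥M) : G) = (((b : ↥C') : ↥M) : G) :=
        congrArg (fun z : ↥D₀ => (z : G)) hab
      exact Subtype.ext (Subtype.ext (Subtype.ext h1))
    exact Nat.Coprime.coprime_dvd_left (Subgroup.card_dvd_of_injective f hf) hD₀c
  have hle := Cfsg.Agent.Lib.H22.le_pPrimeCore 2 K' hK'n hK'c
  intro y hy
  rw [Subgroup.mem_subgroupOf] at hy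
  have hyC : y ∈ C' := by
    rw [hC', Subgroup.mem_centralizer_singleton_iff]
    apply Subtype.ext
    exact hD₀t _ hy
  unfold centralizerPPrimeCore
  refine ⟨⟨y, hyC⟩, hle ?_, rfl⟩
  rw [hK', Subgroup.mem_subgroupOf, Subgroup.mem_subgroupOf]
  exact hy

end InvExt2

end Cfsg.Agent.Lib.H7
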