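import Mathlib
import Cfsg.Prelude.Def_TwoFusion
import Cfsg.Agent.Lib.H6.Dihedral

set_option autoImplicit false
open Cfsg

namespace Cfsg.Agent.Lib.H7

theorem conj_pow_alt {G : Type*} [Group G] {u x : G} (h : u * x * u⁻¹ = x⁻¹) (n : ℕ) :
    u ^ n * x * (u ^ n)⁻¹ = if Even n then x else x⁻¹ := by
  induction n with
  | zero => simp
  | succ n ih =>
    have : u ^ (n + 1) * x * (u ^ (n + 1))⁻¹ = u ^ n * (u * x * u⁻¹) * (u ^ n)⁻¹ := by
      rw [pow_succ]; group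
    rw [this, h]
    have h2 : u ^ n * x⁻¹ * (u ^ n)⁻¹ = (u ^ n * x * (u ^ n)⁻¹)⁻¹ := by group
    rw [h2, ih]
    by_cases hn : Even n
    · have : ¬ Even (n + 1) := by
        rw [Nat.not_even_iff_odd]; exact hn.add_one
      simp [hn, this]
    · have : Even (n + 1) := by
        rw [Nat.not_even_iff_odd] at hn; exact hn.add_one
      simp [hn, this]

/-- F5: an element inverted by one conjugate of an isolated involution and centralized by
another has square one. -/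
theorem sq_eq_one_of_inverted_of_centralized {G : Type*} [Group G] [Finite G] {z : G}
    (hz : Cfsg.IsIsolatedInvolution z) (g h x : G)
    (h1 : (g * z * g⁻¹) * x * (g * z * g⁻¹)⁻¹ = x⁻¹) (h2 : Commute (h * z * h⁻¹) x) :
    x ^ 2 = 1 := by
  set u := (g * z * g⁻¹) * (h * z * h⁻¹) with hu
  have hodd : Odd (orderOf u) := by
    have h3 : u = MulAut.conj g (z * ((g⁻¹ * h) * z * (g⁻¹ * h)⁻¹)) := by
      rw [hu, MulAut.conj_apply]; group
    rw [h3, MulEquiv.orderOf_eq]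
    exact Cfsg.Agent.Lib.H6.isolated_odd_orderOf hz _
  have hux : u * x * u⁻¹ = x⁻¹ := by
    have : u * x * u⁻¹ = (g * z * g⁻¹) * ((h * z * h⁻¹) * x * (h * z * h⁻¹)⁻¹) * (g * z * g⁻¹)⁻¹ := by
      rw [hu]; group
    rw [this]
    have : (h * z * h⁻¹) * x * (h * z * h⁻¹)⁻¹ = x := by
      rw [h2.eq]; group
    rw [this, h1]
  have := conj_pow_alt hux (orderOf u)
  rw [pow_orderOf_eq_one, if_neg (Nat.not_even_iff_odd.2 hodd)] at this
  have h4 : x = x⁻¹ := by simpa using this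
  rw [pow_two]
  calc x * x = x * x⁻¹ := by rw [← h4]
    _ = 1 := mul_inv_cancel x

theorem exists_conj_inverts_div {G : Type*} [Group G] {z i₁ i₂ : G}
    (h1 : z * i₁ * z⁻¹ = i₁⁻¹) (h2 : z * i₂ * z⁻¹ = i₂⁻¹) (hodd : Odd (orderOf i₁)) :
    ∃ g : G, (g * z * g⁻¹) * (i₂ * i₁⁻¹) * (g * z * g⁻¹)⁻¹ = (i₂ * i₁⁻¹)⁻¹ := by
  obtain ⟨m, hm⟩ := hodd
  set j := i₁ ^ m with hj
  have hjj : i₁⁻¹ = j * j := by
    have : j * j * i₁ = 1 := by
      rw [hj, ← pow_add, ← pow_succ]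
      have : m + m + 1 = orderOf i₁ := by omega
      rw [this, pow_orderOf_eq_one]
    exact (eq_inv_of_mul_eq_one_left this).symm ▸ rfl
  have hzj : z * j * z⁻¹ = j⁻¹ := by
    rw [hj, ← conj_pow, h1, inv_pow]
  refine ⟨j⁻¹, ?_⟩
  rw [hjj]
  have : j⁻¹ * z * j⁻¹⁻¹ * (i₂ * (j * j)) * (j⁻¹ * z * j⁻¹⁻¹)⁻¹
      = j⁻¹ * ((z * j * z⁻¹) * (z * i₂ * z⁻¹) * (z * j * z⁻¹)) * j := by group
  rw [this, hzj, h2]
  group

end Cfsg.Agent.Lib.H7
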