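import Mathlib
import Cfsg.Agent.Lib.H7.K4Defs

/-!
# S3805 piece GRP0 (helper7): `|N_G(T)| = 36`
-/

set_option autoImplicit false

namespace Cfsg.Agent.Lib.H7.K4

open Cfsg

theorem card_normalizer {G : Type*} [Group G] [Finite G] (T : Sylow 3 G) (hcard : Nat.card T = 9)
    [hn : ((T : Subgroup G).subgroupOf (Subgroup.normalizer ((T : Subgroup G) : Set G))).Normal]
    (hK : IsKleinFour (↥(Subgroup.normalizer ((T : Subgroup G) : Set G)) ⧸
      (T : Subgroup G).subgroupOf (Subgroup.normalizer ((T : Subgroup G) : Set G)))) :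
    Nat.card ↥(Subgroup.normalizer ((T : Subgroup G) : Set G)) = 36 := by
  have h1 := Subgroup.card_eq_card_quotient_mul_card_subgroup
    ((T : Subgroup G).subgroupOf (Subgroup.normalizer ((T : Subgroup G) : Set G)))
  have h2 : Nat.card ((T : Subgroup G).subgroupOf (Subgroup.normalizer ((T : Subgroup G) : Set G))) = 9 := by
    rw [← hcard]
    exact Nat.card_congr (Subgroup.subgroupOfEquivOfLe Subgroup.le_normalizer).toEquiv
  rw [h1, h2, hK.card_four]

end Cfsg.Agent.Lib.H7.K4
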