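import Mathlib
import Cfsg.Agent.Lib.H7.K4Defs
import Cfsg.Agent.Lib.H26.K4TAB
import Cfsg.Agent.Lib.H1.K4CE
import Cfsg.Agent.Lib.H27.K4ALG

/-!
# S3805: the abstract main theorem (helper7): a `Hyp G` forces `N = G`
Pieces: TAB (helper26), CE (helper1, on helper18's CE1-3 and helper25's tri3'), ALG (helper27, helper25).
-/

set_option autoImplicit false

namespace Cfsg.Agent.Lib.H7.K4

open Cfsg
open Cfsg.Agent.Lib.H26.K4 (exists_tab)
open Cfsg.Agent.Lib.H1.K4 (class_eqs)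
open Cfsg.Agent.Lib.H27.K4 (alg)
open scoped ComplexConjugate

/-! ## MAIN -/

section main

theorem term_cast (p q r : ℤ) (n : ℕ) :
    ((p : ℤ) : ℂ) * ((q : ℤ) : ℂ) * ((r : ℤ) : ℂ) / (n : ℂ) =
      ((((p : ℤ) : ℝ) * ((q : ℤ) : ℝ) * ((r : ℤ) : ℝ) * (1 / (n : ℝ)) : ℝ) : ℂ) := by
  push_cast; ring

theorem main_abstract {G : Type*} [Group G] [Finite G] (h : Hyp G) : h.N = ⊤ := by
  classical
  haveI : Fintype G := Fintype.ofFinite G
  haveI : Fintype (IrrCharacter G) := by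
    haveI : Finite (IrrCharacter G) := Cfsg.Agent.Lib.H24.finite_irr
    exact Fintype.ofFinite _
  obtain ⟨t, a, b, hz, hx, hy, htt, haa, hbb, hab, hta, htb, ht1, ha1, hb1⟩ := exists_tab h
  obtain ⟨q1, q2, q3, q4, q5, q6, q7⟩ := class_eqs h
  choose d hdpos hd using fun χ : IrrCharacter G => Cfsg.Agent.Lib.H24.irr_one_eq χ
  set χ1 : IrrCharacter G := ⟨1, Cfsg.Agent.Lib.L0.isIrrCharacter_one⟩ with hχ1
  have hGpos : (0 : ℝ) < (Nat.card G : ℝ) := by exact_mod_cast Nat.card_pos (α := G)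
  have hGne : (Nat.card G : ℂ) ≠ 0 := by exact_mod_cast (Nat.card_pos (α := G)).ne'
  set u : IrrCharacter G → ℝ := fun χ => 1 / (d χ : ℝ) with hu
  set κ : ℝ := 162 / (Nat.card G : ℝ) with hκ
  have hκpos : 0 < κ := by rw [hκ]; positivity
  have hupos : ∀ χ, 0 < u χ := by
    intro χ
    have : (0 : ℝ) < (d χ : ℝ) := by exact_mod_cast hdpos χ
    rw [hu]; positivity
  -- conversion of the class equations
  have conv : ∀ (P Q R : IrrCharacter G → ℤ) (v : ℝ),
      (∑ χ : IrrCharacter G, ((P χ : ℤ) : ℂ) * ((Q χ : ℤ) : ℂ) * ((R χ : ℤ) : ℂ) / (d χ : ℂ) = (v : ℂ)) →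
      ∑ χ : IrrCharacter G, ((P χ : ℤ) : ℝ) * ((Q χ : ℤ) : ℝ) * ((R χ : ℤ) : ℝ) * u χ = v := by
    intro P Q R v hsum
    apply Complex.ofReal_injective
    rw [← hsum, Complex.ofReal_sum]
    refine Finset.sum_congr rfl fun χ _ => ?_
    rw [term_cast]
  simp only [hx, hy, hz, hd] at q1 q2 q3 q4 q5 q6 q7
  have e1 := conv (fun χ => t χ - 3 * a χ) (fun χ => t χ - 3 * a χ) (fun χ => t χ - 3 * b χ) 0
    (by simpa using q1)
  have e2 := conv (fun χ => t χ - 3 * b χ) (fun χ => t χ - 3 * b χ) (fun χ => t χ - 3 * a χ) 0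
    (by simpa using q2)
  have e3 := conv (fun χ => t χ - 3 * a χ) (fun χ => t χ - 3 * a χ) (fun χ => t χ) 0
    (by simpa using q3)
  have e4 := conv (fun χ => t χ - 3 * b χ) (fun χ => t χ - 3 * b χ) (fun χ => t χ) 0
    (by simpa using q4)
  have e5 := conv (fun χ => t χ - 3 * a χ) (fun χ => t χ - 3 * b χ) (fun χ => t χ) (2 * κ)
    (by rw [q5, hκ]; push_cast; ring)
  have e6 := conv (fun χ => t χ - 3 * a χ) (fun χ => t χ) (fun χ => t χ) κ
    (by rw [q6, hκ]; push_cast; ring)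
  have e7 := conv (fun χ => t χ - 3 * b χ) (fun χ => t χ) (fun χ => t χ) κ
    (by rw [q7, hκ]; push_cast; ring)
  obtain ⟨χ0, hχ01, hχ0⟩ := alg t a b u κ hκpos hupos χ1 ht1 ha1 htt haa hbb hab hta
    e1 e2 e3 e4 e5 e6 e7
  -- degrees
  have hd1 : d χ1 = 1 := by
    have := hd χ1
    have h1 : (χ1 : G → ℂ) 1 = 1 := rfl
    rw [h1] at this
    exact_mod_cast this.symm
  have hsq : ∑ χ : IrrCharacter G, (d χ) ^ 2 = Nat.card G := by
    have := Cfsg.Agent.Lib.H24.sum_irr_one_sq (G := G)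
    simp only [hd] at this
    exact_mod_cast this
  have hle : (d χ0) ^ 2 + 1 ≤ Nat.card G := by
    rw [← hsq]
    have h2 : ∑ χ ∈ ({χ0, χ1} : Finset (IrrCharacter G)), (d χ) ^ 2 ≤
        ∑ χ : IrrCharacter G, (d χ) ^ 2 :=
      Finset.sum_le_sum_of_subset (Finset.subset_univ _)
    rw [Finset.sum_pair hχ01, hd1] at h2
    simpa using h2
  have hd0pos : (0 : ℝ) < (d χ0 : ℝ) := by exact_mod_cast hdpos χ0
  have hcardle : Nat.card G ≤ 72 := by
    rcases hχ0 with h18 | h27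
    · -- 1/d = 9/|G|
      have h9 : (Nat.card G : ℝ) = 9 * (d χ0 : ℝ) := by
        have h18' : 1 / (d χ0 : ℝ) = 162 / (Nat.card G : ℝ) / 18 := h18
        rw [div_div, div_eq_div_iff (ne_of_gt hd0pos) (by positivity)] at h18'
        linarith
      have h9' : Nat.card G = 9 * d χ0 := by exact_mod_cast h9
      by_contra hgt
      have h10 : 9 ≤ d χ0 := by omega
      have h11 : 9 * d χ0 ≤ d χ0 ^ 2 := by nlinarith
      omega
    · have h6 : (Nat.card G : ℝ) = 6 * (d χ0 : ℝ) := by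
        have h27' : 1 / (d χ0 : ℝ) = 162 / (Nat.card G : ℝ) / 27 := h27
        rw [div_div, div_eq_div_iff (ne_of_gt hd0pos) (by positivity)] at h27'
        linarith
      have h6' : Nat.card G = 6 * d χ0 := by exact_mod_cast h6
      by_contra hgt
      have h10 : 13 ≤ d χ0 := by omega
      have h11 : 13 * d χ0 ≤ d χ0 ^ 2 := by nlinarith
      omega
  -- the index
  have hidx : h.N.index * 36 = Nat.card G := by
    rw [← h.card_N, mul_comm]
    exact h.N.card_mul_index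
  have hxN : h.x ∈ h.N := h.el_mem _
  have hx4 : h.x ^ 4 ≠ 1 := by
    show h.el (c3, 1) ^ 4 ≠ 1
    rw [← h.el_pow, ← h.el_one]
    intro hh
    have := h.el_injective hh
    revert this
    decide
  have hi : h.N.index = 1 ∨ h.N.index = 2 := by
    have : h.N.index ≠ 0 := Subgroup.index_ne_zero_of_finite
    omega
  rcases hi with hi | hi
  · exact Subgroup.index_eq_one.1 hi
  · haveI : h.N.Normal := Subgroup.normal_of_index_eq_two hi
    rw [eq_top_iff]
    intro g _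
    exact h.ti g h.x hxN hx4 (‹h.N.Normal›.conj_mem _ hxN g)



end main

end Cfsg.Agent.Lib.H7.K4
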