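import Cfsg.Agent.Lib.H12.O7920F2

/-!
helper7 library (S0434, architect helper14), piece (VAL3) `values_order3`: values of an irreducible character at an
element `t` with `t ^ 3 = 1`: `χ t = a + b ω + c ω²` with multiplicities `a + b + c = χ 1`; a real value is an integer
congruent to the degree modulo 3; if 3 does not divide the degree then `‖χ t‖² ≥ 1`.
Exact signature of `tools/blueprints/S0434_sigs.lean`.
-/

set_option autoImplicit false

namespace Cfsg.Agent.Lib.H7.M7920

open Cfsg Cfsg.Agent.Lib.L0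
open scoped ComplexConjugate BigOperators
universe u

section roots
variable {ω : ℂ}

theorem omega_cube (hω : IsPrimitiveRoot ω 3) : ω ^ 3 = 1 := hω.pow_eq_one

theorem omega_sum (hω : IsPrimitiveRoot ω 3) : 1 + ω + ω ^ 2 = 0 := by
  have h := hω.geom_sum_eq_zero (by norm_num : 1 < 3)
  simp only [Finset.sum_range_succ, Finset.sum_range_zero, pow_zero, pow_one, zero_add] at h
  exact h

theorem conj_omega (hω : IsPrimitiveRoot ω 3) : conj ω = ω ^ 2 := by
  have h3 := omega_cube hω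
  have hn : ‖ω‖ = 1 := hω.norm'_eq_one (by norm_num)
  have h0 : ω ≠ 0 := hω.ne_zero (by norm_num)
  have h1 : ω * conj ω = 1 := by
    rw [Complex.mul_conj, Complex.normSq_eq_norm_sq, hn]; norm_num
  have h2 : ω * ω ^ 2 = 1 := by rw [← h3]; ring
  exact mul_left_cancel₀ h0 (h1.trans h2.symm)

theorem omega_ne_sq (hω : IsPrimitiveRoot ω 3) : ω - ω ^ 2 ≠ 0 := by
  intro h
  have h0 : ω ≠ 0 := hω.ne_zero (by norm_num)
  have h1 : ω ≠ 1 := hω.ne_one (by norm_num)
  have : ω * (1 - ω) = 0 := by linear_combination h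
  rcases mul_eq_zero.mp this with h2 | h2
  · exact h0 h2
  · exact h1 (by linear_combination -h2)

end roots

/-- The values `χ t` and `χ 1` through the eigenvalue multiplicities. -/
theorem values3_mult {G : Type u} [Group G] [Finite G] (χ : IrrCharacter G) (t : G) (ht : t ^ 3 = 1)
    (ω : ℂ) (hω : IsPrimitiveRoot ω 3) :
    ∃ a b c : ℕ, (χ : G → ℂ) t = (a : ℂ) + b * ω + c * ω ^ 2 ∧ (χ : G → ℂ) 1 = (a : ℂ) + b + c := by
  classical
  obtain ⟨n, R, htr, -, -, -, -⟩ := Cfsg.Agent.Lib.H15.B60.exists_isometric_model χ.1 χ.2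
  obtain ⟨e, hpow, hroot, -, -⟩ := Cfsg.Agent.Lib.H9.B60.exists_eigen_list_rep R χ.1 htr
    (finrank_euclideanSpace_fin) t
  have hroot3 : ∀ k, e k ^ 3 = 1 := by
    intro k
    obtain ⟨r, hr⟩ := orderOf_dvd_of_pow_eq_one ht
    rw [hr, pow_mul, hroot k, one_pow]
  have hval : ∀ j : ℕ, (χ : G → ℂ) (t ^ j) = ∑ i ∈ Finset.range 3,
      ((Finset.univ.filter (fun k => e k = ω ^ i)).card : ℂ) * (ω ^ i) ^ j := by
    intro j
    rw [hpow j]
    exact Cfsg.Agent.Lib.H12.O7920.pow_sum_eq_mult ω hω e hroot3 j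
  refine ⟨(Finset.univ.filter (fun k => e k = ω ^ 0)).card,
    (Finset.univ.filter (fun k => e k = ω ^ 1)).card,
    (Finset.univ.filter (fun k => e k = ω ^ 2)).card, ?_, ?_⟩
  · have := hval 1
    simp only [pow_one, Finset.sum_range_succ, Finset.sum_range_zero, zero_add] at this
    rw [this]
    simp only [pow_zero, pow_one, mul_one]
  · have := hval 0
    simp only [pow_zero, Finset.sum_range_succ, Finset.sum_range_zero, zero_add, mul_one] at this
    rw [this]
    simp only [pow_zero]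

/-- **(VAL3)** -/
theorem values_order3 {G : Type u} [Group G] [Finite G] (χ : IrrCharacter G) (t : G) (ht : t ^ 3 = 1)
    (d : ℕ) (hd : (χ : G → ℂ) 1 = d) :
    (conj ((χ : G → ℂ) t) = (χ : G → ℂ) t → ∃ v : ℤ, (χ : G → ℂ) t = v ∧ v ≡ d [ZMOD 3]) ∧
    (¬ 3 ∣ d → 1 ≤ ‖(χ : G → ℂ) t‖ ^ 2) := by
  obtain ⟨ω, hω⟩ : ∃ ω : ℂ, IsPrimitiveRoot ω 3 := ⟨_, Complex.isPrimitiveRoot_exp 3 (by norm_num)⟩
  obtain ⟨a, b, c, hv, h1⟩ := values3_mult χ t ht ω hω
  have h3 := omega_cube hω
  have hs := omega_sum hω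
  have hcj := conj_omega hω
  have hdabc : d = a + b + c := by
    have : (d : ℂ) = ((a + b + c : ℕ) : ℂ) := by rw [← hd, h1]; push_cast; ring
    exact_mod_cast this
  have hconjv : conj ((χ : G → ℂ) t) = (a : ℂ) + b * ω ^ 2 + c * ω := by
    rw [hv]
    simp only [map_add, map_mul, map_pow, Complex.conj_natCast, hcj]
    have : (ω ^ 2) ^ 2 = ω := by
      calc (ω ^ 2) ^ 2 = ω ^ 3 * ω := by ring
        _ = ω := by rw [h3]; ring
    rw [this]
  refine ⟨?_, ?_⟩
  · intro hreal
    rw [hconjv, hv] at hreal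
    have hbc : ((b : ℂ) - c) * (ω - ω ^ 2) = 0 := by linear_combination -hreal
    have hbc' : (b : ℂ) = c := by
      rcases mul_eq_zero.mp hbc with h | h
      · linear_combination h
      · exact absurd h (omega_ne_sq hω)
    have hbcn : b = c := by exact_mod_cast hbc'
    refine ⟨(a : ℤ) - b, ?_, ?_⟩
    · rw [hv, ← hbc']
      push_cast
      linear_combination (b : ℂ) * hs
    · rw [Int.modEq_iff_dvd]
      refine ⟨b, ?_⟩
      rw [hdabc, ← hbcn]
      push_cast
      ring
  · intro h3d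
    set A : ℤ := (a : ℤ) with hA
    set B : ℤ := (b : ℤ) with hB
    set C : ℤ := (c : ℤ) with hC
    have hN : ((Complex.normSq ((χ : G → ℂ) t) : ℝ) : ℂ) =
        ((A ^ 2 + B ^ 2 + C ^ 2 - A * B - B * C - A * C : ℤ) : ℂ) := by
      rw [← Complex.mul_conj, hconjv, hv]
      push_cast
      simp only [A, B, C, Int.cast_natCast]
      linear_combination ((b : ℂ) ^ 2 + (c : ℂ) ^ 2 + (b : ℂ) * c * ω) * h3 +
        ((a : ℂ) * b + (a : ℂ) * c + (b : ℂ) * c) * hs
    have hNr : Complex.normSq ((χ : G → ℂ) t) =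
        ((A ^ 2 + B ^ 2 + C ^ 2 - A * B - B * C - A * C : ℤ) : ℝ) := by
      have : ((Complex.normSq ((χ : G → ℂ) t) : ℝ) : ℂ) =
          (((A ^ 2 + B ^ 2 + C ^ 2 - A * B - B * C - A * C : ℤ) : ℝ) : ℂ) := by
        rw [hN]; push_cast; ring
      exact_mod_cast this
    have hpos : 1 ≤ A ^ 2 + B ^ 2 + C ^ 2 - A * B - B * C - A * C := by
      by_contra hlt
      push_neg at hlt
      have hAB : A = B := by nlinarith [sq_nonneg (A - B), sq_nonneg (B - C), sq_nonneg (A - C)]
      have hBC : B = C := by nlinarith [sq_nonneg (A - B), sq_nonneg (B - C), sq_nonneg (A - C)]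
      apply h3d
      refine ⟨a, ?_⟩
      have h1 : (a : ℤ) = b := hAB
      have h2 : (b : ℤ) = c := hBC
      have h1' : a = b := by exact_mod_cast h1
      have h2' : b = c := by exact_mod_cast h2
      rw [hdabc, ← h2', ← h1']
      ring
    rw [← Complex.normSq_eq_norm_sq, hNr]
    exact_mod_cast hpos

end Cfsg.Agent.Lib.H7.M7920
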