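import Mathlib
import Cfsg.Prelude.Def_LocalEven
import Cfsg.Agent.Lib.H7.PLocal2
import Cfsg.Agent.Lib.H7.Signalizer2
import Cfsg.Agent.Lib.H14.Amalgam5
import Cfsg.Agent.Lib.H14.Norm

set_option autoImplicit false
open Cfsg

namespace Cfsg.Agent.Lib.H7.MaxPLocal

open Cfsg.Agent.Lib.H7 Cfsg.Agent.Lib.H14 Cfsg.Agent.Lib.H1

variable {G : Type*} [Group G]

/-- `L` is a `p`-local subgroup of `G`. -/
def IsPLoc (p : ℕ) (L : Subgroup G) : Prop :=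
  ∃ T : Subgroup G, IsPGroup p T ∧ T ≠ ⊥ ∧ L = Subgroup.normalizer (T : Set G)

/-- `M` is a maximal `p`-local subgroup of `G`. -/
def IsMaxPLoc (p : ℕ) (M : Subgroup G) : Prop :=
  IsPLoc p M ∧ ∀ L : Subgroup G, IsPLoc p L → M ≤ L → L = M

/-- `R` is a maximal `p`-subgroup of `M`. -/
def IsMaxPSub (p : ℕ) (R M : Subgroup G) : Prop :=
  IsPGroup p R ∧ R ≤ M ∧ ∀ Q : Subgroup G, IsPGroup p Q → R ≤ Q → Q ≤ M → Q = R

theorem IsPLoc.map_equiv {p : ℕ} {L : Subgroup G} (h : IsPLoc p L) (f : G ≃* G) :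
    IsPLoc p (L.map f.toMonoidHom) := by
  obtain ⟨T, hT, hTne, rfl⟩ := h
  refine ⟨T.map f.toMonoidHom, hT.map _, ?_, ?_⟩
  · intro h
    exact hTne ((Subgroup.map_eq_bot_iff_of_injective _ f.injective).1 h)
  · exact Subgroup.map_equiv_normalizer_eq T f

theorem map_symm_map (f : G ≃* G) (L : Subgroup G) :
    (L.map f.symm.toMonoidHom).map f.toMonoidHom = L := by
  rw [Subgroup.map_map]
  have : f.toMonoidHom.comp f.symm.toMonoidHom = MonoidHom.id G := by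
    ext x; simp
  rw [this, Subgroup.map_id]

theorem IsMaxPLoc.map_equiv {p : ℕ} {M : Subgroup G} (hM : IsMaxPLoc p M) (f : G ≃* G) :
    IsMaxPLoc p (M.map f.toMonoidHom) := by
  refine ⟨hM.1.map_equiv f, fun L hL hML => ?_⟩
  have h1 : M ≤ L.map f.symm.toMonoidHom := by
    have h0 : M ≤ L.comap f.toMonoidHom := Subgroup.map_le_iff_le_comap.1 hML
    exact h0.trans (le_of_eq (Subgroup.comap_equiv_eq_map_symm f L))
  have h2 := hM.2 _ (hL.map_equiv f.symm) h1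
  rw [← h2, map_symm_map]

theorem IsPLoc.exists_max [Finite G] {p : ℕ} {L : Subgroup G} (hL : IsPLoc p L) :
    ∃ M : Subgroup G, IsMaxPLoc p M ∧ L ≤ M := by
  obtain ⟨M, hM⟩ := (Set.toFinite {M : Subgroup G | IsPLoc p M ∧ L ≤ M}).exists_maximal
    ⟨L, hL, le_rfl⟩
  refine ⟨M, ⟨hM.prop.1, fun L' hL' hML' => ?_⟩, hM.prop.2⟩
  exact le_antisymm (hM.le_of_ge ⟨hL', hM.prop.2.trans hML'⟩ hML') hML'

theorem IsPLoc.charP {p : ℕ} (hloc : Cfsg.IsOfLocalCharacteristic p G) {M : Subgroup G}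
    (hM : IsPLoc p M) :
    Subgroup.centralizer (Cfsg.pCore p ↥M : Set ↥M) ≤ Cfsg.pCore p ↥M := by
  obtain ⟨T, hT, hTne, rfl⟩ := hM
  exact hloc.2 T hT hTne

theorem IsPLoc.ne_bot {p : ℕ} {M : Subgroup G} (hM : IsPLoc p M) : M ≠ ⊥ := by
  obtain ⟨T, hT, hTne, rfl⟩ := hM
  intro h
  apply hTne
  rw [eq_bot_iff, ← h]
  exact Subgroup.le_normalizer

theorem IsPLoc.dvd_card [Finite G] {p : ℕ} [Fact p.Prime] {M : Subgroup G} (hM : IsPLoc p M) :
    p ∣ Nat.card M := by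
  obtain ⟨T, hT, hTne, rfl⟩ := hM
  have h1 : Nat.card T ∣ Nat.card (Subgroup.normalizer (T : Set G)) :=
    Subgroup.card_dvd_of_le Subgroup.le_normalizer
  refine dvd_trans ?_ h1
  obtain ⟨n, hn⟩ := IsPGroup.iff_card.1 hT
  rw [hn]
  rcases Nat.eq_zero_or_pos n with h0 | h0
  · exfalso
    apply hTne
    rw [h0, pow_zero] at hn
    exact Subgroup.card_eq_one.1 hn
  · exact dvd_pow_self p h0.ne'

theorem IsPLoc.ne_top {p : ℕ} {M : Subgroup G} (hM : IsPLoc p M)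
    (hOp : Cfsg.pCore p G = ⊥) : M ≠ ⊤ := by
  obtain ⟨T, hT, hTne, rfl⟩ := hM
  intro h
  apply hTne
  have hn : T.Normal := Subgroup.normalizer_eq_top_iff.1 h
  have := le_pCore hn hT
  rw [hOp] at this
  exact eq_bot_iff.2 this

/-- A maximal `p`-local of a group of local characteristic `p` contains the normalizer of each of
its nontrivial normal subgroups. -/
theorem IsMaxPLoc.normalizer_le [Finite G] {p : ℕ} [Fact p.Prime]
    (hloc : Cfsg.IsOfLocalCharacteristic p G) {M : Subgroup G}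
    (hM : IsMaxPLoc p M) {A : Subgroup G} (hA : A ≠ ⊥) (hAM : A ≤ M)
    (hMA : M ≤ Subgroup.normalizer (A : Set G)) : Subgroup.normalizer (A : Set G) ≤ M := by
  have hchar := charP_ambient p M (hM.1.charP hloc)
  have hMQ : M ≤ Subgroup.normalizer (Cfsg.pCoreOf p M : Set G) := pCoreOf_normalized p M
  -- `A ∩ O_p(M) ≠ 1`
  have hB : A ⊓ Cfsg.pCoreOf p M ≠ ⊥ := by
    intro hB
    have hAC : A ≤ Subgroup.centralizer (Cfsg.pCoreOf p M : Set G) := by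
      intro a ha
      rw [Subgroup.mem_centralizer_iff]
      intro q hq
      have hq' : q ∈ Cfsg.pCoreOf p M := hq
      have h1 : a * q * a⁻¹ * q⁻¹ ∈ A ⊓ Cfsg.pCoreOf p M := by
        refine Subgroup.mem_inf.2 ⟨?_, ?_⟩
        · have hqN : q ∈ Subgroup.normalizer (A : Set G) := hMA (pCoreOf_le p M hq')
          have : q * a⁻¹ * q⁻¹ ∈ A := (Subgroup.mem_normalizer_iff.1 hqN a⁻¹).1 (A.inv_mem ha)
          have h2 : a * q * a⁻¹ * q⁻¹ = a * (q * a⁻¹ * q⁻¹) := by group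
          rw [h2]
          exact A.mul_mem ha this
        · have haN : a ∈ Subgroup.normalizer (Cfsg.pCoreOf p M : Set G) := hMQ (hAM ha)
          have : a * q * a⁻¹ ∈ Cfsg.pCoreOf p M := (Subgroup.mem_normalizer_iff.1 haN q).1 hq'
          exact (Cfsg.pCoreOf p M).mul_mem this ((Cfsg.pCoreOf p M).inv_mem hq')
      rw [hB, Subgroup.mem_bot] at h1
      have h3 : a * q = (a * q * a⁻¹ * q⁻¹) * (q * a) := by group
      rw [h3, h1, one_mul]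
    have hAQ : A ≤ Cfsg.pCoreOf p M := (le_inf hAM hAC).trans hchar
    apply hA
    rw [eq_bot_iff, ← hB]
    exact le_inf le_rfl hAQ
  have hBP : A ⊓ Cfsg.pCoreOf p M ≤ Cfsg.pCoreOf p A := by
    apply le_pCoreOf p A _ inf_le_left
    · exact le_nzr_inf A A (Cfsg.pCoreOf p M) Subgroup.le_normalizer (hAM.trans hMQ)
    · exact (pCoreOf_isPGroup p M).to_le inf_le_right
  have hP : Cfsg.pCoreOf p A ≠ ⊥ := by
    intro h
    apply hB
    rw [eq_bot_iff, ← h]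
    exact hBP
  have hNP : Subgroup.normalizer (A : Set G) ≤ Subgroup.normalizer (Cfsg.pCoreOf p A : Set G) :=
    normalizer_le_normalizer_pCoreOf p A
  have := hM.2 _ ⟨_, pCoreOf_isPGroup p A, hP, rfl⟩ (hMA.trans hNP)
  rw [← this]
  exact hNP

theorem IsMaxPLoc.map_conj_ne [Finite G] {p : ℕ} [Fact p.Prime]
    (hloc : Cfsg.IsOfLocalCharacteristic p G) {M : Subgroup G}
    (hM : IsMaxPLoc p M) {g : G} (hg : g ∉ M) : M.map (MulAut.conj g).toMonoidHom ≠ M := by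
  intro h
  apply hg
  apply hM.normalizer_le hloc hM.1.ne_bot le_rfl Subgroup.le_normalizer
  exact Subgroup.mem_normalizer_iff_map_conj_eq.2 h

theorem IsMaxPSub.pCoreOf_le {p : ℕ} [Fact p.Prime] {R M : Subgroup G} (h : IsMaxPSub p R M) :
    Cfsg.pCoreOf p M ≤ R := by
  have h1 : IsPGroup p (R ⊔ Cfsg.pCoreOf p M : Subgroup G) :=
    IsPGroup.to_sup_of_normal_right' h.1 (pCoreOf_isPGroup p M)
      (h.2.1.trans (pCoreOf_normalized p M))
  have h2 := h.2.2 _ h1 le_sup_left (sup_le h.2.1 (Cfsg.Agent.Lib.H14.pCoreOf_le p M))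
  rw [← h2]
  exact le_sup_right

theorem IsMaxPSub.map_equiv {p : ℕ} {R M : Subgroup G} (h : IsMaxPSub p R M) (f : G ≃* G) :
    IsMaxPSub p (R.map f.toMonoidHom) (M.map f.toMonoidHom) := by
  refine ⟨h.1.map _, Subgroup.map_mono h.2.1, fun Q hQ hRQ hQM => ?_⟩
  have h1 : IsPGroup p (Q.comap f.toMonoidHom) := hQ.comap_of_injective _ f.injective
  have h2 : R ≤ Q.comap f.toMonoidHom := Subgroup.map_le_iff_le_comap.1 hRQ
  have h3 : Q.comap f.toMonoidHom ≤ M := by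
    have := Subgroup.comap_mono (f := f.toMonoidHom) hQM
    rwa [Subgroup.comap_map_eq_self_of_injective f.injective] at this
  have h4 := h.2.2 _ h1 h2 h3
  rw [← h4, Subgroup.map_comap_eq_self_of_surjective f.surjective]

/-- If a `p`-subgroup `R ≤ M₁` is a maximal `p`-subgroup of `M₂`, then `R` is a maximal `p`-subgroup
of both members of some pair of distinct maximal `p`-locals. -/
theorem exists_pair_of_isMaxPSub [Finite G] {p : ℕ} [Fact p.Prime]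
    (hloc : Cfsg.IsOfLocalCharacteristic p G) {M₁ M₂ R : Subgroup G}
    (hM₁ : IsMaxPLoc p M₁) (hM₂ : IsMaxPLoc p M₂) (hne : M₁ ≠ M₂) (hR₁ : R ≤ M₁)
    (hR₂ : IsMaxPSub p R M₂) :
    ∃ N₁ N₂ : Subgroup G, IsMaxPLoc p N₁ ∧ IsMaxPLoc p N₂ ∧ N₁ ≠ N₂ ∧ IsMaxPSub p R N₁ ∧
      IsMaxPSub p R N₂ := by
  by_cases h : IsMaxPSub p R M₁
  · exact ⟨M₁, M₂, hM₁, hM₂, hne, h, hR₂⟩
  · have h' : ∃ Q : Subgroup G, IsPGroup p Q ∧ R ≤ Q ∧ Q ≤ M₁ ∧ Q ≠ R := by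
      by_contra hcon
      apply h
      refine ⟨hR₂.1, hR₁, fun Q hQ hRQ hQM => ?_⟩
      by_contra hQR
      exact hcon ⟨Q, hQ, hRQ, hQM, hQR⟩
    obtain ⟨Q, hQ, hRQ, hQM, hQR⟩ := h'
    obtain ⟨x, hx, hxR⟩ := exists_mem_normalizer_notMem p hQ hRQ (Ne.symm hQR)
    have hxN : x ∈ Subgroup.normalizer (R : Set G) := hx.1
    have hxQ : x ∈ Q := hx.2
    have hxM₂ : x ∉ M₂ := by
      intro hxM
      have hz : Subgroup.zpowers x ≤ Q := by rw [Subgroup.zpowers_le]; exact hxQ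
      have hzN : Subgroup.zpowers x ≤ Subgroup.normalizer (R : Set G) := by
        rw [Subgroup.zpowers_le]; exact hxN
      have h1 : IsPGroup p (Subgroup.zpowers x ⊔ R : Subgroup G) :=
        IsPGroup.to_sup_of_normal_right' (hQ.to_le hz) hR₂.1 hzN
      have h2 := hR₂.2.2 _ h1 le_sup_right
        (sup_le (by rw [Subgroup.zpowers_le]; exact hxM) hR₂.2.1)
      apply hxR
      rw [← h2]
      exact (le_sup_left : Subgroup.zpowers x ≤ _) (Subgroup.mem_zpowers x)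
    have hRx : R.map (MulAut.conj x).toMonoidHom = R :=
      Subgroup.mem_normalizer_iff_map_conj_eq.1 hxN
    have h3 := hR₂.map_equiv (MulAut.conj x)
    rw [hRx] at h3
    exact ⟨M₂, _, hM₂, hM₂.map_equiv (MulAut.conj x), (hM₂.map_conj_ne hloc hxM₂).symm, hR₂, h3⟩

/-- The key step: two distinct maximal `p`-locals sharing a nontrivial `p`-subgroup yield two
distinct maximal `p`-locals with a common maximal `p`-subgroup. -/
theorem exists_pair_common_maxPSub [Finite G] {p : ℕ} [Fact p.Prime]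
    (hloc : Cfsg.IsOfLocalCharacteristic p G) {M₁ M₂ R₀ : Subgroup G}
    (hM₁ : IsMaxPLoc p M₁) (hM₂ : IsMaxPLoc p M₂) (hne : M₁ ≠ M₂) (hR₀ : IsPGroup p R₀)
    (hR₀ne : R₀ ≠ ⊥) (h₁ : R₀ ≤ M₁) (h₂ : R₀ ≤ M₂) :
    ∃ (N₁ N₂ R : Subgroup G), IsMaxPLoc p N₁ ∧ IsMaxPLoc p N₂ ∧ N₁ ≠ N₂ ∧ IsMaxPSub p R N₁ ∧
      IsMaxPSub p R N₂ := by
  let S : Set (Subgroup G) := {R | IsPGroup p R ∧ R ≠ ⊥ ∧ ∃ N₁ N₂ : Subgroup G,
    IsMaxPLoc p N₁ ∧ IsMaxPLoc p N₂ ∧ N₁ ≠ N₂ ∧ R ≤ N₁ ∧ R ≤ N₂}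
  obtain ⟨R, hRmax⟩ := (Set.toFinite S).exists_maximal
    ⟨R₀, hR₀, hR₀ne, M₁, M₂, hM₁, hM₂, hne, h₁, h₂⟩
  obtain ⟨hR, hRne, N₁, N₂, hN₁, hN₂, hN, hRN₁, hRN₂⟩ := hRmax.prop
  -- a maximal `p`-local containing `N_G(R)`
  obtain ⟨N₃, hN₃, hRN₃⟩ := IsPLoc.exists_max (p := p)
    (L := Subgroup.normalizer (R : Set G)) ⟨R, hR, hRne, rfl⟩
  -- if `N₃ ≠ N` for a maximal `p`-local `N ≥ R`, then `R` is a maximal `p`-subgroup of `N`
  have key : ∀ N : Subgroup G, IsMaxPLoc p N → R ≤ N → N₃ ≠ N → IsMaxPSub p R N := by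
    intro N hNm hRN hN3
    refine ⟨hR, hRN, fun Q hQ hRQ hQN => ?_⟩
    by_contra hQR
    obtain ⟨x, hx, hxR⟩ := exists_mem_normalizer_notMem p hQ hRQ (Ne.symm hQR)
    have hle : R ≤ Subgroup.normalizer (R : Set G) ⊓ Q := le_inf Subgroup.le_normalizer hRQ
    have hmem : Subgroup.normalizer (R : Set G) ⊓ Q ∈ S := by
      refine ⟨hQ.to_le inf_le_right, ?_, N₃, N, hN₃, hNm, hN3, inf_le_left.trans hRN₃,
        inf_le_right.trans hQN⟩
      intro h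
      apply hRne
      rw [eq_bot_iff, ← h]
      exact hle
    exact hxR (hRmax.le_of_ge hmem hle hx)
  by_cases h31 : N₃ = N₁
  · have h32 : N₃ ≠ N₂ := fun h => hN (h31.symm.trans h)
    obtain ⟨K₁, K₂, hK₁, hK₂, hK, hRK₁, hRK₂⟩ :=
      exists_pair_of_isMaxPSub hloc hN₁ hN₂ hN hRN₁ (key N₂ hN₂ hRN₂ h32)
    exact ⟨K₁, K₂, R, hK₁, hK₂, hK, hRK₁, hRK₂⟩
  · obtain ⟨K₁, K₂, hK₁, hK₂, hK, hRK₁, hRK₂⟩ :=
      exists_pair_of_isMaxPSub hloc hN₂ hN₁ hN.symm hRN₂ (key N₁ hN₁ hRN₁ h31)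
    exact ⟨K₁, K₂, R, hK₁, hK₂, hK, hRK₁, hRK₂⟩

end Cfsg.Agent.Lib.H7.MaxPLocal
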