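import Mathlib
import Cfsg.Agent.Lib.H7.NoE8c

set_option autoImplicit false
open Cfsg

namespace Cfsg.Agent.Lib.H7.NoE8

variable {G : Type*} [Group G] [Finite G]

namespace Ctx

variable (c : Ctx G)
include c

theorem centralizer_Z_conj {s g : G}
    (hsZ : omegaCenter (pCore 2 G) ≤ Subgroup.centralizer ({s} : Set G)) :
    omegaCenter (pCore 2 G) ≤ Subgroup.centralizer ({g * s * g⁻¹} : Set G) := by
  have hZn := c.Z_normal
  intro z hz
  rw [Subgroup.mem_centralizer_singleton_iff]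
  have hmem : g⁻¹ * z * g ∈ omegaCenter (pCore 2 G) := by
    have := hZn.conj_mem z hz g⁻¹
    rwa [inv_inv] at this
  have h1 := Subgroup.mem_centralizer_singleton_iff.1 (hsZ hmem)
  calc z * (g * s * g⁻¹) = g * ((g⁻¹ * z * g) * s) * g⁻¹ := by group
    _ = g * (s * (g⁻¹ * z * g)) * g⁻¹ := by rw [h1]
    _ = g * s * g⁻¹ * z := by group

/-- if some nonidentity `3`-element centralizes `Z`, then one such commutes with `d` -/
theorem exists_commuting {d s : G} (hd : IsPGroup 3 ↥(Subgroup.zpowers d)) (hs3 : s ^ 3 = 1)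
    (hs1 : s ≠ 1) (hsZ : omegaCenter (pCore 2 G) ≤ Subgroup.centralizer ({s} : Set G)) :
    ∃ s' : G, s' ^ 3 = 1 ∧ s' ≠ 1 ∧
      omegaCenter (pCore 2 G) ≤ Subgroup.centralizer ({s'} : Set G) ∧ d * s' = s' * d := by
  have h3 : Fact (Nat.Prime 3) := ⟨Nat.prime_three⟩
  have hZn := c.Z_normal
  obtain ⟨D, hdD⟩ := hd.exists_le_sylow
  obtain ⟨D', hsD'⟩ := (isPGroup_zpowers_of_pow_three hs3).exists_le_sylow
  obtain ⟨γ, hγ⟩ := MulAction.exists_smul_eq G D' D
  have hs₁D : γ * s * γ⁻¹ ∈ (D : Subgroup G) := by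
    rw [← hγ, Sylow.coe_subgroup_smul]
    have := Subgroup.smul_mem_pointwise_smul s (MulAut.conj γ) (D' : Subgroup G)
      (hsD' (Subgroup.mem_zpowers s))
    rwa [MulAut.smul_def, MulAut.conj_apply] at this
  have hs₁Z := c.centralizer_Z_conj (g := γ) hsZ
  have hs₁1 : γ * s * γ⁻¹ ≠ 1 := by
    intro h
    apply hs1
    calc s = γ⁻¹ * (γ * s * γ⁻¹) * γ := by group
      _ = 1 := by rw [h]; group
  set N := (D : Subgroup G) ⊓ Subgroup.centralizer (omegaCenter (pCore 2 G) : Set G) with hN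
  have hs₁N : γ * s * γ⁻¹ ∈ N := by
    refine Subgroup.mem_inf.2 ⟨hs₁D, ?_⟩
    rw [Subgroup.mem_centralizer_iff]
    intro z hz
    exact Subgroup.mem_centralizer_singleton_iff.1 (hs₁Z hz)
  have hN1 : N ≠ ⊥ := by
    intro h
    rw [h, Subgroup.mem_bot] at hs₁N
    exact hs₁1 hs₁N
  have hNp : IsPGroup 3 ↥N := D.isPGroup'.to_le inf_le_left
  have hdD' : d ∈ (D : Subgroup G) := hdD (Subgroup.mem_zpowers d)
  have hconj : ∀ e : G, e ∈ (D : Subgroup G) → ∀ n ∈ N, e * n * e⁻¹ ∈ N := by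
    intro e he n hn
    refine Subgroup.mem_inf.2 ⟨?_, ?_⟩
    · exact Subgroup.mul_mem _ (Subgroup.mul_mem _ he (Subgroup.mem_inf.1 hn).1)
        (Subgroup.inv_mem _ he)
    · have hnZ := Subgroup.mem_centralizer_iff.1 (Subgroup.mem_inf.1 hn).2
      rw [Subgroup.mem_centralizer_iff]
      intro z hz
      have hmem : e⁻¹ * z * e ∈ omegaCenter (pCore 2 G) := by
        have := hZn.conj_mem z hz e⁻¹
        rwa [inv_inv] at this
      have h1 := hnZ _ hmem
      calc z * (e * n * e⁻¹) = e * ((e⁻¹ * z * e) * n) * e⁻¹ := by group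
        _ = e * (n * (e⁻¹ * z * e)) * e⁻¹ := by rw [h1]
        _ = e * n * e⁻¹ * z := by group
  have hdN : d ∈ Subgroup.normalizer (N : Set G) := by
    apply mem_normalizer_of_forall
    · exact hconj d hdD'
    · intro n hn
      have := hconj d⁻¹ (Subgroup.inv_mem _ hdD') n hn
      rwa [inv_inv] at this
  have hcount := card_modEq_of_pElement hd hdN
  obtain ⟨k, hk⟩ := IsPGroup.iff_card.1 hNp
  have hk0 : k ≠ 0 := by
    rintro rfl
    rw [pow_zero] at hk
    exact hN1 (Subgroup.eq_bot_of_card_eq _ hk)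
  have hdvdN : 3 ∣ Nat.card ↥N := by rw [hk]; exact dvd_pow_self 3 hk0
  have hdvd : 3 ∣ Nat.card ↥(N ⊓ Subgroup.centralizer ({d} : Set G)) :=
    (Nat.modEq_zero_iff_dvd.1 (hcount.symm.trans (Nat.modEq_zero_iff_dvd.2 hdvdN)))
  obtain ⟨y, hy⟩ := exists_prime_orderOf_dvd_card' 3 hdvd
  refine ⟨(y : G), ?_, ?_, ?_, ?_⟩
  · have h4 : y ^ 3 = 1 := by
      have := pow_orderOf_eq_one y
      rwa [hy] at this
    have h5 := congrArg Subtype.val h4
    simpa using h5
  · intro h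
    have : y = 1 := Subtype.ext h
    rw [this, orderOf_one] at hy
    norm_num at hy
  · intro z hz
    rw [Subgroup.mem_centralizer_singleton_iff]
    have hyN : (y : G) ∈ N := (Subgroup.mem_inf.1 y.2).1
    exact Subgroup.mem_centralizer_iff.1 (Subgroup.mem_inf.1 hyN).2 z hz
  · have := Subgroup.mem_centralizer_singleton_iff.1 (Subgroup.mem_inf.1 y.2).2
    exact this.symm

end Ctx

end Cfsg.Agent.Lib.H7.NoE8
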