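import Mathlib
import Cfsg.Agent.Lib.H7.NoE8d

set_option autoImplicit false
open Cfsg

namespace Cfsg.Agent.Lib.H7.NoE8

variable {G : Type*} [Group G] [Finite G]

omit [Finite G] in
theorem centralizer_le_of_mem_zpowers {x y : G} (h : y ∈ Subgroup.zpowers x) :
    Subgroup.centralizer ({x} : Set G) ≤ Subgroup.centralizer ({y} : Set G) := by
  intro z hz
  rw [Subgroup.mem_centralizer_singleton_iff] at hz ⊢
  obtain ⟨n, rfl⟩ := Subgroup.mem_zpowers_iff.1 h
  exact ((show Commute z x from hz).zpow_right n).eq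

namespace Ctx

variable (c : Ctx G)
include c

theorem final {d s' : G} (hd : IsPGroup 3 ↥(Subgroup.zpowers d))
    (hdZ : ¬ omegaCenter (pCore 2 G) ≤ Subgroup.centralizer ({d} : Set G))
    (hs'3 : s' ^ 3 = 1) (hs'1 : s' ≠ 1)
    (hs'Z : omegaCenter (pCore 2 G) ≤ Subgroup.centralizer ({s'} : Set G))
    (hds : d * s' = s' * d) : False := by
  have h2 : Fact (Nat.Prime 2) := ⟨Nat.prime_two⟩
  have h3 : Fact (Nat.Prime 3) := ⟨Nat.prime_three⟩
  have hQn := c.pCore_normal
  have hd3 : orderOf d = 3 := c.orderOf_eq_three hd hdZ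
  have hdp : d ^ 3 = 1 := by rw [← hd3]; exact pow_orderOf_eq_one d
  have hs'o : orderOf s' = 3 := orderOf_eq_prime hs'3 hs'1
  have hcd : Commute d s' := hds
  set A := Subgroup.closure ({d, s'} : Set G) with hA
  have hdA : d ∈ A := Subgroup.subset_closure (by simp)
  have hs'A : s' ∈ A := Subgroup.subset_closure (by simp)
  have hrep : ∀ a ∈ A, ∃ i j : ℕ, a = d ^ i * s' ^ j := by
    intro a ha
    induction ha using Subgroup.closure_induction with
    | mem x hx =>
      rcases hx with hx | hx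
      · exact ⟨1, 0, by rw [hx, pow_one, pow_zero, mul_one]⟩
      · rw [Set.mem_singleton_iff] at hx
        exact ⟨0, 1, by rw [hx, pow_one, pow_zero, one_mul]⟩
    | one => exact ⟨0, 0, by rw [pow_zero, pow_zero, mul_one]⟩
    | mul x y _ _ hx hy =>
      obtain ⟨i, j, rfl⟩ := hx
      obtain ⟨k, l, rfl⟩ := hy
      refine ⟨i + k, j + l, ?_⟩
      have h1 : Commute (s' ^ j) (d ^ k) := (hcd.pow_pow k j).symm
      calc d ^ i * s' ^ j * (d ^ k * s' ^ l) = d ^ i * (s' ^ j * d ^ k) * s' ^ l := by group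
        _ = d ^ i * (d ^ k * s' ^ j) * s' ^ l := by rw [h1.eq]
        _ = d ^ (i + k) * s' ^ (j + l) := by rw [pow_add, pow_add]; group
    | inv x _ hx =>
      obtain ⟨i, j, rfl⟩ := hx
      refine ⟨2 * i, 2 * j, ?_⟩
      have h1 : Commute (d ^ i) (s' ^ j) := hcd.pow_pow i j
      have h4 : (d ^ i) ^ 3 = 1 := by rw [← pow_mul, mul_comm, pow_mul, hdp, one_pow]
      have h5 : (s' ^ j) ^ 3 = 1 := by rw [← pow_mul, mul_comm, pow_mul, hs'3, one_pow]
      have h6 : (d ^ i)⁻¹ = d ^ (2 * i) := by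
        rw [inv_eq_iff_mul_eq_one, mul_comm 2 i, pow_mul, ← pow_succ']
        exact h4
      have h7 : (s' ^ j)⁻¹ = s' ^ (2 * j) := by
        rw [inv_eq_iff_mul_eq_one, mul_comm 2 j, pow_mul, ← pow_succ']
        exact h5
      rw [mul_inv_rev, h6, h7]
      exact ((hcd.pow_pow (2 * i) (2 * j)).symm).eq
  have hAc : ∀ a ∈ A, ∀ b ∈ A, a * b = b * a := by
    have hcomm : ∀ x ∈ ({d, s'} : Set G), ∀ y ∈ ({d, s'} : Set G), x * y = y * x := by
      rintro x (hx | hx) y (hy | hy)
      · rw [hx, hy]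
      · rw [Set.mem_singleton_iff] at hy; rw [hx, hy]; exact hds
      · rw [Set.mem_singleton_iff] at hx; rw [hx, hy]; exact hds.symm
      · rw [Set.mem_singleton_iff] at hx hy; rw [hx, hy]
    have hc' := Subgroup.isMulCommutative_closure hcomm
    intro a ha b hb
    exact congrArg Subtype.val (hc'.is_comm.comm ⟨a, ha⟩ ⟨b, hb⟩)
  have hAp : ∀ a ∈ A, a ^ 3 = 1 := by
    intro a ha
    obtain ⟨i, j, rfl⟩ := hrep a ha
    have h1 : Commute (d ^ i) (s' ^ j) := hcd.pow_pow i j
    rw [h1.mul_pow, ← pow_mul, ← pow_mul, mul_comm i 3, mul_comm j 3, pow_mul, pow_mul, hdp,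
      hs'3, one_pow, one_pow, one_mul]
  obtain ⟨k, hk⟩ := IsPGroup.iff_card.1 c.pCore_isPGroup
  have hXp : (Nat.card ↥(pCore 2 G)).Coprime 3 := by
    rw [hk]; apply Nat.Coprime.pow_left; norm_num
  have hAX : A ≤ Subgroup.normalizer (pCore 2 G : Set G) := by
    rw [Subgroup.normalizer_eq_top]; exact le_top
  have hgen := le_hypGen 3 hAc hAp hXp hAX
  -- `s' ∉ ⟨d⟩`
  have hs'd : s' ∉ Subgroup.zpowers d := by
    intro hmem
    apply hdZ
    have hle : Subgroup.zpowers s' ≤ Subgroup.zpowers d := by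
      rw [Subgroup.zpowers_le]; exact hmem
    have heq := Subgroup.eq_of_le_of_card_ge hle (by rw [Nat.card_zpowers, Nat.card_zpowers, hd3, hs'o])
    have hdm : d ∈ Subgroup.zpowers s' := by rw [heq]; exact Subgroup.mem_zpowers d
    exact hs'Z.trans (centralizer_le_of_mem_zpowers hdm)
  have hcardA : 3 < Nat.card ↥A := by
    have h1 : Subgroup.zpowers d ≤ A := by rw [Subgroup.zpowers_le]; exact hdA
    have := card_lt_card_of_le_of_mem_of_notMem h1 hs'A hs'd
    rwa [Nat.card_zpowers, hd3] at this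
  -- the key claim
  have hkey : ∀ x ∈ A, x ≠ 1 → pCore 2 G ⊓ Subgroup.centralizer ({x} : Set G) ≤
      pCore 2 G ⊓ Subgroup.centralizer ({s'} : Set G) := by
    intro x hx hx1
    by_cases hxZ : omegaCenter (pCore 2 G) ≤ Subgroup.centralizer ({x} : Set G)
    · obtain ⟨i, j, rfl⟩ := hrep x hx
      have hdi : omegaCenter (pCore 2 G) ≤ Subgroup.centralizer ({d ^ i} : Set G) := by
        intro z hz
        rw [Subgroup.mem_centralizer_singleton_iff]
        have h1 : Commute z (d ^ i * s' ^ j) := Subgroup.mem_centralizer_singleton_iff.1 (hxZ hz)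
        have h4 : Commute z s' := Subgroup.mem_centralizer_singleton_iff.1 (hs'Z hz)
        have h5 : Commute z (d ^ i * s' ^ j * (s' ^ j)⁻¹) := h1.mul_right (h4.pow_right j).inv_right
        rw [mul_inv_cancel_right] at h5
        exact h5.eq
      have hdi1 : d ^ i = 1 := by
        by_contra hne
        apply hdZ
        have hmod : d ^ (i % 3) = d ^ i := by rw [← hd3]; exact pow_mod_orderOf d i
        have hlt : i % 3 < 3 := Nat.mod_lt _ (by norm_num)
        have hcases : i % 3 = 0 ∨ i % 3 = 1 ∨ i % 3 = 2 := by omega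
        rcases hcases with h0 | h0 | h0
        · rw [h0, pow_zero] at hmod
          exact absurd hmod.symm hne
        · rw [h0, pow_one] at hmod
          rw [hmod]; exact hdi
        · have hdm : d ∈ Subgroup.zpowers (d ^ i) := by
            rw [← hmod, h0]
            refine Subgroup.mem_zpowers_iff.2 ⟨2, ?_⟩
            rw [zpow_ofNat, ← pow_mul]
            calc d ^ (2 * 2) = d ^ 3 * d := by rw [← pow_succ]
              _ = d := by rw [hdp, one_mul]
          exact hdi.trans (centralizer_le_of_mem_zpowers hdm)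
      rw [hdi1, one_mul] at hx1 ⊢
      have hmod : s' ^ (j % 3) = s' ^ j := by rw [← hs'o]; exact pow_mod_orderOf s' j
      have hlt : j % 3 < 3 := Nat.mod_lt _ (by norm_num)
      have hcases : j % 3 = 0 ∨ j % 3 = 1 ∨ j % 3 = 2 := by omega
      have hsm : s' ∈ Subgroup.zpowers (s' ^ j) := by
        rcases hcases with h0 | h0 | h0
        · rw [h0, pow_zero] at hmod
          exact absurd hmod.symm hx1
        · rw [h0, pow_one] at hmod
          rw [← hmod]; exact Subgroup.mem_zpowers s'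
        · rw [← hmod, h0]
          refine Subgroup.mem_zpowers_iff.2 ⟨2, ?_⟩
          rw [zpow_ofNat, ← pow_mul]
          calc s' ^ (2 * 2) = s' ^ 3 * s' := by rw [← pow_succ]
            _ = s' := by rw [hs'3, one_mul]
      exact inf_le_inf_left _ (centralizer_le_of_mem_zpowers hsm)
    · rw [c.pCore_inf_centralizer_eq_bot (isPGroup_zpowers_of_pow_three (hAp x hx)) hxZ]
      exact bot_le
  have hle : hypGen 3 A (pCore 2 G) ≤ pCore 2 G ⊓ Subgroup.centralizer ({s'} : Set G) := by
    apply iSup_le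
    rintro ⟨B, hBA, hBi⟩
    have hB1 : B ≠ ⊥ := by
      rintro rfl
      rw [Subgroup.relIndex_bot_left] at hBi
      omega
    obtain ⟨x, hx1⟩ := (Subgroup.ne_bot_iff_exists_ne_one).1 hB1
    have hx1' : (x : G) ≠ 1 := fun h => hx1 (Subtype.ext h)
    refine le_trans ?_ (hkey (x : G) (hBA x.2) hx1')
    apply inf_le_inf_left
    apply Subgroup.centralizer_le
    intro y hy
    rw [Set.mem_singleton_iff] at hy
    rw [hy]; exact x.2
  have hQs : pCore 2 G ≤ Subgroup.centralizer ({s'} : Set G) := (hgen.trans hle).trans inf_le_right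
  have hs'Q : s' ∈ pCore 2 G := by
    apply c.hchar
    rw [Subgroup.mem_centralizer_iff]
    intro q hq
    exact Subgroup.mem_centralizer_singleton_iff.1 (hQs hq)
  have hdvd : orderOf s' ∣ Nat.card ↥(pCore 2 G) := Subgroup.orderOf_dvd_natCard _ hs'Q
  rw [hs'o, hk] at hdvd
  have := (Nat.Prime.dvd_of_dvd_pow Nat.prime_three hdvd)
  norm_num at this

end Ctx

end Cfsg.Agent.Lib.H7.NoE8
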