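import Mathlib
import Cfsg.Agent.Lib.H7.NoE8e

set_option autoImplicit false
open Cfsg

namespace Cfsg.Agent.Lib.H7.NoE8

variable {G : Type*} [Group G] [Finite G]

/-- a `p`-element normalizing a subgroup of order 2 centralizes it -/
theorem le_centralizer_of_card_two {Z : Subgroup G} (hZ2 : Nat.card Z = 2) {x : G} {r : ℕ}
    [Fact r.Prime] (hx : IsPGroup r ↥(Subgroup.zpowers x))
    (hxZ : x ∈ Subgroup.normalizer (Z : Set G)) :
    Z ≤ Subgroup.centralizer ({x} : Set G) := by
  have h1 := card_modEq_of_pElement hx hxZ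
  rw [hZ2] at h1
  have h2 : Nat.card ↥(Z ⊓ Subgroup.centralizer ({x} : Set G)) ∣ 2 := by
    rw [← hZ2]; exact Subgroup.card_dvd_of_le inf_le_left
  have h4 : Nat.card ↥(Z ⊓ Subgroup.centralizer ({x} : Set G)) = 1 ∨
      Nat.card ↥(Z ⊓ Subgroup.centralizer ({x} : Set G)) = 2 :=
    (Nat.dvd_prime Nat.prime_two).1 h2
  rcases h4 with h4 | h4
  · exfalso
    rw [h4] at h1
    have h5 : r ∣ 2 - 1 := (Nat.modEq_iff_dvd' (by norm_num)).1 h1.symm
    have := Nat.le_of_dvd (by norm_num) h5
    have hr := (Fact.out : r.Prime).two_le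
    omega
  · have := Subgroup.eq_of_le_of_card_ge (inf_le_left : Z ⊓ Subgroup.centralizer ({x} : Set G) ≤ Z)
      (by rw [h4, hZ2])
    rw [← this]
    exact inf_le_right

theorem main (hchar : Subgroup.centralizer (Cfsg.pCore 2 G : Set G) ≤ Cfsg.pCore 2 G)
    (hsix : ∃ g : G, orderOf g = 6) (d : G) (hd1 : d ≠ 1)
    (hd : IsPGroup 3 ↥(Subgroup.zpowers d)) (W : Subgroup G)
    (hW : Cfsg.IsElementaryAbelian 2 W) (hW1 : W ≠ ⊥)
    (hdW : d ∈ Subgroup.normalizer (W : Set G))
    (hfpf : W ⊓ Subgroup.centralizer {d} = ⊥) :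
    ∃ E : Subgroup G, Cfsg.IsElementaryAbelian 2 E ∧ Nat.card E = 8 := by
  have h2 : Fact (Nat.Prime 2) := ⟨Nat.prime_two⟩
  have h3 : Fact (Nat.Prime 3) := ⟨Nat.prime_three⟩
  by_contra hcon
  have hne : ∀ E : Subgroup G, IsElementaryAbelian 2 E → Nat.card E ≠ 8 := by
    intro E hE hc
    exact hcon ⟨E, hE, hc⟩
  have hQn : (pCore 2 G).Normal := Cfsg.Agent.Lib.H1.pCore_normal 2 G
  have hQp : IsPGroup 2 ↥(pCore 2 G) := Cfsg.Agent.Lib.H1.pCore_isPGroup 2 G
  obtain ⟨g, hg⟩ := hsix
  -- `|W| = 4`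
  have hW4 : Nat.card W = 4 := by
    have hcount := card_modEq_of_pElement hd hdW
    rw [hfpf, Subgroup.card_bot] at hcount
    rcases card_cases hne hW with h | h | h
    · exact absurd (Subgroup.eq_bot_of_card_eq _ h) hW1
    · rw [h] at hcount
      unfold Nat.ModEq at hcount
      norm_num at hcount
    · exact h
  -- `O₂(G) ≠ 1`
  have hQ1 : pCore 2 G ≠ ⊥ := by
    intro h
    have hgc : g ∈ Subgroup.centralizer (pCore 2 G : Set G) := by
      rw [Subgroup.mem_centralizer_iff]
      intro q hq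
      rw [SetLike.mem_coe, h, Subgroup.mem_bot] at hq
      rw [hq, one_mul, mul_one]
    have := hchar hgc
    rw [h, Subgroup.mem_bot] at this
    rw [this, orderOf_one] at hg
    norm_num at hg
  have hZ1 := omegaCenter_ne_bot hQp hQ1
  have hZe := omegaCenter_isElementaryAbelian (pCore 2 G)
  have hZn : (omegaCenter (pCore 2 G)).Normal := omegaCenter_normal _
  have hall : ∀ x : G, x ∈ Subgroup.normalizer (omegaCenter (pCore 2 G) : Set G) := by
    intro x
    rw [Subgroup.normalizer_eq_top]; exact Subgroup.mem_top x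
  have hWp : IsPGroup 2 ↥W := isPGroup_of_isElementaryAbelian hW
  rcases card_cases hne hZe with hZc | hZc | hZc
  · exact hZ1 (Subgroup.eq_bot_of_card_eq _ hZc)
  · -- `|Z| = 2`
    obtain ⟨z, hz1⟩ := (Subgroup.ne_bot_iff_exists_ne_one).1 hZ1
    have hz1' : (z : G) ≠ 1 := fun h => hz1 (Subtype.ext h)
    have hzd : (z : G) ∈ Subgroup.centralizer ({d} : Set G) :=
      le_centralizer_of_card_two hZc hd (hall d) z.2
    have hzW : (z : G) ∈ W := by
      apply mem_of_commute hne hW hW4 (hZe.2 _ z.2)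
      intro a ha
      have hap : IsPGroup 2 ↥(Subgroup.zpowers a) :=
        hWp.to_le (by rw [Subgroup.zpowers_le]; exact ha)
      have := le_centralizer_of_card_two hZc hap (hall a) z.2
      exact Subgroup.mem_centralizer_singleton_iff.1 this
    have : (z : G) ∈ W ⊓ Subgroup.centralizer ({d} : Set G) := Subgroup.mem_inf.2 ⟨hzW, hzd⟩
    rw [hfpf, Subgroup.mem_bot] at this
    exact hz1' this
  · -- `|Z| = 4`
    by_cases hdZ : omegaCenter (pCore 2 G) ≤ Subgroup.centralizer ({d} : Set G)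
    · -- `d` centralizes `Z`
      have hWZ : W ≤ Subgroup.normalizer (omegaCenter (pCore 2 G) : Set G) := fun x _ => hall x
      have hcount := card_modEq_of_pGroup hWp hWZ
      rw [hZc] at hcount
      have hne1 : omegaCenter (pCore 2 G) ⊓ Subgroup.centralizer (W : Set G) ≠ ⊥ := by
        intro h
        rw [h, Subgroup.card_bot] at hcount
        unfold Nat.ModEq at hcount
        norm_num at hcount
      obtain ⟨z, hz1⟩ := (Subgroup.ne_bot_iff_exists_ne_one).1 hne1
      have hz1' : (z : G) ≠ 1 := fun h => hz1 (Subtype.ext h)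
      have hzZ : (z : G) ∈ omegaCenter (pCore 2 G) := (Subgroup.mem_inf.1 z.2).1
      have hzW : (z : G) ∈ W := by
        apply mem_of_commute hne hW hW4 (hZe.2 _ hzZ)
        intro a ha
        exact (Subgroup.mem_centralizer_iff.1 (Subgroup.mem_inf.1 z.2).2 a ha).symm
      have : (z : G) ∈ W ⊓ Subgroup.centralizer ({d} : Set G) :=
        Subgroup.mem_inf.2 ⟨hzW, hdZ hzZ⟩
      rw [hfpf, Subgroup.mem_bot] at this
      exact hz1' this
    · -- `d` acts nontrivially on `Z`
      have c : Ctx G := ⟨hne, hchar, hZc⟩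
      have hg6 : g ^ 6 = 1 := by
        have := pow_orderOf_eq_one g
        rwa [hg] at this
      have hs3 : (g ^ 2) ^ 3 = 1 := by
        rw [← pow_mul]; exact hg6
      have ht2 : (g ^ 3) ^ 2 = 1 := by
        rw [← pow_mul]; exact hg6
      have hs1 : g ^ 2 ≠ 1 := by
        intro h
        have := orderOf_dvd_of_pow_eq_one h
        rw [hg] at this
        norm_num at this
      have ht1 : g ^ 3 ≠ 1 := by
        intro h
        have := orderOf_dvd_of_pow_eq_one h
        rw [hg] at this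
        norm_num at this
      have hst : g ^ 2 * g ^ 3 = g ^ 3 * g ^ 2 := by rw [← pow_add, ← pow_add]
      have hsZ := c.centralizes_Z_of_commute_involution hs3 ht2 ht1 hst
      obtain ⟨s', hs'3, hs'1, hs'Z, hds'⟩ := c.exists_commuting hd hs3 hs1 hsZ
      exact c.final hd hdZ hs'3 hs'1 hs'Z hds'

end Cfsg.Agent.Lib.H7.NoE8
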