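import Mathlib
import Cfsg.Prelude.Def_Solvable
import Cfsg.Agent.S0044
import Cfsg.Agent.S0144
import Cfsg.Agent.Lib.H7.Fitting
import Cfsg.Agent.Lib.H17.ElemAbGL

/-!
# S2936 extra `PSU₃(3)`, `p = 2`: the abstract order analysis (helper7)

A finite simple group `K` of order `6048 = 2^5 · 3^3 · 7` without elements of order 14 has no proper subgroup of odd
index with trivial `O_2` (`og_of_card_6048`).  Only Sylow counting, Burnside's `p^a q^b` theorem (S0144), `C(F) ≤ F` for
solvable groups (S0044) and `|GL_2(3)| = 48` are used.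
-/

set_option autoImplicit false

namespace Cfsg.Agent.Lib.H7.OG
open Cfsg

universe u
variable {H : Type u} [Group H] [Finite H]

/-- a subgroup of index 3 and order at least 16 has a nontrivial normal core -/
theorem og_normalCore_ne_bot (S : Subgroup H) (hidx : S.index = 3) (hcard : 16 ≤ Nat.card S) :
    S.normalCore ≠ ⊥ := by
  intro hbot
  have hker : (MulAction.toPermHom H (H ⧸ S)).ker = ⊥ := by
    rw [← Subgroup.normalCore_eq_ker, hbot]
  have hinj : Function.Injective (MulAction.toPermHom H (H ⧸ S)) :=
    (MonoidHom.ker_eq_bot_iff _).mp hker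
  have h1 := Nat.card_le_card_of_injective _ hinj
  have h2 : Nat.card (Equiv.Perm (H ⧸ S)) = 6 := by
    rw [Nat.card_perm]
    have h3 : Nat.card (H ⧸ S) = 3 := hidx
    rw [h3]; rfl
  have h3 : Nat.card S * 3 = Nat.card H := by rw [← hidx]; exact S.card_mul_index
  omega

/-- a Sylow 7-subgroup of order 7 whose normalizer has order divisible by 4 gives an element of order 14 -/
theorem og_exists_orderOf_fourteen (P : Sylow 7 H) (hP : Nat.card P = 7)
    (h4 : 4 ∣ Nat.card (Subgroup.normalizer ((P : Subgroup H) : Set H))) :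
    ∃ g : H, orderOf g = 14 := by
  have : Fact (Nat.Prime 7) := ⟨by norm_num⟩
  have hcyc : IsCyclic (P : Subgroup H) := isCyclic_of_prime_card hP
  have key := Subgroup.card_dvd_of_injective _
    (QuotientGroup.kerLift_injective (P : Subgroup H).normalizerMonoidHom)
  rw [Subgroup.normalizerMonoidHom_ker, ← Subgroup.index, ← Subgroup.relIndex] at key
  rw [IsCyclic.card_mulAut, hP] at key
  have ht : Nat.totient 7 = 6 := by decide
  rw [ht] at key
  -- |N| = relIndex * |C|
  have hCN : Subgroup.centralizer ((P : Subgroup H) : Set H) ≤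
      Subgroup.normalizer ((P : Subgroup H) : Set H) := Subgroup.centralizer_le_normalizer _
  have hmul : (Subgroup.centralizer ((P : Subgroup H) : Set H)).relIndex
      (Subgroup.normalizer ((P : Subgroup H) : Set H)) *
      Nat.card (Subgroup.centralizer ((P : Subgroup H) : Set H)) =
      Nat.card (Subgroup.normalizer ((P : Subgroup H) : Set H)) := by
    have h := ((Subgroup.centralizer ((P : Subgroup H) : Set H)).subgroupOf
      (Subgroup.normalizer ((P : Subgroup H) : Set H))).card_mul_index
    rw [Nat.card_congr (Subgroup.subgroupOfEquivOfLe hCN).toEquiv, mul_comm] at h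
    exact h
  -- 2 ∣ |C|
  have h2 : 2 ∣ Nat.card (Subgroup.centralizer ((P : Subgroup H) : Set H)) := by
    rw [← hmul] at h4
    set r := (Subgroup.centralizer ((P : Subgroup H) : Set H)).relIndex
      (Subgroup.normalizer ((P : Subgroup H) : Set H)) with hr
    set c := Nat.card (Subgroup.centralizer ((P : Subgroup H) : Set H)) with hc
    have hr6 : r ∈ Nat.divisors 6 := Nat.mem_divisors.mpr ⟨key, by norm_num⟩
    have hdiv : Nat.divisors 6 = {1, 2, 3, 6} := by decide
    rw [hdiv] at hr6
    simp only [Finset.mem_insert, Finset.mem_singleton] at hr6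
    rcases hr6 with h | h | h | h <;> rw [h] at h4 <;> omega
  have : Fact (Nat.Prime 2) := ⟨Nat.prime_two⟩
  obtain ⟨z, hz⟩ := exists_prime_orderOf_dvd_card' (G := Subgroup.centralizer ((P : Subgroup H) : Set H)) 2 h2
  obtain ⟨x, hx⟩ := exists_prime_orderOf_dvd_card' (G := (P : Subgroup H)) 7 (by rw [hP])
  have hcomm : Commute (z : H) (x : H) := by
    have := z.2
    rw [Subgroup.mem_centralizer_iff] at this
    exact (this (x : H) x.2).symm
  refine ⟨(z : H) * (x : H), ?_⟩
  have hz' : orderOf (z : H) = 2 := by rw [Subgroup.orderOf_coe]; exact hz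
  have hx' : orderOf (x : H) = 7 := by rw [Subgroup.orderOf_coe]; exact hx
  rw [hcomm.orderOf_mul_eq_mul_orderOf_of_coprime (by rw [hz', hx']; norm_num), hz', hx']


/-- a group of order dividing 9 is commutative -/
theorem og_comm_of_card_dvd_nine {F : Type*} [Group F] [Finite F] (h : Nat.card F ∣ 9) :
    ∀ a b : F, a * b = b * a := by
  have : Fact (Nat.Prime 3) := ⟨Nat.prime_three⟩
  have h9 : (9 : ℕ) = 3 ^ 2 := by norm_num
  rw [h9] at h
  obtain ⟨e, he, hc⟩ := (Nat.dvd_prime_pow Nat.prime_three).mp h
  interval_cases e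
  · intro a b
    have : Subsingleton F := (Nat.card_eq_one_iff_unique.mp (by simpa using hc)).1
    exact Subsingleton.elim _ _
  · have hc' : Nat.card F = 3 := by simpa using hc
    have := isCyclic_of_prime_card hc'
    intro a b
    exact IsCyclic.commGroup.mul_comm a b
  · intro a b
    have := IsPGroup.isMulCommutative_of_card_eq_prime_sq hc
    exact this.is_comm.comm a b

/-- the index of the centralizer of a normal subgroup of order dividing 9 divides 48 -/
theorem og_index_centralizer_dvd (F : Subgroup H) [hFn : F.Normal] (hF : Nat.card F ∣ 9) :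
    (Subgroup.centralizer (F : Set H)).index ∣ 48 := by
  have : Fact (Nat.Prime 3) := ⟨Nat.prime_three⟩
  have h9 : (9 : ℕ) = 3 ^ 2 := by norm_num
  obtain ⟨e, he, hc⟩ := (Nat.dvd_prime_pow Nat.prime_three).mp (h9 ▸ hF)
  by_cases hexp : ∀ a ∈ F, a ^ 3 = 1
  · have hcomm : ∀ a ∈ F, ∀ b ∈ F, a * b = b * a := by
      intro a ha b hb
      have := og_comm_of_card_dvd_nine hF ⟨a, ha⟩ ⟨b, hb⟩
      exact congrArg Subtype.val this
    obtain ⟨φ, hφ⟩ := Cfsg.Agent.Lib.H17.exists_hom_GL_ker_eq_centralizer F 3 e hcomm hexp hc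
    rw [← hφ, Subgroup.index_ker]
    have h1 : Nat.card φ.range ∣ Nat.card (GL (Fin e) (ZMod 3)) := Subgroup.card_subgroup_dvd_card _
    refine h1.trans ?_
    rw [Matrix.card_GL_field (n := e) (𝔽 := ZMod 3), ZMod.card]
    interval_cases e <;> decide
  · push Not at hexp
    obtain ⟨a, ha, ha3⟩ := hexp
    have hord : orderOf (⟨a, ha⟩ : F) ∣ Nat.card F := orderOf_dvd_natCard _
    have hord9 : orderOf (⟨a, ha⟩ : F) ∣ 9 := hord.trans hF
    have hne3 : ¬ orderOf (⟨a, ha⟩ : F) ∣ 3 := by
      intro h
      apply ha3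
      have := orderOf_dvd_iff_pow_eq_one.mp h
      have := congrArg Subtype.val this
      simpa using this
    have h9' : orderOf (⟨a, ha⟩ : F) = 9 := by
      have hmem : orderOf (⟨a, ha⟩ : F) ∈ Nat.divisors 9 := Nat.mem_divisors.mpr ⟨hord9, by norm_num⟩
      have hd : Nat.divisors 9 = {1, 3, 9} := by decide
      rw [hd] at hmem
      simp only [Finset.mem_insert, Finset.mem_singleton] at hmem
      rcases hmem with h | h | h
      · exact absurd (by rw [h]; exact one_dvd 3) hne3
      · exact absurd (by rw [h]) hne3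
      · exact h
    have hcardF : Nat.card F = 9 := by
      apply Nat.dvd_antisymm hF
      rw [← h9']; exact hord
    have hcyc : IsCyclic F := isCyclic_of_orderOf_eq_card ⟨a, ha⟩ (by rw [h9', hcardF])
    have key := Subgroup.card_dvd_of_injective _
      (QuotientGroup.kerLift_injective F.normalizerMonoidHom)
    rw [Subgroup.normalizerMonoidHom_ker, ← Subgroup.index, ← Subgroup.relIndex] at key
    rw [IsCyclic.card_mulAut, hcardF] at key
    have ht : Nat.totient 9 = 6 := by decide
    rw [ht, Subgroup.normalizer_eq_top, Subgroup.relIndex_top_right] at key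
    exact key.trans (by norm_num)


/-- no group of order 288 has trivial `O_2` -/
theorem og_not_card_288 (hcard : Nat.card H = 288)
    (hO2 : ∀ N : Subgroup H, N.Normal → IsPGroup 2 N → N = ⊥) : False := by
  have hsolv : Group.IsSolvable H :=
    Cfsg.Agent.S0144.result 2 3 5 2 Nat.prime_two Nat.prime_three (by rw [hcard]; norm_num)
  set F := fittingSubgroup H with hF
  have hFn : F.Normal := inferInstance
  have hFnil : Group.IsNilpotent F := fittingSubgroup_isNilpotent
  have hodd : ¬ 2 ∣ Nat.card F := by
    intro h2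
    have hp2 : Fact (Nat.Prime 2) := ⟨Nat.prime_two⟩
    let Q : Sylow 2 F := default
    have hQn : (Q : Subgroup F).Normal := by
      have q := (Group.isNilpotent_of_finite_tfae (G := F)).out 0 3
      exact (q.mp hFnil) 2 hp2 Q
    have hQc : (Q : Subgroup F).Characteristic := Sylow.characteristic_of_normal Q hQn
    have hmapn : ((Q : Subgroup F).map F.subtype).Normal :=
      ConjAct.normal_of_characteristic_of_normal
    have hmapp : IsPGroup 2 ((Q : Subgroup F).map F.subtype) := Q.2.map _
    have hbot := hO2 _ hmapn hmapp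
    have hQbot : (Q : Subgroup F) = ⊥ := by
      rw [Subgroup.map_eq_bot_iff_of_injective _ F.subtype_injective] at hbot; exact hbot
    exact Q.ne_bot_of_dvd_card h2 hQbot
  have hF9 : Nat.card F ∣ 9 := by
    have h1 : Nat.card F ∣ 9 * 32 := by
      have := Subgroup.card_subgroup_dvd_card F
      rw [hcard] at this; exact this
    have hcop : Nat.Coprime (Nat.card F) 32 := by
      have : Nat.Coprime (Nat.card F) 2 :=
        ((Nat.Prime.coprime_iff_not_dvd Nat.prime_two).mpr hodd).symm
      have h32 : (32 : ℕ) = 2 ^ 5 := by norm_num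
      rw [h32]; exact this.pow_right 5
    exact hcop.dvd_of_dvd_mul_right h1
  have hCF : Subgroup.centralizer (F : Set H) ≤ F := Cfsg.Agent.S0044.result
  have hC9 : Nat.card (Subgroup.centralizer (F : Set H)) ∣ 9 :=
    (Subgroup.card_dvd_of_le hCF).trans hF9
  have h48 := og_index_centralizer_dvd F hF9
  have hmul := (Subgroup.centralizer (F : Set H)).card_mul_index
  rw [hcard] at hmul
  have hmem : Nat.card (Subgroup.centralizer (F : Set H)) ∈ Nat.divisors 9 :=
    Nat.mem_divisors.mpr ⟨hC9, by norm_num⟩
  have hd : Nat.divisors 9 = {1, 3, 9} := by decide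
  rw [hd] at hmem
  simp only [Finset.mem_insert, Finset.mem_singleton] at hmem
  rcases hmem with h | h | h <;> rw [h] at hmul
  · have : (Subgroup.centralizer (F : Set H)).index = 288 := by omega
    rw [this] at h48; omega
  · have : (Subgroup.centralizer (F : Set H)).index = 96 := by omega
    rw [this] at h48; omega
  · have : (Subgroup.centralizer (F : Set H)).index = 32 := by omega
    rw [this] at h48; omega


/-- the `7`-local count: order `224 t`, `t ∈ {1, 3}`, no element of order 14: impossible -/
theorem og_not_card_seven (t : ℕ) (ht : t = 1 ∨ t = 3) (hcard : Nat.card H = 224 * t)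
    (h14 : ∀ g : H, orderOf g ≠ 14) : False := by
  have hp7 : Fact (Nat.Prime 7) := ⟨by norm_num⟩
  let P : Sylow 7 H := default
  -- |P| = 7
  have hP : Nat.card P = 7 := by
    obtain ⟨k, hk⟩ := P.2.exists_card_eq
    have hdvd : 7 ^ k ∣ 224 * t := by
      rw [← hk, ← hcard]; exact Subgroup.card_subgroup_dvd_card _
    have hidx : ¬ 7 ∣ (P : Subgroup H).index := P.not_dvd_index
    have hmul := (P : Subgroup H).card_mul_index
    rw [hk, hcard] at hmul
    have hk4 : k < 4 := by
      by_contra hge
      push Not at hge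
      have h1 : 7 ^ 4 ∣ 7 ^ k := pow_dvd_pow 7 hge
      have h2 := Nat.le_of_dvd (by rcases ht with rfl | rfl <;> norm_num) (h1.trans hdvd)
      rcases ht with rfl | rfl <;> norm_num at h2
    rw [hk]
    interval_cases k
    · exfalso; apply hidx
      rw [pow_zero, one_mul] at hmul
      rw [hmul]; exact Dvd.intro _ (by ring : 7 * (32 * t) = 224 * t)
    · norm_num
    · exfalso
      rcases ht with rfl | rfl <;> norm_num at hdvd
    · exfalso
      rcases ht with rfl | rfl <;> norm_num at hdvd
  have hn4 : ¬ 4 ∣ Nat.card (Subgroup.normalizer ((P : Subgroup H) : Set H)) := by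
    intro h4
    obtain ⟨g, hg⟩ := og_exists_orderOf_fourteen P hP h4
    exact h14 g hg
  have hmod : Nat.card (Sylow 7 H) ≡ 1 [MOD 7] := card_sylow_modEq_one 7 H
  have hidx : Nat.card (Sylow 7 H) = (Subgroup.normalizer ((P : Subgroup H) : Set H)).index :=
    Sylow.card_eq_index_normalizer P
  have hmul := (Subgroup.normalizer ((P : Subgroup H) : Set H)).card_mul_index
  rw [← hidx, hcard] at hmul
  set N := Nat.card (Subgroup.normalizer ((P : Subgroup H) : Set H)) with hN
  set n := Nat.card (Sylow 7 H) with hn
  have hn1 : n % 7 = 1 := hmod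
  have key : ∀ T ∈ ({224, 672} : Finset ℕ), ∀ N ∈ Nat.divisors T, ¬ 4 ∣ N → (T / N) % 7 ≠ 1 := by
    decide
  have hNpos : 0 < N := Nat.card_pos
  rcases ht with rfl | rfl
  · have hNd : N ∈ Nat.divisors 224 := Nat.mem_divisors.mpr ⟨⟨n, by omega⟩, by norm_num⟩
    have := key 224 (by simp) N hNd hn4
    have hdiv : 224 / N = n := Nat.div_eq_of_eq_mul_right hNpos (by omega)
    rw [hdiv] at this; exact this hn1
  · have hNd : N ∈ Nat.divisors 672 := Nat.mem_divisors.mpr ⟨⟨n, by omega⟩, by norm_num⟩
    have := key 672 (by simp) N hNd hn4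
    have hdiv : 672 / N = n := Nat.div_eq_of_eq_mul_right hNpos (by omega)
    rw [hdiv] at this; exact this hn1

/-- the order analysis: a group of order `32 m`, `m ∣ 189`, with trivial `O_2` and no element of
order 14 has `m ∈ {27, 63, 189}` -/
theorem og_card_cases (m : ℕ) (hm : m ∣ 189) (hcard : Nat.card H = 32 * m)
    (hO2 : ∀ N : Subgroup H, N.Normal → IsPGroup 2 N → N = ⊥)
    (h14 : ∀ g : H, orderOf g ≠ 14) : m = 27 ∨ m = 63 ∨ m = 189 := by
  have hp2 : Fact (Nat.Prime 2) := ⟨Nat.prime_two⟩
  have hmem : m ∈ Nat.divisors 189 := Nat.mem_divisors.mpr ⟨hm, by norm_num⟩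
  have hd : Nat.divisors 189 = {1, 3, 7, 9, 21, 27, 63, 189} := by decide
  rw [hd] at hmem
  simp only [Finset.mem_insert, Finset.mem_singleton] at hmem
  rcases hmem with rfl | rfl | rfl | rfl | rfl | rfl | rfl | rfl
  · -- m = 1
    exfalso
    have hp : IsPGroup 2 (⊤ : Subgroup H) := by
      apply IsPGroup.of_card (n := 5)
      rw [Subgroup.card_top, hcard]; norm_num
    have h := hO2 ⊤ inferInstance hp
    have h1 : Nat.card (⊤ : Subgroup H) = 1 := by rw [h, Subgroup.card_bot]
    rw [Subgroup.card_top, hcard] at h1; omega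
  · -- m = 3
    exfalso
    obtain ⟨S, hS⟩ := Sylow.exists_subgroup_card_pow_prime 2 (n := 5) (G := H)
      (by rw [hcard]; norm_num)
    have hSp : IsPGroup 2 S := IsPGroup.of_card hS
    have hmul := S.card_mul_index
    rw [hS, hcard] at hmul
    have hidx : S.index = 3 := by omega
    have hne := og_normalCore_ne_bot S hidx (by rw [hS]; norm_num)
    exact hne (hO2 _ (Subgroup.normalCore_normal S) (hSp.to_le (Subgroup.normalCore_le S)))
  · -- m = 7
    exfalso
    exact og_not_card_seven 1 (Or.inl rfl) (by rw [hcard]) h14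
  · -- m = 9
    exfalso
    exact og_not_card_288 (by rw [hcard]) hO2
  · -- m = 21
    exfalso
    exact og_not_card_seven 3 (Or.inr rfl) (by rw [hcard]) h14
  · exact Or.inl rfl
  · exact Or.inr (Or.inl rfl)
  · exact Or.inr (Or.inr rfl)

/-- the abstract statement: a simple group of order 6048 without elements of order 14 has no proper subgroup of
odd index with trivial `O_2` -/
theorem og_of_card_6048 {K : Type u} [Group K] [Finite K] (hcard : Nat.card K = 6048)
    [IsSimpleGroup K] (h14 : ∀ g : K, orderOf g ≠ 14) (M : Subgroup K)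
    (hM : Cfsg.pCore 2 ↥M = ⊥) (hidx : ¬ 2 ∣ M.index) : M = ⊤ := by
  have hmul := M.card_mul_index
  rw [hcard] at hmul
  have hi189 : M.index ∣ 189 := by
    have h1 : M.index ∣ 189 * 32 := ⟨Nat.card M, by rw [mul_comm M.index, hmul]⟩
    have hcop : Nat.Coprime M.index 32 := by
      have : Nat.Coprime M.index 2 :=
        ((Nat.Prime.coprime_iff_not_dvd Nat.prime_two).mpr hidx).symm
      have h32 : (32 : ℕ) = 2 ^ 5 := by norm_num
      rw [h32]; exact this.pow_right 5
    exact hcop.dvd_of_dvd_mul_right h1
  obtain ⟨m, hm⟩ := hi189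
  have hipos : 0 < M.index := Nat.pos_of_ne_zero (fun h => by rw [h] at hm; omega)
  have hcardM : Nat.card M = 32 * m := by
    have : Nat.card M * M.index = (32 * m) * M.index := by rw [hmul]; nlinarith
    exact Nat.eq_of_mul_eq_mul_right hipos this
  have hO2 : ∀ N : Subgroup M, N.Normal → IsPGroup 2 N → N = ⊥ := by
    intro N hN hp
    have : N ≤ Cfsg.pCore 2 ↥M := le_sSup ⟨hN, hp⟩
    rw [hM] at this
    exact le_bot_iff.mp this
  have h14' : ∀ g : M, orderOf g ≠ 14 := by
    intro g hg
    apply h14 (g : K)
    rw [Subgroup.orderOf_coe]; exact hg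
  have hcases := og_card_cases m ⟨M.index, by rw [mul_comm]; exact hm⟩ hcardM hO2 h14'
  have hperm : M.index ≠ 1 → 6048 ≤ (M.index).factorial := by
    intro hne
    have hcore : M.normalCore = ⊥ := by
      rcases (Subgroup.normalCore_normal M).eq_bot_or_eq_top with h | h
      · exact h
      · exfalso; apply hne
        have : M = ⊤ := top_le_iff.mp (h ▸ Subgroup.normalCore_le M)
        rw [this, Subgroup.index_top]
    have hker : (MulAction.toPermHom K (K ⧸ M)).ker = ⊥ := by
      rw [← Subgroup.normalCore_eq_ker, hcore]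
    have hinj : Function.Injective (MulAction.toPermHom K (K ⧸ M)) :=
      (MonoidHom.ker_eq_bot_iff _).mp hker
    have h1 := Nat.card_le_card_of_injective _ hinj
    rw [Nat.card_perm, hcard] at h1
    exact h1
  rcases hcases with rfl | rfl | rfl
  · exfalso
    have hi : M.index = 7 := by omega
    have := hperm (by rw [hi]; norm_num)
    rw [hi] at this; norm_num [Nat.factorial] at this
  · exfalso
    have hi : M.index = 3 := by omega
    have := hperm (by rw [hi]; norm_num)
    rw [hi] at this; norm_num [Nat.factorial] at this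
  · have hi : M.index = 1 := by omega
    exact Subgroup.index_eq_one.mp hi

end Cfsg.Agent.Lib.H7.OG
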