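import Mathlib
import Cfsg.Prelude.Def_Classical
import Cfsg.Agent.Lib.H2.Unitary6
import Cfsg.Agent.Lib.H11.UnitarySimple6

/-!
# S2936 extra `PSU₃(3)`, `p = 2`: the three facts about `PSU₃(3)` (helper7)

`|PSU₃(3)| = 6048`, `PSU₃(3)` is simple (helper11), and `PSU₃(3)` has no element of order 14: an element of order 7 of
`GL_3(9)` fixes no nonzero vector (`729 ≡ 1`, `9 ≡ 2`, `81 ≡ 4 mod 7`), but it would fix one in the `+1`-eigenspace
(of order 9 or 81) of a commuting involution `≠ ±1`.
-/

set_option autoImplicit false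

namespace Cfsg.Agent.Lib.H7.OG

/-- fixed-point congruence for a map of order dividing 7 -/
theorem og_card_fixed_modEq {α : Type*} [Finite α] (f : α → α) (hf : f^[7] = id) :
    Nat.card α ≡ Nat.card {a : α // f a = a} [MOD 7] := by
  classical
  have : Fintype α := Fintype.ofFinite α
  have hp : Fact (Nat.Prime 7) := ⟨by norm_num⟩
  let g : Function.End α := f
  have hf' : g ^ 7 ^ 1 = 1 := by
    rw [pow_one]
    have h1 := hom_coe_pow (fun g : Function.End α ↦ (g : α → α)) rfl (fun g h ↦ rfl) g 7
    have h2 : (g ^ 7 : Function.End α) = (f^[7] : α → α) := h1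
    rw [hf] at h2
    exact h2
  have h := Equiv.Perm.card_fixedPoints_modEq (f := g) (p := 7) (n := 1) hf'
  rw [Nat.card_eq_fintype_card]
  have h2 : Nat.card {a : α // f a = a} = Fintype.card (Function.fixedPoints g) := by
    rw [← Nat.card_eq_fintype_card]
    rfl
  rw [h2]
  exact h

section LA
variable {F V : Type*} [Field F] [Fintype F] [AddCommGroup V] [Module F V] [FiniteDimensional F V]

/-- cardinality of a subspace over the field with 9 elements -/
theorem og_card_submodule (hF : Fintype.card F = 9) (U : Submodule F V) :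
    Nat.card U = 9 ^ Module.finrank F U := by
  have := Module.natCard_eq_pow_finrank (K := F) (V := U)
  rw [Nat.card_eq_fintype_card (α := F), hF] at this
  exact this

/-- an element of order dividing 7 in `GL_3(9)` commuting with an involution `≠ ±1` is trivial -/
theorem og_la_lin (hF : Fintype.card F = 9) (h3 : Module.finrank F V = 3)
    (x z : Module.End F V) (hx : x ^ 7 = 1) (hz : z * z = 1) (hz1 : z ≠ 1) (hzm : z ≠ -1)
    (hc : x * z = z * x) : x = 1 := by
  have hfinV : Finite V := Module.finite_of_finite F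
  -- the fixed space of z
  set U : Submodule F V := LinearMap.ker (z - 1) with hU
  have hUmem : ∀ v, v ∈ U ↔ z v = v := by
    intro v
    rw [hU, LinearMap.mem_ker, LinearMap.sub_apply, Module.End.one_apply, sub_eq_zero]
  have hUbot : U ≠ ⊥ := by
    intro hb
    apply hzm
    apply LinearMap.ext
    intro v
    have hv : z v + v ∈ U := by
      rw [hUmem, map_add]
      have : z (z v) = v := by
        have := LinearMap.congr_fun hz v
        simpa using this
      rw [this, add_comm]
    rw [hb, Submodule.mem_bot] at hv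
    rw [LinearMap.neg_apply, Module.End.one_apply]
    exact eq_neg_of_add_eq_zero_left hv
  have hUtop : U ≠ ⊤ := by
    intro ht
    apply hz1
    apply LinearMap.ext
    intro v
    have : v ∈ U := by rw [ht]; trivial
    rw [Module.End.one_apply]
    exact (hUmem v).mp this
  -- x preserves U
  have hxU : ∀ v ∈ U, x v ∈ U := by
    intro v hv
    rw [hUmem] at hv ⊢
    have := LinearMap.congr_fun hc v
    simp only [Module.End.mul_apply] at this
    rw [← this, hv]
  have hx7 : ∀ v, x^[7] v = v := by
    intro v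
    rw [← Module.End.pow_apply, hx, Module.End.one_apply]
  -- the restriction of x to U
  let g : U → U := fun u => ⟨x u.1, hxU u.1 u.2⟩
  have hg : ∀ (n : ℕ) (u : U), ((g^[n] u : U) : V) = x^[n] u.1 := by
    intro n
    induction n with
    | zero => intro u; rfl
    | succ n ih =>
      intro u
      rw [Function.iterate_succ_apply', Function.iterate_succ_apply']
      show x ((g^[n] u : U) : V) = _
      rw [ih]
  have hg7 : g^[7] = id := by
    funext u
    apply Subtype.ext
    rw [hg, hx7]; rfl
  have hmodU := og_card_fixed_modEq g hg7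
  have hcardU := og_card_submodule hF U
  have hkU : Module.finrank F U = 1 ∨ Module.finrank F U = 2 := by
    have h0 : Module.finrank F U ≠ 0 := by
      intro h; exact hUbot (Submodule.finrank_eq_zero.mp h)
    have hlt : Module.finrank F U < 3 := by
      rw [← h3]; exact Submodule.finrank_lt hUtop
    omega
  -- a nonzero fixed vector in U
  have hex : ∃ u : V, u ≠ 0 ∧ x u = u := by
    by_contra hne
    push Not at hne
    have hsub : Subsingleton {a : U // g a = a} := by
      constructor
      rintro ⟨a, ha⟩ ⟨b, hb⟩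
      have ha' : x a.1 = a.1 := congrArg Subtype.val ha
      have hb' : x b.1 = b.1 := congrArg Subtype.val hb
      have ha0 : a.1 = 0 := by by_contra h; exact hne a.1 h ha'
      have hb0 : b.1 = 0 := by by_contra h; exact hne b.1 h hb'
      apply Subtype.ext; apply Subtype.ext; rw [ha0, hb0]
    have hle : Nat.card {a : U // g a = a} ≤ 1 := Finite.card_le_one_iff_subsingleton.mpr hsub
    rw [hcardU] at hmodU
    have hmod' : (9 ^ Module.finrank F U) % 7 = Nat.card {a : U // g a = a} % 7 := hmodU
    rcases hkU with h | h <;> rw [h] at hmod' <;> norm_num at hmod' <;> omega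
  obtain ⟨u, hu0, hxu⟩ := hex
  -- the fixed space of x
  set W : Submodule F V := LinearMap.ker (x - 1) with hW
  have hWmem : ∀ v, v ∈ W ↔ x v = v := by
    intro v
    rw [hW, LinearMap.mem_ker, LinearMap.sub_apply, Module.End.one_apply, sub_eq_zero]
  have hmodV := og_card_fixed_modEq (fun v : V => x v) (by funext v; exact hx7 v)
  have hcardV : Nat.card V = 729 := by
    have := Module.natCard_eq_pow_finrank (K := F) (V := V)
    rw [Nat.card_eq_fintype_card (α := F), hF, h3] at this
    rw [this]; norm_num
  have hcardW := og_card_submodule hF W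
  have hWeq : Nat.card {a : V // x a = a} = Nat.card W := by
    apply Nat.card_congr
    exact Equiv.subtypeEquivRight (fun v => (hWmem v).symm)
  rw [hcardV, hWeq, hcardW] at hmodV
  have hkW : Module.finrank F W ≤ 3 := by rw [← h3]; exact Submodule.finrank_le W
  have hkW0 : Module.finrank F W ≠ 0 := by
    intro h
    have := Submodule.finrank_eq_zero.mp h
    have hu : u ∈ W := (hWmem u).mpr hxu
    rw [this, Submodule.mem_bot] at hu
    exact hu0 hu
  have hk3 : Module.finrank F W = 3 := by
    have hmod' : 729 % 7 = (9 ^ Module.finrank F W) % 7 := hmodV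
    interval_cases (Module.finrank F W) <;> simp_all
  have hWtop : W = ⊤ := Submodule.eq_top_of_finrank_eq (by rw [hk3, h3])
  apply LinearMap.ext
  intro v
  rw [Module.End.one_apply]
  exact (hWmem v).mp (by rw [hWtop]; trivial)

end LA


section SL
variable {F : Type*} [Field F] [Fintype F]

/-- `SL_3(9)` has no element of order 14 -/
theorem og_no_fourteen_SL (hF : Fintype.card F = 9) (g : Matrix.SpecialLinearGroup (Fin 3) F) :
    orderOf g ≠ 14 := by
  intro hg
  have hp3 : Fact (Nat.Prime 3) := ⟨Nat.prime_three⟩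
  have hF' : Fintype.card F = 3 ^ 2 := by rw [hF]; norm_num
  have hchar : CharP F 3 := charP_of_card_eq_prime_pow hF'
  have h3 : (3 : F) = 0 := by exact_mod_cast CharP.cast_eq_zero F 3
  have h2 : (2 : F) ≠ 0 := by
    intro h0
    have : (1 : F) = 0 := by linear_combination h3 - h0
    exact one_ne_zero this
  set A : Matrix (Fin 3) (Fin 3) F := (g : Matrix (Fin 3) (Fin 3) F) with hA
  have hA14 : A ^ 14 = 1 := by
    have := pow_orderOf_eq_one g
    rw [hg] at this
    have h := congrArg (fun s : Matrix.SpecialLinearGroup (Fin 3) F => (s : Matrix (Fin 3) (Fin 3) F)) this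
    simpa using h
  let e := Matrix.toLinAlgEquiv' (R := F) (n := Fin 3)
  have hx : (e (A ^ 2)) ^ 7 = 1 := by
    rw [← map_pow, ← pow_mul, hA14, map_one]
  have hz : e (A ^ 7) * e (A ^ 7) = 1 := by
    rw [← map_mul, ← pow_add, hA14, map_one]
  have hz1 : e (A ^ 7) ≠ 1 := by
    intro h
    have h7 : A ^ 7 = 1 := e.injective (by rw [h, map_one])
    have : g ^ 7 = 1 := by
      apply Subtype.ext
      simpa using h7
    have := orderOf_dvd_of_pow_eq_one this
    rw [hg] at this; omega
  have hzm : e (A ^ 7) ≠ -1 := by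
    intro h
    have h7 : A ^ 7 = -1 := e.injective (by rw [h, map_neg, map_one])
    have hdet : (A ^ 7).det = 1 := by rw [Matrix.det_pow, hA, g.det_coe, one_pow]
    rw [h7, Matrix.det_neg, Matrix.det_one, Fintype.card_fin] at hdet
    apply h2
    linear_combination -hdet
  have hc : e (A ^ 2) * e (A ^ 7) = e (A ^ 7) * e (A ^ 2) := by
    rw [← map_mul, ← map_mul, ← pow_add, ← pow_add]
  have hfin : Module.finrank F (Fin 3 → F) = 3 := Module.finrank_fin_fun F
  have hx1 := og_la_lin hF hfin (e (A ^ 2)) (e (A ^ 7)) hx hz hz1 hzm hc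
  have hA2 : A ^ 2 = 1 := e.injective (by rw [hx1, map_one])
  have : g ^ 2 = 1 := by
    apply Subtype.ext
    simpa using hA2
  have := orderOf_dvd_of_pow_eq_one this
  rw [hg] at this; omega

/-- the centre of `SU_3(3)` is trivial -/
theorem og_center_SU33 (hF : Fintype.card F = 9) : Subgroup.center (Cfsg.SU 3 F 3) = ⊥ := by
  have hF' : Fintype.card F = 3 ^ 2 := by rw [hF]; norm_num
  have h := Cfsg.Agent.Lib.H2.Unitary.card_center_SU (F := F) (q := 3) (n := 3) hF' (by norm_num)
  have h1 : Nat.gcd 3 (3 + 1) = 1 := by decide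
  rw [h1] at h
  exact Subgroup.card_eq_one.mp h

/-- `|PSU₃(3)| = 6048` -/
theorem og_card_PSU33 (hF : Fintype.card F = 9) : Nat.card (Cfsg.PSU 3 F 3) = 6048 := by
  have hF' : Fintype.card F = 3 ^ 2 := by rw [hF]; norm_num
  have h := Cfsg.Agent.Lib.H2.Unitary.card_SU_mul (F := F) (q := 3) (n := 3) hF' (by norm_num)
  have h2 : Cfsg.Agent.Lib.H2.Unitary.ordGU 3 3 = 24192 := by
    unfold Cfsg.Agent.Lib.H2.Unitary.ordGU
    decide
  rw [h2] at h
  have hSU : Nat.card (Cfsg.SU 3 F 3) = 6048 := by omega
  have hq := Subgroup.card_eq_card_quotient_mul_card_subgroup (Subgroup.center (Cfsg.SU 3 F 3))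
  have hc : Nat.card (Subgroup.center (Cfsg.SU 3 F 3)) = 1 := by
    rw [og_center_SU33 hF, Subgroup.card_bot]
  rw [hc, mul_one, hSU] at hq
  exact hq.symm

/-- `PSU₃(3)` has no element of order 14 -/
theorem og_no_fourteen_PSU33 (hF : Fintype.card F = 9) (g : Cfsg.PSU 3 F 3) : orderOf g ≠ 14 := by
  induction g using QuotientGroup.induction_on with
  | H a =>
  have hinj : Function.Injective (QuotientGroup.mk' (Subgroup.center (Cfsg.SU 3 F 3))) := by
    rw [← MonoidHom.ker_eq_bot_iff, QuotientGroup.ker_mk', og_center_SU33 hF]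
  have h1 : orderOf ((QuotientGroup.mk' (Subgroup.center (Cfsg.SU 3 F 3))) a) = orderOf a :=
    orderOf_injective _ hinj a
  show orderOf ((QuotientGroup.mk' (Subgroup.center (Cfsg.SU 3 F 3))) a) ≠ 14
  rw [h1, ← Subgroup.orderOf_coe]
  exact og_no_fourteen_SL hF (a : Matrix.SpecialLinearGroup (Fin 3) F)

/-- `PSU₃(3)` is simple -/
theorem og_simple_PSU33 (hF : Fintype.card F = 9) : IsSimpleGroup (Cfsg.PSU 3 F 3) := by
  have hF' : Fintype.card F = 3 ^ 2 := by rw [hF]; norm_num
  exact Cfsg.Agent.Lib.H11.USimple.psu_simple hF' 3 (le_refl 3) (by omega)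

end SL

end Cfsg.Agent.Lib.H7.OG
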