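import Mathlib
import Cfsg.Prelude.Def_Classical
import Cfsg.Prelude.Def_Solvable
import Cfsg.Agent.Lib.H7.OGU33a
import Cfsg.Agent.Lib.H7.OGU33b

/-!
# S2936 extra `PSU₃(3)`, `p = 2` (helper7)

Every subgroup `M` of odd index of `K ≅ PSU₃(3)` with `O_2(M) = 1` is `K` (`og_PSU33`, `og_of_iso_PSU33`).
-/

set_option autoImplicit false

namespace Cfsg.Agent.Lib.H7.OG
open Cfsg

/-- S2936 for `K ≅ PSU₃(3)`, `p = 2` -/
theorem og_of_iso_PSU33 {K : Type*} [Group K] [Finite K] {F : Type*} [Field F] [Fintype F]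
    (hF : Fintype.card F = 9) (e : K ≃* Cfsg.PSU 3 F 3) (M : Subgroup K)
    (hM : Cfsg.pCore 2 ↥M = ⊥) (hidx : ¬ 2 ∣ M.index) : M = ⊤ := by
  have hcard : Nat.card K = 6048 := by
    rw [Nat.card_congr e.toEquiv]; exact og_card_PSU33 hF
  have hs : IsSimpleGroup (Cfsg.PSU 3 F 3) := og_simple_PSU33 hF
  have hsK : IsSimpleGroup K := MulEquiv.isSimpleGroup e
  have h14 : ∀ g : K, orderOf g ≠ 14 := by
    intro g hg
    apply og_no_fourteen_PSU33 hF (e g)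
    rw [MulEquiv.orderOf_eq]; exact hg
  exact og_of_card_6048 hcard h14 M hM hidx

/-- S2936 for `PSU₃(3)`, `p = 2` -/
theorem og_PSU33 {F : Type*} [Field F] [Fintype F] (hF : Fintype.card F = 9)
    (M : Subgroup (Cfsg.PSU 3 F 3)) (hM : Cfsg.pCore 2 ↥M = ⊥) (hidx : ¬ 2 ∣ M.index) : M = ⊤ := by
  have : Finite (Cfsg.PSU 3 F 3) :=
    Nat.finite_of_card_ne_zero (by rw [og_card_PSU33 hF]; norm_num)
  exact og_of_iso_PSU33 hF (MulEquiv.refl _) M hM hidx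

end Cfsg.Agent.Lib.H7.OG
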