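import Mathlib
import Cfsg.Prelude.Def_Classical
import Cfsg.Prelude.Def_Solvable
import Cfsg.Agent.Lib.H18.OGDefs
import Cfsg.Agent.Lib.H7.OGU33

/-!
# S2936 piece PSU33 (`p = 2`), exact signature of `tools/blueprints/S2936_sigs.lean` (helper7)
-/

set_option autoImplicit false

namespace Cfsg.Agent.Lib.H7.OGE

open Cfsg Cfsg.Agent.Lib.H18.OG

/-- PSU33 (p = 2): every subgroup of odd index of `PSU₃(3)` with trivial `O_2` is the whole group -/
theorem og_PSU33 (F : Type*) [Field F] [Fintype F] (hF : Fintype.card F = 9) :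
    OvergroupProp 2 (PSU 3 F 3) :=
  fun M hM hidx => Cfsg.Agent.Lib.H7.OG.og_PSU33 hF M hM hidx

end Cfsg.Agent.Lib.H7.OGE
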