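import Mathlib
import Cfsg.Agent.Lib.H8.TIInd
import Cfsg.Agent.Lib.H8.Dade
import Cfsg.Agent.S1500
import Cfsg.Agent.S1501

/-!
# The Dade map on `zspanOn S {1}ᶜ` (helper7, for S1542)

* `isLinearIsometryOn_dadeIsometry`: under the Dade hypothesis for `(A, L, H)`, if the members of `S`
  are characters of `L` vanishing off `A ∪ {1}` then the Dade map is a linear isometry on
  `zspanOn S {1}ᶜ` with values vanishing at `1`.
* `dadeIsometry_eq_indFun_of_ti`: if moreover `H a = ⊥` for `a ∈ A` and `A` is a TI set with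
  normaliser inside `L`, the Dade map agrees with induction on class functions vanishing off `A`.
* `isCoherent_congr`: coherence only depends on the values of `τ` on `zspanOn S A`.
-/

set_option autoImplicit false

namespace Cfsg.Agent.Lib.H7.PF12

open Cfsg Cfsg.Agent.Lib.H8 Cfsg.Agent.Lib.L0
open scoped ComplexConjugate

section
variable {G : Type*} [Group G] [Fintype G]

theorem dadeIsometry_add (A : Set G) (L : Subgroup G) (H : G → Subgroup G) (α β : ↥L → ℂ) :
    dadeIsometry A L H (α + β) = dadeIsometry A L H α + dadeIsometry A L H β := by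
  funext g
  unfold dadeIsometry
  by_cases h : ∃ a : ↥L, (a : G) ∈ A ∧ ∃ x : G, ∃ u ∈ H (a : G), x * g * x⁻¹ = (a : G) * u
  · simp only [Pi.add_apply, dif_pos h]
  · simp only [Pi.add_apply, dif_neg h, add_zero]

theorem dadeIsometry_zsmul (A : Set G) (L : Subgroup G) (H : G → Subgroup G) (n : ℤ)
    (α : ↥L → ℂ) : dadeIsometry A L H (n • α) = n • dadeIsometry A L H α := by
  funext g
  unfold dadeIsometry
  by_cases h : ∃ a : ↥L, (a : G) ∈ A ∧ ∃ x : G, ∃ u ∈ H (a : G), x * g * x⁻¹ = (a : G) * u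
  · simp only [Pi.smul_apply, dif_pos h]
  · simp only [Pi.smul_apply, dif_neg h, smul_zero]

theorem dadeIsometry_apply_one (A : Set G) (L : Subgroup G) (H : G → Subgroup G)
    (hD : DadeHypothesis A L H) (α : ↥L → ℂ) : dadeIsometry A L H α 1 = 0 := by
  apply dadeIsometry_eq_zero
  rintro ⟨a, ha, x, u, hu, hx⟩
  have h1 : (a : G) * u = 1 := by rw [← hx]; group
  have hau : (a : G) = u⁻¹ := eq_inv_of_mul_eq_one_left h1
  have h3 : (a : G) ∈ H (a : G) := by
    have := (H (a : G)).inv_mem hu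
    rwa [← hau] at this
  have h4 : (a : G) ∈ Subgroup.centralizer ({(a : G)} : Set G) :=
    Subgroup.mem_centralizer_singleton_iff.mpr rfl
  have h2 : (a : G) ∈ H (a : G) ⊓ (L ⊓ Subgroup.centralizer ({(a : G)} : Set G)) :=
    ⟨h3, a.2, h4⟩
  rw [hD.inf_eq_bot (a : G) ha, Subgroup.mem_bot] at h2
  exact hD.one_not_mem (h2 ▸ ha)

/-- members of `zspanOn S {1}ᶜ` are generalized characters vanishing off `A`, when the members of
`S` are characters vanishing off `A ∪ {1}`. -/
theorem zspanOn_props (A : Set G) (L : Subgroup G) [Fintype ↥L] (S : Set (↥L → ℂ))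
    (hSchar : ∀ χ ∈ S, IsCharacter ↥L χ)
    (hSA : ∀ χ ∈ S, ∀ x : ↥L, x ≠ 1 → (x : G) ∉ A → χ x = 0) :
    ∀ α ∈ zspanOn S ({1}ᶜ : Set ↥L), IsGeneralizedCharacter ↥L α ∧
      ∀ x : ↥L, (x : G) ∉ A → α x = 0 := by
  classical
  have hspan : ∀ α ∈ zspan S, IsGeneralizedCharacter ↥L α ∧
      ∀ x : ↥L, x ≠ 1 → (x : G) ∉ A → α x = 0 := by
    intro α hα
    induction hα using Submodule.span_induction with
    | mem χ hχ => exact ⟨isGeneralizedCharacter_of_isCharacter (hSchar χ hχ), hSA χ hχ⟩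
    | zero => exact ⟨isGeneralizedCharacter_zero, fun _ _ _ => rfl⟩
    | add a b _ _ iha ihb =>
      refine ⟨isGeneralizedCharacter_add iha.1 ihb.1, fun x hx hxA => ?_⟩
      rw [Pi.add_apply, iha.2 x hx hxA, ihb.2 x hx hxA, add_zero]
    | smul n a _ iha =>
      refine ⟨isGeneralizedCharacter_zsmul iha.1 n, fun x hx hxA => ?_⟩
      rw [Pi.smul_apply, iha.2 x hx hxA, smul_zero]
  intro α hα
  obtain ⟨h1, h2⟩ := hα
  obtain ⟨h3, h4⟩ := hspan α h1
  refine ⟨h3, fun x hxA => ?_⟩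
  by_cases hx : x = 1
  · apply h2
    rw [hx]
    simp
  · exact h4 x hx hxA

/-- **B**: the Dade map is a linear isometry on `zspanOn S {1}ᶜ`. -/
theorem isLinearIsometryOn_dadeIsometry (A : Set G) (L : Subgroup G) [Fintype ↥L]
    (H : G → Subgroup G) (hD : DadeHypothesis A L H) (S : Set (↥L → ℂ))
    (hSchar : ∀ χ ∈ S, IsCharacter ↥L χ)
    (hSA : ∀ χ ∈ S, ∀ x : ↥L, x ≠ 1 → (x : G) ∉ A → χ x = 0) :
    IsLinearIsometryOn (zspanOn S ({1}ᶜ : Set ↥L)) (dadeIsometry A L H) ∧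
      ∀ α ∈ zspanOn S ({1}ᶜ : Set ↥L), dadeIsometry A L H α 1 = 0 := by
  classical
  have hon := zspanOn_props A L S hSchar hSA
  refine ⟨⟨?_, ?_, ?_, ?_⟩, ?_⟩
  · intro α _ β _
    exact dadeIsometry_add A L H α β
  · intro α _ n
    exact dadeIsometry_zsmul A L H n α
  · intro α hα β hβ
    exact (Cfsg.Agent.S1500.result A L H hD α
      (isClassFunction_of_isGeneralizedCharacter (hon α hα).1) (hon α hα).2).1 β
      (isClassFunction_of_isGeneralizedCharacter (hon β hβ).1) (hon β hβ).2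
  · intro α hα
    exact Cfsg.Agent.S1501.result A L H hD α (hon α hα).1 (hon α hα).2
  · intro α _
    exact dadeIsometry_apply_one A L H hD α

/-- **C**: with trivial supports on a TI set, the Dade map is induction. -/
theorem dadeIsometry_eq_indFun_of_ti (A : Set G) (L : Subgroup G) [Fintype ↥L]
    (H : G → Subgroup G) (hD : DadeHypothesis A L H) (hH : ∀ a ∈ A, H a = ⊥)
    (hTI : ∀ g : G, ∀ a ∈ A, g * a * g⁻¹ ∈ A → g ∈ L)
    (α : ↥L → ℂ) (hα : IsClassFunction ↥L α) (hαA : ∀ x : ↥L, (x : G) ∉ A → α x = 0) :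
    dadeIsometry A L H α = indFun L α := by
  classical
  funext g
  have hcl := isClassFunction_indFun L α
  by_cases h : ∃ a : ↥L, (a : G) ∈ A ∧ ∃ x : G, ∃ u ∈ H (a : G), x * g * x⁻¹ = (a : G) * u
  · obtain ⟨a, ha, x, u, hu, hx⟩ := h
    rw [dadeIsometry_eq hD α hα ha hu hx]
    rw [hH (a : G) ha, Subgroup.mem_bot] at hu
    rw [hu, mul_one] at hx
    have h1 : indFun L α g = indFun L α (x * g * x⁻¹) := (hcl g x).symm
    rw [h1, hx]
    exact (indFun_apply_of_tiSet L A hTI α hα hαA a ha).symm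
  · rw [dadeIsometry_eq_zero α h]
    symm
    rw [Cfsg.Agent.Lib.H8.indFun_apply]
    rw [Finset.sum_eq_zero, mul_zero]
    intro y _
    by_cases hy : y⁻¹ * g * y ∈ L
    · rw [extendByZero_of_mem L α hy]
      apply hαA
      intro hyA
      apply h
      refine ⟨⟨y⁻¹ * g * y, hy⟩, hyA, y⁻¹, 1, ?_, ?_⟩
      · rw [hH _ hyA]; exact Subgroup.mem_bot.mpr rfl
      · simp
    · exact extendByZero_of_not_mem L α hy

end

/-- coherence only depends on the values of `τ` on `zspanOn S A`. -/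
theorem isCoherent_congr {L : Type*} [Group L] [Fintype L] {G : Type*} [Group G] [Fintype G]
    (S : Set (L → ℂ)) (A : Set L) (τ τ' : (L → ℂ) → (G → ℂ))
    (h : ∀ α ∈ zspanOn S A, τ α = τ' α) (hc : IsCoherent S A τ') : IsCoherent S A τ := by
  obtain ⟨h1, τ₁, h2, h3⟩ := hc
  exact ⟨h1, τ₁, h2, fun α hα => (h3 α hα).trans (h α hα).symm⟩

end Cfsg.Agent.Lib.H7.PF12
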