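import Mathlib
import Cfsg.Agent.Lib.H7.BG16i
import Cfsg.Agent.Lib.H21.BGTildeA
import Cfsg.Agent.Lib.H8.BG12k
import Cfsg.Agent.S1362
import Cfsg.Agent.S1366
import Cfsg.Agent.S1371
import Cfsg.Agent.S1375
import Cfsg.Agent.S1378
import Cfsg.Agent.S1432
import Cfsg.Agent.S1434
import Cfsg.Agent.S1438

/-!
# Peterfalvi Section 8 (helper7), part a: conjugacy inside `A₀(M)` (σ-language)

`M` a maximal subgroup with standard factorisation `M = K U M_σ`.  The set
`sigmaA0 M K` splits into `M_σ`, `A(M) ∖ M_σ` and the `M`-conjugates of `Ẑ`; two `G`-conjugate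
non-identity elements of it are conjugate under `M`, or both lie in `M_σ`.
-/

set_option autoImplicit false
set_option linter.style.haveILetI false
set_option linter.unusedSectionVars false
set_option linter.unusedVariables false

open Cfsg
open Cfsg.Agent.Lib.H16.BG
open Cfsg.Agent.Lib.H7.BG7
open Cfsg.Agent.Lib.H19 (IsPiCard)

namespace Cfsg.Agent.Lib.H7.PF8

universe u
variable {G : Type u} [Group G] [Finite G]

local notation:max "cj(" g ", " X ")" => Subgroup.map (MulEquiv.toMonoidHom (MulAut.conj g)) X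

variable {M K U : Subgroup G}

/-- the union of the `M`-conjugates of `Ẑ = K K* ∖ (K ∪ K*)`. -/
def zhatM (M K : Subgroup G) : Set G :=
  {a : G | ∃ m ∈ M, ∃ z ∈ ((↑(K ⊔ (sigmaCore M ⊓ Subgroup.centralizer (K : Set G))) : Set G) \
    ((K : Set G) ∪ ↑(sigmaCore M ⊓ Subgroup.centralizer (K : Set G)))), a = m * z * m⁻¹}

theorem sigmaA0_subset (M K : Subgroup G) {a : G} (ha : a ∈ sigmaA0 M K) : a ∈ M := ha.1.1

/-- an element of `A₀(M)` lies in `A(M)` or in `Ẑ^M`. -/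
theorem mem_sigmaA_or_zhatM (hG : IsMinSimpleOddOrder G) (hM : IsCoatom M)
    (hKU : IsSigmaDecomposition M K U) {a : G} (ha : a ∈ sigmaA0 M K) :
    a ∈ sigmaA M U ∨ (K ≠ ⊥ ∧ a ∈ zhatM M K) := by
  by_cases hK : K = ⊥
  · left
    subst hK
    refine ⟨ha.1, ?_⟩
    have h := Cfsg.Agent.Lib.H20.BGQ.sup_eq_of_isComplIn hKU.compl
    rw [bot_sup_eq] at h
    rw [h]
    exact ha.1.1
  · by_cases h : a ∈ sigmaA M U
    · exact Or.inl h
    · right
      refine ⟨hK, ?_⟩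
      have h1 := (Cfsg.Agent.S1371.result hG M hM K U hKU hK).1
      unfold zhatM
      rw [h1]
      exact ⟨ha, h⟩

/-- the centralizer of an element of `Ẑ^M` lies in `M`. -/
theorem centralizer_zhatM_le (hG : IsMinSimpleOddOrder G) (hM : IsCoatom M)
    (hKU : IsSigmaDecomposition M K U) (hK1 : K ≠ ⊥) {a : G} (ha : a ∈ zhatM M K) :
    Subgroup.centralizer ({a} : Set G) ≤ M := by
  obtain ⟨Ms, hMs, hKst, hKstH⟩ := Cfsg.Agent.Lib.H7.BG16.exists_partner hG hM hKU hK1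
  obtain ⟨m, hm, z, ⟨hzZ, hzn⟩, rfl⟩ := ha
  obtain ⟨k, hk, s, hs, rfl⟩ := Cfsg.Agent.Lib.H7.BG147.exists_mul_of_mem_sup hzZ
  have hk1 : k ≠ 1 := by
    rintro rfl
    apply hzn
    right
    rw [one_mul]
    exact hs
  have hs1 : s ≠ 1 := by
    rintro rfl
    apply hzn
    left
    rw [mul_one]
    exact hk
  have hC := ((Cfsg.Agent.S1434.result hG M hM K U hKU hK1 Ms hMs hKst hKstH).2.2.1
    k hk hk1 s hs hs1).2.2
  have hZM : K ⊔ (sigmaCore M ⊓ Subgroup.centralizer (K : Set G)) ≤ M :=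
    sup_le hKU.hall.1 (inf_le_left.trans (Cfsg.Agent.Lib.H20.BGS.sigmaCore_le M))
  intro c hc
  have h1 : m⁻¹ * c * m ∈ Subgroup.centralizer ({k * s} : Set G) := by
    rw [Subgroup.mem_centralizer_iff] at hc ⊢
    intro y hy
    rw [Set.mem_singleton_iff] at hy
    subst hy
    have h2 := hc (m * (k * s) * m⁻¹) (Set.mem_singleton _)
    calc k * s * (m⁻¹ * c * m) = m⁻¹ * (m * (k * s) * m⁻¹ * c) * m := by group
      _ = m⁻¹ * (c * (m * (k * s) * m⁻¹)) * m := by rw [h2]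
      _ = m⁻¹ * c * m * (k * s) := by group
  rw [hC] at h1
  have h3 : m⁻¹ * c * m ∈ M := hZM h1
  have h4 : c = m * (m⁻¹ * c * m) * m⁻¹ := by group
  rw [h4]
  exact M.mul_mem (M.mul_mem hm h3) (M.inv_mem hm)

/-- a conjugate of an element of `Ẑ^M` lying in `M` is an `M`-conjugate. -/
theorem mem_of_conj_mem_zhatM (hG : IsMinSimpleOddOrder G) (hM : IsCoatom M)
    (hKU : IsSigmaDecomposition M K U) (hK1 : K ≠ ⊥) {a g : G} (ha : a ∈ zhatM M K)
    (hga : g * a * g⁻¹ ∈ M) : g ∈ M := by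
  obtain ⟨Ms, hMs, hKst, hKstH⟩ := Cfsg.Agent.Lib.H7.BG16.exists_partner hG hM hKU hK1
  obtain ⟨m, hm, z, hz, rfl⟩ := ha
  have hTI := (Cfsg.Agent.S1434.result hG M hM K U hKU hK1 Ms hMs hKst hKstH).2.2.2.1
  by_contra hg
  have hgm : (g * m)⁻¹ ∉ M := by
    intro h
    apply hg
    have h1 : g * m ∈ M := by
      have := M.inv_mem h
      rwa [inv_inv] at this
    have h2 : g = g * m * m⁻¹ := by group
    rw [h2]
    exact M.mul_mem h1 (M.inv_mem hm)
  apply hTI _ hgm z hz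
  rw [mem_cj_iff, inv_inv]
  have h3 : g * m * z * (g * m)⁻¹ = g * (m * z * m⁻¹) * g⁻¹ := by group
  rw [h3]
  exact hga

/-- a conjugate in `M` of an element of `M_σ` lies in `M_σ`. -/
theorem mem_sigmaCore_of_conj (hG : IsMinSimpleOddOrder G) (hM : IsCoatom M) {b g : G}
    (hb : b ∈ sigmaCore M) (h : g * b * g⁻¹ ∈ M) : g * b * g⁻¹ ∈ sigmaCore M := by
  have hle : Subgroup.zpowers (g * b * g⁻¹) ≤ sigmaCore M := by
    apply le_sigmaCore_of hG hM (Subgroup.zpowers_le.2 h)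
    intro q hq hd
    rw [Nat.card_zpowers] at hd
    have h1 : orderOf (g * b * g⁻¹) = orderOf b := by
      have := MulEquiv.orderOf_eq (MulAut.conj g) b
      rwa [MulAut.conj_apply] at this
    rw [h1] at hd
    exact Cfsg.Agent.Lib.H20.BGS.sigmaCore_isPiCard M q hq
      (hd.trans (Subgroup.orderOf_dvd_natCard _ hb))
  exact hle (Subgroup.mem_zpowers _)

/-- the centralizer of an element of `A(M) ∖ M_σ` lies in `M`. -/
theorem centralizer_Y_le (hG : IsMinSimpleOddOrder G) (hM : IsCoatom M)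
    (hKU : IsSigmaDecomposition M K U) {a : G}
    (ha : a ∈ sigmaA M U \ (sigmaCore M : Set G)) :
    Subgroup.centralizer ({a} : Set G) ≤ M := by
  obtain ⟨h1, -⟩ := Cfsg.Agent.S1362.key hG M hM K U hKU a ha
  refine le_trans ?_ h1
  intro c hc
  rw [Subgroup.mem_centralizer_iff] at hc ⊢
  intro w hw
  obtain ⟨k, rfl⟩ := Subgroup.mem_zpowers_iff.1 hw
  have h2 : Commute a c := hc a (Set.mem_singleton a)
  exact ((h2.pow_left _).zpow_left k).eq

/-- two `G`-conjugate elements of `A(M) ∖ M_σ` are conjugate by an element of `M`. -/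
theorem mem_of_conj_mem_Y (hG : IsMinSimpleOddOrder G) (hM : IsCoatom M)
    (hKU : IsSigmaDecomposition M K U) {x g : G}
    (hx : x ∈ sigmaA M U \ (sigmaCore M : Set G))
    (hgx : g * x * g⁻¹ ∈ sigmaA M U \ (sigmaCore M : Set G)) : g ∈ M := by
  obtain ⟨h1, h2⟩ := Cfsg.Agent.S1362.key hG M hM K U hKU x hx
  obtain ⟨h3, h4⟩ := Cfsg.Agent.S1362.key hG M hM K U hKU _ hgx
  set n := Nat.card (sigmaCore M) with hn
  have hMne : M ≠ ⊥ := by
    intro h
    have : x ∈ M := hx.1.1.1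
    rw [h, Subgroup.mem_bot] at this
    apply hx.2
    rw [this]
    exact Subgroup.one_mem _
  have hNM : Subgroup.normalizer (M : Set G) = M :=
    normalizer_eq_of_coatom hG hM le_rfl hMne Subgroup.le_normalizer
  have hconj : cj(g, M) = M := by
    apply h4 _ (isCoatom_map_conj hM g)
    intro z hz
    rw [mem_cj_iff]
    apply h1
    rw [Subgroup.mem_centralizer_iff] at hz ⊢
    intro w hw
    obtain ⟨k, rfl⟩ := Subgroup.mem_zpowers_iff.1 hw
    have h5 : (g * x * g⁻¹) ^ n = g * x ^ n * g⁻¹ := conj_pow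
    have h6 : ((g * x * g⁻¹) ^ n) ^ k * z = z * ((g * x * g⁻¹) ^ n) ^ k :=
      hz _ (Subgroup.zpow_mem_zpowers _ k)
    rw [h5, conj_zpow] at h6
    calc (x ^ n) ^ k * (g⁻¹ * z * g) = g⁻¹ * (g * (x ^ n) ^ k * g⁻¹ * z) * g := by group
      _ = g⁻¹ * (z * (g * (x ^ n) ^ k * g⁻¹)) * g := by rw [h6]
      _ = g⁻¹ * z * g * (x ^ n) ^ k := by group
  rw [← hNM]
  exact Subgroup.mem_normalizer_iff_map_conj_eq.2 hconj

/-- **conjugacy in `A₀(M)`**: two `G`-conjugate non-identity elements of `A₀(M)` are conjugate by an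
element of `M`, or both lie in `M_σ`. -/
theorem conj_cases (hG : IsMinSimpleOddOrder G) (hM : IsCoatom M)
    (hKU : IsSigmaDecomposition M K U) {a g : G} (ha : a ∈ sigmaA0 M K)
    (hga : g * a * g⁻¹ ∈ sigmaA0 M K) :
    g ∈ M ∨ (a ∈ sigmaCore M ∧ g * a * g⁻¹ ∈ sigmaCore M) := by
  have hback : g⁻¹ * (g * a * g⁻¹) * g⁻¹⁻¹ = a := by group
  rcases mem_sigmaA_or_zhatM hG hM hKU ha with h1 | ⟨hK1, h1⟩
  · rcases mem_sigmaA_or_zhatM hG hM hKU hga with h2 | ⟨hK1, h2⟩
    · by_cases hσ : a ∈ sigmaCore M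
      · exact Or.inr ⟨hσ, mem_sigmaCore_of_conj hG hM hσ hga.1.1⟩
      · left
        have hσ' : g * a * g⁻¹ ∉ sigmaCore M := by
          intro h
          apply hσ
          have h3 := mem_sigmaCore_of_conj hG hM h (g := g⁻¹) (by rw [hback]; exact ha.1.1)
          rwa [hback] at h3
        exact mem_of_conj_mem_Y hG hM hKU ⟨h1, hσ⟩ ⟨h2, hσ'⟩
    · left
      have h3 := mem_of_conj_mem_zhatM hG hM hKU hK1 h2 (g := g⁻¹)
        (by rw [hback]; exact ha.1.1)
      have := M.inv_mem h3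
      rwa [inv_inv] at this
  · exact Or.inl (mem_of_conj_mem_zhatM hG hM hKU hK1 h1 hga.1.1)

end Cfsg.Agent.Lib.H7.PF8
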