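import Mathlib
import Cfsg.Agent.Lib.H7.PF8a
import Cfsg.Agent.S1355
import Cfsg.Agent.S1356

/-!
# Peterfalvi Section 8 (helper7), part b: the sets `A₁(M)`, `A(M)`, `A₀(M)` are admissible

In every case `typeCore M = M_σ`, and the three sets contain `M_σ ∖ {1}`, are contained in
`sigmaA0 M K ∖ {1}` and are `M`-invariant.
-/

set_option autoImplicit false
set_option linter.style.haveILetI false
set_option linter.unusedSectionVars false
set_option linter.unusedVariables false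

open Cfsg
open Cfsg.Agent.Lib.H16.BG
open Cfsg.Agent.Lib.H7.BG7
open Cfsg.Agent.Lib.H7.BG16
open Cfsg.Agent.Lib.H19 (IsPiCard)

namespace Cfsg.Agent.Lib.H7.PF8

universe u
variable {G : Type u} [Group G] [Finite G]

local notation:max "cj(" g ", " X ")" => Subgroup.map (MulEquiv.toMonoidHom (MulAut.conj g)) X

variable {M K U W₁ UP W₂ : Subgroup G}

/-- `A` contains `M_σ ∖ {1}`, lies in `A₀(M) ∖ {1}` (σ-language) and is `M`-invariant. -/
def Admissible (M K : Subgroup G) (A : Set G) : Prop :=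
  (∀ a ∈ sigmaCore M, a ≠ 1 → a ∈ A) ∧ (∀ a ∈ A, a ∈ sigmaA0 M K ∧ a ≠ 1) ∧
    ∀ m ∈ M, ∀ a ∈ A, m * a * m⁻¹ ∈ A

theorem h55 (hG : IsMinSimpleOddOrder G) : Hyp1355 G :=
  fun M hM => Cfsg.Agent.S1355.result hG M hM

theorem h56 (hG : IsMinSimpleOddOrder G) : Hyp1356 G :=
  fun M hM => Cfsg.Agent.S1356.result hG M hM

theorem h57 (hG : IsMinSimpleOddOrder G) : Hyp1357 G :=
  fun M hM K U hKU hne => Cfsg.Agent.S1357.result hG M hM K U hKU hne

theorem h64 (hG : IsMinSimpleOddOrder G) : Hyp1364 G :=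
  fun M hM K U hKU hK1 => Cfsg.Agent.S1364.result hG M hM K U hKU hK1

/-- `K ∩ M_σ = 1`. -/
theorem K_inf_sigmaCore (hKU : IsSigmaDecomposition M K U) : K ⊓ sigmaCore M = ⊥ := by
  rw [eq_bot_iff]
  intro k hk
  obtain ⟨hkK, hkσ⟩ := Subgroup.mem_inf.1 hk
  rw [Subgroup.mem_bot]
  by_contra hk1
  have h1 : orderOf k ≠ 1 := fun h => hk1 (orderOf_eq_one_iff.1 h)
  obtain ⟨p, hp, hpd⟩ := Nat.exists_prime_and_dvd h1
  have h2 : p ∈ kappa M :=
    hKU.hall.2.1 p hp (hpd.trans (Subgroup.orderOf_dvd_natCard _ hkK))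
  have h3 : p ∈ sigma M := Cfsg.Agent.Lib.H20.BGS.sigmaCore_isPiCard M p hp
    (hpd.trans (Subgroup.orderOf_dvd_natCard _ hkσ))
  exact h2.2.2.1 h3

/-- `typeCore M = M_σ` given `S1363`. -/
theorem typeCore_eq_of_h63 (hG : IsMinSimpleOddOrder G) (h63 : Hyp1363 G) (hM : IsCoatom M)
    (hKU : IsSigmaDecomposition M K U) : typeCore M = sigmaCore M := by
  have h82 := s1382_of_hyps hG (h55 hG) (h56 hG) (h57 hG) h63 (h64 hG) hM hKU
  by_cases h : IsOfTypeIII M ∨ IsOfTypeIV M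
  · unfold typeCore
    rw [if_pos h]
    obtain ⟨hK1, hU, -⟩ := h82.1 h
    subst hU
    exact commutator_eq_sigmaCore hG hM hKU hK1
  · unfold typeCore
    rw [if_neg h]
    by_contra hne
    obtain ⟨hU, -, hKp⟩ := Cfsg.Agent.S1357.result hG M hM K U hKU hne
    have hK1 : K ≠ ⊥ := by
      rintro rfl
      rw [Subgroup.card_bot] at hKp
      exact Nat.not_prime_one hKp
    exact h (h82.2 ⟨hK1, hU, hne⟩)

/-- `typeCore M = M_σ` for `M` of Type II. -/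
theorem typeCore_eq_of_typeII (hG : IsMinSimpleOddOrder G) (hM : IsCoatom M)
    (hKU : IsSigmaDecomposition M K U) (hII : IsOfTypeII M) : typeCore M = sigmaCore M := by
  have hU₀ : U ≠ ⊥ := U_ne_bot_of_typeII hG hM hKU hII
  obtain ⟨W₁, UP, W₂, hP, hUP1, hW₁p, hTI, hcomm, hN, hF', hFF⟩ := hII
  have hK₀ : K ≠ ⊥ := K_ne_bot_of_typeP hG hM hKU hP
  have hFσ : fittingHallOf M = sigmaCore M := by
    by_contra hne
    exact hU₀ (Cfsg.Agent.S1357.result hG M hM K U hKU hne).1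
  have hcM : (⁅M, M⁆ : Subgroup G) ≤ M := Subgroup.commutator_le_self M
  have hcopOf : ∀ {A : Subgroup G}, IsComplIn (sigmaCore M) A ⁅M, M⁆ →
      (Nat.card A).Coprime (Nat.card ↥(sigmaCore M)) := by
    intro A hA
    have := Cfsg.Agent.Lib.H7.coprime_card_fittingHallOf (hA.2.1.trans hcM)
      (by rw [hFσ]; exact hA.2.2.1)
    rw [hFσ] at this
    exact this.symm
  have hcUP : IsComplIn (sigmaCore M) UP ⁅M, M⁆ := by
    have := hP.U_compl
    rwa [hFσ] at this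
  have hkey : ∀ W₁' UP' W₂' : Subgroup G, IsTypePWith M W₁' UP' W₂' →
      ¬ Subgroup.normalizer (UP' : Set G) ≤ M := by
    intro W₁' UP' W₂' hP' hN'
    have hcUP' : IsComplIn (sigmaCore M) UP' ⁅M, M⁆ := by
      have := hP'.U_compl
      rwa [hFσ] at this
    obtain ⟨m', hm', hmUP⟩ := exists_conj_of_isComplIn hG hM hcUP hcUP' (hcopOf hcUP)
    apply hN
    rw [← hmUP, normalizer_cj, cj_le_iff] at hN'
    rwa [cj_eq_self_of_mem (M.inv_mem hm')] at hN'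
  unfold typeCore
  rw [if_neg, hFσ]
  rintro (⟨W₁', UP', W₂', h, -, -, -, -, hN'⟩ | ⟨W₁', UP', W₂', h, -, -, -, -, hN'⟩)
  · exact hkey _ _ _ h hN'
  · exact hkey _ _ _ h hN'

/-- `M` normalizes `M'`. -/
theorem conj_mem_commutator {m a : G} (hm : m ∈ M) (ha : a ∈ (⁅M, M⁆ : Subgroup G)) :
    m * a * m⁻¹ ∈ (⁅M, M⁆ : Subgroup G) := by
  have haM : a ∈ M := Subgroup.commutator_le_self M ha
  have h1 : m * a * m⁻¹ * a⁻¹ ∈ (⁅M, M⁆ : Subgroup G) := Subgroup.commutator_mem_commutator hm haM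
  have h2 : m * a * m⁻¹ = m * a * m⁻¹ * a⁻¹ * a := by group
  rw [h2]
  exact Subgroup.mul_mem _ h1 ha

/-- `M` normalizes `M_σ`. -/
theorem conj_mem_sigmaCore {m a : G} (hm : m ∈ M) (ha : a ∈ sigmaCore M) :
    m * a * m⁻¹ ∈ sigmaCore M :=
  ((Subgroup.mem_normalizer_iff.1 (Cfsg.Agent.Lib.H20.BGS.le_normalizer_sigmaCore M hm)) a).1 ha

theorem conj_ne_one {m a : G} (ha : a ≠ 1) : m * a * m⁻¹ ≠ 1 := by
  intro h
  apply ha
  have : a = m⁻¹ * (m * a * m⁻¹) * m := by group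
  rw [this, h]
  group

theorem conj_comm {m a x : G} (h : a * x = x * a) :
    m * a * m⁻¹ * (m * x * m⁻¹) = m * x * m⁻¹ * (m * a * m⁻¹) := by
  calc m * a * m⁻¹ * (m * x * m⁻¹) = m * (a * x) * m⁻¹ := by group
    _ = m * (x * a) * m⁻¹ := by rw [h]
    _ = m * x * m⁻¹ * (m * a * m⁻¹) := by group

/-- a non-identity element of `M_σ` lies in `sigmaA0 M K`. -/
theorem mem_sigmaA0_of_mem_sigmaCore (hKU : IsSigmaDecomposition M K U) {a : G}
    (ha : a ∈ sigmaCore M) (ha1 : a ≠ 1) : a ∈ sigmaA0 M K := by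
  refine ⟨⟨Cfsg.Agent.Lib.H20.BGS.sigmaCore_le M ha, a, ha, ha1, rfl⟩, ?_⟩
  rintro ⟨k, hk, hk1, m, hm, rfl⟩
  apply hk1
  have h1 : k ∈ sigmaCore M := by
    have := conj_mem_sigmaCore (M.inv_mem hm) ha
    have e : m⁻¹ * (m * k * m⁻¹) * m⁻¹⁻¹ = k := by group
    rwa [e] at this
  have h2 : k ∈ K ⊓ sigmaCore M := Subgroup.mem_inf.2 ⟨hk, h1⟩
  rwa [K_inf_sigmaCore hKU, Subgroup.mem_bot] at h2

theorem admissible_typeA1 (hKU : IsSigmaDecomposition M K U)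
    (hcore : typeCore M = sigmaCore M) : Admissible M K (typeA1 M) := by
  unfold typeA1
  rw [hcore]
  refine ⟨fun a ha ha1 => ⟨ha, ha1⟩, ?_, ?_⟩
  · rintro a ⟨ha, ha1⟩
    exact ⟨mem_sigmaA0_of_mem_sigmaCore hKU ha ha1, ha1⟩
  · rintro m hm a ⟨ha, ha1⟩
    exact ⟨conj_mem_sigmaCore hm ha, conj_ne_one ha1⟩

theorem admissible_typeA (hG : IsMinSimpleOddOrder G) (hM : IsCoatom M)
    (hKU : IsSigmaDecomposition M K U) (hcore : typeCore M = sigmaCore M) :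
    Admissible M K (typeA M) := by
  by_cases hI : IsOfTypeI M
  · have hK : K = ⊥ := K_eq_bot_of_typeF hG hM hKU hI.1
    subst hK
    have hFσ : fittingHallOf M = sigmaCore M := by
      by_contra hne
      have h := (Cfsg.Agent.S1357.result hG M hM ⊥ U hKU hne).2.2
      rw [Subgroup.card_bot] at h
      exact Nat.not_prime_one h
    have hA : typeA M =
        {a | a ∈ M ∧ a ≠ 1 ∧ ∃ x ∈ fittingHallOf M, x ≠ 1 ∧ a * x = x * a} := by
      unfold typeA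
      rw [if_pos hI]
    rw [hA, hFσ]
    refine ⟨?_, ?_, ?_⟩
    · intro a ha ha1
      exact ⟨Cfsg.Agent.Lib.H20.BGS.sigmaCore_le M ha, ha1, a, ha, ha1, rfl⟩
    · rintro a ⟨haM, ha1, x, hx, hx1, hax⟩
      refine ⟨⟨⟨haM, x, hx, hx1, hax⟩, ?_⟩, ha1⟩
      rintro ⟨k, hk, hk1, -⟩
      exact hk1 (Subgroup.mem_bot.1 hk)
    · rintro m hm a ⟨haM, ha1, x, hx, hx1, hax⟩
      exact ⟨M.mul_mem (M.mul_mem hm haM) (M.inv_mem hm), conj_ne_one ha1, m * x * m⁻¹,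
        conj_mem_sigmaCore hm hx, conj_ne_one hx1, conj_comm hax⟩
  · have hA : typeA M =
        {a | a ∈ (⁅M, M⁆ : Subgroup G) ∧ a ≠ 1 ∧ ∃ x ∈ sigmaCore M, x ≠ 1 ∧ a * x = x * a} := by
      unfold typeA
      rw [if_neg hI, hcore]
    rw [hA]
    have hcM : (⁅M, M⁆ : Subgroup G) ≤ M := Subgroup.commutator_le_self M
    refine ⟨?_, ?_, ?_⟩
    · intro a ha ha1
      exact ⟨Cfsg.Agent.Lib.H7.BG10.sigmaCore_le_commutator hG
        (Cfsg.Agent.Lib.H20.BGT.uniq3 hG) hM ha, ha1, a, ha, ha1, rfl⟩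
    · rintro a ⟨haM', ha1, x, hx, hx1, hax⟩
      refine ⟨⟨⟨hcM haM', x, hx, hx1, hax⟩, ?_⟩, ha1⟩
      rintro ⟨k, hk, hk1, m, hm, rfl⟩
      apply hk1
      have hK1 : K ≠ ⊥ := by
        rintro rfl
        exact hk1 (Subgroup.mem_bot.1 hk)
      have h1 : k ∈ (⁅M, M⁆ : Subgroup G) := by
        have := conj_mem_commutator (M.inv_mem hm) haM'
        have e : m⁻¹ * (m * k * m⁻¹) * m⁻¹⁻¹ = k := by group
        rwa [e] at this
      have h2 : k ∈ (⁅M, M⁆ : Subgroup G) ⊓ K := Subgroup.mem_inf.2 ⟨h1, hk⟩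
      rwa [(isComplIn_commutator hG hM hKU hK1).2.2.1, Subgroup.mem_bot] at h2
    · rintro m hm a ⟨haM', ha1, x, hx, hx1, hax⟩
      exact ⟨conj_mem_commutator hm haM', conj_ne_one ha1, m * x * m⁻¹,
        conj_mem_sigmaCore hm hx, conj_ne_one hx1, conj_comm hax⟩

end Cfsg.Agent.Lib.H7.PF8
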