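import Mathlib
import Cfsg.Agent.Lib.H7.PF8b

/-!
# Peterfalvi Section 8 (helper7), part c: `A₀(M)` is admissible

Any type-`P` data `(W₁, U_P, W₂)` of `M` is `M`-conjugate to `(K, ·, K*)`.
-/

set_option autoImplicit false
set_option linter.style.haveILetI false
set_option linter.unusedSectionVars false
set_option linter.unusedVariables false

open Cfsg
open Cfsg.Agent.Lib.H16.BG
open Cfsg.Agent.Lib.H7.BG7
open Cfsg.Agent.Lib.H7.BG16
open Cfsg.Agent.Lib.H19 (IsPiCard)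

namespace Cfsg.Agent.Lib.H7.PF8

universe u
variable {G : Type u} [Group G] [Finite G]

local notation:max "cj(" g ", " X ")" => Subgroup.map (MulEquiv.toMonoidHom (MulAut.conj g)) X

variable {M K U W₁ UP W₂ : Subgroup G}

/-- `W₁` is a Hall `κ(M)`-subgroup of `M`. -/
theorem isPiHallOf_W₁ (hG : IsMinSimpleOddOrder G) (hM : IsCoatom M)
    (hKU : IsSigmaDecomposition M K U) (hP : IsTypePWith M W₁ UP W₂) :
    IsPiHallOf (kappa M) W₁ M := by
  have hK1 : K ≠ ⊥ := K_ne_bot_of_typeP hG hM hKU hP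
  refine ⟨hP.W₁_compl.2.1, ?_, ?_⟩
  · intro p hp hd
    haveI : Fact p.Prime := ⟨hp⟩
    obtain ⟨w, hw⟩ := exists_prime_orderOf_dvd_card' p hd
    have hX : Nat.card (Subgroup.zpowers (w : G)) = p := by
      rw [Nat.card_zpowers, Subgroup.orderOf_coe, hw]
    exact mem_kappa_of_typeP hG hM hP hp (Subgroup.zpowers_le.2 w.2) hX
  · intro p hp hpκ hd
    rw [relIndex_W₁ hP] at hd
    exact (commutator_hall hG hM hKU hK1).1.2.1 p hp hd hpκ

/-- type-`P` data are `M`-conjugate to `(K, K*)`. -/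
theorem typeP_conj (hG : IsMinSimpleOddOrder G) (hM : IsCoatom M)
    (hKU : IsSigmaDecomposition M K U) (hP : IsTypePWith M W₁ UP W₂) :
    ∃ g ∈ M, W₁ = cj(g, K) ∧
      W₂ = cj(g, sigmaCore M ⊓ Subgroup.centralizer (K : Set G)) := by
  have hK1 : K ≠ ⊥ := K_ne_bot_of_typeP hG hM hKU hP
  haveI : Group.IsSolvable ↥M := solvable_of_le_ne_top hG hM.1 le_rfl
  obtain ⟨g, hg, hgK⟩ :=
    Cfsg.Agent.Lib.H19.isPiHallOf_exists_conj hKU.hall (isPiHallOf_W₁ hG hM hKU hP)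
  rw [← Cfsg.Agent.Lib.H20.map_conj_eq_smul] at hgK
  refine ⟨g, hg, hgK.symm, ?_⟩
  obtain ⟨x, hx, hx1⟩ := (Subgroup.bot_or_exists_ne_one W₁).resolve_left hP.W₁_ne
  have hW₂ := hP.W₂_centralizer x hx hx1
  rw [← hgK, mem_cj_iff] at hx
  have hk1 : g⁻¹ * x * g ≠ 1 := by
    intro h
    apply hx1
    have : x = g * (g⁻¹ * x * g) * g⁻¹ := by group
    rw [this, h]
    group
  have hKs := commutator_inf_centralizer hG hM hKU hK1 hx hk1
  ext y
  rw [← hW₂, mem_cj_iff, ← hKs, Subgroup.mem_inf, Subgroup.mem_inf]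
  constructor
  · rintro ⟨hy1, hy2⟩
    refine ⟨?_, ?_⟩
    · have := conj_mem_commutator (M.inv_mem hg) hy1
      rwa [inv_inv] at this
    · rw [Subgroup.mem_centralizer_iff] at hy2 ⊢
      intro z hz
      rw [Set.mem_singleton_iff] at hz
      subst hz
      have h2 := hy2 x (Set.mem_singleton x)
      calc g⁻¹ * x * g * (g⁻¹ * y * g) = g⁻¹ * (x * y) * g := by group
        _ = g⁻¹ * (y * x) * g := by rw [h2]
        _ = g⁻¹ * y * g * (g⁻¹ * x * g) := by group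
  · rintro ⟨hy1, hy2⟩
    refine ⟨?_, ?_⟩
    · have := conj_mem_commutator hg hy1
      have e : g * (g⁻¹ * y * g) * g⁻¹ = y := by group
      rwa [e] at this
    · rw [Subgroup.mem_centralizer_iff] at hy2 ⊢
      intro z hz
      rw [Set.mem_singleton_iff] at hz
      subst hz
      have h2 := hy2 (g⁻¹ * z * g) (Set.mem_singleton _)
      calc z * y = g * (g⁻¹ * z * g * (g⁻¹ * y * g)) * g⁻¹ := by group
        _ = g * (g⁻¹ * y * g * (g⁻¹ * z * g)) * g⁻¹ := by rw [h2]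
        _ = y * z := by group

/-- the second part of `A₀(M)` lies in `Ẑ^M`. -/
theorem mem_zhatM_of_typeP (hG : IsMinSimpleOddOrder G) (hM : IsCoatom M)
    (hKU : IsSigmaDecomposition M K U) (hP : IsTypePWith M W₁ UP W₂) {m w : G} (hm : m ∈ M)
    (hw : w ∈ W₁ ⊔ W₂) (hw1 : w ∉ W₁) (hw2 : w ∉ W₂) : m * w * m⁻¹ ∈ zhatM M K := by
  obtain ⟨g, hg, h1, h2⟩ := typeP_conj hG hM hKU hP
  rw [h1, h2, ← Subgroup.map_sup, mem_cj_iff] at hw
  refine ⟨m * g, M.mul_mem hm hg, g⁻¹ * w * g, ⟨hw, ?_⟩, by group⟩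
  rintro (h | h)
  · apply hw1
    rw [h1, mem_cj_iff]
    exact h
  · apply hw2
    rw [h2, mem_cj_iff]
    exact h

theorem zhatM_subset (hG : IsMinSimpleOddOrder G) (hM : IsCoatom M)
    (hKU : IsSigmaDecomposition M K U) (hK1 : K ≠ ⊥) {a : G} (ha : a ∈ zhatM M K) :
    a ∈ sigmaA0 M K ∧ a ≠ 1 := by
  have h1 := (Cfsg.Agent.S1371.result hG M hM K U hKU hK1).1
  have h2 : a ∈ sigmaA0 M K \ sigmaA M U := by
    rw [← h1]
    exact ha
  refine ⟨h2.1, ?_⟩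
  rintro rfl
  obtain ⟨m, hm, z, ⟨-, hz⟩, h⟩ := ha
  apply hz
  left
  have : z = m⁻¹ * (m * z * m⁻¹) * m := by group
  rw [this, ← h]
  simp

theorem admissible_typeA0 (hG : IsMinSimpleOddOrder G) (hM : IsCoatom M)
    (hKU : IsSigmaDecomposition M K U) (hcore : typeCore M = sigmaCore M) :
    Admissible M K (typeA0 M) := by
  obtain ⟨hA1, hA2, hA3⟩ := admissible_typeA hG hM hKU hcore
  unfold typeA0
  refine ⟨fun a ha ha1 => Or.inl (hA1 a ha ha1), ?_, ?_⟩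
  · rintro a (ha | ⟨-, W₁, UP, W₂, hP, m, hm, w, hw, hw1, hw2, rfl⟩)
    · exact hA2 a ha
    · exact zhatM_subset hG hM hKU (K_ne_bot_of_typeP hG hM hKU hP)
        (mem_zhatM_of_typeP hG hM hKU hP hm hw hw1 hw2)
  · rintro m' hm' a (ha | ⟨hI, W₁, UP, W₂, hP, m, hm, w, hw, hw1, hw2, rfl⟩)
    · exact Or.inl (hA3 m' hm' a ha)
    · right
      exact ⟨hI, W₁, UP, W₂, hP, m' * m, M.mul_mem hm' hm, w, hw, hw1, hw2, by group⟩

end Cfsg.Agent.Lib.H7.PF8
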