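import Mathlib
import Cfsg.Agent.Lib.H7.PF8c
import Cfsg.Prelude.Def_OddOrderChar

/-!
# Peterfalvi Section 8 (helper7), part d: the Dade hypothesis for admissible sets

For an admissible set `A` (`M_σ ∖ {1} ⊆ A ⊆ A₀(M) ∖ {1}`, `M`-invariant): `N_G(A) = M` and the Dade
hypothesis holds for `(A, M, a ↦ R(a))`, modulo `S1436(a)`.
-/

set_option autoImplicit false
set_option linter.style.haveILetI false
set_option linter.unusedSectionVars false
set_option linter.unusedVariables false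

open Cfsg
open Cfsg.Agent.Lib.H16.BG
open Cfsg.Agent.Lib.H7.BG7
open Cfsg.Agent.Lib.H7.BG16
open Cfsg.Agent.Lib.H19 (IsPiCard)

namespace Cfsg.Agent.Lib.H7.PF8

universe u
variable {G : Type u} [Group G] [Finite G]

local notation:max "cj(" g ", " X ")" => Subgroup.map (MulEquiv.toMonoidHom (MulAut.conj g)) X

variable {M K U : Subgroup G}

/-- clause (a) of the frozen statement `S1436` as a hypothesis. -/
def Hyp1436a (G : Type u) [Group G] : Prop :=
  ∀ (M : Subgroup G), IsCoatom M → ∀ x ∈ sigmaCore M, x ≠ 1 →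
    ¬ Subgroup.centralizer ({x} : Set G) ≤ M → ∀ N : Subgroup G, IsCoatom N →
    Subgroup.centralizer ({x} : Set G) ≤ N →
    (∃ p ∈ sigma N, p ∣ Nat.card M) → kappa M = ∅ ∧ tau2 M = ∅

/-- **`N_G(A) = M`** for an admissible set. -/
theorem normalizer_eq (hG : IsMinSimpleOddOrder G) (hM : IsCoatom M) {A : Set G}
    (hA : Admissible M K A) : Subgroup.normalizer A = M := by
  obtain ⟨hA1, hA2, hA3⟩ := hA
  have hσ1 := Cfsg.Agent.Lib.H8.BG12.sigmaCore_ne_bot' hG hM
  have hNσ : Subgroup.normalizer ((sigmaCore M : Subgroup G) : Set G) = M :=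
    normalizer_eq_of_coatom hG hM (Cfsg.Agent.Lib.H20.BGS.sigmaCore_le M) hσ1
      (Cfsg.Agent.Lib.H20.BGS.le_normalizer_sigmaCore M)
  have key : ∀ n ∈ Subgroup.normalizer A, ∀ h ∈ sigmaCore M, n * h * n⁻¹ ∈ sigmaCore M := by
    intro n hn h hh
    by_cases h1 : h = 1
    · subst h1
      have : n * 1 * n⁻¹ = 1 := by group
      rw [this]
      exact Subgroup.one_mem _
    · have h2 : n * h * n⁻¹ ∈ A := (Subgroup.mem_set_normalizer_iff.1 hn h).1 (hA1 h hh h1)
      exact mem_sigmaCore_of_conj hG hM hh (hA2 _ h2).1.1.1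
  apply le_antisymm
  · intro n hn
    rw [← hNσ, Subgroup.mem_normalizer_iff]
    intro h
    constructor
    · exact key n hn h
    · intro hh
      have := key n⁻¹ (Subgroup.inv_mem _ hn) _ hh
      have e : n⁻¹ * (n * h * n⁻¹) * n⁻¹⁻¹ = h := by group
      rwa [e] at this
  · intro m hm
    rw [Subgroup.mem_set_normalizer_iff]
    intro a
    constructor
    · exact hA3 m hm a
    · intro h
      have := hA3 m⁻¹ (M.inv_mem hm) _ h
      have e : m⁻¹ * (m * a * m⁻¹) * m⁻¹⁻¹ = a := by group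
      rwa [e] at this

/-- the two possibilities for `R(a)`, `a ∈ A₀(M)`. -/
theorem supportR_cases' (hG : IsMinSimpleOddOrder G) (hM : IsCoatom M)
    (hKU : IsSigmaDecomposition M K U) {a : G} (ha : a ∈ sigmaA0 M K) (ha1 : a ≠ 1) :
    (supportR M a = ⊥ ∧ Subgroup.centralizer ({a} : Set G) ≤ M) ∨
      (a ∈ sigmaCore M ∧ ¬ Subgroup.centralizer ({a} : Set G) ≤ M ∧
        ∃ N : Subgroup G, IsCoatom N ∧ Subgroup.centralizer ({a} : Set G) ≤ N ∧
          supportR M a = sigmaCore N ⊓ Subgroup.centralizer ({a} : Set G) ∧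
          Subgroup.centralizer ({a} : Set G) ≤ Subgroup.normalizer
            ((sigmaCore N ⊓ Subgroup.centralizer ({a} : Set G) : Subgroup G) : Set G) ∧
          IsComplIn (M ⊓ Subgroup.centralizer ({a} : Set G))
            (sigmaCore N ⊓ Subgroup.centralizer ({a} : Set G))
            (Subgroup.centralizer ({a} : Set G)) ∧
          a ∉ sigmaCore N) := by
  by_cases hC : Subgroup.centralizer ({a} : Set G) ≤ M
  · exact Or.inl ⟨Cfsg.Agent.Lib.H21.BGTilde.supportR_eq_bot_of_le hC, hC⟩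
  · right
    have haσ : a ∈ sigmaCore M := by
      by_contra hσ
      rcases mem_sigmaA_or_zhatM hG hM hKU ha with h1 | ⟨hK1, h1⟩
      · exact hC (centralizer_Y_le hG hM hKU ⟨h1, hσ⟩)
      · exact hC (centralizer_zhatM_le hG hM hKU hK1 h1)
    obtain ⟨N, ⟨hN, hCN⟩, huniq, hσF, hnorm, hcompl, -, hdec⟩ :=
      Cfsg.Agent.S1375.result hG M hM a haσ ha1 hC
    obtain ⟨K', U', hKU'⟩ := Cfsg.Agent.Lib.H10.BG152.exists_isSigmaDecomposition hG hN
    refine ⟨haσ, hC, N, hN, hCN, ?_, hnorm, hcompl, (hdec K' U' hKU').2.2⟩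
    rw [Cfsg.Agent.Lib.H21.BGTilde.supportR_eq_of_uniq hC hN hCN huniq, hσF]

/-- when `κ(M) = τ₂(M) = ∅`, an element of `C_M(y)`, `y ∈ M_σ^#`, is a `σ(M)`-element. -/
theorem sigma_elt (hG : IsMinSimpleOddOrder G) (hM : IsCoatom M) (hκ : kappa M = ∅)
    (hτ : tau2 M = ∅) {y e : G} (hy : y ∈ sigmaCore M) (hy1 : y ≠ 1)
    (he : e ∈ M ⊓ Subgroup.centralizer ({y} : Set G)) {q : ℕ} (hq : q.Prime)
    (hqe : q ∣ orderOf e) : q ∈ sigma M := by
  by_contra hqσ
  have he0 : orderOf e ≠ 0 := (orderOf_pos e).ne'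
  set c := e ^ (orderOf e / q) with hc
  have hco : orderOf c = q := orderOf_pow_orderOf_div he0 hqe
  have hc1 : c ≠ 1 := by
    intro h
    rw [h, orderOf_one] at hco
    exact hq.one_lt.ne hco
  have hcM : c ∈ M ⊓ Subgroup.centralizer ({y} : Set G) := Subgroup.pow_mem _ he _
  have h := Cfsg.Agent.S1432.result hG M hM y hy hy1 c hcM hc1
    (by
      intro p hp hpd
      rw [hco] at hpd
      rw [(Nat.prime_dvd_prime_iff_eq hp hq).1 hpd]
      exact hqσ)
  rcases h with ⟨h1, -⟩ | ⟨h1, -⟩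
  · have := h1 q hq (by rw [hco])
    rw [hκ] at this
    exact this
  · have := h1 q hq (by rw [hco])
    rw [hτ] at this
    exact this

/-- **coprimality** of `|R(a)|` and `|C_M(b)|`. -/
theorem coprime_R (hG : IsMinSimpleOddOrder G) (h36 : Hyp1436a G) (hM : IsCoatom M) {a : G}
    (ha : a ∈ sigmaCore M) (ha1 : a ≠ 1) (hC : ¬ Subgroup.centralizer ({a} : Set G) ≤ M)
    {N : Subgroup G} (hN : IsCoatom N) (hCN : Subgroup.centralizer ({a} : Set G) ≤ N)
    (haN : a ∉ sigmaCore N) {b : G} (hb : b ∈ sigmaHat M) (hb1 : b ≠ 1) :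
    (Nat.card ↥(sigmaCore N ⊓ Subgroup.centralizer ({a} : Set G))).Coprime
      (Nat.card ↥(M ⊓ Subgroup.centralizer ({b} : Set G))) := by
  apply Nat.coprime_of_dvd
  intro t ht h1 h2
  haveI : Fact t.Prime := ⟨ht⟩
  have htN : t ∈ sigma N := Cfsg.Agent.Lib.H20.BGS.sigmaCore_isPiCard N t ht
    (h1.trans (Subgroup.card_dvd_of_le inf_le_left))
  have htM : t ∣ Nat.card M := h2.trans (Subgroup.card_dvd_of_le inf_le_left)
  obtain ⟨hκ, hτ⟩ := h36 M hM a ha ha1 hC N hN hCN ⟨t, htN, htM⟩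
  have haNmem : a ∈ N := hCN (by
    rw [Subgroup.mem_centralizer_iff]
    intro z hz
    rw [Set.mem_singleton_iff] at hz
    rw [hz])
  -- `t ∉ σ(M)`
  have htσ : t ∉ sigma M := by
    intro htσ
    obtain ⟨g, hg⟩ := (Cfsg.Agent.S1378.result hG).2 M N hM hN ⟨t, htσ, htN⟩
    apply haN
    have hle : Subgroup.zpowers a ≤ sigmaCore N := by
      apply le_sigmaCore_of hG hN (Subgroup.zpowers_le.2 haNmem)
      intro q hq hd
      rw [Nat.card_zpowers] at hd
      rw [hg, sigma_cj]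
      exact Cfsg.Agent.Lib.H20.BGS.sigmaCore_isPiCard M q hq
        (hd.trans (Subgroup.orderOf_dvd_natCard _ ha))
    exact hle (Subgroup.mem_zpowers a)
  obtain ⟨hbM, y, hy, hy1, hby⟩ := hb
  -- `b ∈ M_σ`
  have hbσ : b ∈ sigmaCore M := by
    have hbC : b ∈ M ⊓ Subgroup.centralizer ({y} : Set G) := by
      refine Subgroup.mem_inf.2 ⟨hbM, ?_⟩
      rw [Subgroup.mem_centralizer_iff]
      intro z hz
      rw [Set.mem_singleton_iff] at hz
      rw [hz]
      exact hby.symm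
    have hle : Subgroup.zpowers b ≤ sigmaCore M := by
      apply le_sigmaCore_of hG hM (Subgroup.zpowers_le.2 hbM)
      intro q hq hd
      rw [Nat.card_zpowers] at hd
      exact sigma_elt hG hM hκ hτ hy hy1 hbC hq hd
    exact hle (Subgroup.mem_zpowers b)
  obtain ⟨e, he⟩ := exists_prime_orderOf_dvd_card' t h2
  have heC : (e : G) ∈ M ⊓ Subgroup.centralizer ({b} : Set G) := e.2
  have := sigma_elt hG hM hκ hτ hbσ hb1 heC ht (by rw [Subgroup.orderOf_coe, he])
  exact htσ this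

/-- **the Dade hypothesis** for an admissible set. -/
theorem dadeHypothesis (hG : IsMinSimpleOddOrder G) (h36 : Hyp1436a G) (hM : IsCoatom M)
    (hKU : IsSigmaDecomposition M K U) {A : Set G} (hA : Admissible M K A) :
    DadeHypothesis A M (supportR M) := by
  obtain ⟨hA1, hA2, hA3⟩ := hA
  have hσ1 := Cfsg.Agent.Lib.H8.BG12.sigmaCore_ne_bot' hG hM
  refine ⟨?_, ?_, hA3, ?_, ?_, ?_, ?_, ?_, ?_⟩
  · intro h
    exact (hA2 1 h).2 rfl
  · intro a ha
    exact (hA2 a ha).1.1.1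
  · intro a ha g hga
    rcases conj_cases hG hM hKU (hA2 a ha).1 (hA2 _ hga).1 with hg | ⟨h1, h2⟩
    · exact ⟨g, hg, rfl⟩
    · have hHall : (Nat.card ↥(sigmaCore M)).Coprime ((sigmaCore M).relIndex (sigmaCore M)) := by
        rw [Subgroup.relIndex_self]
        exact Nat.coprime_one_right _
      obtain ⟨n, hn, hna⟩ := (Cfsg.Agent.S1438.result hG M hM (sigmaCore M) le_rfl hσ1 hHall).2
        a h1 g h2
      exact ⟨n, (Subgroup.mem_inf.1 hn).1, hna⟩
  · intro a ha
    rcases supportR_cases' hG hM hKU (hA2 a ha).1 (hA2 a ha).2 with ⟨h1, -⟩ |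
      ⟨-, -, N, -, -, h1, -, -, -⟩
    · rw [h1]; exact bot_le
    · rw [h1]; exact inf_le_right
  · intro a ha c hc u hu
    rcases supportR_cases' hG hM hKU (hA2 a ha).1 (hA2 a ha).2 with ⟨h1, -⟩ |
      ⟨-, -, N, -, -, h1, hnorm, -, -⟩
    · rw [h1, Subgroup.mem_bot] at hu
      rw [h1, hu, Subgroup.mem_bot]
      group
    · rw [h1] at hu ⊢
      exact ((Subgroup.mem_normalizer_iff.1 (hnorm hc)) u).1 hu
  · intro a ha
    rcases supportR_cases' hG hM hKU (hA2 a ha).1 (hA2 a ha).2 with ⟨h1, -⟩ |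
      ⟨-, -, N, -, -, h1, -, hcompl, -⟩
    · rw [h1, bot_inf_eq]
    · rw [h1, inf_comm]
      exact hcompl.2.2.1
  · intro a ha
    rcases supportR_cases' hG hM hKU (hA2 a ha).1 (hA2 a ha).2 with ⟨h1, hC⟩ |
      ⟨-, -, N, -, -, h1, -, hcompl, -⟩
    · rw [h1, bot_sup_eq]
      exact inf_eq_right.2 hC
    · rw [h1, sup_comm]
      exact Cfsg.Agent.Lib.H20.BGQ.sup_eq_of_isComplIn hcompl
  · intro a ha b hb
    rcases supportR_cases' hG hM hKU (hA2 a ha).1 (hA2 a ha).2 with ⟨h1, -⟩ |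
      ⟨haσ, hC, N, hN, hCN, h1, -, -, haN⟩
    · rw [h1, Subgroup.card_bot]
      exact Nat.coprime_one_left _
    · rw [h1]
      exact coprime_R hG h36 hM haσ (hA2 a ha).2 hC hN hCN haN (hA2 b hb).1.1 (hA2 b hb).2

end Cfsg.Agent.Lib.H7.PF8
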