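import Mathlib
import Cfsg.Agent.Lib.H7.PF8d
import Cfsg.Agent.S1372

/-!
# Peterfalvi Section 8 (helper7), part e: final assembly for `S1537` and `S1538`
-/

set_option autoImplicit false
set_option linter.style.haveILetI false
set_option linter.unusedSectionVars false
set_option linter.unusedVariables false

open Cfsg
open Cfsg.Agent.Lib.H16.BG
open Cfsg.Agent.Lib.H7.BG7
open Cfsg.Agent.Lib.H7.BG16
open Cfsg.Agent.Lib.H19 (IsPiCard)

namespace Cfsg.Agent.Lib.H7.PF8

universe u
variable {G : Type u} [Group G] [Finite G]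

local notation:max "cj(" g ", " X ")" => Subgroup.map (MulEquiv.toMonoidHom (MulAut.conj g)) X

variable {M K U : Subgroup G}

/-- for `M` of Type II an admissible set is a TI-subset with normalizer `M`. -/
theorem isTISubset_of_typeII (hG : IsMinSimpleOddOrder G) (hM : IsCoatom M)
    (hKU : IsSigmaDecomposition M K U) (hII : IsOfTypeII M) {A : Set G}
    (hA : Admissible M K A) : IsTISubset A ∧ Subgroup.normalizer A = M := by
  have hN := normalizer_eq hG hM hA
  refine ⟨?_, hN⟩
  have hU1 : U ≠ ⊥ := U_ne_bot_of_typeII hG hM hKU hII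
  obtain ⟨W₁, UP, W₂, hP, -, -, hTI, -⟩ := hII
  have hK1 : K ≠ ⊥ := K_ne_bot_of_typeP hG hM hKU hP
  obtain ⟨-, -, hσF⟩ := Cfsg.Agent.S1372.result hG M hM K U hKU hK1 hU1
  have hσ1 := Cfsg.Agent.Lib.H8.BG12.sigmaCore_ne_bot' hG hM
  have hF1 : fittingOf M ≠ ⊥ := by
    intro h
    apply hσ1
    rw [eq_bot_iff, ← h]
    exact hσF
  have hNF : Subgroup.normalizer ((fittingOf M : Subgroup G) : Set G) = M :=
    normalizer_eq_of_coatom hG hM (Cfsg.Agent.Lib.H16.BG.fittingOf_le M) hF1
      (le_normalizer_fittingOf M)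
  obtain ⟨hA1, hA2, hA3⟩ := hA
  intro g hg a ha hga
  rw [hN] at hg
  rcases conj_cases hG hM hKU (hA2 a ha).1 (hA2 _ hga).1 with h | ⟨h1, h2⟩
  · exact absurd h hg
  · exact hTI g (by rw [hNF]; exact hg) a (hσF h1) (hσF h2)

/-- **`S1538`**. -/
theorem s1538 (hG : IsMinSimpleOddOrder G) (hM : IsCoatom M) (hII : IsOfTypeII M) :
    (IsTISubset (typeA0 M) ∧ Subgroup.normalizer (typeA0 M) = M) ∧
      (IsTISubset (typeA M) ∧ Subgroup.normalizer (typeA M) = M) ∧
      (IsTISubset (typeA1 M) ∧ Subgroup.normalizer (typeA1 M) = M) := by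
  obtain ⟨K, U, hKU⟩ := Cfsg.Agent.Lib.H10.BG152.exists_isSigmaDecomposition hG hM
  have hcore := typeCore_eq_of_typeII hG hM hKU hII
  exact ⟨isTISubset_of_typeII hG hM hKU hII (admissible_typeA0 hG hM hKU hcore),
    isTISubset_of_typeII hG hM hKU hII (admissible_typeA hG hM hKU hcore),
    isTISubset_of_typeII hG hM hKU hII (admissible_typeA1 hKU hcore)⟩

/-- **`S1537`** modulo `S1363` and `S1436(a)`. -/
theorem s1537_of_hyps (hG : IsMinSimpleOddOrder G) (h63 : Hyp1363 G) (h36 : Hyp1436a G)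
    (hM : IsCoatom M) {A : Set G} (hA : A = typeA1 M ∨ A = typeA M ∨ A = typeA0 M) :
    Subgroup.normalizer A = M ∧ DadeHypothesis A M (supportR M) := by
  obtain ⟨K, U, hKU⟩ := Cfsg.Agent.Lib.H10.BG152.exists_isSigmaDecomposition hG hM
  have hcore := typeCore_eq_of_h63 hG h63 hM hKU
  have hadm : Admissible M K A := by
    rcases hA with rfl | rfl | rfl
    · exact admissible_typeA1 hKU hcore
    · exact admissible_typeA hG hM hKU hcore
    · exact admissible_typeA0 hG hM hKU hcore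
  exact ⟨normalizer_eq hG hM hadm, dadeHypothesis hG h36 hM hKU hadm⟩

end Cfsg.Agent.Lib.H7.PF8
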