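import Mathlib
import Cfsg.Agent.Lib.H3.PMinDefs

/-!
# S2937 (piece PSU33, helper7): `BadAt` from two characteristic subgroups of `U`

If `C₁`, `C₂ ≤ K` are carried into themselves by every automorphism of `K` stabilizing `U`, then `U` normalizes both, the
normalizers are invariant under every automorphism stabilizing `U`, and `BadAt p K U` follows once the normalizers of `U`, `C₁`,
`C₂` are proper and `N(C₁) ⊔ N(C₂) = K`.  Two such subgroups: `Z(U)` and the subgroup generated by the squares of the elements of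
`U` of order dividing four.
-/

set_option autoImplicit false

namespace Cfsg.Agent.Lib.H7.PM

open Subgroup Cfsg.Agent.Lib.H3.PMin

variable {K : Type*} [Group K]

/-- `C` is carried into itself by the automorphisms of `K` stabilizing `U` -/
def CharIn (U C : Subgroup K) : Prop :=
  ∀ φ : K ≃* K, U.map φ.toMonoidHom = U → C.map φ.toMonoidHom ≤ C

theorem CharIn.map_eq {U C : Subgroup K} (h : CharIn U C) (φ : K ≃* K) (hφ : U.map φ.toMonoidHom = U) :
    C.map φ.toMonoidHom = C := by
  apply le_antisymm (h φ hφ)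
  have h1 : U.map φ.symm.toMonoidHom = U := by
    conv_lhs => rw [← hφ]
    ext x
    simp [Subgroup.mem_map]
  have h2 := h φ.symm h1
  intro x hx
  have : φ.symm x ∈ C := h2 (Subgroup.mem_map.mpr ⟨x, hx, rfl⟩)
  exact Subgroup.mem_map.mpr ⟨φ.symm x, this, by simp⟩

theorem CharIn.le_normalizer {U C : Subgroup K} (h : CharIn U C) : U ≤ normalizer (C : Set K) := by
  intro u hu
  rw [mem_normalizer_iff_map_conj_eq]
  apply h.map_eq (MulAut.conj u)
  exact mem_normalizer_iff_map_conj_eq.mp (Subgroup.le_normalizer hu)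

theorem CharIn.normalizer_map {U C : Subgroup K} (h : CharIn U C) (φ : K ≃* K) (hφ : U.map φ.toMonoidHom = U) :
    (normalizer (C : Set K)).map φ.toMonoidHom = normalizer (C : Set K) := by
  rw [Subgroup.map_equiv_normalizer_eq, h.map_eq φ hφ]

/-- the centre of `U` -/
theorem charIn_center (U : Subgroup K) : CharIn U (U ⊓ centralizer (U : Set K)) := by
  intro φ hφ x hx
  obtain ⟨y, hy, rfl⟩ := Subgroup.mem_map.mp hx
  refine ⟨?_, ?_⟩
  · rw [← hφ]; exact Subgroup.mem_map.mpr ⟨y, hy.1, rfl⟩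
  · intro u hu
    have hu' : u ∈ U.map φ.toMonoidHom := by rw [hφ]; exact hu
    obtain ⟨v, hv, rfl⟩ := Subgroup.mem_map.mp hu'
    have := hy.2 v hv
    show φ v * φ y = φ y * φ v
    rw [← map_mul, ← map_mul, this]

/-- the subgroup generated by the squares of the elements of `U` of order dividing four -/
theorem charIn_sq (U : Subgroup K) : CharIn U (closure {y : K | ∃ x ∈ U, x ^ 4 = 1 ∧ y = x ^ 2}) := by
  intro φ hφ
  rw [MonoidHom.map_closure, closure_le]
  rintro _ ⟨y, ⟨x, hx, hx4, rfl⟩, rfl⟩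
  apply Subgroup.subset_closure
  refine ⟨φ x, ?_, ?_, ?_⟩
  · rw [← hφ]; exact Subgroup.mem_map.mpr ⟨x, hx, rfl⟩
  · show φ x ^ 4 = 1
    rw [← map_pow, hx4, map_one]
  · show φ (x ^ 2) = φ x ^ 2
    rw [map_pow]

/-- `BadAt` from two characteristic subgroups -/
theorem badAt_of_charIn (p : ℕ) (U C₁ C₂ : Subgroup K) (h1 : CharIn U C₁) (h2 : CharIn U C₂)
    (hU : normalizer (U : Set K) ≠ ⊤) (hn1 : normalizer (C₁ : Set K) ≠ ⊤) (hn2 : normalizer (C₂ : Set K) ≠ ⊤)
    (hgen : normalizer (C₁ : Set K) ⊔ normalizer (C₂ : Set K) = ⊤) : BadAt p K U := by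
  intro A _ hAU
  refine ⟨hU, normalizer (C₁ : Set K), normalizer (C₂ : Set K), h1.le_normalizer, h2.le_normalizer, hn1, hn2, hgen, ?_⟩
  intro φ hφ
  exact ⟨h1.normalizer_map φ (hAU φ hφ), h2.normalizer_map φ (hAU φ hφ)⟩

end Cfsg.Agent.Lib.H7.PM
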