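import Mathlib
import Cfsg.Prelude.Def_Classical
import Cfsg.Agent.Lib.H2.Spec6

/-!
# S2937 (piece PSU33, helper7): explicit matrices in `SU₃(3)` over `K9 = F₃(i)`

The monomial group `L32 = 4 ≀ 2` (a Sylow 2-subgroup of `SU₃(3)`), the 3-cycle `mC`, an element `mH` of order 3 of
`C(diag(-1,-1,1)) ≅ GU₂(3)` centralizing `Z(L32)`, and `mC * mH` of order 7.  All facts by kernel evaluation.
-/

set_option autoImplicit false

namespace Cfsg.Agent.Lib.H7.PM

open Matrix hiding SpecialLinearGroup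
open Matrix (SpecialLinearGroup)
open Cfsg.Agent.Lib.H2.Spec

/-- `3 × 3` matrices over `K9` -/
abbrev M9 : Type := Matrix (Fin 3) (Fin 3) K9

/-- the fourth roots of unity of `K9` -/
def mu4 : List K9 := [⟨1, 0⟩, ⟨2, 0⟩, ⟨0, 1⟩, ⟨0, 2⟩]

/-- `diag(a, b, (ab)⁻¹)` for `a, b ∈ μ₄` -/
def dM (a b : K9) : M9 := !![a, 0, 0; 0, b, 0; 0, 0, (a * b) ^ 3]

/-- the antidiagonal companion -/
def aM (a b : K9) : M9 := !![0, a, 0; b, 0, 0; 0, 0, -(a * b) ^ 3]

/-- the 32 monomial matrices -/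
def L32 : List M9 :=
  (mu4.flatMap fun a => mu4.map fun b => dM a b) ++ (mu4.flatMap fun a => mu4.map fun b => aM a b)

/-- `diag(-1,-1,1)` -/
def mZ : M9 := !![⟨2, 0⟩, 0, 0; 0, ⟨2, 0⟩, 0; 0, 0, 1]
/-- `diag(1,-1,-1)` -/
def mZ' : M9 := !![1, 0, 0; 0, ⟨2, 0⟩, 0; 0, 0, ⟨2, 0⟩]
/-- `diag(-1,1,-1)` -/
def mZ'' : M9 := !![⟨2, 0⟩, 0, 0; 0, 1, 0; 0, 0, ⟨2, 0⟩]
/-- the four group of diagonal involutions -/
def Q4 : List M9 := [1, mZ, mZ', mZ'']
/-- `diag(i,-i,1)` -/
def mE : M9 := !![⟨0, 1⟩, 0, 0; 0, ⟨0, 2⟩, 0; 0, 0, 1]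
/-- the swap -/
def mS : M9 := !![0, 1, 0; 1, 0, 0; 0, 0, ⟨2, 0⟩]
/-- the 3-cycle -/
def mC : M9 := !![0, 0, 1; 1, 0, 0; 0, 1, 0]
/-- an element of order 3 of `SU₂(3) ≤ C(mZ)` -/
def mH : M9 := !![⟨1, 1⟩, ⟨1, 1⟩, 0; ⟨2, 1⟩, ⟨1, 2⟩, 0; 0, 0, 1]
/-- `mC * mH`, of order 7 -/
def mW : M9 := mC * mH


/-! ### kernel-evaluated facts (Boolean forms) -/

theorem L32_length : L32.length = 32 := by decide +kernel
theorem L32_nodup : L32.Nodup := by decide +kernel
theorem L32_one : (1 : M9) ∈ L32 := by decide +kernel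
theorem L32_mulB : (L32.all fun A => L32.all fun B => decide (A * B ∈ L32)) = true := by decide +kernel
theorem L32_detB : (L32.all fun A => decide (A.det = 1)) = true := by decide +kernel
theorem L32_unitB : (L32.all fun A => decide (Aᵀ * A.map star = 1)) = true := by decide +kernel
theorem mZ_mem : mZ ∈ L32 := by decide +kernel
theorem mE_mem : mE ∈ L32 := by decide +kernel
theorem mS_mem : mS ∈ L32 := by decide +kernel
theorem mZ_ne : mZ ≠ 1 := by decide +kernel
theorem mZ_commB : (L32.all fun A => decide (A * mZ = mZ * A)) = true := by decide +kernel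
theorem mH_commB :
    (L32.all fun A => decide (A * mE = mE * A → A * mS = mS * A → A * mH = mH * A)) = true := by decide +kernel
theorem Q4_of_sqB : (L32.all fun A => decide (A * A * (A * A) = 1 → A * A ∈ Q4)) = true := by decide +kernel
theorem sq_of_Q4B :
    (Q4.all fun M => L32.any fun A => decide (A * A * (A * A) = 1 ∧ A * A = M)) = true := by decide +kernel
theorem Q4_conjB : (Q4.all fun M => decide (mC * M * (mC * mC) ∈ Q4)) = true := by decide +kernel
theorem Q4_conjB' : (Q4.all fun M => decide (mC * mC * M * mC ∈ Q4)) = true := by decide +kernel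
theorem mZ_mem_Q4 : mZ ∈ Q4 := by decide +kernel
theorem mC_det : mC.det = 1 := by decide +kernel
theorem mC_unit : mCᵀ * mC.map star = 1 := by decide +kernel
theorem mC_pow : mC * mC * mC = 1 := by decide +kernel
theorem mC_ne : mC ≠ 1 := by decide +kernel
theorem mH_det : mH.det = 1 := by decide +kernel
theorem mH_unit : mHᵀ * mH.map star = 1 := by decide +kernel
theorem mW_pow : mW * mW * mW * (mW * mW * mW) * mW = 1 := by decide +kernel
theorem mW_ne : mW ≠ 1 := by decide +kernel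

/-! ### the same facts as statements about the members of the lists -/

theorem L32_mul (A : M9) (hA : A ∈ L32) (B : M9) (hB : B ∈ L32) : A * B ∈ L32 :=
  of_decide_eq_true (List.all_eq_true.mp (List.all_eq_true.mp L32_mulB A hA) B hB)

theorem L32_det (A : M9) (hA : A ∈ L32) : A.det = 1 :=
  of_decide_eq_true (List.all_eq_true.mp L32_detB A hA)

theorem L32_unit (A : M9) (hA : A ∈ L32) : Aᵀ * A.map star = 1 :=
  of_decide_eq_true (List.all_eq_true.mp L32_unitB A hA)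

theorem mZ_comm (A : M9) (hA : A ∈ L32) : A * mZ = mZ * A :=
  of_decide_eq_true (List.all_eq_true.mp mZ_commB A hA)

theorem mH_comm (A : M9) (hA : A ∈ L32) (h1 : A * mE = mE * A) (h2 : A * mS = mS * A) : A * mH = mH * A :=
  of_decide_eq_true (List.all_eq_true.mp mH_commB A hA) h1 h2

theorem Q4_of_sq (A : M9) (hA : A ∈ L32) (h : A * A * (A * A) = 1) : A * A ∈ Q4 :=
  of_decide_eq_true (List.all_eq_true.mp Q4_of_sqB A hA) h

theorem sq_of_Q4 (M : M9) (hM : M ∈ Q4) : ∃ A ∈ L32, A * A * (A * A) = 1 ∧ A * A = M := by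
  obtain ⟨A, hA, h⟩ := List.any_eq_true.mp (List.all_eq_true.mp sq_of_Q4B M hM)
  exact ⟨A, hA, of_decide_eq_true h⟩

theorem Q4_conj (M : M9) (hM : M ∈ Q4) : mC * M * (mC * mC) ∈ Q4 :=
  of_decide_eq_true (List.all_eq_true.mp Q4_conjB M hM)

theorem Q4_conj' (M : M9) (hM : M ∈ Q4) : mC * mC * M * mC ∈ Q4 :=
  of_decide_eq_true (List.all_eq_true.mp Q4_conjB' M hM)

end Cfsg.Agent.Lib.H7.PM
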