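import Mathlib
import Cfsg.Prelude.Def_Classical
import Cfsg.Agent.Lib.H2.Spec6
import Cfsg.Agent.Lib.H3.PMinTransport
import Cfsg.Agent.Lib.H7.OGU33a
import Cfsg.Agent.Lib.H7.OGU33b
import Cfsg.Agent.Lib.H7.PMChar
import Cfsg.Agent.Lib.H7.PMU33a

/-!
# S2937, piece PSU33 (helper7): `PMinBad 2 (PSU₃(3))`

Concrete model `G9 = SU₃(3)` over `K9 = F₃(i)` (trivial centre).  `U0` = the 32 monomial matrices of `PMU33a` (a Sylow
2-subgroup, `|G9| = 6048`).  Two characteristic subgroups of `U0`: `C1 = Z(U0)` and `C2` = the subgroup generated by the squares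
of the elements of order dividing four (the diagonal four group).  `N(C1) ∋ gH`, `N(C2) ∋ gC`, and `gC * gH` has order 7, so
`L = N(C1) ⊔ N(C2)` has order divisible by `32·3·7 = 672`; order 672 is impossible (7-local count, no elements of order 14),
order 2016 is impossible (index 3 in a simple group), so `L = G9`.  `BadAt` from `PMChar`, transport along
`PSU₃(F) ≃* SU₃(F) ≃* SU₃(K9)`.
-/

set_option autoImplicit false

namespace Cfsg.Agent.Lib.H7.PM

open Matrix hiding SpecialLinearGroup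
open Matrix (SpecialLinearGroup)
open Cfsg Cfsg.Agent.Lib.H3.PMin Cfsg.Agent.Lib.H2.Spec

theorem pow3 {G : Type*} [Monoid G] (x : G) : x ^ 3 = x * x * x := by
  simp only [pow_succ, pow_zero, one_mul]

theorem pow4 {G : Type*} [Monoid G] (x : G) : x ^ 4 = x * x * (x * x) := by
  simp only [pow_succ, pow_zero, one_mul, mul_assoc]

theorem pow7 {G : Type*} [Monoid G] (x : G) : x ^ 7 = x * x * x * (x * x * x) * x := by
  simp only [pow_succ, pow_zero, one_mul, mul_assoc]

/-- the concrete group `SU₃(3)` -/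
abbrev G9 : Type := ↥(Cfsg.SU 3 K9 3)

/-- the underlying matrix -/
def mat (g : G9) : M9 := ((g : SpecialLinearGroup (Fin 3) K9) : M9)

theorem mat_mul (a b : G9) : mat (a * b) = mat a * mat b := rfl

theorem mat_one : mat 1 = 1 := rfl

theorem mat_inj {a b : G9} (h : mat a = mat b) : a = b := Subtype.ext (Subtype.ext h)

/-- a unitary matrix of determinant one as an element of `G9` -/
def lift (A : M9) (hd : A.det = 1) (hu : Aᵀ * A.map star = 1) : G9 :=
  ⟨⟨A, hd⟩, mem_SU_of_dec _ hu⟩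

theorem mat_lift (A : M9) (hd : A.det = 1) (hu : Aᵀ * A.map star = 1) : mat (lift A hd hu) = A := rfl

/-- `PSU₃(F) ≃* SU₃(F)` for `|F| = 9` (trivial centre) -/
noncomputable def psuEquiv9 {F : Type*} [Field F] [Fintype F] (hF : Fintype.card F = 9) :
    Cfsg.PSU 3 F 3 ≃* ↥(Cfsg.SU 3 F 3) :=
  (QuotientGroup.quotientMulEquivOfEq (Cfsg.Agent.Lib.H7.OG.og_center_SU33 hF)).trans QuotientGroup.quotientBot

theorem card_G9 : Nat.card G9 = 6048 := by
  rw [← Nat.card_congr (psuEquiv9 card_K9).toEquiv]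
  exact Cfsg.Agent.Lib.H7.OG.og_card_PSU33 card_K9

instance simple_G9 : IsSimpleGroup G9 :=
  haveI := Cfsg.Agent.Lib.H7.OG.og_simple_PSU33 card_K9
  (psuEquiv9 card_K9).symm.isSimpleGroup

theorem no14_G9 (g : G9) : orderOf g ≠ 14 := by
  have h : orderOf g ∈ Set.range (orderOf : G9 → ℕ) := ⟨g, rfl⟩
  rw [su3_spectrum] at h
  simp only [Set.mem_insert_iff, Set.mem_singleton_iff] at h
  omega

theorem fact6048 : (6048 : ℕ).factorization 2 = 5 := by
  have h : (6048 : ℕ) = 2 ^ 5 * 189 := by norm_num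
  rw [h, Nat.factorization_mul (by norm_num) (by norm_num), Nat.Prime.factorization_pow Nat.prime_two]
  simp [Nat.factorization_eq_zero_of_not_dvd (show ¬ 2 ∣ 189 by norm_num)]

/-! ### the Sylow 2-subgroup -/

/-- the monomial group `4 ≀ 2` -/
def U0 : Subgroup G9 where
  carrier := {g | mat g ∈ L32}
  mul_mem' := fun {a b} ha hb => by
    show mat (a * b) ∈ L32
    rw [mat_mul]; exact L32_mul _ ha _ hb
  one_mem' := by
    show mat 1 ∈ L32
    rw [mat_one]; exact L32_one
  inv_mem' := fun {a} ha => by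
    have hpow : ∀ n : ℕ, mat (a ^ n) ∈ L32 := by
      intro n
      induction n with
      | zero => rw [pow_zero, mat_one]; exact L32_one
      | succ n ih => rw [pow_succ, mat_mul]; exact L32_mul _ ih _ ha
    have hinv : a⁻¹ = a ^ (orderOf a - 1) := by
      apply inv_eq_of_mul_eq_one_right
      rw [← pow_succ', Nat.sub_add_cancel (orderOf_pos a), pow_orderOf_eq_one]
    show mat a⁻¹ ∈ L32
    rw [hinv]; exact hpow _

theorem mem_U0 (g : G9) : g ∈ U0 ↔ mat g ∈ L32 := Iff.rfl

theorem card_U0 : Nat.card U0 = 32 := by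
  have e : U0 ≃ {A : M9 // A ∈ L32} :=
    { toFun := fun g => ⟨mat g.1, g.2⟩
      invFun := fun A => ⟨lift A.1 (L32_det _ A.2) (L32_unit _ A.2), A.2⟩
      left_inv := fun g => Subtype.ext (mat_inj rfl)
      right_inv := fun A => rfl }
  rw [Nat.card_congr e]
  classical
  rw [Nat.card_eq_fintype_card, Fintype.card_of_subtype L32.toFinset (fun x => List.mem_toFinset),
    List.toFinset_card_of_nodup L32_nodup, L32_length]

theorem U0_ne_top : U0 ≠ ⊤ := by
  intro h
  have h1 := card_U0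
  rw [h, Subgroup.card_top, card_G9] at h1
  omega

theorem U0_ne_bot : U0 ≠ ⊥ := by
  intro h
  have h1 := card_U0
  rw [h, Subgroup.card_bot] at h1
  omega

/-- `U0` as a Sylow 2-subgroup -/
noncomputable def U0syl : Sylow 2 G9 :=
  Sylow.ofCard U0 (by rw [card_U0, card_G9, fact6048]; norm_num)

theorem normalizer_ne_top_G9 (C : Subgroup G9) (h1 : C ≠ ⊥) (h2 : C ≠ ⊤) :
    Subgroup.normalizer (C : Set G9) ≠ ⊤ := by
  intro h
  have : C.Normal := Subgroup.normalizer_eq_top_iff.mp h
  rcases this.eq_bot_or_eq_top with h | h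
  · exact h1 h
  · exact h2 h

/-! ### explicit elements -/

/-- the 3-cycle -/
def gC : G9 := lift mC mC_det mC_unit
/-- the element of order 3 of `C(gZ)` -/
def gH : G9 := lift mH mH_det mH_unit
/-- `diag(-1,-1,1)` -/
def gZ : G9 := lift mZ (L32_det _ mZ_mem) (L32_unit _ mZ_mem)
/-- `diag(i,-i,1)` -/
def gE : G9 := lift mE (L32_det _ mE_mem) (L32_unit _ mE_mem)
/-- the swap -/
def gS : G9 := lift mS (L32_det _ mS_mem) (L32_unit _ mS_mem)

theorem gZ_mem : gZ ∈ U0 := mZ_mem
theorem gE_mem : gE ∈ U0 := mE_mem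
theorem gS_mem : gS ∈ U0 := mS_mem

theorem gZ_ne : gZ ≠ 1 := by
  intro h
  exact mZ_ne (congrArg mat h)

/-! ### the two characteristic subgroups -/

/-- the centre of `U0` -/
def C1 : Subgroup G9 := U0 ⊓ Subgroup.centralizer (U0 : Set G9)

/-- the squares of the elements of order dividing four -/
def T2 : Set G9 := {y : G9 | ∃ x ∈ U0, x ^ 4 = 1 ∧ y = x ^ 2}

/-- the subgroup they generate -/
def C2 : Subgroup G9 := Subgroup.closure T2

theorem gZ_mem_C1 : gZ ∈ C1 := by
  refine Subgroup.mem_inf.mpr ⟨gZ_mem, ?_⟩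
  rw [Subgroup.mem_centralizer_iff]
  intro u hu
  exact mat_inj (mZ_comm _ hu)

theorem C1_ne_bot : C1 ≠ ⊥ := by
  intro h
  have := gZ_mem_C1
  rw [h, Subgroup.mem_bot] at this
  exact gZ_ne this

theorem C1_ne_top : C1 ≠ ⊤ := by
  intro h
  apply U0_ne_top
  rw [eq_top_iff, ← h]
  exact inf_le_left

theorem gH_mem_N1 : gH ∈ Subgroup.normalizer (C1 : Set G9) := by
  apply Subgroup.centralizer_le_normalizer
  rw [Subgroup.mem_centralizer_iff]
  intro x hx
  have hxU : mat x ∈ L32 := hx.1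
  have hc := Subgroup.mem_centralizer_iff.mp hx.2
  have hE : mat x * mE = mE * mat x := (congrArg mat (hc gE gE_mem)).symm
  have hS : mat x * mS = mS * mat x := (congrArg mat (hc gS gS_mem)).symm
  exact mat_inj (mH_comm _ hxU hE hS)

theorem T2_iff (y : G9) : y ∈ T2 ↔ mat y ∈ Q4 := by
  constructor
  · rintro ⟨x, hx, hx4, rfl⟩
    have h4 : x * x * (x * x) = 1 := by rw [← hx4, pow4]
    have h4' : mat x * mat x * (mat x * mat x) = 1 := congrArg mat h4
    have := Q4_of_sq _ hx h4'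
    rw [pow_two]
    exact this
  · intro h
    obtain ⟨A, hA, hA4, hAA⟩ := sq_of_Q4 _ h
    refine ⟨lift A (L32_det _ hA) (L32_unit _ hA), hA, ?_, ?_⟩
    · rw [pow4]
      exact mat_inj hA4
    · rw [pow_two]
      exact mat_inj hAA.symm

theorem gC_pow : gC * gC * gC = 1 := mat_inj mC_pow

theorem gC_inv : gC⁻¹ = gC * gC := by
  apply inv_eq_of_mul_eq_one_right
  rw [← mul_assoc]; exact gC_pow

theorem gC_mem_N2 : gC ∈ Subgroup.normalizer (C2 : Set G9) := by
  apply Subgroup.normalizer_le_normalizer_closure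
  rw [Subgroup.mem_set_normalizer_iff]
  intro y
  rw [T2_iff, T2_iff, gC_inv]
  constructor
  · intro h
    exact Q4_conj _ h
  · intro h
    have hy : y = gC * gC * (gC * y * (gC * gC)) * gC := by
      have h3 := gC_pow
      have : gC * gC * (gC * y * (gC * gC)) * gC = (gC * gC * gC) * y * (gC * gC * gC) := by
        simp only [mul_assoc]
      rw [this, h3, one_mul, mul_one]
    rw [hy]
    exact Q4_conj' _ h

theorem T2_le : T2 ⊆ (U0 : Set G9) := by
  rintro _ ⟨x, hx, -, rfl⟩
  exact U0.pow_mem hx 2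

theorem gZ_mem_C2 : gZ ∈ C2 := by
  apply Subgroup.subset_closure
  rw [T2_iff]
  exact mZ_mem_Q4

theorem C2_ne_bot : C2 ≠ ⊥ := by
  intro h
  have := gZ_mem_C2
  rw [h, Subgroup.mem_bot] at this
  exact gZ_ne this

theorem C2_ne_top : C2 ≠ ⊤ := by
  intro h
  apply U0_ne_top
  rw [eq_top_iff, ← h]
  exact (Subgroup.closure_le U0).mpr T2_le

/-! ### generation -/

theorem orderOf_gC : orderOf gC = 3 := by
  have : Fact (Nat.Prime 3) := ⟨by norm_num⟩
  apply orderOf_eq_prime
  · rw [pow3]; exact gC_pow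
  · intro h
    exact mC_ne (congrArg mat h)

theorem orderOf_gW : orderOf (gC * gH) = 7 := by
  have : Fact (Nat.Prime 7) := ⟨by norm_num⟩
  apply orderOf_eq_prime
  · rw [pow7]; exact mat_inj mW_pow
  · intro h
    exact mW_ne (congrArg mat h)

theorem gen_G9 :
    Subgroup.normalizer (C1 : Set G9) ⊔ Subgroup.normalizer (C2 : Set G9) = ⊤ := by
  set L : Subgroup G9 := Subgroup.normalizer (C1 : Set G9) ⊔ Subgroup.normalizer (C2 : Set G9) with hL
  have hU : U0 ≤ L := (charIn_center U0).le_normalizer.trans le_sup_left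
  have hC : gC ∈ L := (le_sup_right : _ ≤ L) gC_mem_N2
  have hH : gH ∈ L := (le_sup_left : _ ≤ L) gH_mem_N1
  have hW : gC * gH ∈ L := L.mul_mem hC hH
  have d32 : 32 ∣ Nat.card L := by
    have := Subgroup.card_dvd_of_le hU
    rwa [card_U0] at this
  have d3 : 3 ∣ Nat.card L := by
    have := orderOf_dvd_natCard (⟨gC, hC⟩ : L)
    rwa [Subgroup.orderOf_mk, orderOf_gC] at this
  have d7 : 7 ∣ Nat.card L := by
    have := orderOf_dvd_natCard (⟨gC * gH, hW⟩ : L)
    rwa [Subgroup.orderOf_mk, orderOf_gW] at this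
  have d96 : 32 * 3 ∣ Nat.card L := Nat.Coprime.mul_dvd_of_dvd_of_dvd (by norm_num) d32 d3
  have d672 : 32 * 3 * 7 ∣ Nat.card L := Nat.Coprime.mul_dvd_of_dvd_of_dvd (by norm_num) d96 d7
  have dG : Nat.card L ∣ 6048 := by
    have := Subgroup.card_subgroup_dvd_card L
    rwa [card_G9] at this
  obtain ⟨k, hk⟩ := d672
  have hk9 : k ∣ 9 := by
    rw [hk] at dG
    have h6048 : (6048 : ℕ) = 32 * 3 * 7 * 9 := by norm_num
    rw [h6048] at dG
    exact Nat.dvd_of_mul_dvd_mul_left (by norm_num) dG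
  have hkle : k ≤ 9 := Nat.le_of_dvd (by norm_num) hk9
  have h14 : ∀ g : L, orderOf g ≠ 14 := by
    intro g hg
    apply no14_G9 (g : G9)
    rw [Subgroup.orderOf_coe]; exact hg
  interval_cases k
  · omega
  · -- order 672
    exfalso
    exact Cfsg.Agent.Lib.H7.OG.og_not_card_seven 3 (Or.inr rfl) (by rw [hk]) h14
  · omega
  · -- order 2016: index 3
    exfalso
    have hmul := L.card_mul_index
    rw [hk, card_G9] at hmul
    have hi : L.index = 3 := by omega
    have hne : L ≠ ⊤ := by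
      intro h
      rw [h, Subgroup.index_top] at hi
      omega
    have hcore : L.normalCore = ⊥ := by
      rcases (Subgroup.normalCore_normal L).eq_bot_or_eq_top with h | h
      · exact h
      · exfalso; apply hne
        exact top_le_iff.mp (h ▸ Subgroup.normalCore_le L)
    have hker : (MulAction.toPermHom G9 (G9 ⧸ L)).ker = ⊥ := by
      rw [← Subgroup.normalCore_eq_ker, hcore]
    have hinj : Function.Injective (MulAction.toPermHom G9 (G9 ⧸ L)) :=
      (MonoidHom.ker_eq_bot_iff _).mp hker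
    have h1 := Nat.card_le_card_of_injective _ hinj
    rw [Nat.card_perm, card_G9] at h1
    have h2 : Nat.card (G9 ⧸ L) = 3 := hi
    rw [h2] at h1
    norm_num [Nat.factorial] at h1
  · omega
  · omega
  · omega
  · omega
  · omega
  · -- order 6048
    apply Subgroup.eq_top_of_card_eq
    rw [hk, card_G9]

theorem badAt_U0 : BadAt 2 G9 U0 :=
  badAt_of_charIn 2 U0 C1 C2 (charIn_center U0) (charIn_sq U0)
    (normalizer_ne_top_G9 U0 U0_ne_bot U0_ne_top) (normalizer_ne_top_G9 C1 C1_ne_bot C1_ne_top)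
    (normalizer_ne_top_G9 C2 C2_ne_bot C2_ne_top) gen_G9

theorem pminBad_G9 : PMinBad 2 G9 :=
  pminBad_of_one 2 U0syl badAt_U0

/-- **S2937, piece PSU33**: `PSU₃(3)` at `p = 2` -/
theorem pm_PSU33 (F : Type*) [Field F] [Fintype F] (hF : Fintype.card F = 9) : PMinBad 2 (PSU 3 F 3) := by
  have e : F ≃+* K9 := FiniteField.ringEquivOfCardEq (hF.trans card_K9.symm)
  have E : G9 ≃* PSU 3 F 3 := ((psuEquiv9 hF).trans (suEquiv e 3 3)).symm
  exact PMinBad.of_mulEquiv 2 E pminBad_G9

end Cfsg.Agent.Lib.H7.PM
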