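import Mathlib
import Cfsg.Agent.Lib.H9.PolySeq

set_option autoImplicit false

namespace Cfsg.Agent.Lib.H7.PPearl

open scoped commutatorElement
open Cfsg.Agent.Lib.H9.PolySeq

variable {G : Type*} [Group G] {Γ : ℕ → Subgroup G}

/-- **Uniqueness lemma**: two polynomial sequences of type `t ≥ 1` with the same value at `0` whose differences
are congruent modulo type `t + 2` are congruent modulo type `t + 1`. -/
theorem col_unique (hΓ : IsNSeries Γ) (k t : ℕ) (ht : 1 ≤ t) (h h' : ℕ → G)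
    (hh : Pol Γ (k + 1) t h) (hh' : Pol Γ (k + 1) t h') (h0 : h' 0 = h 0)
    (hD : Pol Γ k (t + 2) ((D h')⁻¹ * D h)) : Pol Γ (k + 1) (t + 1) (h'⁻¹ * h) := by
  have hQ := Q_all hΓ k
  have hQ1 := Q_all hΓ (k + 1)
  -- the difference of `h'⁻¹ * h`
  have hDs : D (h'⁻¹ * h) = ⁅h', (D h')⁻¹⁆ * ((D h')⁻¹ * ⁅(D h'⁻¹)⁻¹, h⁻¹⁆ * D h') * ((D h')⁻¹ * D h) := by
    rw [D_mul, D_inv]
    group
  have hc1 : Pol Γ k (t + 2) ⁅h', (D h')⁻¹⁆ :=
    Pol.mono_le hΓ (by omega) (hQ.comm t (t + 1) _ _ hh'.of_succ (hQ.inv _ _ hh'.2))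
  have hinv' : Pol Γ (k + 1) t h'⁻¹ := hQ1.inv _ _ hh'
  have hc2 : Pol Γ k (t + 2) ⁅(D h'⁻¹)⁻¹, h⁻¹⁆ :=
    Pol.mono_le hΓ (by omega)
      (hQ.comm (t + 1) t _ _ (hQ.inv _ _ hinv'.2) (hQ.inv _ _ hh.of_succ))
  have hc2' : Pol Γ k (t + 2) ((D h')⁻¹ * ⁅(D h'⁻¹)⁻¹, h⁻¹⁆ * D h') := Q.conj' hΓ hQ hh'.2 hc2
  have hDpol : Pol Γ k (t + 2) (D (h'⁻¹ * h)) := by
    rw [hDs]
    exact hQ.mul _ _ _ (hQ.mul _ _ _ hc1 hc2') hD
  refine ⟨?_, hDpol⟩
  intro n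
  induction n with
  | zero =>
    have : (h'⁻¹ * h) 0 = 1 := by simp [h0]
    rw [this]; exact one_mem _
  | succ n ih =>
    have e : (h'⁻¹ * h) (n + 1) = (h'⁻¹ * h) n * D (h'⁻¹ * h) n := by
      simp only [D]; group
    rw [e]
    exact mul_mem ih (hΓ.anti _ (hDpol.mem n))

/-- weights of a list of coefficients: `x_i ∈ Γ (w + i)`. -/
def Wt (Γ : ℕ → Subgroup G) : ℕ → List G → Prop
  | _, [] => True
  | w, x :: xs => x ∈ Γ w ∧ Wt Γ (w + 1) xs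

/-- the Taylor product `∏ B(x_i, s + i)`. -/
def Tay : ℕ → List G → ℕ → G
  | _, [] => 1
  | s, x :: xs => B x s * Tay (s + 1) xs

theorem Tay_nil (s : ℕ) : Tay s ([] : List G) = 1 := rfl

theorem Tay_cons (s : ℕ) (x : G) (xs : List G) : Tay s (x :: xs) = B x s * Tay (s + 1) xs := rfl

theorem pol_Tay (hΓ : IsNSeries Γ) (k : ℕ) : ∀ (xs : List G) (s t : ℕ), Wt Γ (t + s) xs →
    Pol Γ k t (Tay s xs) := by
  intro xs
  induction xs with
  | nil => intro s t _; rw [Tay_nil]; exact (Q_all hΓ k).one t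
  | cons x xs ih =>
    intro s t hw
    rw [Tay_cons]
    refine (Q_all hΓ k).mul _ _ _ (pol_B hΓ k t s x hw.1) (ih (s + 1) t ?_)
    have := hw.2
    rwa [show t + s + 1 = t + (s + 1) by omega] at this

theorem Tay_zero : ∀ (xs : List G) (s : ℕ), Tay (s + 1) xs 0 = 1 := by
  intro xs
  induction xs with
  | nil => intro s; rfl
  | cons x xs ih =>
    intro s
    rw [Tay_cons]
    simp only [Pi.mul_apply, B, ih (s + 1)]
    simp

/-- the difference of a Taylor product is the shifted Taylor product, modulo one level up. -/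
theorem pol_D_Tay (hΓ : IsNSeries Γ) (k : ℕ) : ∀ (xs : List G) (s τ : ℕ), Wt Γ (τ + 2 + s) xs →
    Pol Γ k (τ + 3) ((Tay s xs)⁻¹ * D (Tay (s + 1) xs)) := by
  have hQ := Q_all hΓ k
  intro xs
  induction xs with
  | nil =>
    intro s τ _
    rw [Tay_nil, Tay_nil, D_one]
    simpa using hQ.one (τ + 3)
  | cons x xs ih =>
    intro s τ hw
    have hw' : Wt Γ (τ + 2 + (s + 1)) xs := by
      have := hw.2
      rwa [show τ + 2 + s + 1 = τ + 2 + (s + 1) by omega] at this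
    have hB : Pol Γ k (τ + 2) (B x s) := pol_B hΓ k (τ + 2) s x hw.1
    have hR : Pol Γ k (τ + 1) (Tay (s + 2) xs) :=
      pol_Tay hΓ k xs (s + 2) (τ + 1) (by
        have := hw.2
        rwa [show τ + 2 + s + 1 = τ + 1 + (s + 2) by omega] at this)
    have hT1 : Pol Γ k (τ + 2) (Tay (s + 1) xs) := pol_Tay hΓ k xs (s + 1) (τ + 2) hw'
    have hc : Pol Γ k (τ + 3) ⁅(B x s)⁻¹, (Tay (s + 2) xs)⁻¹⁆ :=
      Pol.mono_le hΓ (by omega) (hQ.comm (τ + 2) (τ + 1) _ _ (hQ.inv _ _ hB) (hQ.inv _ _ hR))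
    have e : (Tay s (x :: xs))⁻¹ * D (Tay (s + 1) (x :: xs))
        = ((Tay (s + 1) xs)⁻¹ * ⁅(B x s)⁻¹, (Tay (s + 2) xs)⁻¹⁆ * Tay (s + 1) xs) *
          ((Tay (s + 1) xs)⁻¹ * D (Tay (s + 2) xs)) := by
      rw [Tay_cons, Tay_cons, D_mul, D_B_succ]
      group
    rw [e]
    exact hQ.mul _ _ _ (Q.conj' hΓ hQ hT1 hc) (ih (s + 1) τ hw')

end Cfsg.Agent.Lib.H7.PPearl
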