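import Mathlib
import Cfsg.Agent.Lib.H9.PolySeq
import Cfsg.Agent.Lib.H26.PPearlDefs
import Cfsg.Agent.Lib.H7.PPearlColA

set_option autoImplicit false

namespace Cfsg.Agent.Lib.H7.PPearl

open scoped commutatorElement
open Cfsg.Agent.Lib.H9.PolySeq Cfsg.Agent.Lib.H26.PPearl

variable {T : Type*} [Group T]

/-- the filtration shifted by two. -/
def sh2 (K : ℕ → Subgroup T) : ℕ → Subgroup T := fun i => K (i - 2)

theorem col_antitone {K : ℕ → Subgroup T} (hanti : ∀ a, K (a + 1) ≤ K a) {a b : ℕ} (hab : a ≤ b) :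
    K b ≤ K a := by
  induction b, hab using Nat.le_induction with
  | base => exact le_rfl
  | succ b _ ih => exact (hanti b).trans ih

theorem isNSeries_sh2 {K : ℕ → Subgroup T} (hnorm : ∀ a, (K a).Normal) (hanti : ∀ a, K (a + 1) ≤ K a)
    (hcomm : ∀ a b, ∀ x ∈ K a, ∀ y ∈ K b, x * y * x⁻¹ * y⁻¹ ∈ K (a + b + 2)) : IsNSeries (sh2 K) where
  normal := fun i => hnorm _
  anti := fun i => col_antitone hanti (by omega)
  comm := by
    intro i j
    rw [Subgroup.commutator_le]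
    intro x hx y hy
    rw [commutatorElement_def]
    exact col_antitone hanti (by omega) (hcomm (i - 2) (j - 2) x hx y hy)

theorem pol_sh2_iff (K : ℕ → Subgroup T) (k : ℕ) : ∀ (t : ℕ) (h : ℕ → T),
    Pol (sh2 K) k (t + 2) h ↔ Pol K k t h := by
  induction k with
  | zero => intro t h; exact Iff.rfl
  | succ k ih =>
    intro t h
    constructor
    · intro hh; exact ⟨hh.1, (ih (t + 1) _).mp hh.2⟩
    · intro hh; exact ⟨hh.1, (ih (t + 1) _).mpr hh.2⟩

/-- `m ↦ e^m x e^{-m}`. -/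
def useq (e x : T) : ℕ → T := fun m => e ^ m * x * (e ^ m)⁻¹

theorem D_useq (e x : T) : D (useq e x) = useq e (x⁻¹ * e * x * e⁻¹) := by
  funext m
  simp only [D, useq, pow_succ]
  group

theorem useq_one (e : T) : useq e 1 = 1 := by
  funext m
  simp [useq]

/-- `m ↦ (d e)^m e^{-m}`. -/
def fseq (d e : T) : ℕ → T := fun m => (d * e) ^ m * (e ^ m)⁻¹

theorem D_fseq (d e : T) : D (fseq d e) = useq e d := by
  funext m
  simp only [D, fseq, useq, pow_succ]
  group

section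

variable {K : ℕ → Subgroup T} {e : T}

theorem itc_mem (hKe : ∀ a, ∀ x ∈ K a, x * e * x⁻¹ * e⁻¹ ∈ K (a + 1)) {d : T} (hd : d ∈ K 0) :
    ∀ j, itc e d j ∈ K j := by
  intro j
  induction j with
  | zero => exact hd
  | succ j ih =>
    rw [itc_succ]
    have := hKe j _ ((K j).inv_mem ih)
    rwa [inv_inv] at this

theorem pol_useq (hnorm : ∀ a, (K a).Normal) (hKe : ∀ a, ∀ x ∈ K a, x * e * x⁻¹ * e⁻¹ ∈ K (a + 1))
    {d : T} (hd : d ∈ K 0) (k : ℕ) : ∀ j, Pol (sh2 K) k (j + 2) (useq e (itc e d j)) := by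
  have hval : ∀ j n, useq e (itc e d j) n ∈ sh2 K (j + 2) := by
    intro j n
    exact (hnorm j).conj_mem _ (itc_mem hKe hd j) _
  induction k with
  | zero => intro j n; exact hval j n
  | succ k ih =>
    intro j
    refine ⟨hval j, ?_⟩
    rw [D_useq, ← itc_succ]
    exact ih (j + 1)

theorem fseq_mem (hnorm : ∀ a, (K a).Normal) {d : T} (hd : d ∈ K 0) : ∀ n, fseq d e n ∈ K 0 := by
  intro n
  induction n with
  | zero => simp [fseq]
  | succ n ih =>
    have e1 : fseq d e (n + 1) = fseq d e n * D (fseq d e) n := by simp only [D]; group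
    rw [e1, D_fseq]
    exact mul_mem ih ((hnorm 0).conj_mem _ hd _)

/-- the list `[d_j, …, d_{j+n-1}]`. -/
def dl (e d : T) : ℕ → ℕ → List T
  | _, 0 => []
  | j, n + 1 => itc e d j :: dl e d (j + 1) n

theorem wt_dl (hKe : ∀ a, ∀ x ∈ K a, x * e * x⁻¹ * e⁻¹ ∈ K (a + 1)) {d : T} (hd : d ∈ K 0) :
    ∀ n j, Wt (sh2 K) (j + 2) (dl e d j n) := by
  intro n
  induction n with
  | zero => intro j; trivial
  | succ n ih =>
    intro j
    exact ⟨itc_mem hKe hd j, ih (j + 1)⟩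

/-- descending induction: `u_j` is congruent to its Taylor product. -/
theorem col_C (hnorm : ∀ a, (K a).Normal) (hanti : ∀ a, K (a + 1) ≤ K a)
    (hcomm : ∀ a b, ∀ x ∈ K a, ∀ y ∈ K b, x * y * x⁻¹ * y⁻¹ ∈ K (a + b + 2))
    (hKe : ∀ a, ∀ x ∈ K a, x * e * x⁻¹ * e⁻¹ ∈ K (a + 1)) {d : T} (hd : d ∈ K 0)
    {p : ℕ} (hbot : K p = ⊥) :
    ∀ n j, p ≤ j + n → ∀ k, Pol (sh2 K) k (j + 3) ((Tay 0 (dl e d j n))⁻¹ * useq e (itc e d j)) := by
  have hΓ := isNSeries_sh2 hnorm hanti hcomm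
  intro n
  induction n with
  | zero =>
    intro j hj k
    have h1 : itc e d j = 1 := by
      have := col_antitone hanti (show p ≤ j by omega) (itc_mem hKe hd j)
      rwa [hbot, Subgroup.mem_bot] at this
    rw [h1, useq_one]
    simpa [dl, Tay_nil] using (Q_all hΓ k).one (j + 3)
  | succ n ih =>
    intro j hj k
    suffices hs : ∀ k, Pol (sh2 K) (k + 1) (j + 3)
        ((Tay 0 (dl e d j (n + 1)))⁻¹ * useq e (itc e d j)) from (hs k).of_succ
    intro k
    have hQ := Q_all hΓ k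
    set L := dl e d (j + 1) n with hL
    have hdl : dl e d j (n + 1) = itc e d j :: L := rfl
    have hh : Pol (sh2 K) (k + 1) (j + 2) (useq e (itc e d j)) := pol_useq hnorm hKe hd (k + 1) j
    have hh' : Pol (sh2 K) (k + 1) (j + 2) (Tay 0 (dl e d j (n + 1))) :=
      pol_Tay hΓ (k + 1) _ 0 (j + 2) (wt_dl hKe hd (n + 1) j)
    have h0 : Tay 0 (dl e d j (n + 1)) 0 = useq e (itc e d j) 0 := by
      rw [hdl, Tay_cons]
      simp [B, Tay_zero, useq]
    have hDh' : D (Tay 0 (dl e d j (n + 1))) = D (Tay 1 L) := by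
      rw [hdl, Tay_cons]
      funext m
      simp only [D, B, Pi.mul_apply, Nat.choose_zero_right, pow_one]
      group
    have hE : Pol (sh2 K) k (j + 4) ((Tay 0 L)⁻¹ * D (Tay 1 L)) :=
      pol_D_Tay hΓ k L 0 (j + 1) (wt_dl hKe hd n (j + 1))
    have hI : Pol (sh2 K) k (j + 4) ((Tay 0 L)⁻¹ * useq e (itc e d (j + 1))) := ih (j + 1) (by omega) k
    have hD : Pol (sh2 K) k (j + 2 + 2) ((D (Tay 0 (dl e d j (n + 1))))⁻¹ * D (useq e (itc e d j))) := by
      rw [hDh', D_useq, ← itc_succ]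
      have e1 : (D (Tay 1 L))⁻¹ * useq e (itc e d (j + 1))
          = ((Tay 0 L)⁻¹ * D (Tay 1 L))⁻¹ * ((Tay 0 L)⁻¹ * useq e (itc e d (j + 1))) := by group
      rw [e1]
      exact hQ.mul _ _ _ (hQ.inv _ _ hE) hI
    exact col_unique hΓ k (j + 2) (by omega) _ _ hh hh' h0 hD

end

end Cfsg.Agent.Lib.H7.PPearl
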