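import Mathlib
import Cfsg.Agent.Lib.H9.PolySeq
import Cfsg.Agent.Lib.H26.PPearlDefs
import Cfsg.Agent.Lib.H7.PPearlColA
import Cfsg.Agent.Lib.H7.PPearlColB

set_option autoImplicit false

namespace Cfsg.Agent.Lib.H7.PPearl

open scoped commutatorElement
open Cfsg.Agent.Lib.H9.PolySeq Cfsg.Agent.Lib.H26.PPearl

variable {T : Type*} [Group T] {K : ℕ → Subgroup T} {e : T}

theorem isNSeries_of_col (hnorm : ∀ a, (K a).Normal) (hanti : ∀ a, K (a + 1) ≤ K a)
    (hcomm : ∀ a b, ∀ x ∈ K a, ∀ y ∈ K b, x * y * x⁻¹ * y⁻¹ ∈ K (a + b + 2)) : IsNSeries K where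
  normal := hnorm
  anti := hanti
  comm := by
    intro i j
    rw [Subgroup.commutator_le]
    intro x hx y hy
    rw [commutatorElement_def]
    exact col_antitone hanti (by omega) (hcomm i j x hx y hy)

/-- the remainder `r = g⁻¹ f` is polynomial for `K`. -/
theorem col_r (hnorm : ∀ a, (K a).Normal) (hanti : ∀ a, K (a + 1) ≤ K a)
    (hcomm : ∀ a b, ∀ x ∈ K a, ∀ y ∈ K b, x * y * x⁻¹ * y⁻¹ ∈ K (a + b + 2))
    (hKe : ∀ a, ∀ x ∈ K a, x * e * x⁻¹ * e⁻¹ ∈ K (a + 1)) {d : T} (hd : d ∈ K 0)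
    {p : ℕ} (hbot : K p = ⊥) (k : ℕ) :
    Pol K k 0 ((Tay 1 (dl e d 0 p))⁻¹ * fseq d e) := by
  have hΓ := isNSeries_sh2 hnorm hanti hcomm
  rw [← pol_sh2_iff]
  suffices hs : ∀ k, Pol (sh2 K) (k + 1) (1 + 1) ((Tay 1 (dl e d 0 p))⁻¹ * fseq d e) from (hs k).of_succ
  intro k
  have hQ := Q_all hΓ k
  set L := dl e d 0 p with hL
  have hu : ∀ k, Pol (sh2 K) k 2 (useq e d) := fun k => pol_useq hnorm hKe hd k 0
  have hh : Pol (sh2 K) (k + 1) 1 (fseq d e) := by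
    refine ⟨fun n => fseq_mem hnorm hd n, ?_⟩
    rw [D_fseq]
    exact hu k
  have hh' : Pol (sh2 K) (k + 1) 1 (Tay 1 L) :=
    pol_Tay hΓ (k + 1) _ 1 1 (wt_dl hKe hd p 0)
  have h0 : Tay 1 L 0 = fseq d e 0 := by
    rw [Tay_zero]
    simp [fseq]
  have hE : Pol (sh2 K) k 3 ((Tay 0 L)⁻¹ * D (Tay 1 L)) :=
    pol_D_Tay hΓ k L 0 0 (wt_dl hKe hd p 0)
  have hI : Pol (sh2 K) k 3 ((Tay 0 L)⁻¹ * useq e d) :=
    col_C hnorm hanti hcomm hKe hd hbot p 0 (by omega) k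
  have hD : Pol (sh2 K) k (1 + 2) ((D (Tay 1 L))⁻¹ * D (fseq d e)) := by
    rw [D_fseq]
    have e1 : (D (Tay 1 L))⁻¹ * useq e d
        = ((Tay 0 L)⁻¹ * D (Tay 1 L))⁻¹ * ((Tay 0 L)⁻¹ * useq e d) := by group
    rw [e1]
    exact hQ.mul _ _ _ (hQ.inv _ _ hE) hI
  exact col_unique hΓ k 1 le_rfl _ _ hh hh' h0 hD

theorem Tay_one : ∀ (xs : List T) (s : ℕ), Tay (s + 2) xs 1 = 1 := by
  intro xs
  induction xs with
  | nil => intro s; rfl
  | cons x xs ih =>
    intro s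
    rw [Tay_cons]
    simp only [Pi.mul_apply, B, ih (s + 1)]
    rw [Nat.choose_eq_zero_of_lt (by omega)]
    simp

/-- the core statement when `K p = ⊥`. -/
theorem collect_bot {p : ℕ} (hp : p.Prime) (hnorm : ∀ a, (K a).Normal) (hanti : ∀ a, K (a + 1) ≤ K a)
    (hcomm : ∀ a b, ∀ x ∈ K a, ∀ y ∈ K b, x * y * x⁻¹ * y⁻¹ ∈ K (a + b + 2))
    (hKe : ∀ a, ∀ x ∈ K a, x * e * x⁻¹ * e⁻¹ ∈ K (a + 1))
    (hexp : ∀ x ∈ K 1, x ^ p = 1) (hbot : K p = ⊥)
    (d : T) (hd : d ∈ K 0) :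
    (d * e) ^ p = d ^ p * itc e d (p - 1) * e ^ p := by
  have hK := isNSeries_of_col hnorm hanti hcomm
  obtain ⟨q, rfl⟩ : ∃ q, p = q + 2 := ⟨p - 2, by have := hp.two_le; omega⟩
  set r := (Tay 1 (dl e d 0 (q + 2)))⁻¹ * fseq d e with hr
  have hpol : ∀ k, Pol K k 0 r := fun k => col_r hnorm hanti hcomm hKe hd hbot k
  have hdl : dl e d 0 (q + 2) = d :: dl e d 1 (q + 1) := rfl
  have hv : Vanish 2 r := by
    intro n hn
    interval_cases n
    · simp [hr, Tay_zero, fseq]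
    · rw [hr, hdl, Tay_cons]
      simp only [Pi.mul_apply, Pi.inv_apply, B, Tay_one, fseq]
      simp
  have hW := expansion hK (c := q + 1) hbot (q + 2) 2 r (by omega) hpol hv (q + 2)
  -- powers vanish
  have hpow : ∀ x ∈ K 1, ∀ s, 0 < s → s < q + 2 → x ^ ((q + 2).choose s) = 1 := by
    intro x hx s hs0 hs
    obtain ⟨c, hc⟩ := hp.dvd_choose_self hs0.ne' hs
    rw [hc, pow_mul, hexp x hx, one_pow]
  have hWbot : W K 2 (q + 2) = ⊥ := by
    rw [eq_bot_iff, W, Subgroup.closure_le]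
    rintro y ⟨i, hi, g, hg, rfl⟩
    rw [SetLike.mem_coe, Subgroup.mem_bot]
    by_cases hip : i < q + 2
    · exact hpow g (col_antitone hanti (by omega) hg) i (by omega) hip
    · have : g ∈ K (q + 2) := col_antitone hanti (by omega) hg
      rw [hbot, Subgroup.mem_bot] at this
      rw [this, one_pow]
  rw [hWbot, Subgroup.mem_bot] at hW
  -- evaluation of the Taylor product at `p`
  have heval : ∀ n j s, 1 ≤ j → 2 ≤ s → s + n = q + 2 →
      Tay s (dl e d j (n + 1)) (q + 2) = itc e d (j + n) := by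
    intro n
    induction n with
    | zero =>
      intro j s _ _ hs
      have hs' : s = q + 2 := by omega
      subst hs'
      simp [dl, Tay_cons, Tay_nil, B]
    | succ n ih =>
      intro j s hj hs2 hs
      have hdl' : dl e d j (n + 1 + 1) = itc e d j :: dl e d (j + 1) (n + 1) := rfl
      rw [hdl', Tay_cons]
      simp only [Pi.mul_apply, B]
      rw [hpow _ (col_antitone hanti hj (itc_mem hKe hd j)) s (by omega) (by omega), one_mul,
        ih (j + 1) (s + 1) (by omega) (by omega) (by omega)]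
      congr 1
      omega
  have hg : Tay 1 (dl e d 0 (q + 2)) (q + 2) = d ^ (q + 2) * itc e d (q + 1) := by
    rw [hdl, Tay_cons]
    simp only [Pi.mul_apply, B, Nat.choose_one_right]
    rw [heval q 1 2 le_rfl le_rfl (by omega)]
    congr 2
    omega
  have hf : fseq d e (q + 2) = Tay 1 (dl e d 0 (q + 2)) (q + 2) := by
    have : r (q + 2) = 1 := hW
    rw [hr] at this
    simp only [Pi.mul_apply, Pi.inv_apply] at this
    exact (inv_mul_eq_one.mp this).symm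
  rw [hg] at hf
  simp only [fseq] at hf
  have e2 : (d * e) ^ (q + 2) = ((d * e) ^ (q + 2) * (e ^ (q + 2))⁻¹) * e ^ (q + 2) := by group
  rw [e2, hf]
  simp

end Cfsg.Agent.Lib.H7.PPearl
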