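import Mathlib
import Cfsg.Agent.Lib.H26.PPearlDefs
import Cfsg.Agent.Lib.H7.PPearlColC

set_option autoImplicit false

namespace Cfsg.Agent.Lib.H7.PPearl

open Cfsg.Agent.Lib.H26.PPearl

theorem map_itc {T T' : Type*} [Group T] [Group T'] (π : T →* T') (e d : T) :
    ∀ j, π (itc e d j) = itc (π e) (π d) j := by
  intro j
  induction j with
  | zero => rfl
  | succ j ih => rw [itc_succ, itc_succ, map_mul, map_mul, map_mul, map_inv, map_inv, ih]

/-- **COLLECT**. -/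
theorem collect {T : Type*} [Group T] {p : ℕ} (hp : p.Prime) (K : ℕ → Subgroup T) (e : T)
    (hnorm : ∀ a, (K a).Normal) (hanti : ∀ a, K (a + 1) ≤ K a)
    (hcomm : ∀ a b, ∀ x ∈ K a, ∀ y ∈ K b, x * y * x⁻¹ * y⁻¹ ∈ K (a + b + 2))
    (hKe : ∀ a, ∀ x ∈ K a, x * e * x⁻¹ * e⁻¹ ∈ K (a + 1))
    (hexp : ∀ x ∈ K 1, x ^ p ∈ K p)
    (d : T) (hd : d ∈ K 0) :
    ((d * e) ^ p)⁻¹ * (d ^ p * itc e d (p - 1) * e ^ p) ∈ K p := by
  have := hnorm p
  set π := QuotientGroup.mk' (K p) with hπ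
  have hsurj : Function.Surjective π := QuotientGroup.mk'_surjective (K p)
  set K' : ℕ → Subgroup (T ⧸ K p) := fun a => (K a).map π with hK'
  have hbot : K' p = ⊥ := by
    rw [hK']
    exact QuotientGroup.map_mk'_self (K p)
  have hmain := collect_bot (K := K') (e := π e) hp
    (fun a => Subgroup.Normal.map (hnorm a) π hsurj)
    (fun a => Subgroup.map_mono (hanti a))
    (by
      rintro a b _ ⟨x, hx, rfl⟩ _ ⟨y, hy, rfl⟩
      exact ⟨_, hcomm a b x hx y hy, by simp⟩)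
    (by
      rintro a _ ⟨x, hx, rfl⟩
      exact ⟨_, hKe a x hx, by simp⟩)
    (by
      rintro _ ⟨x, hx, rfl⟩
      have h1 : π (x ^ p) ∈ K' p := ⟨_, hexp x hx, rfl⟩
      rw [hbot, Subgroup.mem_bot, map_pow] at h1
      exact h1)
    hbot (π d) ⟨d, hd, rfl⟩
  rw [← map_itc, ← map_mul, ← map_pow, ← map_pow, ← map_pow, ← map_mul, ← map_mul] at hmain
  have h2 : π (((d * e) ^ p)⁻¹ * (d ^ p * itc e d (p - 1) * e ^ p)) = 1 := by
    rw [map_mul, map_inv, hmain, inv_mul_cancel]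
  rw [← QuotientGroup.ker_mk' (K p)]
  exact (MonoidHom.mem_ker).mpr h2

end Cfsg.Agent.Lib.H7.PPearl
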