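import Mathlib

/-!
# S2806 piece (INF): the intersection of two subnormal subgroups is subnormal
(Mathlib's `Subgroup.IsSubnormal.inf`, restated with the blueprint's name.)
-/

set_option autoImplicit false

namespace Cfsg.Agent.Lib.H7.PS

/-- (INF) the intersection of two subnormal subgroups is subnormal. -/
theorem isSubnormal_inf {G : Type*} [Group G] {X Y : Subgroup G} (hX : X.IsSubnormal) (hY : Y.IsSubnormal) :
    (X ⊓ Y).IsSubnormal :=
  Subgroup.IsSubnormal.inf hX hY

end Cfsg.Agent.Lib.H7.PS
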