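import Mathlib
import Cfsg.Agent.Lib.H8.ClsUniq

/-!
# The tuple of a scalar multiple of a matrix (helper7; for S2480)

For `l ≠ 0` the invariants of `l • f` are the invariants of `f` with every polynomial `g` replaced by
its twist `g.scaleRoots l` (`coeff k ↦ coeff k * l ^ (deg g - k)`, Mathlib's `Polynomial.scaleRoots`).
Proved on helper8's kernel-dimension invariants (`Lib/H8/ClsUniq`): `ker ((p.scaleRoots l)(l f)) = ker (p(f))`.
-/

set_option autoImplicit false
open Polynomial

namespace Cfsg.Agent.Lib.H7.PSLK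

open Cfsg.Agent.Lib.H12.Cls Cfsg.Agent.Lib.H8.ClsUniq

universe u v
variable {F : Type u} [Field F]

section scale

/-- `scaleRoots` by a unit as a multiplicative automorphism of `F[X]` -/
noncomputable def scaleEquiv (l : Fˣ) : F[X] ≃* F[X] where
  toFun p := p.scaleRoots (l : F)
  invFun p := p.scaleRoots ((l⁻¹ : Fˣ) : F)
  left_inv p := by
    show (p.scaleRoots (l : F)).scaleRoots ((l⁻¹ : Fˣ) : F) = p
    rw [← scaleRoots_mul, ← Units.val_mul, mul_inv_cancel, Units.val_one, scaleRoots_one]
  right_inv p := by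
    show (p.scaleRoots ((l⁻¹ : Fˣ) : F)).scaleRoots (l : F) = p
    rw [← scaleRoots_mul, ← Units.val_mul, inv_mul_cancel, Units.val_one, scaleRoots_one]
  map_mul' p q := mul_scaleRoots_of_noZeroDivisors p q (l : F)

theorem scaleEquiv_apply (l : Fˣ) (p : F[X]) : scaleEquiv l p = p.scaleRoots (l : F) := rfl

theorem scaleEquiv_symm_apply (l : Fˣ) (p : F[X]) :
    (scaleEquiv l).symm p = p.scaleRoots ((l⁻¹ : Fˣ) : F) := rfl

theorem irreducible_scaleRoots (l : Fˣ) (p : F[X]) :
    Irreducible (p.scaleRoots (l : F)) ↔ Irreducible p :=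
  MulEquiv.irreducible_iff (scaleEquiv l)

theorem scaleRoots_injective (l : Fˣ) :
    Function.Injective (fun p : F[X] => p.scaleRoots (l : F)) :=
  (scaleEquiv l).injective

theorem scaleRoots_multiset_prod (l : Fˣ) (s : Multiset F[X]) :
    (s.map (fun p : F[X] => p.scaleRoots (l : F))).prod = s.prod.scaleRoots (l : F) := by
  have h := map_multiset_prod (scaleEquiv l) s
  rw [scaleEquiv_apply] at h
  rw [h]
  rfl

end scale

section kd

variable {V : Type v} [AddCommGroup V] [Module F V]

/-- the kernel dimension on `AEval' g` is the dimension of the kernel of `aeval g p` -/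
theorem kd_eq_finrank_ker (g : Module.End F V) (p : F[X]) :
    kd (Module.AEval' g) p = Module.finrank F (LinearMap.ker (aeval g p)) := by
  unfold kd
  have h : (LinearMap.ker (aeval g p)).map
      ((Module.AEval'.of g : V ≃ₗ[F] Module.AEval' g) : V →ₗ[F] Module.AEval' g) =
      LinearMap.ker (mulBy (Module.AEval' g) p) := by
    ext x
    simp only [Submodule.mem_map, LinearMap.mem_ker, mulBy_apply]
    constructor
    · rintro ⟨y, hy, rfl⟩
      have h1 := Module.AEval.of_aeval_smul (R := F) (M := V) g p y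
      have h2 : aeval g p • y = aeval g p y := rfl
      rw [h2, hy, map_zero] at h1
      exact h1.symm
    · intro hx
      refine ⟨(Module.AEval'.of g).symm x, ?_, ?_⟩
      · have h1 := Module.AEval.of_aeval_smul (R := F) (M := V) g p ((Module.AEval'.of g).symm x)
        have h3 : Module.AEval.of F V g ((Module.AEval'.of g).symm x) = x :=
          (Module.AEval'.of g).apply_symm_apply x
        rw [h3, hx] at h1
        have h2 : aeval g p • (Module.AEval'.of g).symm x =
            aeval g p ((Module.AEval'.of g).symm x) := rfl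
        rw [h2] at h1
        exact (Module.AEval.of F V g).injective (h1.trans (map_zero _).symm)
      · exact (Module.AEval'.of g).apply_symm_apply x
  rw [← h]
  exact LinearEquiv.finrank_map_eq (Module.AEval'.of g) _

theorem aeval_smul_scaleRoots (f : Module.End F V) (l : F) (p : F[X]) :
    aeval (l • f) (p.scaleRoots l) = (l ^ p.natDegree) • aeval f p := by
  have h := scaleRoots_eval₂_mul_of_commute (p := p) (algebraMap F (Module.End F V)) f l
    (Algebra.commutes l f) (fun s₁ s₂ => Algebra.commutes s₁ _)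
  rw [aeval_def, aeval_def, Algebra.smul_def, Algebra.smul_def, map_pow]
  exact h

/-- **(TW1)** the kernel dimensions of `l • f` at the twisted polynomial -/
theorem kd_smul (f : Module.End F V) (l : Fˣ) (p : F[X]) :
    kd (Module.AEval' ((l : F) • f)) (p.scaleRoots (l : F)) = kd (Module.AEval' f) p := by
  rw [kd_eq_finrank_ker, kd_eq_finrank_ker, aeval_smul_scaleRoots,
    LinearMap.ker_smul _ _ (pow_ne_zero _ l.ne_zero)]

variable {f : Module.End F V}

/-- the block counts of `l • f` at the twisted irreducible -/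
theorem cnt_smul (l : Fˣ) (D : TypeData f) (D' : TypeData ((l : F) • f))
    (φ : F[X]) (hφ : Irreducible φ) (hφm : φ.Monic) (j : ℕ) (hj : 1 ≤ j) :
    cnt D' (φ.scaleRoots (l : F)) j = cnt D φ j := by
  have hφ' : Irreducible (φ.scaleRoots (l : F)) := (irreducible_scaleRoots l φ).2 hφ
  have hφm' : (φ.scaleRoots (l : F)).Monic := (monic_scaleRoots_iff (l : F)).2 hφm
  have h1 := kd_second_diff D φ hφ hφm j hj
  have h2 := kd_second_diff D' (φ.scaleRoots (l : F)) hφ' hφm' j hj
  rw [← pow_scaleRoots_of_isReduced, ← pow_scaleRoots_of_isReduced, ← pow_scaleRoots_of_isReduced,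
    kd_smul, kd_smul, kd_smul, natDegree_scaleRoots] at h2
  have hd : 0 < φ.natDegree := hφ.natDegree_pos
  have : φ.natDegree * cnt D' (φ.scaleRoots (l : F)) j = φ.natDegree * cnt D φ j := by omega
  exact Nat.eq_of_mul_eq_mul_left hd this

/-- the irreducibles of `l • f` are the twisted irreducibles of `f` -/
theorem irrs_smul (l : Fˣ) (D : TypeData f) (D' : TypeData ((l : F) • f)) (j : ℕ) :
    D'.irrs j = (D.irrs j).map (fun p : F[X] => p.scaleRoots (l : F)) := by
  classical
  rcases Nat.eq_zero_or_pos j with rfl | hj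
  · rw [D.irrs_zero, D'.irrs_zero, Multiset.map_zero]
  ext a
  by_cases ha : Irreducible a ∧ a.Monic
  · set b : F[X] := a.scaleRoots ((l⁻¹ : Fˣ) : F) with hb
    have hab : b.scaleRoots (l : F) = a := (scaleEquiv l).apply_symm_apply a
    have hbi : Irreducible b := (irreducible_scaleRoots l⁻¹ a).2 ha.1
    have hbm : b.Monic := (monic_scaleRoots_iff _).2 ha.2
    rw [count_irrs, ← hab, Multiset.count_map_eq_count' _ _ (scaleRoots_injective l), count_irrs]
    exact cnt_smul l D D' b hbi hbm j hj
  · rw [Multiset.count_eq_zero_of_notMem (fun h => ha (D'.mem_irrs h)),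
      Multiset.count_eq_zero_of_notMem]
    intro h
    obtain ⟨b, hb, rfl⟩ := Multiset.mem_map.1 h
    have hb' := D.mem_irrs hb
    exact ha ⟨(irreducible_scaleRoots l b).2 hb'.1, (monic_scaleRoots_iff _).2 hb'.2⟩

/-- **(TW2)** the polynomials `gpoly j` of `l • f` are the twisted polynomials of `f` -/
theorem gpoly_smul (l : Fˣ) (D : TypeData f) (D' : TypeData ((l : F) • f)) (j : ℕ) :
    D'.gpoly j = (D.gpoly j).scaleRoots (l : F) := by
  unfold TypeData.gpoly
  rw [irrs_smul l D D' j, scaleRoots_multiset_prod]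

/-- `gpoly_smul` with the endomorphism given up to a propositional equality -/
theorem gpoly_smul' (l : Fˣ) {f' : Module.End F V} (hf : f' = (l : F) • f) (D : TypeData f)
    (D' : TypeData f') (j : ℕ) : D'.gpoly j = (D.gpoly j).scaleRoots (l : F) := by
  subst hf
  exact gpoly_smul l D D' j

end kd

section matrix

variable {n : ℕ}

/-- **(TW3)** the tuple of a scalar multiple `B = l • A` of an invertible matrix -/
theorem tupleOf_smul (A B : GL (Fin n) F) (l : Fˣ)
    (hB : (B : Matrix (Fin n) (Fin n) F) = (l : F) • (A : Matrix (Fin n) (Fin n) F)) (j : Fin n) :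
    tupleOf B j = (tupleOf A j).scaleRoots (l : F) := by
  unfold tupleOf
  apply gpoly_smul' l _ (dataOf A) (dataOf B)
  rw [hB, map_smul]

/-- a polynomial with non-zero constant term fixed by the twist by `l` lies in `F[X^m]`,
`m = orderOf l` -/
theorem dvd_of_scaleRoots_eq (l : Fˣ) (g : F[X]) (h0 : g.coeff 0 ≠ 0)
    (hg : g.scaleRoots (l : F) = g) (k : ℕ) (hk : g.coeff k ≠ 0) : orderOf l ∣ k := by
  have hc : ∀ i, g.coeff i ≠ 0 → orderOf l ∣ g.natDegree - i := by
    intro i hi
    have h1 := congrArg (fun p : F[X] => p.coeff i) hg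
    simp only [coeff_scaleRoots] at h1
    have h2 : ((l : F)) ^ (g.natDegree - i) = 1 := by
      have h3 : g.coeff i * (l : F) ^ (g.natDegree - i) = g.coeff i * 1 := by rw [h1, mul_one]
      exact mul_left_cancel₀ hi h3
    apply orderOf_dvd_of_pow_eq_one
    apply Units.ext
    rw [Units.val_pow_eq_pow_val, h2, Units.val_one]
  have h1 := hc 0 h0
  have h2 := hc k hk
  have hle : k ≤ g.natDegree := le_natDegree_of_ne_zero hk
  rw [Nat.sub_zero] at h1
  have h3 := Nat.dvd_sub h1 h2
  rwa [Nat.sub_sub_self hle] at h3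

/-- **(TW4)** if `l • A` is conjugate to `A` then every polynomial of the tuple of `A` lies in
`F[X^m]`, `m = orderOf l` -/
theorem coeff_dvd_of_isConj_smul (A B : GL (Fin n) F) (l : Fˣ)
    (hB : (B : Matrix (Fin n) (Fin n) F) = (l : F) • (A : Matrix (Fin n) (Fin n) F))
    (h : IsConj B A) (j : Fin n) (k : ℕ) (hk : (tupleOf A j).coeff k ≠ 0) : orderOf l ∣ k := by
  apply dvd_of_scaleRoots_eq l (tupleOf A j) (tupleOf_coeff_zero A j) _ k hk
  rw [← tupleOf_smul A B l hB j, tupleOf_eq_of_isConj h]

end matrix

end Cfsg.Agent.Lib.H7.PSLK
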