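import Mathlib
import Cfsg.Agent.Lib.H12.SL2OddClasses
import Cfsg.Agent.Lib.H12.SL2
import Cfsg.Agent.Lib.H8.CentralClassCount
import Cfsg.Agent.Lib.H11.SLCenterCard

/-!
# S2480, the case `n = 2` (helper7)

`d · k(PSL₂(q)) = k(SL₂(q)) + #{classes fixed by −1}`, `k(SL₂(q)) ≤ q + 4` and at most one class of
`SL₂(q)` is fixed by `−1` (the class of trace `0`).
-/

set_option autoImplicit false

namespace Cfsg.Agent.Lib.H7.PSLK

open Cfsg.Agent.Lib.H12 Cfsg.Agent.Lib.H8.CentralClassCount Matrix

variable {F : Type*} [Field F]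

/-- a non-trivial central element of `SL₂` is `-1`, and then `2 ≠ 0` -/
theorem center_two (z : Matrix.SpecialLinearGroup (Fin 2) F)
    (hz : z ∈ Subgroup.center (Matrix.SpecialLinearGroup (Fin 2) F)) (hz1 : z ≠ 1) :
    (z : Matrix (Fin 2) (Fin 2) F) = -1 ∧ (2 : F) ≠ 0 := by
  obtain ⟨r, hr, hrz⟩ := Matrix.SpecialLinearGroup.mem_center_iff.mp hz
  rw [Fintype.card_fin] at hr
  have h1 : (r - 1) * (r + 1) = 0 := by linear_combination hr
  have hne : r ≠ 1 := by
    rintro rfl
    apply hz1
    apply Subtype.ext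
    rw [← hrz]
    simp
  have hr1 : r = -1 := by
    rcases mul_eq_zero.mp h1 with h | h
    · exact absurd (sub_eq_zero.mp h) hne
    · exact eq_neg_of_add_eq_zero_left h
  refine ⟨?_, ?_⟩
  · rw [← hrz, hr1]
    ext i j
    fin_cases i <;> fin_cases j <;> simp
  · intro h2
    apply hne
    rw [hr1]
    linear_combination -h2

/-- **(N2a)** at most one class of `SL₂` is fixed by a non-trivial central element -/
theorem card_fix_two_le [Fintype F] (z : Matrix.SpecialLinearGroup (Fin 2) F)
    (hz : z ∈ Subgroup.center (Matrix.SpecialLinearGroup (Fin 2) F)) (hz1 : z ≠ 1) :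
    Nat.card {C : ConjClasses (Matrix.SpecialLinearGroup (Fin 2) F) // mulClass z hz C = C} ≤ 1 := by
  obtain ⟨hzm, h2⟩ := center_two z hz hz1
  have hodd : Odd (Fintype.card F) := by
    rw [Nat.odd_iff]
    apply FiniteField.odd_card_of_char_ne_two
    intro hc
    have : CharP F 2 := ringChar.of_eq hc
    exact h2 (CharTwo.two_eq_zero)
  have key : ∀ g : Matrix.SpecialLinearGroup (Fin 2) F,
      mulClass z hz (ConjClasses.mk g) = ConjClasses.mk g →
        (g : Matrix (Fin 2) (Fin 2) F).trace = 0 ∧ NonScalar (g : Matrix (Fin 2) (Fin 2) F) := by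
    intro g hg
    rw [mulClass_mk, ConjClasses.mk_eq_mk_iff_isConj] at hg
    have ht := sl2_trace_eq_of_isConj hg
    rw [Matrix.SpecialLinearGroup.coe_mul, hzm, neg_mul, one_mul, Matrix.trace_neg] at ht
    have ht0 : (g : Matrix (Fin 2) (Fin 2) F).trace = 0 := by
      have h3 : (2 : F) * (g : Matrix (Fin 2) (Fin 2) F).trace = 0 := by linear_combination -ht
      rcases mul_eq_zero.mp h3 with h | h
      · exact absurd h h2
      · exact h
    refine ⟨ht0, ?_⟩
    by_contra hns
    obtain ⟨b, rfl⟩ := exists_eq_sl2Sc g hns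
    rw [sl2Sc_val, Matrix.trace_fin_two] at ht0
    simp only [Matrix.of_apply, Matrix.cons_val', Matrix.cons_val_zero, Matrix.cons_val_one,
      Matrix.cons_val_fin_one] at ht0
    have h4 : (2 : F) * sgn b = 0 := by linear_combination ht0
    rcases mul_eq_zero.mp h4 with h | h
    · exact h2 h
    · have := sgn_mul_self (F := F) b
      rw [h, mul_zero] at this
      exact zero_ne_one this
  have hsub : Subsingleton
      {C : ConjClasses (Matrix.SpecialLinearGroup (Fin 2) F) // mulClass z hz C = C} := by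
    constructor
    rintro ⟨C, hC⟩ ⟨D, hD⟩
    apply Subtype.ext
    obtain ⟨g, rfl⟩ := ConjClasses.mk_surjective C
    obtain ⟨h, rfl⟩ := ConjClasses.mk_surjective D
    obtain ⟨tg, -⟩ := key g hC
    obtain ⟨th, hh⟩ := key h hD
    show ConjClasses.mk g = ConjClasses.mk h
    rw [ConjClasses.mk_eq_mk_iff_isConj]
    apply sl2_isConj_of_trace_regular hodd g h hh (by rw [tg, th])
    rw [tg]
    intro h0
    apply h2
    have h5 : (2 : F) * 2 = 0 := by linear_combination -h0
    rcases mul_eq_zero.mp h5 with h | h <;> exact h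
  exact Finite.card_le_one_iff_subsingleton.mpr hsub

/-- **(N2b)** `k(SL₂(q)) ≤ q + 4` -/
theorem card_conjClasses_SL_two_le [Fintype F] :
    Nat.card (ConjClasses (Matrix.SpecialLinearGroup (Fin 2) F)) ≤ Fintype.card F + 4 := by
  rcases Nat.even_or_odd (Fintype.card F) with he | ho
  · have hc : ringChar F = 2 := FiniteField.even_card_iff_char_two.mpr (Nat.even_iff.mp he)
    have : CharP F 2 := ringChar.of_eq hc
    have hF : ∀ a : F, IsSquare a := FiniteField.isSquare_of_char_two (ringChar.eq F 2)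
    have e : Unit ⊕ F ≃ ConjClasses (Matrix.SpecialLinearGroup (Fin 2) F) :=
      Equiv.ofBijective sl2ClassMapEven ⟨sl2ClassMapEven_injective, sl2ClassMapEven_surjective hF⟩
    rw [← Nat.card_congr e, Nat.card_sum, Nat.card_unique, Nat.card_eq_fintype_card]
    omega
  · rw [card_conjClasses_sl2_odd ho]

theorem card_conjClasses_SL_two_ge [Fintype F] :
    Fintype.card F + 1 ≤ Nat.card (ConjClasses (Matrix.SpecialLinearGroup (Fin 2) F)) := by
  rcases Nat.even_or_odd (Fintype.card F) with he | ho
  · have hc : ringChar F = 2 := FiniteField.even_card_iff_char_two.mpr (Nat.even_iff.mp he)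
    have : CharP F 2 := ringChar.of_eq hc
    have hF : ∀ a : F, IsSquare a := FiniteField.isSquare_of_char_two (ringChar.eq F 2)
    have e : Unit ⊕ F ≃ ConjClasses (Matrix.SpecialLinearGroup (Fin 2) F) :=
      Equiv.ofBijective sl2ClassMapEven ⟨sl2ClassMapEven_injective, sl2ClassMapEven_surjective hF⟩
    rw [← Nat.card_congr e, Nat.card_sum, Nat.card_unique, Nat.card_eq_fintype_card]
    omega
  · rw [card_conjClasses_sl2_odd ho]
    omega

/-- **(BURN)** Burnside for `PSL_n(q) = SL_n(q) ⧸ Z`:
`gcd(n, q − 1) · k(PSL_n(q)) = k(SL_n(q)) + ∑_{1 ≠ z ∈ Z} #{classes fixed by z}` -/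
theorem psl_burnside [Fintype F] (n : ℕ) (hn : 1 ≤ n)
    [Fintype ↥(Subgroup.center (Matrix.SpecialLinearGroup (Fin n) F))]
    [DecidableEq ↥(Subgroup.center (Matrix.SpecialLinearGroup (Fin n) F))] :
    Nat.gcd n (Fintype.card F - 1) *
        Nat.card (ConjClasses (Matrix.ProjectiveSpecialLinearGroup (Fin n) F)) =
      Nat.card (ConjClasses (Matrix.SpecialLinearGroup (Fin n) F)) +
        ∑ z ∈ (Finset.univ :
            Finset ↥(Subgroup.center (Matrix.SpecialLinearGroup (Fin n) F))).erase 1,
          Nat.card {C : ConjClasses (Matrix.SpecialLinearGroup (Fin n) F) //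
            mulClass (z : Matrix.SpecialLinearGroup (Fin n) F) z.2 C = C} := by
  have h := card_classes_quotient_mul'
    (Subgroup.center (Matrix.SpecialLinearGroup (Fin n) F)) (le_refl _)
  rw [Cfsg.Agent.Lib.H11.SLCenter.card_center_SL n hn, mul_comm] at h
  exact h

/-- **(N2c)** the bounds for `PSL₂(q)` -/
theorem psl_two_bounds [Fintype F] :
    Fintype.card F ≤ Nat.gcd 2 (Fintype.card F - 1) *
        Nat.card (ConjClasses (Matrix.ProjectiveSpecialLinearGroup (Fin 2) F)) ∧
      Nat.gcd 2 (Fintype.card F - 1) *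
        Nat.card (ConjClasses (Matrix.ProjectiveSpecialLinearGroup (Fin 2) F)) ≤
          Fintype.card F + 5 := by
  classical
  have : Fintype ↥(Subgroup.center (Matrix.SpecialLinearGroup (Fin 2) F)) := Fintype.ofFinite _
  have hB := psl_burnside (F := F) 2 (by norm_num)
  have h1 := card_conjClasses_SL_two_le (F := F)
  have h2 := card_conjClasses_SL_two_ge (F := F)
  have hZ : Fintype.card ↥(Subgroup.center (Matrix.SpecialLinearGroup (Fin 2) F)) ≤ 2 := by
    rw [← Nat.card_eq_fintype_card, Cfsg.Agent.Lib.H11.SLCenter.card_center_SL 2 (by norm_num)]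
    exact Nat.le_of_dvd (by norm_num) (Nat.gcd_dvd_left _ _)
  have h3 : ∑ z ∈ (Finset.univ :
        Finset ↥(Subgroup.center (Matrix.SpecialLinearGroup (Fin 2) F))).erase 1,
      Nat.card {C : ConjClasses (Matrix.SpecialLinearGroup (Fin 2) F) //
        mulClass (z : Matrix.SpecialLinearGroup (Fin 2) F) z.2 C = C} ≤ 1 := by
    calc _ ≤ ∑ _z ∈ (Finset.univ :
          Finset ↥(Subgroup.center (Matrix.SpecialLinearGroup (Fin 2) F))).erase 1, 1 := by
          apply Finset.sum_le_sum
          intro z hz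
          apply card_fix_two_le (z : Matrix.SpecialLinearGroup (Fin 2) F) z.2
          intro h
          exact (Finset.mem_erase.mp hz).1 (Subtype.ext h)
      _ = ((Finset.univ :
          Finset ↥(Subgroup.center (Matrix.SpecialLinearGroup (Fin 2) F))).erase 1).card := by
          rw [Finset.sum_const, smul_eq_mul, mul_one]
      _ ≤ 1 := by
          rw [Finset.card_erase_of_mem (Finset.mem_univ _), Finset.card_univ]
          omega
  constructor <;> omega

end Cfsg.Agent.Lib.H7.PSLK
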