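import Mathlib
import Cfsg.Agent.Lib.H14.Kieler

/-!
# S2806 piece (SYL): a Sylow subgroup meets a subnormal subgroup in a Sylow subgroup
-/

set_option autoImplicit false
open Cfsg Cfsg.Agent.Lib.H14

namespace Cfsg.Agent.Lib.H7.PS

variable {H : Type*} [Group H] [Finite H] {p : ℕ} [Fact p.Prime]

/-- (SYL) a Sylow subgroup meets a subnormal subgroup in a Sylow subgroup. -/
theorem sylow_inf (T : Sylow p H) {X : Subgroup H} (hX : X.IsSubnormal) :
    ¬ p ∣ ((T : Subgroup H) ⊓ X).relIndex X := by
  induction hX with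
  | top =>
    rw [inf_top_eq, Subgroup.relIndex_top_right]
    exact T.not_dvd_index
  | step X K hle hK hN ih =>
    have hKX : K ≤ Subgroup.normalizer (X : Set H) :=
      (Subgroup.normal_subgroupOf_iff_le_normalizer hle).mp hN
    have h1 := not_dvd_relIndex_inf ((T : Subgroup H) ⊓ K) K X hle hKX ih
    have h2 : (T : Subgroup H) ⊓ K ⊓ X = (T : Subgroup H) ⊓ X := by
      rw [inf_assoc, inf_eq_right.mpr hle]
    rwa [h2] at h1

end Cfsg.Agent.Lib.H7.PS
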