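import Mathlib
import Cfsg.Prelude.Def_Local
import Cfsg.Prelude.Def_Amalgam
import Cfsg.Agent.Lib.H7.Signalizer2
import Cfsg.Agent.Lib.H7.PrimPair
import Cfsg.Agent.Lib.H14.PIrr
import Cfsg.Agent.Lib.H14.PIrrQuot
import Cfsg.Agent.Lib.H14.Amalgam5
import Cfsg.Agent.Lib.H1.PGroupBasic
import Cfsg.Agent.Lib.H1.PCore
import Cfsg.Agent.Lib.H3.QT2
import Cfsg.Agent.Lib.H10.PSolvable2
import Cfsg.Agent.Lib.H22.PPrimeCore

set_option autoImplicit false

namespace Cfsg.Agent.Lib.H7.PSolLemma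

open Cfsg.Agent.Lib.H7
open scoped commutatorElement

variable {G : Type*} [Group G]

/-- The core of the `p`-soluble lemma, in `G = M / O_p(M)`: an elementary abelian `p`-subgroup `Ab ≠ 1`
acting faithfully on a normal `p'`-subgroup `Kb`. -/
theorem core [Finite G] (p : ℕ) [Fact p.Prime] {Ab Kb : Subgroup G}
    (hAc : ∀ a ∈ Ab, ∀ b ∈ Ab, a * b = b * a) (hAp : ∀ a ∈ Ab, a ^ p = 1) (hA1 : Ab ≠ ⊥)
    (hKp : (Nat.card Kb).Coprime p) (hAK : Ab ≤ Subgroup.normalizer (Kb : Set G))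
    (hfaith : Ab ⊓ Subgroup.centralizer (Kb : Set G) = ⊥) :
    ∃ (Bb Y : Subgroup G) (y : G), Bb ≤ Ab ∧ Bb.relIndex Ab = p ∧ Y ≤ Kb ∧ y ∈ Y ∧
      Y ≤ Subgroup.centralizer (Bb : Set G) ∧
      Y ≤ Ab ⊔ Ab.map (MulAut.conj y).toMonoidHom ∧
      ∀ α ∈ Ab, α ∈ Subgroup.centralizer (Y : Set G) → α ∈ Bb := by
  have hp : p.Prime := Fact.out
  have hKA : ¬ Kb ≤ Subgroup.centralizer (Ab : Set G) := by
    intro h
    apply hA1
    rw [eq_bot_iff, ← hfaith]
    exact le_inf le_rfl (Subgroup.le_centralizer_iff.1 h)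
  obtain ⟨Bb, hBA, hBidx, hBK⟩ := exists_hyp_centralizer_not_le p hAc hAp hKp hAK hKA
  have hApg : IsPGroup p Ab := fun a => ⟨1, by rw [pow_one]; exact Subtype.ext (hAp a a.2)⟩
  have hBne : Bb ≠ Ab := by
    intro h
    rw [h] at hBK
    exact hBK inf_le_right
  have hBidx' : Bb.relIndex Ab = p := by
    have h1 : Bb.relIndex Ab ∣ Nat.card Ab := Subgroup.relIndex_dvd_card _ _
    obtain ⟨k, hk⟩ := IsPGroup.iff_card.1 hApg
    rw [hk] at h1
    obtain ⟨j, -, hj⟩ := (Nat.dvd_prime_pow hp).1 h1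
    have hne1 : Bb.relIndex Ab ≠ 1 := by
      intro h
      rw [Subgroup.relIndex_eq_one] at h
      exact hBne (le_antisymm hBA h)
    rcases j with _ | _ | j
    · rw [pow_zero] at hj; exact absurd hj hne1
    · rw [hj, pow_one]
    · exfalso
      rw [hj] at hBidx
      have h2 : p ^ (j + 1 + 1) = p ^ (j + 1) * p := pow_succ p (j + 1)
      have h3 : 2 ≤ p ^ (j + 1) := by
        calc 2 ≤ p := hp.two_le
          _ = p ^ 1 := (pow_one p).symm
          _ ≤ p ^ (j + 1) := Nat.pow_le_pow_right hp.pos (by omega)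
      have h4 : 2 * p ≤ p ^ (j + 1) * p := Nat.mul_le_mul_right p h3
      have := hp.pos
      omega
  -- the subgroup `Y₀ = C_Kb(Bb)`
  obtain ⟨y₀, hy₀, hy₀A⟩ := SetLike.not_le_iff_exists.1 hBK
  rw [Subgroup.mem_centralizer_iff] at hy₀A
  push Not at hy₀A
  obtain ⟨ab, habA, haby₀⟩ := hy₀A
  have habA' : ab ∈ Ab := habA
  have habB : ab ∈ Subgroup.centralizer (Bb : Set G) := by
    rw [Subgroup.mem_centralizer_iff]
    intro b hb
    exact hAc b (hBA hb) ab habA'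
  -- the family of subgroups
  let S : Set (Subgroup G) := {Y | Y ≤ Kb ⊓ Subgroup.centralizer (Bb : Set G) ∧
    ab ∈ Subgroup.normalizer (Y : Set G) ∧ ¬ Y ≤ Subgroup.centralizer ({ab} : Set G)}
  have hS0 : Kb ⊓ Subgroup.centralizer (Bb : Set G) ∈ S := by
    refine ⟨le_rfl, ?_, ?_⟩
    · have h1 : Subgroup.zpowers ab ≤ Subgroup.normalizer (Kb : Set G) := by
        rw [Subgroup.zpowers_le]; exact hAK habA'
      have h2 : Subgroup.zpowers ab ≤
          Subgroup.normalizer ((Subgroup.centralizer (Bb : Set G) : Subgroup G) : Set G) := by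
        rw [Subgroup.zpowers_le]; exact Subgroup.le_normalizer habB
      have h3 : Subgroup.zpowers ab ≤ Subgroup.normalizer
          ((Kb ⊓ Subgroup.centralizer (Bb : Set G) : Subgroup G) : Set G) := by
        intro g hg
        rw [Subgroup.mem_normalizer_iff_map_conj_eq,
          Subgroup.map_inf _ _ _ (MulAut.conj g).injective]
        have e1 := Subgroup.mem_normalizer_iff_map_conj_eq.1 (h1 hg)
        have e2 := Subgroup.mem_normalizer_iff_map_conj_eq.1 (h2 hg)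
        rw [e1, e2]
      exact h3 (Subgroup.mem_zpowers ab)
    · intro h
      have := h hy₀
      rw [Subgroup.mem_centralizer_singleton_iff] at this
      exact haby₀ this.symm
  obtain ⟨Y, hYmin⟩ := (Set.toFinite S).exists_minimal ⟨_, hS0⟩
  obtain ⟨hY0, habY, hYab⟩ := hYmin.prop
  obtain ⟨y, hyY, hyab⟩ := SetLike.not_le_iff_exists.1 hYab
  rw [Subgroup.mem_centralizer_singleton_iff] at hyab
  have hYK : Y ≤ Kb := hY0.trans inf_le_left
  have hYB : Y ≤ Subgroup.centralizer (Bb : Set G) := hY0.trans inf_le_right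
  -- the subgroup `T = ⟨ab, y ab y⁻¹⟩`
  set T : Subgroup G := Subgroup.zpowers ab ⊔ Subgroup.zpowers (y * ab * y⁻¹) with hT
  have habT : ab ∈ T := (le_sup_left : Subgroup.zpowers ab ≤ T) (Subgroup.mem_zpowers ab)
  have hyabT : y * ab * y⁻¹ ∈ T :=
    (le_sup_right : Subgroup.zpowers (y * ab * y⁻¹) ≤ T) (Subgroup.mem_zpowers _)
  set c : G := y * ab * y⁻¹ * ab⁻¹ with hc
  have hcT : c ∈ T := T.mul_mem hyabT (T.inv_mem habT)
  have hcY : c ∈ Y := by
    have h1 : ab * y⁻¹ * ab⁻¹ ∈ Y := (Subgroup.mem_normalizer_iff.1 habY y⁻¹).1 (Y.inv_mem hyY)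
    have h2 : c = y * (ab * y⁻¹ * ab⁻¹) := by rw [hc]; group
    rw [h2]
    exact Y.mul_mem hyY h1
  have hNS : Y ⊓ T ∈ S := by
    refine ⟨inf_le_left.trans hY0, ?_, ?_⟩
    · rw [Subgroup.mem_normalizer_iff_map_conj_eq,
        Subgroup.map_inf _ _ _ (MulAut.conj ab).injective]
      have e1 := Subgroup.mem_normalizer_iff_map_conj_eq.1 habY
      have e2 := Subgroup.mem_normalizer_iff_map_conj_eq.1 (Subgroup.le_normalizer habT)
      rw [e1, e2]
    · intro h
      have hcab := h (Subgroup.mem_inf.2 ⟨hcY, hcT⟩)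
      rw [Subgroup.mem_centralizer_singleton_iff] at hcab
      -- `c` commutes with `ab`, so `c ^ p = 1`
      have h1 : (c * ab) ^ p = c ^ p * ab ^ p := (show Commute c ab from hcab).mul_pow p
      have h2 : c * ab = y * ab * y⁻¹ := by rw [hc]; group
      have h3 : (y * ab * y⁻¹) ^ p = 1 := by
        rw [conj_pow, hAp ab habA']; group
      rw [h2, h3, hAp ab habA', mul_one] at h1
      have h4 : c ^ Nat.card Kb = 1 := by
        have := pow_card_eq_one' (G := Kb) (x := ⟨c, hYK hcY⟩)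
        exact congrArg Subtype.val this
      have h5 : orderOf c ∣ Nat.gcd (Nat.card Kb) p :=
        Nat.dvd_gcd (orderOf_dvd_of_pow_eq_one h4) (orderOf_dvd_of_pow_eq_one h1.symm)
      rw [hKp, Nat.dvd_one, orderOf_eq_one_iff] at h5
      apply hyab
      have h6 : y * ab * y⁻¹ = ab := by
        have : c * ab = ab := by rw [h5, one_mul]
        rw [← h2]; exact this
      calc y * ab = (y * ab * y⁻¹) * y := by group
        _ = ab * y := by rw [h6]
  have hYT : Y ≤ T := by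
    have := hYmin.le_of_le hNS inf_le_left
    exact this.trans inf_le_right
  refine ⟨Bb, Y, y, hBA, hBidx', hYK, hyY, hYB, ?_, ?_⟩
  · refine hYT.trans (sup_le ?_ ?_)
    · rw [Subgroup.zpowers_le]
      exact (le_sup_left : Ab ≤ _) habA'
    · rw [Subgroup.zpowers_le]
      exact (le_sup_right : Ab.map (MulAut.conj y).toMonoidHom ≤ _) ⟨ab, habA', rfl⟩
  · intro α hα hαY
    set C : Subgroup G := Ab ⊓ Subgroup.centralizer (Y : Set G) with hC
    have hBC : Bb ≤ C := le_inf hBA (Subgroup.le_centralizer_iff.1 hYB)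
    have hCA : C ≤ Ab := inf_le_left
    have h1 := Subgroup.relIndex_mul_relIndex Bb C Ab hBC hCA
    rw [hBidx'] at h1
    have h2 : C.relIndex Ab ≠ 1 := by
      intro h
      rw [Subgroup.relIndex_eq_one] at h
      have := (h habA').2
      apply hYab
      intro u hu
      rw [Subgroup.mem_centralizer_singleton_iff]
      exact Subgroup.mem_centralizer_iff.1 this u hu
    have h3 : Bb.relIndex C = 1 := by
      rcases (Nat.dvd_prime hp).1 (Dvd.intro_left _ h1) with h | h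
      · exact absurd h h2
      · rw [h] at h1
        have : Bb.relIndex C * p = 1 * p := by rw [h1, one_mul]
        exact Nat.eq_of_mul_eq_mul_right hp.pos this
    rw [Subgroup.relIndex_eq_one] at h3
    exact h3 (Subgroup.mem_inf.2 ⟨hα, hαY⟩)



/-- A `p'`-element downstairs lifts to a `p'`-power of any given lift. -/
theorem exists_pprime_pow_lift {M G : Type*} [Group M] [Group G] [Finite M] (p : ℕ) [Fact p.Prime]
    (π : M →* G) (l : M) (hy : (orderOf (π l)).Coprime p) :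
    ∃ k : ℕ, (orderOf (l ^ k)).Coprime p ∧ π (l ^ k) = π l := by
  have hp : p.Prime := Fact.out
  have ho : orderOf l ≠ 0 := (orderOf_pos l).ne'
  obtain ⟨e, n', hn', hen⟩ := Nat.exists_eq_pow_mul_and_not_dvd ho p hp.ne_one
  have hcop : Nat.Coprime (p ^ e) n' :=
    Nat.Coprime.pow_left e ((Nat.Prime.coprime_iff_not_dvd hp).2 hn')
  obtain ⟨k, hk0, hk1⟩ := Nat.chineseRemainder hcop 0 1
  refine ⟨k, ?_, ?_⟩
  · have h1 : (l ^ k) ^ n' = 1 := by
      rw [← pow_mul, ← orderOf_dvd_iff_pow_eq_one, hen]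
      have : p ^ e ∣ k := (Nat.modEq_zero_iff_dvd).1 hk0
      exact Nat.mul_dvd_mul_right this n'
    have h2 : orderOf (l ^ k) ∣ n' := orderOf_dvd_of_pow_eq_one h1
    exact Nat.Coprime.coprime_dvd_left h2 ((Nat.Prime.coprime_iff_not_dvd hp).2 hn').symm
  · rw [map_pow]
    have h1 : orderOf (π l) ∣ n' := by
      have h2 : orderOf (π l) ∣ p ^ e * n' := hen ▸ orderOf_map_dvd π l
      exact (Nat.Coprime.pow_right e hy).dvd_of_dvd_mul_left h2
    have h3 : k ≡ 1 [MOD orderOf (π l)] := hk1.of_dvd h1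
    have := (pow_eq_pow_iff_modEq (x := π l)).2 h3
    rw [this, pow_one]

theorem map_map_conj {H G' : Type*} [Group H] [Group G'] (f : H →* G') (E : Subgroup H) (g : H) :
    (E.map (MulAut.conj g).toMonoidHom).map f = (E.map f).map (MulAut.conj (f g)).toMonoidHom := by
  rw [Subgroup.map_map, Subgroup.map_map]
  congr 1
  ext x
  simp [MulAut.conj_apply]


/-- The subgroup `⟨A, xAx⁻¹⟩`. -/
@[reducible] def Lsub {M : Type*} [Group M] (A : Subgroup M) (x : M) : Subgroup M :=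
  A ⊔ A.map (MulAut.conj x).toMonoidHom

theorem psol_main {M : Type*} [Group M] [Finite M] {p : ℕ} [Fact p.Prime]
    (hM : Cfsg.IsPSolvable p M) (A : Subgroup M) (hA : IsPGroup p A)
    (hΦ : (frattini ↥A).map A.subtype ≤ Cfsg.pCore p M) (hnot : ¬ A ≤ Cfsg.pCore p M) :
    ∃ x ∈ (Cfsg.pPrimeCore p (M ⧸ Cfsg.pCore p M)).comap (QuotientGroup.mk' (Cfsg.pCore p M)),
      x ∈ (Cfsg.pResidual p ↥(Lsub A x)).map (Lsub A x).subtype ∧
      (Cfsg.pResidual p ↥(Lsub A x)).map (Lsub A x).subtype ≤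
        (Cfsg.pPrimeCore p (M ⧸ Cfsg.pCore p M)).comap (QuotientGroup.mk' (Cfsg.pCore p M)) ∧
      ⁅(Cfsg.pResidual p ↥(Lsub A x)).map (Lsub A x).subtype, A⁆ =
        (Cfsg.pResidual p ↥(Lsub A x)).map (Lsub A x).subtype ∧
      (A ⊓ Cfsg.pCoreOf p (Lsub A x)).relIndex A = p ∧
      ⁅A ⊓ Cfsg.pCoreOf p (Lsub A x), Lsub A x⁆ ≤ Cfsg.pCore p M := by
  have hp : p.Prime := Fact.out
  have hQn : (Cfsg.pCore p M).Normal := Cfsg.Agent.Lib.H1.pCore_normal p M
  set Q := Cfsg.pCore p M with hQ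
  set π := QuotientGroup.mk' Q with hπ
  have hπs : Function.Surjective π := QuotientGroup.mk'_surjective Q
  have hker : π.ker = Q := QuotientGroup.ker_mk' Q
  have hQp : IsPGroup p Q := Cfsg.Agent.Lib.H1.pCore_isPGroup p M
  set Kb := Cfsg.pPrimeCore p (M ⧸ Q) with hKb
  have hKbn : Kb.Normal := Cfsg.Agent.Lib.H22.pPrimeCore_normal p
  have hKbp : (Nat.card Kb).Coprime p := Cfsg.Agent.Lib.H22.card_pPrimeCore_coprime p
  set Ab := A.map π with hAb
  have hmemQ : ∀ g : M, π g = 1 ↔ g ∈ Q := fun g => QuotientGroup.eq_one_iff g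
  -- `Ab` is elementary abelian
  have hcommQ : ∀ a ∈ A, ∀ b ∈ A, a * b * a⁻¹ * b⁻¹ ∈ Q := by
    intro a ha b hb
    apply hΦ
    refine ⟨⁅(⟨a, ha⟩ : A), ⟨b, hb⟩⁆, Cfsg.Agent.Lib.H1.isPGroup_commutator_le_frattini hA
      (Subgroup.commutator_mem_commutator (Subgroup.mem_top _) (Subgroup.mem_top _)), ?_⟩
    simp [commutatorElement_def]
  have hpowQ : ∀ a ∈ A, a ^ p ∈ Q := by
    intro a ha
    apply hΦ
    exact ⟨(⟨a, ha⟩ : A) ^ p, Cfsg.Agent.Lib.H1.isPGroup_pow_mem_frattini hA _, by simp⟩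
  have hAc : ∀ a ∈ Ab, ∀ b ∈ Ab, a * b = b * a := by
    rintro _ ⟨a, ha, rfl⟩ _ ⟨b, hb, rfl⟩
    have h1 := (hmemQ _).2 (hcommQ a ha b hb)
    rw [map_mul, map_mul, map_mul, map_inv, map_inv] at h1
    calc π a * π b = (π a * π b * (π a)⁻¹ * (π b)⁻¹) * (π b * π a) := by group
      _ = π b * π a := by rw [h1, one_mul]
  have hAp : ∀ a ∈ Ab, a ^ p = 1 := by
    rintro _ ⟨a, ha, rfl⟩
    rw [← map_pow]
    exact (hmemQ _).2 (hpowQ a ha)
  have hAbp : IsPGroup p Ab := fun a => ⟨1, by rw [pow_one]; exact Subtype.ext (hAp a a.2)⟩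
  have hA1 : Ab ≠ ⊥ := by
    intro h
    rw [hAb, Subgroup.map_eq_bot_iff, hker] at h
    exact hnot h
  have hAK : Ab ≤ Subgroup.normalizer (Kb : Set (M ⧸ Q)) := by
    rw [Subgroup.normalizer_eq_top_iff.2 hKbn]; exact le_top
  have hOp : Cfsg.pCore p (M ⧸ Q) = ⊥ := by
    have hk : IsPGroup p π.ker := by rw [hker]; exact hQp
    have h1 := Cfsg.Agent.Lib.H14.comap_pCore_le (p := p) π hk
    have h2 := Subgroup.map_mono (f := π) h1
    rw [Subgroup.map_comap_eq_self_of_surjective hπs] at h2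
    have h3 : (Cfsg.pCore p M).map π = ⊥ := by
      rw [Subgroup.map_eq_bot_iff, hker]
    rw [h3] at h2
    exact eq_bot_iff.2 h2
  have hsolq : Cfsg.IsPSolvable p (M ⧸ Q) := Cfsg.Agent.Lib.H10.isPSolvable_quotient hM Q
  have hHH : Subgroup.centralizer (Kb : Set (M ⧸ Q)) ≤ Kb := by
    have h := Cfsg.Agent.Lib.H3.dual_hallHigman hsolq hOp (⊤ : Subgroup (M ⧸ Q))
    simpa using h
  have hfaith : Ab ⊓ Subgroup.centralizer (Kb : Set (M ⧸ Q)) = ⊥ := by
    rw [eq_bot_iff]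
    rintro α ⟨hαA, hαC⟩
    rw [Subgroup.mem_bot]
    have h1 : α ^ Nat.card Kb = 1 := by
      have := pow_card_eq_one' (G := Kb) (x := ⟨α, hHH hαC⟩)
      exact congrArg Subtype.val this
    have h2 : orderOf α ∣ Nat.gcd (Nat.card Kb) p :=
      Nat.dvd_gcd (orderOf_dvd_of_pow_eq_one h1) (orderOf_dvd_of_pow_eq_one (hAp α hαA))
    rw [hKbp, Nat.dvd_one, orderOf_eq_one_iff] at h2
    exact h2
  obtain ⟨Bb, Y, y, hBA, hBidx, hYK, hyY, hYB, hYL, hCY⟩ :=
    core p hAc hAp hA1 hKbp hAK hfaith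
  -- images of `Lsub`
  have hLmap : ∀ x : M, π x = y →
      (Lsub A x).map π = Ab ⊔ Ab.map (MulAut.conj y).toMonoidHom := by
    intro x hx
    rw [Subgroup.map_sup, map_map_conj, hx]
  -- minimal lift
  obtain ⟨x', hx'⟩ := hπs y
  obtain ⟨x₀, hx₀, hmin⟩ := Set.exists_min_image {x : M | π x = y}
    (fun x => Nat.card (Lsub A x)) (Set.toFinite _) ⟨x', hx'⟩
  have hx₀' : π x₀ = y := hx₀
  have hyL : y ∈ (Lsub A x₀).map π := by
    rw [hLmap x₀ hx₀']; exact hYL hyY
  obtain ⟨l, hlL, hly⟩ := hyL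
  have hycop : (orderOf (π l)).Coprime p := by
    rw [hly]
    have h1 : y ^ Nat.card Kb = 1 := by
      have := pow_card_eq_one' (G := Kb) (x := ⟨y, hYK hyY⟩)
      exact congrArg Subtype.val this
    exact Nat.Coprime.coprime_dvd_left (orderOf_dvd_of_pow_eq_one h1) hKbp
  obtain ⟨k, hkcop, hkπ⟩ := exists_pprime_pow_lift p π l hycop
  set x : M := l ^ k with hx
  have hxy : π x = y := by rw [hkπ, hly]
  have hxL₀ : x ∈ Lsub A x₀ := Subgroup.pow_mem _ hlL k
  have hLle : Lsub A x ≤ Lsub A x₀ := by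
    refine sup_le le_sup_left ?_
    rintro _ ⟨a, ha, rfl⟩
    have haL : a ∈ Lsub A x₀ := (le_sup_left : A ≤ Lsub A x₀) ha
    show x * a * x⁻¹ ∈ Lsub A x₀
    exact Subgroup.mul_mem _ (Subgroup.mul_mem _ hxL₀ haL) (Subgroup.inv_mem _ hxL₀)
  have hLeq : Lsub A x = Lsub A x₀ :=
    Subgroup.eq_of_le_of_card_ge hLle (hmin x hxy)
  have hxL : x ∈ Lsub A x := by rw [hLeq]; exact hxL₀
  set L : Subgroup M := Lsub A x with hL
  have hAL : A ≤ L := le_sup_left
  have hLπ : L.map π = Ab ⊔ Ab.map (MulAut.conj y).toMonoidHom := hLmap x hxy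
  have hyKb : y ∈ Kb := hYK hyY
  -- `π(L) ≤ Kb ⊔ Ab`
  have hLπle : L.map π ≤ Kb ⊔ Ab := by
    rw [hLπ]
    refine sup_le le_sup_right ?_
    rintro _ ⟨α, hα, rfl⟩
    have h1 : y ∈ Kb ⊔ Ab := (le_sup_left : Kb ≤ _) hyKb
    have h2 : α ∈ Kb ⊔ Ab := (le_sup_right : Ab ≤ _) hα
    show y * α * y⁻¹ ∈ Kb ⊔ Ab
    exact Subgroup.mul_mem _ (Subgroup.mul_mem _ h1 h2) (Subgroup.inv_mem _ h1)
  -- `π(L)` centralizes `Bb`
  have hLπB : L.map π ≤ Subgroup.centralizer (Bb : Set (M ⧸ Q)) := by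
    rw [hLπ]
    have hAB : Ab ≤ Subgroup.centralizer (Bb : Set (M ⧸ Q)) := by
      intro α hα
      rw [Subgroup.mem_centralizer_iff]
      intro b hb
      exact hAc b (hBA hb) α hα
    refine sup_le hAB ?_
    rintro _ ⟨α, hα, rfl⟩
    have h1 := hYB hyY
    show y * α * y⁻¹ ∈ _
    exact Subgroup.mul_mem _ (Subgroup.mul_mem _ h1 (hAB hα)) (Subgroup.inv_mem _ h1)
  set N : Subgroup M := (Cfsg.pResidual p ↥L).map L.subtype with hN
  have hNL : N ≤ L := Subgroup.map_subtype_le _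
  have hxN : x ∈ N := by
    refine ⟨⟨x, hxL⟩, Subgroup.subset_closure ?_, rfl⟩
    show Nat.Coprime (orderOf (⟨x, hxL⟩ : L)) p
    rw [Subgroup.orderOf_mk]
    exact hkcop
  have hresn : (Cfsg.pResidual p ↥L).Normal := Cfsg.Agent.Lib.H14.pResidual_normal'
  have hLN : L ≤ Subgroup.normalizer (N : Set M) :=
    Cfsg.Agent.Lib.H7.PrimPair.le_normalizer_map_subtype _
  -- (2)
  have h2 : N ≤ Kb.comap π := by
    rw [hN, Subgroup.map_le_iff_le_comap]
    unfold Cfsg.pResidual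
    rw [Subgroup.closure_le]
    intro g hg
    have hg' : Nat.Coprime (orderOf g) p := hg
    show π (g : M) ∈ Kb
    apply Cfsg.Agent.Lib.H14.mem_of_mem_sup_pgroup Kb Ab hAbp
    · exact hLπle ⟨(g : M), g.2, rfl⟩
    · have h1 : orderOf (π (g : M)) ∣ orderOf (g : M) := orderOf_map_dvd π _
      rw [Subgroup.orderOf_coe] at h1
      exact Nat.Coprime.coprime_dvd_left h1 hg'
  -- (3)
  have h3 : ⁅N, A⁆ = N := by
    apply le_antisymm
    · rw [Subgroup.commutator_le]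
      intro n hn a ha
      have h1 : a * n⁻¹ * a⁻¹ ∈ N :=
        (Subgroup.mem_normalizer_iff.1 (hLN (hAL ha)) n⁻¹).1 (N.inv_mem hn)
      have h2' : ⁅n, a⁆ = n * (a * n⁻¹ * a⁻¹) := by rw [commutatorElement_def]; group
      rw [h2']
      exact N.mul_mem hn h1
    · set R : Subgroup M := ⁅N, A⁆ with hR
      have hRN : R ≤ N := by
        rw [hR, Subgroup.commutator_le]
        intro n hn a ha
        have h1 : a * n⁻¹ * a⁻¹ ∈ N :=
          (Subgroup.mem_normalizer_iff.1 (hLN (hAL ha)) n⁻¹).1 (N.inv_mem hn)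
        have h2' : ⁅n, a⁆ = n * (a * n⁻¹ * a⁻¹) := by rw [commutatorElement_def]; group
        rw [h2']
        exact N.mul_mem hn h1
      have hAR : A ≤ Subgroup.normalizer (R : Set M) := Subgroup.normalizer_commutator_ge_right N A
      have hNR : N ≤ Subgroup.normalizer (R : Set M) := Subgroup.normalizer_commutator_ge_left N A
      have hxR : x ∈ Subgroup.normalizer (R : Set M) := hNR hxN
      have hLR : L ≤ Subgroup.normalizer (R : Set M) := by
        refine sup_le hAR ?_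
        rintro _ ⟨a, ha, rfl⟩
        show x * a * x⁻¹ ∈ _
        exact Subgroup.mul_mem _ (Subgroup.mul_mem _ hxR (hAR ha)) (Subgroup.inv_mem _ hxR)
      have hLRA : L ≤ R ⊔ A := by
        refine sup_le le_sup_right ?_
        rintro _ ⟨a, ha, rfl⟩
        show x * a * x⁻¹ ∈ _
        have h1 : ⁅x, a⁆ ∈ R := Subgroup.commutator_mem_commutator hxN ha
        have h2' : x * a * x⁻¹ = ⁅x, a⁆ * a := by rw [commutatorElement_def]; group
        rw [h2']
        exact Subgroup.mul_mem _ ((le_sup_left : R ≤ R ⊔ A) h1) ((le_sup_right : A ≤ R ⊔ A) ha)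
      have hRn : (R.subgroupOf L).Normal := Subgroup.normal_subgroupOf_of_le_normalizer hLR
      have hTp : IsPGroup p (A.subgroupOf L) :=
        hA.comap_of_injective L.subtype L.subtype_injective
      have htop : R.subgroupOf L ⊔ A.subgroupOf L = ⊤ := by
        rw [← Subgroup.subgroupOf_sup (hRN.trans hNL) hAL, Subgroup.subgroupOf_eq_top]
        exact hLRA
      have h5 := Cfsg.Agent.Lib.H14.pResidual_le_of_sup_eq_top (R.subgroupOf L)
        (A.subgroupOf L) hTp htop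
      rintro _ ⟨g, hg, rfl⟩
      exact Subgroup.mem_subgroupOf.1 (h5 hg)
  -- `A ∩ O_p(L) = A ∩ π⁻¹(Bb)`
  have hPL : Cfsg.pCoreOf p L ≤ L := Cfsg.Agent.Lib.H14.pCoreOf_le p L
  have hPp : IsPGroup p (Cfsg.pCoreOf p L) := Cfsg.Agent.Lib.H14.pCoreOf_isPGroup p L
  have hLP : L ≤ Subgroup.normalizer (Cfsg.pCoreOf p L : Set M) :=
    Cfsg.Agent.Lib.H14.pCoreOf_normalized p L
  have h4a : ∀ a ∈ A, a ∈ Cfsg.pCoreOf p L → π a ∈ Bb := by
    intro a ha haP
    apply hCY (π a) ⟨a, ha, rfl⟩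
    rw [Subgroup.mem_centralizer_iff]
    intro u hu
    -- `u = π l'` with `l' ∈ L`
    have huL : u ∈ L.map π := by rw [hLπ]; exact hYL hu
    obtain ⟨l', hl', rfl⟩ := huL
    set w : M := l' * a * l'⁻¹ * a⁻¹ with hw
    have hwP : w ∈ Cfsg.pCoreOf p L := by
      have h1 : l' * a * l'⁻¹ ∈ Cfsg.pCoreOf p L :=
        (Subgroup.mem_normalizer_iff.1 (hLP hl') a).1 haP
      exact Subgroup.mul_mem _ h1 (Subgroup.inv_mem _ haP)
    have hwK : π w ∈ Kb := by
      have h1 : π a * (π l')⁻¹ * (π a)⁻¹ ∈ Kb := hKbn.conj_mem _ (Kb.inv_mem (hYK hu)) _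
      have h2' : π w = π l' * (π a * (π l')⁻¹ * (π a)⁻¹) := by
        rw [hw]; simp only [map_mul, map_inv]; group
      rw [h2']
      exact Kb.mul_mem (hYK hu) h1
    have hw1 : π w = 1 := by
      obtain ⟨j, hj⟩ := hPp ⟨w, hwP⟩
      have hj' : w ^ p ^ j = 1 := congrArg Subtype.val hj
      have h1 : (π w) ^ p ^ j = 1 := by rw [← map_pow, hj', map_one]
      have h2' : (π w) ^ Nat.card Kb = 1 := by
        have := pow_card_eq_one' (G := Kb) (x := ⟨π w, hwK⟩)
        exact congrArg Subtype.val this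
      have h3' : orderOf (π w) ∣ Nat.gcd (Nat.card Kb) (p ^ j) :=
        Nat.dvd_gcd (orderOf_dvd_of_pow_eq_one h2') (orderOf_dvd_of_pow_eq_one h1)
      rw [Nat.Coprime.pow_right j hKbp, Nat.dvd_one, orderOf_eq_one_iff] at h3'
      exact h3'
    rw [hw] at hw1
    simp only [map_mul, map_inv] at hw1
    calc π l' * π a = (π l' * π a * (π l')⁻¹ * (π a)⁻¹) * (π a * π l') := by group
      _ = π a * π l' := by rw [hw1, one_mul]
  have h4b : A ⊓ Bb.comap π ≤ Cfsg.pCoreOf p L := by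
    set R₂ : Subgroup M := L ⊓ Bb.comap π with hR₂
    have hR₂p : IsPGroup p R₂ := by
      intro g
      have hgB : π (g : M) ∈ Bb := (Subgroup.mem_inf.1 g.2).2
      have h1 : (g : M) ^ p ∈ Q := by
        rw [← hmemQ, map_pow]
        exact hAp _ (hBA hgB)
      obtain ⟨j, hj⟩ := hQp ⟨(g : M) ^ p, h1⟩
      have hj' : ((g : M) ^ p) ^ p ^ j = 1 := congrArg Subtype.val hj
      refine ⟨j + 1, Subtype.ext ?_⟩
      rw [Subgroup.coe_pow, pow_succ', pow_mul]
      exact hj'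
    have hR₂n : L ≤ Subgroup.normalizer (R₂ : Set M) := by
      apply Cfsg.Agent.Lib.H14.le_nzr_of_conj_mem
      intro l' hl' g hg
      refine Subgroup.mem_inf.2 ⟨Subgroup.mul_mem _ (Subgroup.mul_mem _ hl' (Subgroup.mem_inf.1 hg).1)
        (Subgroup.inv_mem _ hl'), ?_⟩
      show π (l' * g * l'⁻¹) ∈ Bb
      have hgB : π g ∈ Bb := (Subgroup.mem_inf.1 hg).2
      have hc := Subgroup.mem_centralizer_iff.1 (hLπB ⟨l', hl', rfl⟩) (π g) hgB
      have : π (l' * g * l'⁻¹) = π g := by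
        simp only [map_mul, map_inv]
        calc π l' * π g * (π l')⁻¹ = (π g * π l') * (π l')⁻¹ := by rw [hc]
          _ = π g := by group
      rw [this]; exact hgB
    have := Cfsg.Agent.Lib.H14.le_pCoreOf p L R₂ inf_le_left hR₂n hR₂p
    exact (inf_le_inf_right _ hAL).trans this
  have h4eq : A ⊓ Cfsg.pCoreOf p L = A ⊓ Bb.comap π := by
    apply le_antisymm
    · rintro a ⟨haA, haP⟩
      exact Subgroup.mem_inf.2 ⟨haA, h4a a haA haP⟩
    · exact le_inf inf_le_left h4b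
  refine ⟨x, ?_, hxN, h2, h3, ?_, ?_⟩
  · show π x ∈ Kb
    rw [hxy]; exact hyKb
  · rw [h4eq, Subgroup.inf_relIndex_left, Subgroup.relIndex_comap]
    exact hBidx
  · rw [h4eq, Subgroup.commutator_le]
    intro a ha l' hl'
    rw [← hmemQ, commutatorElement_def]
    simp only [map_mul, map_inv]
    have haB : π a ∈ Bb := (Subgroup.mem_inf.1 ha).2
    have hc := Subgroup.mem_centralizer_iff.1 (hLπB ⟨l', hl', rfl⟩) (π a) haB
    calc π a * π l' * (π a)⁻¹ * (π l')⁻¹ = (π l' * π a) * (π a)⁻¹ * (π l')⁻¹ := by rw [hc]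
      _ = 1 := by group

end Cfsg.Agent.Lib.H7.PSolLemma
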