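import Mathlib
import Cfsg.Prelude.Def_OddOrderLocal
import Cfsg.Prelude.Def_CaseTheorems
import Cfsg.Prelude.Def_PLocal
import Cfsg.Agent.Lib.H19.R2Defs

/-!
# S3888 piece B5 (helper7): `mnm_exists_max`.
-/

set_option autoImplicit false

namespace Cfsg.Agent.Lib.H7.R2

open Cfsg Cfsg.Agent.Lib.H19.R2
open scoped commutatorElement

universe u

/-- In a nilpotent group, a stationary term of the lower central series is trivial. -/
theorem lcs_eq_bot_of_succ_eq {H : Type*} [Group H] [hn : Group.IsNilpotent H] (n : ℕ)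
    (h : (⊤ : Subgroup H).lowerCentralSeries (n + 1) = (⊤ : Subgroup H).lowerCentralSeries n) :
    (⊤ : Subgroup H).lowerCentralSeries n = ⊥ := by
  have hall : ∀ k, (⊤ : Subgroup H).lowerCentralSeries (n + k) =
      (⊤ : Subgroup H).lowerCentralSeries n := by
    intro k
    induction k with
    | zero => rfl
    | succ k ih =>
      rw [← add_assoc, Subgroup.lowerCentralSeries_succ, ih, ← Subgroup.lowerCentralSeries_succ, h]
  obtain ⟨m, hm⟩ := Subgroup.nilpotent_iff_lowerCentralSeries.1 hn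
  have h1 := hall m
  have h2 : (⊤ : Subgroup H).lowerCentralSeries (n + m) ≤ (⊤ : Subgroup H).lowerCentralSeries m :=
    Subgroup.lowerCentralSeries_antitone _ (Nat.le_add_left m n)
  rw [hm, le_bot_iff] at h2
  rw [← h1, h2]

variable {p : ℕ} [Fact p.Prime] {G : Type u} [Group G] [Finite G]

omit [Finite G] in
/-- the image of `G'` in `G ⧸ γ₃` is central -/
theorem mk_commutator_central (d : G) (hd : d ∈ commutator G) (x : G ⧸ (⊤ : Subgroup G).lowerCentralSeries 2) :
    (QuotientGroup.mk' ((⊤ : Subgroup G).lowerCentralSeries 2) d) * x =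
      x * (QuotientGroup.mk' ((⊤ : Subgroup G).lowerCentralSeries 2) d) := by
  obtain ⟨g, rfl⟩ := QuotientGroup.mk'_surjective _ x
  have h1 : ⁅d, g⁆ ∈ (⊤ : Subgroup G).lowerCentralSeries 2 := by
    rw [Subgroup.lowerCentralSeries_succ, Subgroup.top_lowerCentralSeries_one]
    exact Subgroup.commutator_mem_commutator hd (Subgroup.mem_top g)
  have h2 : QuotientGroup.mk' ((⊤ : Subgroup G).lowerCentralSeries 2) ⁅d, g⁆ = 1 :=
    (QuotientGroup.eq_one_iff _).2 h1
  rw [map_commutatorElement, commutatorElement_eq_one_iff_commute] at h2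
  exact h2.eq

omit [Finite G] in
/-- the subgroup `M_w`: index `p`, contains `w`, `G'`, and has `M_w' ≤ γ₃`. -/
theorem exists_max_of_pair {c : G}
    (hcomm : commutator G = Subgroup.zpowers c ⊔ (⊤ : Subgroup G).lowerCentralSeries 2)
    (hcnot : c ∉ (⊤ : Subgroup G).lowerCentralSeries 2)
    (hcpow : c ^ p ∈ (⊤ : Subgroup G).lowerCentralSeries 2)
    (hidx : ((⊤ : Subgroup G).lowerCentralSeries 2).index = p ^ 3)
    (w w' : G) (hww : ⁅w, w'⁆ ∉ (⊤ : Subgroup G).lowerCentralSeries 2) :
    ∃ M : Subgroup G, M.Normal ∧ M.index = p ∧ w ∈ M ∧ commutator G ≤ M ∧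
      ⁅M, M⁆ ≤ (⊤ : Subgroup G).lowerCentralSeries 2 := by
  have hp : p.Prime := Fact.out
  set γ3 : Subgroup G := (⊤ : Subgroup G).lowerCentralSeries 2 with hγ3
  set π : G →* G ⧸ γ3 := QuotientGroup.mk' γ3 with hπ
  have hπs : Function.Surjective π := QuotientGroup.mk'_surjective γ3
  -- commutators in the quotient are central
  have hcen : ∀ a b x : G ⧸ γ3, ⁅a, b⁆ * x = x * ⁅a, b⁆ := by
    intro a b x
    obtain ⟨a', rfl⟩ := hπs a
    obtain ⟨b', rfl⟩ := hπs b
    rw [← map_commutatorElement]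
    exact mk_commutator_central ⁅a', b'⁆
      (Subgroup.commutator_mem_commutator (Subgroup.mem_top a') (Subgroup.mem_top b')) x
  -- the homomorphism `x ↦ [π w, x]`
  let χ : G ⧸ γ3 →* G ⧸ γ3 :=
    MonoidHom.mk' (fun x => ⁅π w, x⁆) (by
      intro x y
      have h1 : ⁅π w, x * y⁆ = ⁅π w, x⁆ * (x * ⁅π w, y⁆ * x⁻¹) := by
        simp only [commutatorElement_def]; group
      rw [h1, ← hcen (π w) y x, mul_inv_cancel_right])
  have hχ : ∀ x, χ x = ⁅π w, x⁆ := fun x => rfl
  set M : Subgroup G := (χ.comp π).ker with hM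
  have hMmem : ∀ g, g ∈ M ↔ ⁅π w, π g⁆ = 1 := by
    intro g; rw [hM, MonoidHom.mem_ker]; rfl
  have hwM : w ∈ M := by rw [hMmem]; exact commutatorElement_self _
  have hGM : commutator G ≤ M := by
    intro d hd
    rw [hMmem, commutatorElement_eq_one_iff_commute]
    exact (mk_commutator_central d hd (π w)).symm
  have hγM : γ3 ≤ M := by
    intro g hg
    rw [hMmem]
    have : π g = 1 := (QuotientGroup.eq_one_iff g).2 hg
    rw [this, commutatorElement_one_right]
  -- order of `π c`
  have hπc1 : π c ≠ 1 := fun hh => hcnot ((QuotientGroup.eq_one_iff c).1 hh)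
  have hπcp : π c ^ p = 1 := by
    rw [← map_pow]; exact (QuotientGroup.eq_one_iff _).2 hcpow
  have hord : orderOf (π c) = p := orderOf_eq_prime hπcp hπc1
  have hCcard : Nat.card ↥(Subgroup.zpowers (π c)) = p := by
    rw [Nat.card_zpowers, hord]
  -- the image of `G'`
  have hGimg : (commutator G).map π = Subgroup.zpowers (π c) := by
    rw [hcomm, Subgroup.map_sup, MonoidHom.map_zpowers]
    have : γ3.map π = ⊥ := QuotientGroup.map_mk'_self γ3
    rw [this, sup_bot_eq]
  -- the range of `χ ∘ π`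
  have hrange_le : (χ.comp π).range ≤ Subgroup.zpowers (π c) := by
    rintro _ ⟨g, rfl⟩
    rw [← hGimg]
    show ⁅π w, π g⁆ ∈ (commutator G).map π
    rw [← map_commutatorElement]
    exact Subgroup.mem_map_of_mem π
      (Subgroup.commutator_mem_commutator (Subgroup.mem_top w) (Subgroup.mem_top g))
  have hrange_ne : (χ.comp π).range ≠ ⊥ := by
    intro hbot
    have h1 : (χ.comp π) w' ∈ (χ.comp π).range := ⟨w', rfl⟩
    rw [hbot, Subgroup.mem_bot] at h1
    apply hww
    rw [← QuotientGroup.eq_one_iff]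
    have : (χ.comp π) w' = ⁅π w, π w'⁆ := rfl
    rw [this, ← map_commutatorElement] at h1
    exact h1
  have hrange_card : Nat.card ↥(χ.comp π).range = p := by
    have h1 := Subgroup.card_dvd_of_le hrange_le
    rw [hCcard] at h1
    rcases (Nat.dvd_prime hp).1 h1 with h2 | h2
    · exact absurd (Subgroup.card_eq_one.1 h2) hrange_ne
    · exact h2
  have hMidx : M.index = p := by
    rw [hM, Subgroup.index_ker, hrange_card]
  have hMn : M.Normal := by rw [hM]; infer_instance
  refine ⟨M, hMn, hMidx, hwM, hGM, ?_⟩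
  -- `M / γ₃` has order `p²`, hence is abelian
  have hMimg : Nat.card ↥(M.map π) = p ^ 2 := by
    have h1 := Subgroup.relIndex_ker (K := M) π
    rw [hπ, QuotientGroup.ker_mk'] at h1
    rw [← hπ] at h1
    have h2 := Subgroup.relIndex_mul_index hγM
    rw [hMidx, hidx, h1] at h2
    have : Nat.card ↥(M.map π) * p = p ^ 2 * p := by rw [h2]; ring
    exact Nat.eq_of_mul_eq_mul_right hp.pos this
  have hab : ∀ a b : ↥(M.map π), a * b = b * a := fun a b =>
    (IsPGroup.isMulCommutative_of_card_eq_prime_sq hMimg).is_comm.comm a b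
  rw [Subgroup.commutator_le]
  intro a ha b hb
  rw [← QuotientGroup.eq_one_iff]
  show π ⁅a, b⁆ = 1
  rw [map_commutatorElement, commutatorElement_eq_one_iff_commute]
  have := hab ⟨π a, Subgroup.mem_map_of_mem π ha⟩ ⟨π b, Subgroup.mem_map_of_mem π hb⟩
  exact congrArg Subtype.val this

/-- B5. -/
theorem mnm_exists_max (hG : IsPGroup p G) {u v : G} (hg : Gam p G u v)
    (h4 : Nat.card ↥((⊤ : Subgroup G).lowerCentralSeries 2) ≤
      p * Nat.card ↥((⊤ : Subgroup G).lowerCentralSeries 3))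
    (hne : (⊤ : Subgroup G).lowerCentralSeries 2 ≠ ⊥) :
    ∃ M : Subgroup G, M.index = p ∧ ⁅M, M⁆ = (⊤ : Subgroup G).lowerCentralSeries 2 := by
  have hp : p.Prime := Fact.out
  have : Group.IsNilpotent G := hG.isNilpotent
  set γ3 : Subgroup G := (⊤ : Subgroup G).lowerCentralSeries 2 with hγ3
  set γ4 : Subgroup G := (⊤ : Subgroup G).lowerCentralSeries 3 with hγ4
  set c : G := ⁅u, v⁆ with hc
  have h43 : γ4 ≤ γ3 := Subgroup.lowerCentralSeries_antitone _ (by norm_num)
  have hγ4def : γ4 = ⁅γ3, ⊤⁆ := rfl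
  -- Step A: γ4 ≠ γ3
  have hA : γ4 ≠ γ3 := fun hh => hne (lcs_eq_bot_of_succ_eq 2 hh)
  -- Step B: some generator does not centralise `c` modulo γ4
  have hB : ⁅c, u⁆ ∉ γ4 ∨ ⁅c, v⁆ ∉ γ4 := by
    by_contra hcon
    push Not at hcon
    obtain ⟨hcu, hcv⟩ := hcon
    apply hA
    apply le_antisymm h43
    set ρ : G →* G ⧸ γ4 := QuotientGroup.mk' γ4 with hρ
    -- `ρ c` is central
    have hcc : ρ c ∈ Subgroup.center (G ⧸ γ4) := by
      have h1 : Subgroup.closure ({ρ u, ρ v} : Set (G ⧸ γ4)) = ⊤ := by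
        have := congrArg (Subgroup.map ρ) hg.gen
        rw [MonoidHom.map_closure, Subgroup.map_top_of_surjective ρ (QuotientGroup.mk'_surjective γ4)] at this
        rw [← this]; congr 1
        ext x; simp [Set.image_pair]
      have h2 : Subgroup.closure ({ρ u, ρ v} : Set (G ⧸ γ4)) ≤
          Subgroup.centralizer ({ρ c} : Set (G ⧸ γ4)) := by
        rw [Subgroup.closure_le]
        intro x hx
        rw [SetLike.mem_coe, Subgroup.mem_centralizer_singleton_iff]
        rcases hx with rfl | rfl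
        · have : ρ ⁅c, u⁆ = 1 := (QuotientGroup.eq_one_iff _).2 hcu
          rw [map_commutatorElement, commutatorElement_eq_one_iff_commute] at this
          exact this.eq.symm
        · have : ρ ⁅c, v⁆ = 1 := (QuotientGroup.eq_one_iff _).2 hcv
          rw [map_commutatorElement, commutatorElement_eq_one_iff_commute] at this
          exact this.eq.symm
      rw [h1] at h2
      rw [Subgroup.mem_center_iff]
      intro x
      have := h2 (Subgroup.mem_top x)
      rw [Subgroup.mem_centralizer_singleton_iff] at this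
      exact this
    -- hence all of `G'` is central modulo γ4
    have hG'c : commutator G ≤ (Subgroup.center (G ⧸ γ4)).comap ρ := by
      rw [hg.comm, sup_le_iff]
      constructor
      · rw [Subgroup.zpowers_le, Subgroup.mem_comap]; exact hcc
      · intro g hgm
        rw [Subgroup.mem_comap, Subgroup.mem_center_iff]
        intro x
        obtain ⟨x', rfl⟩ := QuotientGroup.mk'_surjective γ4 x
        have h1 : ⁅g, x'⁆ ∈ γ4 := by
          rw [hγ4def]; exact Subgroup.commutator_mem_commutator hgm (Subgroup.mem_top x')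
        have h2 : ρ ⁅g, x'⁆ = 1 := (QuotientGroup.eq_one_iff _).2 h1
        rw [map_commutatorElement, commutatorElement_eq_one_iff_commute] at h2
        exact h2.eq.symm
    -- so γ3 = [G', G] ≤ γ4
    have hγ3def : γ3 = ⁅commutator G, ⊤⁆ := by
      rw [hγ3, Subgroup.lowerCentralSeries_succ, Subgroup.top_lowerCentralSeries_one]
    rw [hγ3def, Subgroup.commutator_le]
    intro d hd g _
    have h1 := hG'c hd
    rw [Subgroup.mem_comap, Subgroup.mem_center_iff] at h1
    rw [← QuotientGroup.eq_one_iff]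
    show ρ ⁅d, g⁆ = 1
    rw [map_commutatorElement, commutatorElement_eq_one_iff_commute]
    exact (h1 (ρ g)).symm
  -- the pair (w, w')
  obtain ⟨w, w', hww, hcw⟩ : ∃ w w' : G, ⁅w, w'⁆ ∉ γ3 ∧ ⁅c, w⁆ ∉ γ4 := by
    rcases hB with h | h
    · exact ⟨u, v, hg.cnot, h⟩
    · refine ⟨v, u, ?_, h⟩
      intro hh
      apply hg.cnot
      have : ⁅u, v⁆ = ⁅v, u⁆⁻¹ := (commutatorElement_inv v u).symm
      rw [this]; exact γ3.inv_mem hh
  obtain ⟨M, hMn, hMidx, hwM, hGM, hM'⟩ :=
    exists_max_of_pair (p := p) hg.comm hg.cnot hg.cpow hg.idx w w' hww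
  refine ⟨M, hMidx, le_antisymm hM' ?_⟩
  -- Step D
  set K : Subgroup G := ⁅M, M⁆ with hK
  have : K.Normal := by rw [hK]; infer_instance
  have hcK : ⁅c, w⁆ ∈ K :=
    Subgroup.commutator_mem_commutator
      (hGM (Subgroup.commutator_mem_commutator (Subgroup.mem_top u) (Subgroup.mem_top v))) hwM
  -- (i) K ⊔ γ4 = γ3
  have hX : K ⊔ γ4 = γ3 := by
    set X : Subgroup G := K ⊔ γ4 with hXdef
    have hX3 : X ≤ γ3 := sup_le hM' h43
    have h4X : γ4 ≤ X := le_sup_right
    have hXne : ¬ X ≤ γ4 := fun hh => hcw (hh (le_sup_left (a := K) (b := γ4) hcK))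
    have ha1 : γ4.relIndex X ≠ 1 := fun hh => hXne (Subgroup.relIndex_eq_one.1 hh)
    have hmul := Subgroup.relIndex_mul_relIndex (H := γ4) (K := X) (L := γ3) h4X hX3
    -- γ4.relIndex γ3 ≤ p
    have ht : γ4.relIndex γ3 ≤ p := by
      have h1 := Subgroup.relIndex_mul_relIndex (H := (⊥ : Subgroup G)) (K := γ4) (L := γ3) bot_le h43
      rw [Subgroup.relIndex_bot_left, Subgroup.relIndex_bot_left] at h1
      have hpos : 0 < Nat.card ↥γ4 := Nat.card_pos
      have : Nat.card ↥γ4 * γ4.relIndex γ3 ≤ Nat.card ↥γ4 * p := by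
        rw [h1, mul_comm]; exact h4
      exact Nat.le_of_mul_le_mul_left this hpos
    -- p ∣ γ4.relIndex X
    have hpa : p ≤ γ4.relIndex X := by
      obtain ⟨n, hn⟩ := (hG.to_subgroup X).exists_card_eq
      have h1 : γ4.relIndex X ∣ p ^ n := hn ▸ Subgroup.relIndex_dvd_card γ4 X
      obtain ⟨j, -, hj⟩ := (Nat.dvd_prime_pow hp).1 h1
      rcases j with _ | j
      · exact absurd (by rw [hj, pow_zero]) ha1
      · rw [hj]; exact Nat.le_self_pow (Nat.succ_ne_zero j) p
    have hb1 : X.relIndex γ3 = 1 := by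
      have hbpos : 0 < X.relIndex γ3 := by
        rcases Nat.eq_zero_or_pos (X.relIndex γ3) with h0 | h0
        · rw [h0, mul_zero] at hmul
          have : 0 < γ4.relIndex γ3 := by
            have := Subgroup.relIndex_dvd_card γ4 γ3
            exact Nat.pos_of_ne_zero (fun h0' => by
              rw [h0'] at this
              exact (Nat.card_pos (α := ↥γ3)).ne' (Nat.eq_zero_of_zero_dvd this))
          omega
        · exact h0
      by_contra hne1
      have hb2 : 2 ≤ X.relIndex γ3 := by omega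
      have : p * 2 ≤ γ4.relIndex X * X.relIndex γ3 := Nat.mul_le_mul hpa hb2
      rw [hmul] at this
      have hp1 : 1 ≤ p := hp.one_le
      omega
    exact le_antisymm hX3 (Subgroup.relIndex_eq_one.1 hb1)
  -- (ii) pass to G ⧸ K
  set σ : G →* G ⧸ K := QuotientGroup.mk' K with hσ
  have hσs : Function.Surjective σ := QuotientGroup.mk'_surjective K
  have hlcs : ∀ n, ((⊤ : Subgroup G).lowerCentralSeries n).map σ =
      (⊤ : Subgroup (G ⧸ K)).lowerCentralSeries n := by
    intro n
    rw [Subgroup.map_lowerCentralSeries, Subgroup.map_top_of_surjective σ hσs]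
  have h34 : (⊤ : Subgroup (G ⧸ K)).lowerCentralSeries 3 = (⊤ : Subgroup (G ⧸ K)).lowerCentralSeries 2 := by
    rw [← hlcs 3, ← hlcs 2, ← hγ3, ← hγ4, ← hX, Subgroup.map_sup]
    have : K.map σ = ⊥ := QuotientGroup.map_mk'_self K
    rw [this, bot_sup_eq]
  have : Group.IsNilpotent (G ⧸ K) := (hG.to_quotient K).isNilpotent
  have hbot := lcs_eq_bot_of_succ_eq (H := G ⧸ K) 2 h34
  rw [← hlcs 2, ← hγ3] at hbot
  have hker : γ3 ≤ σ.ker := (Subgroup.map_eq_bot_iff _).1 hbot
  rw [hσ, QuotientGroup.ker_mk'] at hker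
  exact hker

end Cfsg.Agent.Lib.H7.R2
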