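import Mathlib
import Cfsg.Prelude.Def_OddOrderLocal
import Cfsg.Prelude.Def_CaseTheorems
import Cfsg.Prelude.Def_PLocal
import Cfsg.Agent.Lib.H19.R2Defs
import Cfsg.Agent.Lib.H22.UniqueOrderP

/-!
# S3888 piece K2QRK (helper7): `h2_quot_rank`.
-/

set_option autoImplicit false

namespace Cfsg.Agent.Lib.H7.R2

open Cfsg Cfsg.Agent.Lib.H19.R2
open scoped commutatorElement

universe u

variable {p : ℕ} [Fact p.Prime] {G : Type u} [Group G] [Finite G]

/-- K2QRK. -/
theorem h2_quot_rank (hp2 : p ≠ 2) {N : Subgroup G} (h : H2 p G N) (Z : Subgroup G) [Z.Normal]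
    (hZN : Z ≤ N) (hZc : Z ≤ Subgroup.center G) : Cfsg.PRankLE p 2 (G ⧸ Z) := by
  have hp : p.Prime := Fact.out
  intro A hAc hAe
  -- the preimage
  set E₁ : Subgroup G := A.comap (QuotientGroup.mk' Z) with hE₁
  have hZE : Z ≤ E₁ := by
    intro z hz
    rw [hE₁, Subgroup.mem_comap]
    have : QuotientGroup.mk' Z z = 1 := (QuotientGroup.eq_one_iff z).2 hz
    rw [this]; exact A.one_mem
  have hpowZ : ∀ g ∈ E₁, g ^ p ∈ Z := by
    intro g hg
    rw [hE₁, Subgroup.mem_comap] at hg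
    have := hAe _ hg
    rw [← map_pow] at this
    exact (QuotientGroup.eq_one_iff _).1 this
  have hcommZ : ∀ g ∈ E₁, ∀ k ∈ E₁, k * g * k⁻¹ * g⁻¹ ∈ Z := by
    intro g hg k hk
    rw [hE₁, Subgroup.mem_comap] at hg hk
    rw [← QuotientGroup.eq_one_iff]
    have hc : (⟨_, hk⟩ : ↥A) * ⟨_, hg⟩ = ⟨_, hg⟩ * ⟨_, hk⟩ := hAc.is_comm.comm _ _
    have hc' : (QuotientGroup.mk' Z k) * (QuotientGroup.mk' Z g) =
        (QuotientGroup.mk' Z g) * (QuotientGroup.mk' Z k) := congrArg Subtype.val hc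
    show ((k * g * k⁻¹ * g⁻¹ : G) : G ⧸ Z) = 1
    have : ((k * g * k⁻¹ * g⁻¹ : G) : G ⧸ Z) =
        (QuotientGroup.mk' Z k) * (QuotientGroup.mk' Z g) * (QuotientGroup.mk' Z k)⁻¹ *
          (QuotientGroup.mk' Z g)⁻¹ := by
      simp [QuotientGroup.mk'_apply]
    rw [this, hc']; group
  -- p-th power is multiplicative on E₁
  have hodd : 2 ∣ p - 1 := by
    rcases hp.eq_two_or_odd' with h2 | h2
    · exact absurd h2 hp2
    · obtain ⟨m, hm⟩ := h2
      exact ⟨m, by omega⟩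
  have hmulpow : ∀ g ∈ E₁, ∀ k ∈ E₁, (g * k) ^ p = g ^ p * k ^ p := by
    intro g hg k hk
    have hcz := hcommZ g hg k hk
    have hcc : ∀ x : G, x * (k * g * k⁻¹ * g⁻¹) = (k * g * k⁻¹ * g⁻¹) * x := by
      intro x
      have := hZc hcz
      rw [Subgroup.mem_center_iff] at this
      exact this x
    rw [Cfsg.Agent.Lib.H22.mul_pow_of_central hcc p]
    have h1 : (k * g * k⁻¹ * g⁻¹) ^ p = 1 := h.1.exp _ (hZN hcz)
    rw [Nat.mul_div_assoc p hodd, pow_mul, h1, one_pow, mul_one]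
  -- the homomorphism `g ↦ g ^ p`
  let ψ : ↥E₁ →* ↥Z :=
    MonoidHom.mk' (fun g => ⟨(g : G) ^ p, hpowZ g g.2⟩) (by
      intro a b
      apply Subtype.ext
      show ((a * b : ↥E₁) : G) ^ p = (a : G) ^ p * (b : G) ^ p
      rw [Subgroup.coe_mul]
      exact hmulpow a a.2 b b.2)
  have hker : Nat.card ↥ψ.ker ≤ p ^ 2 := by
    have h1 : ψ.ker.map E₁.subtype ≤ N := by
      rintro _ ⟨g, hg, rfl⟩
      apply h.2
      have : ψ g = 1 := hg
      exact congrArg Subtype.val this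
    have h2 := Subgroup.card_le_of_le h1
    rw [Subgroup.card_map_of_injective E₁.subtype_injective, h.1.card] at h2
    exact h2
  have hrange : ψ.ker.index ≤ Nat.card ↥Z := by
    rw [Subgroup.index_ker]
    exact Subgroup.card_le_card_group _
  have hE1card : Nat.card ↥E₁ ≤ p ^ 2 * Nat.card ↥Z := by
    rw [← Subgroup.card_mul_index ψ.ker]
    exact Nat.mul_le_mul hker hrange
  -- |E₁| = |Z| * |A|
  have hAcard : Nat.card ↥Z * Nat.card ↥A = Nat.card ↥E₁ := by
    have h1 := Subgroup.relIndex_mul_relIndex (H := (⊥ : Subgroup G)) (K := Z) (L := E₁) bot_le hZE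
    rw [Subgroup.relIndex_bot_left, Subgroup.relIndex_bot_left] at h1
    have h2 : Z.relIndex E₁ = Nat.card ↥A := by
      have := Subgroup.relIndex_ker (K := E₁) (QuotientGroup.mk' Z)
      rw [QuotientGroup.ker_mk'] at this
      rw [this, hE₁, Subgroup.map_comap_eq_self_of_surjective (QuotientGroup.mk'_surjective Z)]
    rw [h2] at h1
    exact h1
  have hZpos : 0 < Nat.card ↥Z := Nat.card_pos
  have : Nat.card ↥Z * Nat.card ↥A ≤ Nat.card ↥Z * p ^ 2 := by
    rw [hAcard, mul_comm (Nat.card ↥Z)]; exact hE1card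
  exact Nat.le_of_mul_le_mul_left this hZpos

end Cfsg.Agent.Lib.H7.R2
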