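import Mathlib
import Cfsg.Agent.Lib.H11.RK2Defs
import Cfsg.Agent.Lib.H22.RK2T3B
import Cfsg.Agent.S4209

/-!
# S5289 piece T3POW (helper7): the `p`-th power map of `G(p,n;ε)` is multiplicative

Route: `G' ≤ K = ⟨y,w⟩` (helper22's `T3.m4`), `⁅K, G⁆ ≤ ⟨w⟩ ≤ Z(G)`, so `G` has class `≤ 3 < p` and is regular
(landed S4209); `K` has exponent `p`, so the correction term of the regularity formula is trivial.
-/

set_option autoImplicit false

namespace Cfsg.Agent.Lib.H7.RK2

open Cfsg.Agent.Lib.H11.RK2
open scoped commutatorElement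

/-- If the generators commute modulo a normal subgroup `L`, so do the generated subgroups. -/
theorem commutator_closure_le {G : Type*} [Group G] (L : Subgroup G) [L.Normal] (S T : Set G)
    (h : ∀ s ∈ S, ∀ t ∈ T, ⁅s, t⁆ ∈ L) : ⁅Subgroup.closure S, Subgroup.closure T⁆ ≤ L := by
  have hker : (QuotientGroup.mk' L).ker = L := QuotientGroup.ker_mk' L
  rw [← hker, ← Subgroup.map_eq_bot_iff, Subgroup.map_commutator,
    Subgroup.commutator_eq_bot_iff_le_centralizer, MonoidHom.map_closure, MonoidHom.map_closure,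
    Subgroup.centralizer_closure, Subgroup.closure_le]
  rintro _ ⟨s, hs, rfl⟩
  rw [SetLike.mem_coe, Subgroup.mem_centralizer_iff]
  rintro _ ⟨t, ht, rfl⟩
  have h1 := h s hs t ht
  rw [← hker, MonoidHom.mem_ker, map_commutatorElement, commutatorElement_eq_one_iff_commute] at h1
  exact h1.eq.symm

section T3

variable {G : Type*} [Group G] [Finite G] {p n s : ℕ} [Fact p.Prime] {x y z : G}

/-- `w = z^(p^(n-3))` is central. -/
theorem T3.w_central (h : T3 p n s x y z) : ∀ g : G, g * z ^ p ^ (n - 3) = z ^ p ^ (n - 3) * g := by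
  have hle : Subgroup.closure ({x, y, z} : Set G) ≤
      Subgroup.centralizer ({z ^ p ^ (n - 3)} : Set G) := by
    rw [Subgroup.closure_le]
    intro t ht
    rw [SetLike.mem_coe, Subgroup.mem_centralizer_iff]
    intro u hu
    rw [Set.mem_singleton_iff] at hu
    subst hu
    rcases ht with rfl | rfl | rfl
    · exact (Cfsg.Agent.Lib.H22.RK2.T3.t3b_xw h).symm
    · have hc : Commute t z := h.hyz
      exact (hc.pow_right _).eq.symm
    · exact ((Commute.refl t).pow_left _).eq
  intro g
  have hg : g ∈ Subgroup.centralizer ({z ^ p ^ (n - 3)} : Set G) := by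
    apply hle
    rw [h.gen]
    exact Subgroup.mem_top g
  rw [Subgroup.mem_centralizer_iff] at hg
  exact (hg _ rfl).symm

theorem T3.zpowers_w_le_center (h : T3 p n s x y z) :
    Subgroup.zpowers (z ^ p ^ (n - 3)) ≤ Subgroup.center G := by
  rw [Subgroup.zpowers_le, Subgroup.mem_center_iff]
  intro g
  exact T3.w_central h g

/-- `K = ⟨y, w⟩` is commutative of exponent `p`. -/
theorem T3.k_exp (h : T3 p n s x y z) :
    ∀ k ∈ Subgroup.closure ({y, z ^ p ^ (n - 3)} : Set G), k ^ p = 1 := by
  have hyw : y * z ^ p ^ (n - 3) = z ^ p ^ (n - 3) * y := T3.w_central h y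
  have hwp : (z ^ p ^ (n - 3)) ^ p = 1 := by
    rw [← pow_mul, ← pow_succ]
    have : n - 3 + 1 = n - 2 := by have := h.hn; omega
    rw [this]; exact h.hz
  have hcomm : Subgroup.closure ({y, z ^ p ^ (n - 3)} : Set G) ≤
      Subgroup.centralizer (Subgroup.closure ({y, z ^ p ^ (n - 3)} : Set G) : Set G) := by
    rw [Subgroup.centralizer_closure, Subgroup.closure_le]
    intro t ht
    rw [SetLike.mem_coe, Subgroup.mem_centralizer_iff]
    intro u hu
    rcases ht with rfl | rfl <;> rcases hu with rfl | rfl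
    · rfl
    · exact hyw.symm
    · exact hyw
    · rfl
  intro k hk
  induction hk using Subgroup.closure_induction with
  | mem t ht =>
    rcases ht with rfl | rfl
    · exact h.hy
    · exact hwp
  | one => exact one_pow p
  | mul a b ha hb iha ihb =>
    have hc : Commute a b := by
      have := hcomm hb
      rw [Subgroup.mem_centralizer_iff] at this
      exact this a ha
    rw [hc.mul_pow, iha, ihb, one_mul]
  | inv a _ iha => rw [inv_pow, iha, inv_one]

/-- `G` has class at most three. -/
theorem T3.lcs_three (h : T3 p n s x y z) : (⊤ : Subgroup G).lowerCentralSeries 3 = ⊥ := by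
  have hLn : (Subgroup.zpowers (z ^ p ^ (n - 3))).Normal := by
    constructor
    intro d hd g
    have := Subgroup.mem_center_iff.mp (T3.zpowers_w_le_center h hd) g
    rw [this, mul_inv_cancel_right]
    exact hd
  have h1 : (⊤ : Subgroup G).lowerCentralSeries 1 ≤
      Subgroup.closure ({y, z ^ p ^ (n - 3)} : Set G) := by
    rw [Subgroup.lowerCentralSeries_succ, Subgroup.lowerCentralSeries_zero, Subgroup.commutator_le]
    intro a _ b _
    rw [commutatorElement_def]
    exact Cfsg.Agent.Lib.H22.RK2.T3.m4 h a b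
  have h2 : ⁅Subgroup.closure ({y, z ^ p ^ (n - 3)} : Set G), (⊤ : Subgroup G)⁆ ≤
      Subgroup.zpowers (z ^ p ^ (n - 3)) := by
    rw [← h.gen]
    apply commutator_closure_le
    intro u hu t ht
    rcases hu with rfl | rfl
    · rcases ht with rfl | rfl | rfl
      · -- ⁅y, x⁆ = w^s
        have e : ⁅u, t⁆ = (z ^ p ^ (n - 3)) ^ s := by
          rw [commutatorElement_def]
          have h3 : u * t = t * (t⁻¹ * u * t) := by group
          rw [h3, h.hxy, mul_comm s, pow_mul]
          have hc := T3.w_central h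
          have hcs : ∀ g : G, g * (z ^ p ^ (n - 3)) ^ s = (z ^ p ^ (n - 3)) ^ s * g := by
            intro g
            have : Commute g (z ^ p ^ (n - 3)) := hc g
            exact (this.pow_right s).eq
          calc t * (u * (z ^ p ^ (n - 3)) ^ s) * u⁻¹ * t⁻¹
              = t * u * ((z ^ p ^ (n - 3)) ^ s * u⁻¹) * t⁻¹ := by group
            _ = t * u * (u⁻¹ * (z ^ p ^ (n - 3)) ^ s) * t⁻¹ := by rw [← hcs u⁻¹]
            _ = t * (z ^ p ^ (n - 3)) ^ s * t⁻¹ := by group
            _ = (z ^ p ^ (n - 3)) ^ s * t * t⁻¹ := by rw [hcs t]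
            _ = (z ^ p ^ (n - 3)) ^ s := by group
        rw [e]
        exact Subgroup.pow_mem _ (Subgroup.mem_zpowers _) _
      · rw [commutatorElement_self]; exact one_mem _
      · have hc : Commute u t := h.hyz
        rw [commutatorElement_eq_one_iff_commute.mpr hc]; exact one_mem _
    · have hc : Commute (z ^ p ^ (n - 3)) t := (T3.w_central h t).symm
      rw [commutatorElement_eq_one_iff_commute.mpr hc]; exact one_mem _
  have h3 : (⊤ : Subgroup G).lowerCentralSeries 2 ≤ Subgroup.center G := by
    rw [Subgroup.lowerCentralSeries_succ]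
    exact le_trans (Subgroup.commutator_mono h1 le_rfl) (le_trans h2 (T3.zpowers_w_le_center h))
  exact Subgroup.lowerCentralSeries_succ_eq_bot _ h3

/-- **T3POW**. -/
theorem T3.pow_mul (h : T3 p n s x y z) : ∀ g k : G, (g * k) ^ p = g ^ p * k ^ p := by
  have hG : IsPGroup p G := IsPGroup.of_card h.card
  have hcl : (⊤ : Subgroup G).lowerCentralSeries (p - 1) = ⊥ := by
    have hle := (⊤ : Subgroup G).lowerCentralSeries_antitone (show 3 ≤ p - 1 by have := h.hp; omega)
    rw [T3.lcs_three h] at hle
    exact le_bot_iff.mp hle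
  have hreg := Cfsg.Agent.S4209.result hG hcl
  intro g k
  obtain ⟨c, hc, heq⟩ := hreg.2 g k 1
  rw [pow_one] at heq
  have hc1 : c = 1 := by
    have hle : Cfsg.powerClosure p 1
        ⁅Subgroup.closure ({g, k} : Set G), Subgroup.closure ({g, k} : Set G)⁆ ≤ ⊥ := by
      unfold Cfsg.powerClosure
      rw [Subgroup.closure_le]
      rintro _ ⟨d, hd, rfl⟩
      rw [pow_one]
      have hdK : d ∈ Subgroup.closure ({y, z ^ p ^ (n - 3)} : Set G) := by
        have h1 : ⁅Subgroup.closure ({g, k} : Set G), Subgroup.closure ({g, k} : Set G)⁆ ≤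
            Subgroup.closure ({y, z ^ p ^ (n - 3)} : Set G) := by
          rw [Subgroup.commutator_le]
          intro a _ b _
          rw [commutatorElement_def]
          exact Cfsg.Agent.Lib.H22.RK2.T3.m4 h a b
        exact h1 hd
      rw [SetLike.mem_coe, Subgroup.mem_bot]
      exact T3.k_exp h d hdK
    exact Subgroup.mem_bot.mp (hle hc)
  rw [heq, hc1, mul_one]

end T3

end Cfsg.Agent.Lib.H7.RK2
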