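import Mathlib
import Cfsg.Prelude.Def_Characters
import Cfsg.Prelude.Def_Solvable
import Cfsg.Agent.Lib.H10.PSolvable
import Cfsg.Agent.Lib.H1.PSolvOfSolv

/-!
# S4581 piece BASE (helper7)
-/

set_option autoImplicit false

universe u

namespace Cfsg.Agent.Lib.H7.RO

open Cfsg

/-- BASE.  `A` solvable, `O_{2'}(A) = 1`, `O_2(A)` central: then `A = O_2(A)`. -/
theorem pCore_eq_top_of_central {A : Type u} [Group A] [Finite A] (hs : Group.IsSolvable A)
    (hK : pPrimeCore 2 A = ⊥) (hc : pCore 2 A ≤ Subgroup.center A) : pCore 2 A = ⊤ := by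
  have : Fact (Nat.Prime 2) := ⟨Nat.prime_two⟩
  have hps : IsPSolvable 2 A := Cfsg.Agent.Lib.H1.PSolvOfSolv.isPSolvable_of_isSolvable 2 A
  have h1 := Cfsg.Agent.Lib.H10.centralizer_pCore_le_of_isPSolvable 2 hps hK
  rw [eq_top_iff]
  refine le_trans ?_ h1
  intro x _
  rw [Subgroup.mem_centralizer_iff]
  intro y hy
  exact (Subgroup.mem_center_iff.1 (hc hy) x).symm

end Cfsg.Agent.Lib.H7.RO
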