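import Mathlib
import Cfsg.Prelude.Def_Characters
import Cfsg.Prelude.Def_Solvable
import Cfsg.Agent.Lib.H26.RODefs
import Cfsg.Agent.Lib.H24.RelGlaubA
import Cfsg.Agent.Lib.H24.CharConj
import Cfsg.Agent.Lib.L0.CharLinear

/-!
# S4581 piece CLIFFIB (helper7): the Clifford correspondence on a fibre, preserving odd degree,
reality and the scalar action of a central element.
-/

set_option autoImplicit false

universe u

namespace Cfsg.Agent.Lib.H7.RO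

open Cfsg Cfsg.Agent.Lib.H24.Glaub Cfsg.Agent.Lib.H26.RO Cfsg.Agent.Lib.H24.RelGlaub
open Cfsg.Agent.Lib.L0 Cfsg.Agent.Lib.H23 Cfsg.Agent.Lib.H8 Cfsg.Agent.Lib.H24
open scoped ComplexConjugate

section generic

variable {G : Type*} [Group G] [Fintype G]

/-- an induced function at a central element of the group lying in the subgroup -/
theorem ro_indFun_apply_central (H : Subgroup G) (θ : H → ℂ) (c : H)
    (hc : ∀ x : G, x * (c : G) = (c : G) * x) :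
    indFun H θ (c : G) = (H.index : ℂ) * θ c := by
  rw [Cfsg.Agent.Lib.H8.indFun_apply]
  have h1 : ∀ x : G, extendByZero H θ (x⁻¹ * (c : G) * x) = θ c := by
    intro x
    have : x⁻¹ * (c : G) * x = (c : G) := by
      rw [mul_assoc, ← hc x, inv_mul_cancel_left]
    rw [this, extendByZero_coe]
  simp only [h1, Finset.sum_const, Finset.card_univ, nsmul_eq_mul]
  rw [← Nat.card_eq_fintype_card, ← Subgroup.index_mul_card H]
  have hH : (Nat.card H : ℂ) ≠ 0 := by exact_mod_cast (Nat.card_pos (α := H)).ne'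
  push_cast
  field_simp

/-- induction commutes with complex conjugation -/
theorem ro_indFun_conj (H : Subgroup G) (θ : H → ℂ) (g : G) :
    conj (indFun H θ g) = indFun H (fun h => conj (θ h)) g := by
  rw [Cfsg.Agent.Lib.H8.indFun_apply, Cfsg.Agent.Lib.H8.indFun_apply, map_mul, map_inv₀,
    Complex.conj_natCast, map_sum]
  congr 1
  apply Finset.sum_congr rfl
  intro x _
  by_cases hx : x⁻¹ * g * x ∈ H
  · rw [extendByZero_of_mem H θ hx, extendByZero_of_mem H _ hx]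
  · rw [extendByZero_of_not_mem H θ hx, extendByZero_of_not_mem H _ hx, map_zero]

end generic

section amb

variable {Γ : Type u} [Group Γ] [Finite Γ]

theorem ro_indA_apply_central {T Y : Subgroup Γ} [Fintype ↥T] [Fintype ↥Y] (hTY : T ≤ Y)
    (ψ : ↥T → ℂ) (c : Γ) (hcT : c ∈ T) (hcc : ∀ y ∈ Y, y * c = c * y) :
    indA hTY ψ ⟨c, hTY hcT⟩ = (T.relIndex Y : ℂ) * ψ ⟨c, hcT⟩ := by
  unfold indA
  exact ro_indFun_apply_central (T.subgroupOf Y) (ψ ∘ eSub hTY) ⟨⟨c, hTY hcT⟩, hcT⟩ (by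
    intro x
    apply Subtype.ext
    exact hcc x x.2)

theorem ro_indA_conj {T Y : Subgroup Γ} [Fintype ↥T] [Fintype ↥Y] (hTY : T ≤ Y)
    (ψ : ↥T → ℂ) (y : ↥Y) :
    conj (indA hTY ψ y) = indA hTY (fun t => conj (ψ t)) y := by
  unfold indA
  exact ro_indFun_conj (T.subgroupOf Y) (ψ ∘ eSub hTY) y

theorem ro_charDegree_indA {T Y : Subgroup Γ} [Fintype ↥T] [Fintype ↥Y] (hTY : T ≤ Y)
    (ψ : ↥T → ℂ) (hψ : IsIrrCharacter ↥T ψ) :
    charDegree (indA hTY ψ) = T.relIndex Y * charDegree ψ := by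
  apply charDegree_eq_of_apply_one
  have h1 := ro_indA_apply_central hTY ψ 1 T.one_mem (fun y _ => by rw [mul_one, one_mul])
  have h2 : (⟨1, hTY T.one_mem⟩ : ↥Y) = 1 := rfl
  have h3 : (⟨1, T.one_mem⟩ : ↥T) = 1 := rfl
  rw [h2, h3, apply_one_eq_charDegree ψ hψ] at h1
  rw [h1]
  push_cast
  rfl

/-- Clifford inside the inertia group, for a linear invariant `μ`: `ψ_V = ψ 1 • μ`. -/
theorem ro_res_eq_of_over (Y T V : Subgroup Γ) (hVT : V ≤ T) (hTY : T ≤ Y)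
    (hVn : ∀ y ∈ Y, ∀ v ∈ V, y * v * y⁻¹ ∈ V) (μ : IrrCharacter ↥V)
    (hT : ∀ g : Γ, g ∈ T ↔ g ∈ Y ∧ InvUnder V g (μ : ↥V → ℂ))
    (hμ1 : (μ : ↥V → ℂ) 1 = 1) [Fintype ↥V] (ψ : ↥T → ℂ) (hψ : IsIrrCharacter ↥T ψ)
    (hf : classInner (res hVT ψ) (μ : ↥V → ℂ) ≠ 0) :
    ∀ v : ↥V, ψ ⟨v, hVT v.2⟩ = ψ 1 * (μ : ↥V → ℂ) v := by
  classical
  have hnorm := normal_subgroupOf_of_norm hVn
  haveI : Fintype (V.subgroupOf Y) := Fintype.ofFinite _
  haveI : Fintype (T.subgroupOf Y) := Fintype.ofFinite _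
  haveI : Fintype ↥Y := Fintype.ofFinite _
  have hle : V.subgroupOf Y ≤ T.subgroupOf Y := subgroupOf_le_of_le hVT
  have hϑ : IsIrrCharacter (V.subgroupOf Y) ((μ : ↥V → ℂ) ∘ eSub (hVT.trans hTY)) :=
    irr_comp_equiv _ μ.2
  have hψ₀ : IsIrrCharacter (T.subgroupOf Y) (ψ ∘ eSub hTY) := irr_comp_equiv _ hψ
  have hres : resTo (V.subgroupOf Y) (T.subgroupOf Y) hle (ψ ∘ eSub hTY) =
      (res hVT ψ) ∘ eSub (hVT.trans hTY) := rfl
  have hf₀ : classInner (resTo (V.subgroupOf Y) (T.subgroupOf Y) hle (ψ ∘ eSub hTY))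
      ((μ : ↥V → ℂ) ∘ eSub (hVT.trans hTY)) ≠ 0 := by
    rw [hres, classInner_comp_equiv]
    exact hf
  have key := restrict_inertia_eq_smul (V.subgroupOf Y) (T.subgroupOf Y) hle _ hϑ
    (fun g hg => (inertia_transport (hVT.trans hTY) hVn (μ : ↥V → ℂ) hT g).mp hg) _ hψ₀ hf₀
  rw [hres, classInner_comp_equiv] at key
  -- evaluate
  have hev : ∀ v : ↥V, ψ ⟨v, hVT v.2⟩ =
      classInner (res hVT ψ) (μ : ↥V → ℂ) * (μ : ↥V → ℂ) v := by
    intro v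
    have h1 := congrFun key ((eSub (hVT.trans hTY)).symm v)
    simp only [Function.comp_apply, MulEquiv.apply_symm_apply, Pi.smul_apply, smul_eq_mul] at h1
    exact h1
  have h1 := hev 1
  rw [hμ1, mul_one] at h1
  intro v
  rw [hev v, ← h1]
  rfl

/-- CLIFFIB.  Clifford correspondence on a fibre. -/
theorem card_fiber_eq_card_rh (ρ : Prop) (Y T V : Subgroup Γ) (hVT : V ≤ T) (hTY : T ≤ Y)
    (hVn : ∀ y ∈ Y, ∀ v ∈ V, y * v * y⁻¹ ∈ V) (μ : IrrCharacter ↥V)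
    (hT : ∀ g : Γ, g ∈ T ↔ g ∈ Y ∧ InvUnder V g (μ : ↥V → ℂ)) (hodd : Odd (T.relIndex Y))
    (z : Γ) (hzV : z ∈ V) (hzc : ∀ y ∈ Y, y * z = z * y) (ζ : ℂ)
    (hμ1 : (μ : ↥V → ℂ) 1 = 1) (hμz : (μ : ↥V → ℂ) ⟨z, hzV⟩ = ζ)
    (hμr : ρ → ∀ v : ↥V, ((μ : ↥V → ℂ) v).im = 0) :
    Nat.card {χ : IrrCharacter ↥Y // χ ∈ CC ρ ↥Y ⟨z, hTY (hVT hzV)⟩ ζ ∧
        Over (hVT.trans hTY) (χ : ↥Y → ℂ) (μ : ↥V → ℂ)} =
      Nat.card (RH ρ hVT (μ : ↥V → ℂ)) := by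
  classical
  letI : Fintype ↥V := Fintype.ofFinite ↥V
  letI : Fintype ↥T := Fintype.ofFinite ↥T
  letI : Fintype ↥Y := Fintype.ofFinite ↥Y
  have hμc : IsCharacter ↥V (μ : ↥V → ℂ) := isCharacter_of_irr μ.2
  have hmul := linear_char_mul hμc hμ1
  have hpow : ∀ (a : ↥V) (k : ℕ), (μ : ↥V → ℂ) (a ^ k) = (μ : ↥V → ℂ) a ^ k := by
    intro a k
    induction k with
    | zero => rw [pow_zero, pow_zero, hμ1]
    | succ k ih => rw [pow_succ, pow_succ, hmul, ih]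
  have hOver : ∀ χ : ↥Y → ℂ, Over (hVT.trans hTY) χ (μ : ↥V → ℂ) ↔
      classInner (res (hVT.trans hTY) χ) (μ : ↥V → ℂ) ≠ 0 := fun χ => Iff.rfl
  -- members of `RH` lie over `μ`
  have hRHf : ∀ η : IrrCharacter ↥T, η ∈ RH ρ hVT (μ : ↥V → ℂ) →
      classInner (res hVT (η : ↥T → ℂ)) (μ : ↥V → ℂ) ≠ 0 := by
    intro η hη
    have h1 : res hVT (η : ↥T → ℂ) = ((η : ↥T → ℂ) 1) • (μ : ↥V → ℂ) := by
      funext v
      exact hη.2.2 v
    rw [h1, classInner_smul_left, irr_classInner_self μ.2, mul_one,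
      apply_one_eq_charDegree _ η.2]
    have h2 : charDegree (η : ↥T → ℂ) ≠ 0 := by
      intro h0
      have := hη.1
      rw [h0] at this
      exact absurd this (by decide)
    exact_mod_cast h2
  have hzk : ∀ k : ℕ, ∀ y ∈ Y, y * z ^ k = z ^ k * y := by
    intro k y hy
    exact ((Commute.pow_right (hzc y hy : Commute y z) k) : Commute y (z ^ k))
  -- the map
  have hA : ∀ η : IrrCharacter ↥T, η ∈ RH ρ hVT (μ : ↥V → ℂ) →
      ∃ hirr : IsIrrCharacter ↥Y (indA hTY (η : ↥T → ℂ)),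
        (⟨indA hTY (η : ↥T → ℂ), hirr⟩ : IrrCharacter ↥Y) ∈ CC ρ ↥Y ⟨z, hTY (hVT hzV)⟩ ζ ∧
        Over (hVT.trans hTY) (indA hTY (η : ↥T → ℂ)) (μ : ↥V → ℂ) := by
    intro η hη
    obtain ⟨hirr, hmult⟩ := cliff_irr hVT hTY hVn (μ : ↥V → ℂ) μ.2 hT (η : ↥T → ℂ) η.2
      (hRHf η hη)
    refine ⟨hirr, ⟨?_, ?_, ?_⟩, ?_⟩
    · show Odd (charDegree (indA hTY (η : ↥T → ℂ)))
      rw [ro_charDegree_indA hTY _ η.2]
      exact Nat.odd_mul.2 ⟨hodd, hη.1⟩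
    · intro hρ y
      show (indA hTY (η : ↥T → ℂ) y).im = 0
      rw [← Complex.conj_eq_iff_im, ro_indA_conj]
      congr 1
      funext t
      exact Complex.conj_eq_iff_im.2 (hη.2.1 hρ t)
    · intro k
      show indA hTY (η : ↥T → ℂ) (⟨z, hTY (hVT hzV)⟩ ^ k) = ζ ^ k * indA hTY (η : ↥T → ℂ) 1
      have h1 : (⟨z, hTY (hVT hzV)⟩ : ↥Y) ^ k = ⟨z ^ k, hTY (T.pow_mem (hVT hzV) k)⟩ :=
        Subtype.ext (by simp)
      have h2 : (1 : ↥Y) = ⟨1, hTY T.one_mem⟩ := rfl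
      rw [h1, h2, ro_indA_apply_central hTY _ (z ^ k) (T.pow_mem (hVT hzV) k) (hzk k),
        ro_indA_apply_central hTY _ 1 T.one_mem (fun y _ => by rw [mul_one, one_mul])]
      have h3 : (⟨z ^ k, T.pow_mem (hVT hzV) k⟩ : ↥T) =
          ⟨((⟨z, hzV⟩ ^ k : ↥V) : Γ), hVT (⟨z, hzV⟩ ^ k : ↥V).2⟩ := Subtype.ext (by simp)
      have h4 := hη.2.2 (⟨z, hzV⟩ ^ k)
      rw [hpow, hμz] at h4
      rw [h3, h4]
      have h5 : (⟨1, T.one_mem⟩ : ↥T) = 1 := rfl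
      rw [h5]
      ring
    · rw [hOver, hmult]
      exact hRHf η hη
  symm
  refine Nat.card_congr (Equiv.ofBijective
    (fun η : RH ρ hVT (μ : ↥V → ℂ) =>
      (⟨⟨indA hTY (η.1 : ↥T → ℂ), (hA η.1 η.2).choose⟩, (hA η.1 η.2).choose_spec⟩ :
        {χ : IrrCharacter ↥Y // χ ∈ CC ρ ↥Y ⟨z, hTY (hVT hzV)⟩ ζ ∧
          Over (hVT.trans hTY) (χ : ↥Y → ℂ) (μ : ↥V → ℂ)})) ⟨?_, ?_⟩)
  · intro η η' h
    have h1 : indA hTY (η.1 : ↥T → ℂ) = indA hTY (η'.1 : ↥T → ℂ) :=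
      congrArg (fun x => ((x.1 : IrrCharacter ↥Y) : ↥Y → ℂ)) h
    have h2 := cliff_inj hVT hTY hVn (μ : ↥V → ℂ) μ.2 hT _ _ η.1.2 η'.1.2 (hRHf η.1 η.2)
      (hRHf η'.1 η'.2) h1
    exact Subtype.ext (Subtype.ext h2)
  · rintro ⟨χ, hχCC, hχO⟩
    rw [hOver] at hχO
    obtain ⟨ψ, hψ, hind, hmult⟩ := cliff_exists hVT hTY hVn (μ : ↥V → ℂ) μ.2 hT
      (χ : ↥Y → ℂ) χ.2 hχO
    have hf : classInner (res hVT ψ) (μ : ↥V → ℂ) ≠ 0 := by rw [hmult]; exact hχO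
    have hRH : (⟨ψ, hψ⟩ : IrrCharacter ↥T) ∈ RH ρ hVT (μ : ↥V → ℂ) := by
      refine ⟨?_, ?_, ?_⟩
      · show Odd (charDegree ψ)
        have h1 : Odd (charDegree (χ : ↥Y → ℂ)) := hχCC.1
        rw [← hind, ro_charDegree_indA hTY _ hψ] at h1
        exact (Nat.odd_mul.1 h1).2
      · intro hρ
        show ∀ t : ↥T, (ψ t).im = 0
        have hψc : IsIrrCharacter ↥T (fun t => conj (ψ t)) := isIrrCharacter_conj hψ
        have hfc : classInner (res hVT (fun t => conj (ψ t))) (μ : ↥V → ℂ) ≠ 0 := by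
          have h1 : (μ : ↥V → ℂ) = fun v => conj ((μ : ↥V → ℂ) v) := by
            funext v
            exact (Complex.conj_eq_iff_im.2 (hμr hρ v)).symm
          have h2 : res hVT (fun t => conj (ψ t)) = fun v => conj (res hVT ψ v) := rfl
          rw [h2, h1, classInner_conj_conj]
          intro h0
          apply hf
          have := congrArg conj h0
          simpa using this
        have hindc : indA hTY (fun t => conj (ψ t)) = indA hTY ψ := by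
          funext y
          rw [← ro_indA_conj, hind]
          exact Complex.conj_eq_iff_im.2 (hχCC.2.1 hρ y)
        have h3 := cliff_inj hVT hTY hVn (μ : ↥V → ℂ) μ.2 hT _ _ hψc hψ hfc hf hindc
        intro t
        exact Complex.conj_eq_iff_im.1 (congrFun h3 t)
      · exact ro_res_eq_of_over Y T V hVT hTY hVn μ hT hμ1 ψ hψ hf
    refine ⟨⟨⟨ψ, hψ⟩, hRH⟩, ?_⟩
    exact Subtype.ext (Subtype.ext hind)

end amb

end Cfsg.Agent.Lib.H7.RO
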