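import Mathlib
import Cfsg.Prelude.Def_Characters
import Cfsg.Prelude.Def_Solvable
import Cfsg.Agent.Lib.H26.RODefs

/-!
# S4581 piece EQV (helper7)
-/

set_option autoImplicit false

universe u

namespace Cfsg.Agent.Lib.H7.RO

open Cfsg Cfsg.Agent.Lib.H24.Glaub Cfsg.Agent.Lib.H26.RO

variable {Γ : Type u} [Group Γ] [Finite Γ]

omit [Finite Γ] in
/-- EQV.  `NConj V N` is an equivalence relation when `N` normalizes `V`. -/
theorem nconj_equivalence (V N : Subgroup Γ) (hN : ∀ n ∈ N, ∀ v ∈ V, n * v * n⁻¹ ∈ V) :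
    Equivalence (NConj V N) := by
  refine ⟨?_, ?_, ?_⟩
  · intro μ
    refine ⟨1, N.one_mem, fun v v' h => ?_⟩
    have : v' = v := Subtype.ext (by rw [h]; simp)
    rw [this]
  · rintro μ μ' ⟨n, hn, h⟩
    refine ⟨n⁻¹, N.inv_mem hn, fun v v' hv => ?_⟩
    -- `v' = n⁻¹ v n`, so `v = n v' n⁻¹`
    have h1 : (v : Γ) = n * v' * n⁻¹ := by rw [hv]; group
    exact (h v' v h1).symm
  · rintro μ μ' μ'' ⟨n, hn, h⟩ ⟨m, hm, h'⟩
    refine ⟨m * n, N.mul_mem hm hn, fun v v' hv => ?_⟩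
    have hw : n * (v : Γ) * n⁻¹ ∈ V := hN n hn v v.2
    have h1 := h v ⟨n * v * n⁻¹, hw⟩ rfl
    have h2 := h' ⟨n * v * n⁻¹, hw⟩ v' (by rw [hv]; group)
    rw [h2, h1]

end Cfsg.Agent.Lib.H7.RO
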