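import Mathlib
import Cfsg.Prelude.Def_Characters
import Cfsg.Prelude.Def_Solvable
import Cfsg.Agent.Lib.H26.RODefs
import Cfsg.Agent.Lib.H24.CentralMod
import Cfsg.Agent.Lib.L0.CharLinear

/-!
# S4581 piece L6 (helper7)
-/

set_option autoImplicit false

universe u

namespace Cfsg.Agent.Lib.H7.RO

open Cfsg Cfsg.Agent.Lib.H24.Glaub Cfsg.Agent.Lib.H26.RO Cfsg.Agent.Lib.L0

variable {Γ : Type u} [Group Γ] [Finite Γ]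

/-- L6.  `V ≤ T`, `μ ∈ Irr(V)` linear, `L = ker μ`, `v₀ ∈ V` with `μ(V) = ⟨μ v₀⟩`.  Then
`η ∈ RH ρ T V μ` iff `η ∈ CC ρ T v₀ (μ v₀)` and `η` is trivial on `L`. -/
theorem mem_rh_iff (ρ : Prop) (T V L : Subgroup Γ) (hVT : V ≤ T) (μ : IrrCharacter ↥V)
    (hμ1 : (μ : ↥V → ℂ) 1 = 1) (hL : ∀ v : ↥V, (v : Γ) ∈ L ↔ (μ : ↥V → ℂ) v = 1) (hLV : L ≤ V)
    (v₀ : Γ) (hv₀ : v₀ ∈ V)
    (hgen : ∀ v : ↥V, ∃ k : ℕ, (μ : ↥V → ℂ) v = (μ : ↥V → ℂ) ⟨v₀, hv₀⟩ ^ k)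
    (η : IrrCharacter ↥T) :
    η ∈ RH ρ hVT (μ : ↥V → ℂ) ↔
      (η ∈ CC ρ ↥T ⟨v₀, hVT hv₀⟩ ((μ : ↥V → ℂ) ⟨v₀, hv₀⟩) ∧
        ∀ t : ↥T, (t : Γ) ∈ L → (η : ↥T → ℂ) t = (η : ↥T → ℂ) 1) := by
  have hμc : IsCharacter ↥V (μ : ↥V → ℂ) := isCharacter_of_irr μ.2
  have hηc : IsCharacter ↥T (η : ↥T → ℂ) := isCharacter_of_irr η.2
  have hmul : ∀ a b : ↥V, (μ : ↥V → ℂ) (a * b) = (μ : ↥V → ℂ) a * (μ : ↥V → ℂ) b :=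
    linear_char_mul hμc hμ1
  have hpow : ∀ (a : ↥V) (k : ℕ), (μ : ↥V → ℂ) (a ^ k) = (μ : ↥V → ℂ) a ^ k := by
    intro a k
    induction k with
    | zero => rw [pow_zero, pow_zero, hμ1]
    | succ k ih => rw [pow_succ, pow_succ, hmul, ih]
  constructor
  · rintro ⟨h1, h2, h3⟩
    refine ⟨⟨h1, h2, fun k => ?_⟩, fun t ht => ?_⟩
    · have h4 := h3 (⟨v₀, hv₀⟩ ^ k)
      rw [hpow, mul_comm] at h4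
      rw [← h4]
      rfl
    · have h4 := h3 ⟨(t : Γ), hLV ht⟩
      rw [(hL ⟨(t : Γ), hLV ht⟩).1 ht, mul_one] at h4
      rw [← h4]
  · rintro ⟨⟨h1, h2, h3⟩, h4⟩
    refine ⟨h1, h2, fun v => ?_⟩
    obtain ⟨k, hk⟩ := hgen v
    -- `l := v * (v₀ ^ k)⁻¹ ∈ L`
    have hl : (μ : ↥V → ℂ) (v * (⟨v₀, hv₀⟩ ^ k)⁻¹) = 1 := by
      have h5 : (μ : ↥V → ℂ) (v * (⟨v₀, hv₀⟩ ^ k)⁻¹) * (μ : ↥V → ℂ) (⟨v₀, hv₀⟩ ^ k) =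
          (μ : ↥V → ℂ) v := by
        rw [← hmul, inv_mul_cancel_right]
      rw [hpow, ← hk] at h5
      have hne : (μ : ↥V → ℂ) v ≠ 0 := by
        intro h0
        have h6 : (μ : ↥V → ℂ) (v * v⁻¹) = 0 := by rw [hmul, h0, zero_mul]
        rw [mul_inv_cancel, hμ1] at h6
        exact one_ne_zero h6
      exact mul_right_cancel₀ hne (h5.trans (one_mul _).symm)
    have hlL : ((v * (⟨v₀, hv₀⟩ ^ k)⁻¹ : ↥V) : Γ) ∈ L := (hL _).2 hl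
    have h5 := h4 ⟨((v * (⟨v₀, hv₀⟩ ^ k)⁻¹ : ↥V) : Γ), hVT (v * (⟨v₀, hv₀⟩ ^ k)⁻¹).2⟩ hlL
    have h6 := Cfsg.Agent.Lib.H24.char_mul_of_apply_eq_one hηc h5
      ((⟨v₀, hVT hv₀⟩ : ↥T) ^ k)
    have h7 : (⟨((v * (⟨v₀, hv₀⟩ ^ k)⁻¹ : ↥V) : Γ), hVT (v * (⟨v₀, hv₀⟩ ^ k)⁻¹).2⟩ : ↥T) *
        (⟨v₀, hVT hv₀⟩ : ↥T) ^ k = ⟨v, hVT v.2⟩ := by
      apply Subtype.ext
      simp
    rw [h7, h3 k] at h6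
    rw [h6, hk, mul_comm]

end Cfsg.Agent.Lib.H7.RO
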