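import Mathlib

/-!
# S3626 piece COMB: the lcm combinatorics (Mathlib only)
-/

set_option autoImplicit false

namespace Cfsg.Agent.Lib.H7.RS

/-- Divisors of an element order are element orders. -/
theorem exists_orderOf_of_dvd {Y : Type*} [Group Y] {t : ℕ} (ht : t ≠ 0)
    (h : ∃ y : Y, orderOf y = t) {n : ℕ} (hn : n ∣ t) : ∃ y : Y, orderOf y = n := by
  obtain ⟨y, hy⟩ := h
  obtain ⟨k, hk⟩ := hn
  have hk0 : k ≠ 0 := by
    rintro rfl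
    rw [mul_zero] at hk
    exact ht hk
  refine ⟨y ^ k, ?_⟩
  rw [orderOf_pow_of_dvd hk0 (by rw [hy, hk]; exact dvd_mul_left k n), hy, hk]
  exact Nat.mul_div_cancel _ (Nat.pos_of_ne_zero hk0)

theorem orderOf_triple {A B C : Type*} [Monoid A] [Monoid B] [Monoid C] (x : A) (y : B) (z : C) :
    orderOf ((x, y, z) : A × B × C) = Nat.lcm (orderOf x) (Nat.lcm (orderOf y) (orderOf z)) := by
  rw [Prod.orderOf, Prod.orderOf]

/-- COMB: if `ω(R)` is the set of divisors of `6, 9, a, b, c, d`, and `ω(Y)` consists of divisors of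
`6, 9, a, b` and contains `6, 9, a, b`, then `R × R × Y` and `R × R × R` have the same spectrum. -/
theorem range_orderOf_eq {R : Type*} [Group R] {Y : Type*} [Group Y] (a b c d : ℕ)
    (hR : ∀ n : ℕ, (∃ g : R, orderOf g = n) ↔ (n ∣ 6 ∨ n ∣ 9 ∨ n ∣ a ∨ n ∣ b ∨ n ∣ c ∨ n ∣ d))
    (hY1 : ∀ y : Y, orderOf y ∣ 6 ∨ orderOf y ∣ 9 ∨ orderOf y ∣ a ∨ orderOf y ∣ b)
    (h6 : ∃ y : Y, orderOf y = 6) (h9 : ∃ y : Y, orderOf y = 9)
    (ha : ∃ y : Y, orderOf y = a) (hb : ∃ y : Y, orderOf y = b) (ha0 : a ≠ 0) (hb0 : b ≠ 0) :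
    Set.range (orderOf : R × R × Y → ℕ) = Set.range (orderOf : R × R × R → ℕ) := by
  have hYall : ∀ n : ℕ, (n ∣ 6 ∨ n ∣ 9 ∨ n ∣ a ∨ n ∣ b) → ∃ y : Y, orderOf y = n := by
    rintro n (h | h | h | h)
    · exact exists_orderOf_of_dvd (by norm_num) h6 h
    · exact exists_orderOf_of_dvd (by norm_num) h9 h
    · exact exists_orderOf_of_dvd ha0 ha h
    · exact exists_orderOf_of_dvd hb0 hb h
  have hRmem : ∀ r : R, orderOf r ∣ 6 ∨ orderOf r ∣ 9 ∨ orderOf r ∣ a ∨ orderOf r ∣ b ∨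
      orderOf r ∣ c ∨ orderOf r ∣ d := fun r => (hR _).1 ⟨r, rfl⟩
  -- a coordinate of "good" order can be moved to `Y`
  have good : ∀ (n1 n2 n3 : ℕ), (∃ r : R, orderOf r = n1) → (∃ r : R, orderOf r = n2) →
      (n3 ∣ 6 ∨ n3 ∣ 9 ∨ n3 ∣ a ∨ n3 ∣ b) →
      ∃ x : R × R × Y, orderOf x = Nat.lcm n1 (Nat.lcm n2 n3) := by
    rintro n1 n2 n3 ⟨r1, rfl⟩ ⟨r2, rfl⟩ h3
    obtain ⟨y, rfl⟩ := hYall n3 h3
    exact ⟨(r1, r2, y), orderOf_triple _ _ _⟩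
  -- two coordinates dividing the same number can be merged
  have merge : ∀ (e : ℕ), (∀ n, n ∣ e → ∃ r : R, orderOf r = n) → ∀ (n1 n2 n3 : ℕ),
      n1 ∣ e → n2 ∣ e → (∃ r : R, orderOf r = n3) →
      ∃ x : R × R × Y, orderOf x = Nat.lcm (Nat.lcm n1 n2) n3 := by
    rintro e he n1 n2 n3 h1 h2 ⟨r3, rfl⟩
    obtain ⟨r, hr⟩ := he _ (Nat.lcm_dvd h1 h2)
    refine ⟨(r, r3, 1), ?_⟩
    rw [orderOf_triple, hr, orderOf_one, Nat.lcm_one_right]
  have hc : ∀ n, n ∣ c → ∃ r : R, orderOf r = n := fun n h => (hR n).2 (by tauto)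
  have hd : ∀ n, n ∣ d → ∃ r : R, orderOf r = n := fun n h => (hR n).2 (by tauto)
  ext n
  simp only [Set.mem_range]
  constructor
  · rintro ⟨⟨r1, r2, y⟩, rfl⟩
    obtain ⟨r3, hr3⟩ : ∃ r3 : R, orderOf r3 = orderOf y :=
      (hR _).2 (by rcases hY1 y with h | h | h | h <;> tauto)
    refine ⟨(r1, r2, r3), ?_⟩
    rw [orderOf_triple, orderOf_triple, hr3]
  · rintro ⟨⟨r1, r2, r3⟩, rfl⟩
    rw [orderOf_triple]
    have e1 : ∃ r : R, orderOf r = orderOf r1 := ⟨r1, rfl⟩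
    have e2 : ∃ r : R, orderOf r = orderOf r2 := ⟨r2, rfl⟩
    have e3 : ∃ r : R, orderOf r = orderOf r3 := ⟨r3, rfl⟩
    have c123 : Nat.lcm (orderOf r2) (Nat.lcm (orderOf r3) (orderOf r1)) =
        Nat.lcm (orderOf r1) (Nat.lcm (orderOf r2) (orderOf r3)) := by
      rw [Nat.lcm_comm (orderOf r3), ← Nat.lcm_assoc, Nat.lcm_comm (orderOf r2), Nat.lcm_assoc]
    have c132 : Nat.lcm (orderOf r1) (Nat.lcm (orderOf r3) (orderOf r2)) =
        Nat.lcm (orderOf r1) (Nat.lcm (orderOf r2) (orderOf r3)) := by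
      rw [Nat.lcm_comm (orderOf r3)]
    have m12 : Nat.lcm (Nat.lcm (orderOf r1) (orderOf r2)) (orderOf r3) =
        Nat.lcm (orderOf r1) (Nat.lcm (orderOf r2) (orderOf r3)) := Nat.lcm_assoc _ _ _
    have m13 : Nat.lcm (Nat.lcm (orderOf r1) (orderOf r3)) (orderOf r2) =
        Nat.lcm (orderOf r1) (Nat.lcm (orderOf r2) (orderOf r3)) := by
      rw [Nat.lcm_assoc, Nat.lcm_comm (orderOf r3)]
    have m23 : Nat.lcm (Nat.lcm (orderOf r2) (orderOf r3)) (orderOf r1) =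
        Nat.lcm (orderOf r1) (Nat.lcm (orderOf r2) (orderOf r3)) := Nat.lcm_comm _ _
    -- is some coordinate good?
    by_cases g3 : orderOf r3 ∣ 6 ∨ orderOf r3 ∣ 9 ∨ orderOf r3 ∣ a ∨ orderOf r3 ∣ b
    · exact good _ _ _ e1 e2 g3
    by_cases g2 : orderOf r2 ∣ 6 ∨ orderOf r2 ∣ 9 ∨ orderOf r2 ∣ a ∨ orderOf r2 ∣ b
    · rw [← c132]; exact good _ _ _ e1 e3 g2
    by_cases g1 : orderOf r1 ∣ 6 ∨ orderOf r1 ∣ 9 ∨ orderOf r1 ∣ a ∨ orderOf r1 ∣ b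
    · rw [← c123]; exact good _ _ _ e2 e3 g1
    have k1 : orderOf r1 ∣ c ∨ orderOf r1 ∣ d := by have := hRmem r1; tauto
    have k2 : orderOf r2 ∣ c ∨ orderOf r2 ∣ d := by have := hRmem r2; tauto
    have k3 : orderOf r3 ∣ c ∨ orderOf r3 ∣ d := by have := hRmem r3; tauto
    rcases k1 with k1 | k1 <;> rcases k2 with k2 | k2 <;> rcases k3 with k3 | k3
    · rw [← m12]; exact merge c hc _ _ _ k1 k2 e3
    · rw [← m12]; exact merge c hc _ _ _ k1 k2 e3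
    · rw [← m13]; exact merge c hc _ _ _ k1 k3 e2
    · rw [← m23]; exact merge d hd _ _ _ k2 k3 e1
    · rw [← m23]; exact merge c hc _ _ _ k2 k3 e1
    · rw [← m13]; exact merge d hd _ _ _ k1 k3 e2
    · rw [← m12]; exact merge d hd _ _ _ k1 k2 e3
    · rw [← m12]; exact merge d hd _ _ _ k1 k2 e3

end Cfsg.Agent.Lib.H7.RS
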