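import Mathlib

/-!
# S3626 piece SDP: generalities on semidirect products (Mathlib only)
-/

set_option autoImplicit false

namespace Cfsg.Agent.Lib.H7.RS

/-- If `g ^ k = 1` then `⟨n, g⟩ ^ k` lies in the normal factor. -/
theorem sdp_pow_right {N G : Type*} [Group N] [Group G] (φ : G →* MulAut N) (n : N) (g : G)
    (k : ℕ) : ((⟨n, g⟩ : N ⋊[φ] G) ^ k).right = g ^ k := by
  have h := map_pow (SemidirectProduct.rightHom : N ⋊[φ] G →* G) (⟨n, g⟩ : N ⋊[φ] G) k
  simpa using h

/-- SDP-a: if `N` is commutative and `φ g` fixes only `1`, then `⟨n, g⟩` has the order of `g`. -/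
theorem sdp_orderOf_of_fixedfree {N G : Type*} [Group N] [Group G] (φ : G →* MulAut N)
    (hN : ∀ a b : N, a * b = b * a) (g : G) (hg : ∀ n : N, φ g n = n → n = 1) (n : N) :
    orderOf (⟨n, g⟩ : N ⋊[φ] G) = orderOf g := by
  rw [orderOf_eq_orderOf_iff]
  intro k
  constructor
  · intro h
    have h1 := sdp_pow_right φ n g k
    rw [h] at h1
    exact h1.symm
  · intro h
    set x : N ⋊[φ] G := ⟨n, g⟩ with hx
    have hr : (x ^ k).right = 1 := by rw [hx, sdp_pow_right, h]
    have h1 : x ^ k * x = x * x ^ k := by rw [← pow_succ, ← pow_succ']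
    have h2 := congrArg SemidirectProduct.left h1
    rw [SemidirectProduct.mul_left, SemidirectProduct.mul_left, hr, map_one, MulAut.one_apply] at h2
    have h3 : φ g (x ^ k).left = (x ^ k).left := by
      have h4 : x.left = n := rfl
      have h5 : x.right = g := rfl
      rw [h4, h5, hN (x ^ k).left n] at h2
      exact (mul_left_cancel h2).symm
    have hl : (x ^ k).left = 1 := hg _ h3
    exact SemidirectProduct.ext hl hr

/-- SDP-b: if `N` has exponent dividing `p` and `g ^ k = 1`, then `⟨n, g⟩ ^ (k * p) = 1`. -/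
theorem sdp_pow_eq_one {N G : Type*} [Group N] [Group G] (φ : G →* MulAut N) (p k : ℕ)
    (hp : ∀ n : N, n ^ p = 1) (n : N) (g : G) (hg : g ^ k = 1) :
    (⟨n, g⟩ : N ⋊[φ] G) ^ (k * p) = 1 := by
  set x : N ⋊[φ] G := ⟨n, g⟩ with hx
  have hr : (x ^ k).right = 1 := by rw [hx, sdp_pow_right, hg]
  have h1 : x ^ k = SemidirectProduct.inl (x ^ k).left := by
    apply SemidirectProduct.ext
    · simp
    · simp [hr]
  rw [pow_mul, h1, ← map_pow, hp, map_one]

end Cfsg.Agent.Lib.H7.RS
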