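import Mathlib
import Cfsg.Agent.Lib.L0.TransferHall
import Cfsg.Agent.Lib.L0.DihedralKlein
import Cfsg.Agent.Lib.H5.S4Recog

/-!
# S4751 piece S4SPLIT (architect helper23), twin by helper7

`V ⊴ G` elementary abelian of order 4 with `C_G(V) = V × Z(G)`, `|Z(G)|` odd, `|G : C_G(V)| = 6`:
then `G = H × Z(G)` with `H ≅ S₄`.
-/

set_option autoImplicit false

namespace Cfsg.Agent.Lib.H7.RU

variable {G : Type*} [Group G]

/-- a number dividing `24` and a power of an odd prime is `1` or `3`. -/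
theorem ru_dvd24_of_odd_prime_pow {r d k : ℕ} (hr : r.Prime) (hr2 : r ≠ 2) (h1 : d ∣ r ^ k)
    (h2 : d ∣ 24) : d = 1 ∨ d = 3 := by
  obtain ⟨j, -, rfl⟩ := (Nat.dvd_prime_pow hr).mp h1
  rcases Nat.eq_zero_or_pos j with rfl | hj
  · left; simp
  · right
    have hr24 : r ∣ 24 := (dvd_pow_self r hj.ne').trans h2
    have hr3 : r = 3 := by
      rcases (Nat.Prime.dvd_mul hr).mp (show r ∣ 2 ^ 3 * 3 from hr24) with h | h
      · exact absurd ((Nat.prime_dvd_prime_iff_eq hr Nat.prime_two).mp (hr.dvd_of_dvd_pow h)) hr2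
      · exact (Nat.prime_dvd_prime_iff_eq hr Nat.prime_three).mp h
    subst hr3
    have hj1 : j ≤ 1 := by
      by_contra hcon
      push Not at hcon
      have h9 : 3 ^ 2 ∣ 24 := (pow_dvd_pow 3 hcon).trans h2
      norm_num at h9
    have : j = 1 := le_antisymm hj1 hj
    subst this
    norm_num

/-- If `|G : Z(G)| = 24` then the Sylow `r`-subgroups of `G` are abelian for odd `r`. -/
theorem ru_sylow_comm [Finite G] (hidx : (Subgroup.center G).index = 24) (r : ℕ) [Fact r.Prime]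
    (hr2 : r ≠ 2) (R : Sylow r G) : IsMulCommutative (R : Subgroup G) := by
  classical
  let f : (R : Subgroup G) →* G ⧸ Subgroup.center G :=
    (QuotientGroup.mk' (Subgroup.center G)).comp (R : Subgroup G).subtype
  have hker : f.rangeRestrict.ker ≤ Subgroup.center (R : Subgroup G) := by
    intro x hx
    rw [MonoidHom.ker_rangeRestrict, MonoidHom.mem_ker] at hx
    have hx' : (x : G) ∈ Subgroup.center G := by
      have : ((x : G) : G ⧸ Subgroup.center G) = 1 := hx
      exact (QuotientGroup.eq_one_iff _).mp this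
    rw [Subgroup.mem_center_iff]
    intro y
    apply Subtype.ext
    have := (Subgroup.mem_center_iff.mp hx') (y : G)
    simpa using this
  have hcard : Nat.card f.range = 1 ∨ Nat.card f.range = 3 := by
    obtain ⟨k, hk⟩ := (IsPGroup.iff_card.mp R.2)
    have h1 : Nat.card f.range ∣ r ^ k := by
      rw [← hk]
      exact Subgroup.card_range_dvd f
    have h2 : Nat.card f.range ∣ 24 := by
      have := Subgroup.card_subgroup_dvd_card f.range
      rwa [← Subgroup.index_eq_card, hidx] at this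
    exact ru_dvd24_of_odd_prime_pow (Fact.out : r.Prime) hr2 h1 h2
  have hcyc : IsCyclic f.range := by
    rcases hcard with h | h
    · have : Subsingleton f.range := (Nat.card_eq_one_iff_unique.mp h).1
      exact isCyclic_of_subsingleton
    · haveI : Fact (Nat.Prime 3) := ⟨Nat.prime_three⟩
      exact isCyclic_of_prime_card (p := 3) h
  exact MonoidHom.isMulCommutative_of_isCyclic_of_ker_le_center f.rangeRestrict hker

/-- `Z(G) ∩ G' = 1` when `|G : Z(G)| = 24` and `|Z(G)|` is odd. -/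
theorem ru_center_inf_commutator [Finite G] (hidx : (Subgroup.center G).index = 24)
    (hodd : Odd (Nat.card (Subgroup.center G)))
    (z : G) (hzZ : z ∈ Subgroup.center G) (hzC : z ∈ commutator G) : z = 1 := by
  by_contra hz1
  have hne : orderOf z ≠ 1 := fun h => hz1 (orderOf_eq_one_iff.mp h)
  obtain ⟨r, hr, hrz⟩ := Nat.exists_prime_and_dvd hne
  haveI : Fact r.Prime := ⟨hr⟩
  have hzcard : orderOf z ∣ Nat.card (Subgroup.center G) := by
    have := orderOf_dvd_natCard (⟨z, hzZ⟩ : Subgroup.center G)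
    rwa [Subgroup.orderOf_mk] at this
  have hr2 : r ≠ 2 := by
    rintro rfl
    exact (Nat.not_even_iff_odd.mpr hodd) (even_iff_two_dvd.mpr (hrz.trans hzcard))
  obtain ⟨R⟩ : Nonempty (Sylow r G) := inferInstance
  haveI := ru_sylow_comm hidx r hr2 R
  have h1 : z ^ (R : Subgroup G).index = 1 :=
    Cfsg.Agent.Lib.L0.pow_index_eq_one_of_mem_commutator_center (R : Subgroup G) z hzZ hzC
  have h2 : r ∣ (R : Subgroup G).index := hrz.trans (orderOf_dvd_of_pow_eq_one h1)
  exact R.not_dvd_index h2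

/-- In a group generated by elements of square one, an element of odd order lies in the
commutator subgroup. -/
theorem ru_mem_commutator_of_closure_sq (H : Subgroup G) (hH : H = Subgroup.closure {g : G | g ^ 2 = 1})
    (z : G) (hz : z ∈ H) (n : ℕ) (hn : Odd n) (hzn : z ^ n = 1) : z ∈ commutator G := by
  -- the squaring hom on the abelianization of `H`
  let π : H →* Abelianization H := Abelianization.of
  let φ : H →* Abelianization H := (powMonoidHom 2).comp π
  have hle : H ≤ (φ.ker).map H.subtype := by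
    conv_lhs => rw [hH]
    rw [Subgroup.closure_le]
    intro t ht
    have htH : t ∈ H := by rw [hH]; exact Subgroup.subset_closure ht
    refine ⟨⟨t, htH⟩, ?_, rfl⟩
    rw [SetLike.mem_coe, MonoidHom.mem_ker]
    change (π ⟨t, htH⟩) ^ 2 = 1
    rw [← map_pow]
    have : (⟨t, htH⟩ : H) ^ 2 = 1 := Subtype.ext (by simpa using ht)
    rw [this, map_one]
  obtain ⟨y, hy, hyz⟩ := hle hz
  have hyz' : y = ⟨z, hz⟩ := Subtype.ext hyz
  subst hyz'
  have h2 : (π ⟨z, hz⟩) ^ 2 = 1 := MonoidHom.mem_ker.mp hy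
  have hn' : (π ⟨z, hz⟩) ^ n = 1 := by
    rw [← map_pow]
    have : (⟨z, hz⟩ : H) ^ n = 1 := Subtype.ext (by simpa using hzn)
    rw [this, map_one]
  have h1 : π ⟨z, hz⟩ = 1 := by
    obtain ⟨k, rfl⟩ := hn
    have : (π ⟨z, hz⟩) ^ (2 * k + 1) = π ⟨z, hz⟩ := by
      rw [pow_succ, pow_mul, h2, one_pow, one_mul]
    rw [← this, hn']
  have h3 : (⟨z, hz⟩ : H) ∈ commutator H := by
    rw [← Abelianization.ker_of]
    exact MonoidHom.mem_ker.mpr h1
  have h4 : (commutator H).map H.subtype ≤ commutator G := by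
    rw [commutator_def, Subgroup.map_commutator, commutator_def]
    exact Subgroup.commutator_mono le_top le_top
  exact h4 ⟨⟨z, hz⟩, h3, rfl⟩

/-- S4SPLIT. -/
theorem exists_S4_complement {G : Type*} [Group G] [Finite G] (V : Subgroup G) [V.Normal]
    (hV4 : Nat.card V = 4) (hV2 : ∀ v ∈ V, v ^ 2 = 1)
    (hC : Subgroup.centralizer (V : Set G) = V ⊔ Subgroup.center G)
    (hVZ : V ⊓ Subgroup.center G = ⊥) (hodd : Odd (Nat.card ↥(Subgroup.center G)))
    (h6 : (Subgroup.centralizer (V : Set G)).index = 6) :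
    ∃ H : Subgroup G, Nonempty (↥H ≃* Equiv.Perm (Fin 4)) ∧ H ⊓ Subgroup.center G = ⊥ ∧
      H ⊔ Subgroup.center G = ⊤ := by
  classical
  obtain ⟨Z, hZdef⟩ : ∃ Z : Subgroup G, Z = Subgroup.center G := ⟨_, rfl⟩
  haveI hZn : Z.Normal := by rw [hZdef]; infer_instance
  obtain ⟨C, hCdef⟩ : ∃ C : Subgroup G, C = Subgroup.centralizer (V : Set G) := ⟨_, rfl⟩
  rw [← hZdef] at hC hVZ hodd
  rw [← hCdef] at hC h6
  have hZC : Z ≤ C := by rw [hC]; exact le_sup_right
  have hZV4 : Z.relIndex V = 4 := by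
    rw [← Subgroup.inf_relIndex_right, inf_comm, hVZ, Subgroup.relIndex_bot_left, hV4]
  have hidx : Z.index = 24 := by
    have h1 : Z.relIndex C * C.index = Z.index := Subgroup.relIndex_mul_index hZC
    have h2 : Z.relIndex C = 4 := by
      rw [hC, Subgroup.relIndex_sup_right, hZV4]
    rw [← h1, h2, h6]
  have hidx' : (Subgroup.center G).index = 24 := by rw [← hZdef]; exact hidx
  have hodd' : Odd (Nat.card (Subgroup.center G)) := by rw [← hZdef]; exact hodd
  -- the quotient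
  let f : G →* G ⧸ Z := QuotientGroup.mk' Z
  have hfsurj : Function.Surjective f := QuotientGroup.mk'_surjective Z
  have hcardQ : Nat.card (G ⧸ Z) = 24 := by rw [← Subgroup.index_eq_card, hidx]
  have hfZ : ∀ g : G, f g = 1 ↔ g ∈ Z := fun g => QuotientGroup.eq_one_iff g
  obtain ⟨W, hWdef⟩ : ∃ W : Subgroup (G ⧸ Z), W = V.map f := ⟨_, rfl⟩
  haveI hWn : W.Normal := by
    rw [hWdef]
    exact Subgroup.Normal.map inferInstance f hfsurj
  have hWcard : Nat.card W = 4 := by
    rw [hWdef, ← Subgroup.relIndex_ker, QuotientGroup.ker_mk', hZV4]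
  have hWK : IsKleinFour W := by
    apply Cfsg.Agent.Lib.L0.Dih.isKleinFour_of_card_of_mul_self hWcard
    rintro ⟨x, hx⟩
    apply Subtype.ext
    rw [hWdef] at hx
    obtain ⟨v, hv, rfl⟩ := hx
    change f v * f v = 1
    rw [← map_mul, ← pow_two, hV2 v hv, map_one]
  have hWcent : Subgroup.centralizer (W : Set (G ⧸ Z)) ≤ W := by
    intro q hq
    obtain ⟨g, rfl⟩ := hfsurj q
    have hgC : g ∈ C := by
      rw [hCdef, Subgroup.mem_centralizer_iff]
      intro v hv
      have hfv : f v ∈ W := by rw [hWdef]; exact ⟨v, hv, rfl⟩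
      have h1 := (Subgroup.mem_centralizer_iff.mp hq) (f v) hfv
      -- `g v g⁻¹ v⁻¹ ∈ V ⊓ Z`
      have h2 : g * v * g⁻¹ * v⁻¹ ∈ Z := by
        rw [← hfZ]
        rw [map_mul, map_mul, map_mul, map_inv, map_inv, ← h1]
        group
      have h3 : g * v * g⁻¹ * v⁻¹ ∈ V :=
        V.mul_mem (Subgroup.Normal.conj_mem inferInstance v hv g) (V.inv_mem hv)
      have h4 : g * v * g⁻¹ * v⁻¹ ∈ V ⊓ Z := ⟨h3, h2⟩
      rw [hVZ, Subgroup.mem_bot] at h4
      calc v * g = (g * v * g⁻¹ * v⁻¹)⁻¹ * (g * v) := by group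
        _ = g * v := by rw [h4, inv_one, one_mul]
    rw [hC, ← SetLike.mem_coe, Subgroup.mul_normal] at hgC
    obtain ⟨v, hv, z, hz, rfl⟩ := hgC
    rw [hWdef]
    refine ⟨v, hv, ?_⟩
    rw [map_mul, (hfZ z).mpr hz, mul_one]
  obtain ⟨e⟩ := Cfsg.Agent.Lib.H5.S4Recog.nonempty_mulEquiv_perm_four hcardQ W hWK hWcent
  -- the subgroup generated by the elements of square one
  obtain ⟨H, hHdef⟩ : ∃ H : Subgroup G, H = Subgroup.closure {g : G | g ^ 2 = 1} := ⟨_, rfl⟩
  have hZpow : ∀ z ∈ Z, z ^ Nat.card Z = 1 := by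
    intro z hz
    have := pow_card_eq_one' (G := Z) (x := ⟨z, hz⟩)
    exact congrArg Subtype.val this
  have hHZ : H ⊓ Z = ⊥ := by
    rw [eq_bot_iff]
    rintro z ⟨hzH, hzZ⟩
    rw [Subgroup.mem_bot]
    have hzC : z ∈ commutator G :=
      ru_mem_commutator_of_closure_sq H hHdef z hzH (Nat.card Z) hodd (hZpow z hzZ)
    exact ru_center_inf_commutator hidx' hodd' z (by rw [← hZdef]; exact hzZ) hzC
  -- `H` maps onto the quotient
  have hsw : ∀ σ : Equiv.Perm (Fin 4), σ.IsSwap → e.symm σ ∈ H.map f := by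
    intro σ hσ
    have hσ2 : σ * σ = 1 := by
      obtain ⟨x, y, -, rfl⟩ := hσ
      exact Equiv.swap_mul_self x y
    obtain ⟨g, hg⟩ := hfsurj (e.symm σ)
    have hq2 : f g * f g = 1 := by
      rw [hg, ← map_mul, hσ2, map_one]
    have hg2 : g ^ 2 ∈ Z := by
      rw [← hfZ, map_pow, pow_two, hq2]
    obtain ⟨k, hk⟩ := hodd
    have hg' : (g ^ Nat.card Z) ^ 2 = 1 := by
      rw [← pow_mul, mul_comm, pow_mul]
      exact hZpow _ hg2
    have hfg' : f (g ^ Nat.card Z) = f g := by
      rw [map_pow, hk, pow_succ, pow_mul, pow_two, hq2, one_pow, one_mul]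
    refine ⟨g ^ Nat.card Z, ?_, by rw [hfg', hg]⟩
    rw [hHdef]
    exact Subgroup.subset_closure hg'
  have hsurj : ∀ q : G ⧸ Z, q ∈ H.map f := by
    have h1 : Subgroup.closure {σ : Equiv.Perm (Fin 4) | σ.IsSwap} ≤
        (H.map f).comap e.symm.toMonoidHom := by
      rw [Subgroup.closure_le]
      intro σ hσ
      exact hsw σ hσ
    rw [Equiv.Perm.closure_isSwap] at h1
    intro q
    have := h1 (Subgroup.mem_top (e q))
    rw [Subgroup.mem_comap] at this
    simpa using this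
  have hsup : H ⊔ Z = ⊤ := by
    rw [eq_top_iff]
    intro g _
    obtain ⟨h, hh, hfh⟩ := hsurj (f g)
    have h1 : h⁻¹ * g ∈ Z := by
      rw [← hfZ, map_mul, map_inv, hfh, inv_mul_cancel]
    have : g = h * (h⁻¹ * g) := by group
    rw [this]
    exact Subgroup.mul_mem_sup hh h1
  -- the isomorphism
  let ψ : H →* G ⧸ Z := f.comp H.subtype
  have hψinj : Function.Injective ψ := by
    rw [injective_iff_map_eq_one]
    intro x hx
    have hxZ : (x : G) ∈ Z := (hfZ _).mp hx
    have : (x : G) ∈ H ⊓ Z := ⟨x.2, hxZ⟩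
    rw [hHZ, Subgroup.mem_bot] at this
    exact Subtype.ext this
  have hψsurj : Function.Surjective ψ := by
    intro q
    obtain ⟨h, hh, hfh⟩ := hsurj q
    exact ⟨⟨h, hh⟩, hfh⟩
  refine ⟨H, ⟨(MulEquiv.ofBijective ψ ⟨hψinj, hψsurj⟩).trans e⟩, ?_, ?_⟩
  · rw [← hZdef]; exact hHZ
  · rw [← hZdef]; exact hsup

end Cfsg.Agent.Lib.H7.RU
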