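import Mathlib
import Cfsg.Agent.Lib.H9.S3776Defs

/-!
# S3776, piece (8) S1C (helper7): step (1c), quotient-free and counting-free

`2^(m+1)` = the exponent of `G`; `π g = g ^ 2^m` is a homomorphism `G → V` (class 2, commutators of
order 2), onto `V`, `E`-equivariant, with `ker π ≤ Z(G)` (induction on `k`: `{x | x^(2^k) = 1} ≤ Z(G)`).
LEMMA E with `T := ↥V` and `b u v = [h_v, h_u]` (`h_v` a `π`-preimage of `v`) gives the contradiction
`b u u = 1`.
-/

set_option autoImplicit false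

namespace Cfsg.Agent.H7.S3776S1C

open Cfsg.Agent.Lib.H9.S3776

universe u

variable {G : Type u} [Group G]

/-- the commutator `h g h⁻¹ g⁻¹` -/
def cm (h g : G) : G := h * g * h⁻¹ * g⁻¹

theorem cm_self (a : G) : cm a a = 1 := by unfold cm; group

/-- class 2 with commutators of order 2 -/
structure C2 (V : Subgroup G) : Prop where
  mem : ∀ x : G, x ∈ V ↔ x ^ 2 = 1
  cen : ∀ v ∈ V, ∀ g : G, g * v = v * g
  com : ∀ x y : G, x * y * x⁻¹ * y⁻¹ ∈ V

namespace C2

variable {V : Subgroup G} (h : C2 V)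
include h

theorem cm_mem (a b : G) : cm a b ∈ V := h.com a b

theorem cm_comm (a b g : G) : g * cm a b = cm a b * g := h.cen _ (h.cm_mem a b) g

theorem conj_cm (a b g : G) : g * cm a b * g⁻¹ = cm a b := by
  rw [h.cm_comm a b g]; group

theorem cm_mul_left (a a' g : G) : cm (a * a') g = cm a g * cm a' g := by
  have e : cm (a * a') g = a * cm a' g * a⁻¹ * cm a g := by unfold cm; group
  rw [e, h.conj_cm a' g a]
  -- cm a' g * cm a g = cm a g * cm a' g
  exact h.cm_comm a g (cm a' g)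

theorem cm_mul_right (a g g' : G) : cm a (g * g') = cm a g * cm a g' := by
  have e : cm a (g * g') = cm a g * (g * cm a g' * g⁻¹) := by unfold cm; group
  rw [e, h.conj_cm a g' g]

omit h in
theorem cm_central_left {k : G} (hk : ∀ g : G, g * k = k * g) (a g : G) :
    cm (a * k) g = cm a g := by
  have e : cm (a * k) g = a * (k * g * k⁻¹) * a⁻¹ * g⁻¹ := by unfold cm; group
  have e2 : k * g * k⁻¹ = g := by rw [← hk g]; group
  rw [e, e2]; rfl

omit h in
theorem cm_central_right {k : G} (hk : ∀ g : G, g * k = k * g) (a g : G) :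
    cm a (g * k) = cm a g := by
  have e : cm a (g * k) = a * g * (k * a⁻¹ * k⁻¹) * g⁻¹ := by unfold cm; group
  have e2 : k * a⁻¹ * k⁻¹ = a⁻¹ := by rw [← hk a⁻¹]; group
  rw [e, e2]; rfl

theorem cm_sq (a b : G) : cm a b ^ 2 = 1 := (h.mem _).mp (h.cm_mem a b)

/-- squares are central -/
theorem sq_comm (g y : G) : Commute (g ^ 2) y := by
  have hc : ∀ x : G, x * cm g y = cm g y * x := fun x => h.cm_comm g y x
  have e : g * y = cm g y * (y * g) := by unfold cm; group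
  have hcc : cm g y * cm g y = 1 := by
    have := h.cm_sq g y
    rwa [pow_two] at this
  show g ^ 2 * y = y * g ^ 2
  calc g ^ 2 * y = g * (g * y) := by rw [pow_two, mul_assoc]
    _ = g * (cm g y * (y * g)) := by rw [e]
    _ = (g * cm g y) * (y * g) := by rw [mul_assoc]
    _ = (cm g y * g) * (y * g) := by rw [hc g]
    _ = cm g y * (g * y) * g := by group
    _ = cm g y * (cm g y * (y * g)) * g := by rw [e]
    _ = (cm g y * cm g y) * (y * g * g) := by group
    _ = y * g ^ 2 := by rw [hcc, one_mul, pow_two, mul_assoc]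

theorem pow4_mul (g k : G) : (g * k) ^ 4 = g ^ 4 * k ^ 4 := by
  have h1 : (g * k) ^ 2 = g ^ 2 * cm g⁻¹ k * k ^ 2 := by
    unfold cm; simp only [pow_two]; group
  have hc1 : Commute (g ^ 2) (cm g⁻¹ k) := h.sq_comm g _
  have hc2 : Commute (g ^ 2 * cm g⁻¹ k) (k ^ 2) :=
    Commute.mul_left (h.sq_comm g _) ((h.cm_comm g⁻¹ k (k ^ 2)).symm)
  calc (g * k) ^ 4 = ((g * k) ^ 2) ^ 2 := by rw [← pow_mul]
    _ = (g ^ 2 * cm g⁻¹ k * k ^ 2) ^ 2 := by rw [h1]
    _ = (g ^ 2 * cm g⁻¹ k) ^ 2 * (k ^ 2) ^ 2 := hc2.mul_pow 2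
    _ = ((g ^ 2) ^ 2 * cm g⁻¹ k ^ 2) * (k ^ 2) ^ 2 := by rw [hc1.mul_pow 2]
    _ = g ^ 4 * k ^ 4 := by rw [h.cm_sq, mul_one, ← pow_mul, ← pow_mul]

theorem pow_mul_of_four_dvd {n : ℕ} (hn : 4 ∣ n) (g k : G) : (g * k) ^ n = g ^ n * k ^ n := by
  obtain ⟨j, rfl⟩ := hn
  have hc : Commute (g ^ 4) (k ^ 4) := by
    have : g ^ 4 = (g ^ 2) ^ 2 := by rw [← pow_mul]
    rw [this]
    exact (h.sq_comm g (k ^ 4)).pow_left 2
  rw [pow_mul, pow_mul, pow_mul, h.pow4_mul, hc.mul_pow]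

end C2

/-- the centre is invariant under automorphisms -/
theorem center_map (f : MulAut G) {z : G} (hz : z ∈ Subgroup.center G) :
    f z ∈ Subgroup.center G := by
  rw [Subgroup.mem_center_iff] at hz ⊢
  intro g
  have hg : f (f.symm g) = g := f.apply_symm_apply g
  calc g * f z = f (f.symm g) * f z := by rw [hg]
    _ = f (f.symm g * z) := (map_mul f _ _).symm
    _ = f (z * f.symm g) := by rw [hz]
    _ = f z * f (f.symm g) := map_mul f _ _
    _ = f z * g := by rw [hg]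

/-- **(S1C)** -/
theorem s1c : S1CStmt.{u} := by
  intro G E _ _ _ _ φ V hLem hHyp hF h1 h2 h3 a0 b0
  by_contra hab
  classical
  have hC : C2 V := ⟨hF.mem, hF.cen, h3⟩
  have : Fact (Nat.Prime 2) := ⟨Nat.prime_two⟩
  -- the exponent
  have hex : ∃ n : ℕ, ∀ g : G, g ^ (2 ^ n) = 1 := by
    obtain ⟨n, hn⟩ := IsPGroup.iff_card.mp hHyp.pG
    exact ⟨n, fun g => by rw [← hn]; exact pow_card_eq_one'⟩
  have hn0 : ∀ g : G, g ^ (2 ^ Nat.find hex) = 1 := Nat.find_spec hex
  have hmin : ∀ n < Nat.find hex, ¬ ∀ g : G, g ^ (2 ^ n) = 1 := fun n hn => Nat.find_min hex hn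
  have hn3 : 3 ≤ Nat.find hex := by
    by_contra hlt
    have hle : Nat.find hex ≤ 2 := by omega
    have h4 : ∀ g : G, g ^ 4 = 1 := by
      intro g
      have hd : (2 : ℕ) ^ Nat.find hex ∣ 4 := by
        have := pow_dvd_pow 2 hle
        simpa using this
      obtain ⟨c, hc⟩ := hd
      rw [hc, pow_mul, hn0 g, one_pow]
    apply hab
    have ha : a0 ∈ Subgroup.center G :=
      h2 a0 (by rw [hF.mem, ← pow_mul]; exact h4 a0)
    exact (Subgroup.mem_center_iff.mp ha b0).symm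
  obtain ⟨m, hm⟩ : ∃ m, Nat.find hex = m + 1 := ⟨Nat.find hex - 1, by omega⟩
  have hm2 : 2 ≤ m := by omega
  rw [hm] at hn0
  obtain ⟨g0, hg0⟩ : ∃ g0 : G, g0 ^ (2 ^ m) ≠ 1 := by
    have := hmin m (by omega)
    push Not at this
    exact this
  -- squares are central
  have hsqZ : ∀ g : G, g ^ 2 ∈ Subgroup.center G := fun g =>
    Subgroup.mem_center_iff.mpr (fun y => ((hC.sq_comm g y).eq).symm)
  -- Claim A: `{x | x^(2^k) = 1} ≤ Z(G)` for `1 ≤ k ≤ m`
  have hA : ∀ k : ℕ, 1 ≤ k → k ≤ m → ∀ x : G, x ^ (2 ^ k) = 1 → x ∈ Subgroup.center G := by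
    intro k hk1
    induction k, hk1 using Nat.le_induction with
    | base =>
      intro _ x hx
      rw [pow_one] at hx
      have hxV : x ∈ V := (hF.mem x).mpr hx
      exact Subgroup.mem_center_iff.mpr (fun g => hF.cen x hxV g)
    | succ k hk1 ih =>
      intro hkm x hx
      have ih' := ih (by omega)
      have hvV : x ^ (2 ^ k) ∈ V := by
        rw [hF.mem, ← pow_mul, ← pow_succ]; exact hx
      let Vk : Subgroup G :=
        { carrier := {v | ∃ z ∈ Subgroup.center G, z ^ (2 ^ (k + 1)) = 1 ∧ z ^ (2 ^ k) = v}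
          one_mem' := ⟨1, Subgroup.one_mem _, one_pow _, one_pow _⟩
          mul_mem' := by
            rintro _ _ ⟨z, hz, hz1, rfl⟩ ⟨w, hw, hw1, rfl⟩
            have hc : Commute z w := Subgroup.mem_center_iff.mp hw z
            exact ⟨z * w, Subgroup.mul_mem _ hz hw, by rw [hc.mul_pow, hz1, hw1, one_mul],
              hc.mul_pow _⟩
          inv_mem' := by
            rintro _ ⟨z, hz, hz1, rfl⟩
            exact ⟨z⁻¹, Subgroup.inv_mem _ hz, by rw [inv_pow, hz1, inv_one], inv_pow _ _⟩ }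
      have hVkV : Vk ≤ V := by
        rintro _ ⟨z, _, hz1, rfl⟩
        rw [hF.mem, ← pow_mul, ← pow_succ]; exact hz1
      have hVkinv : Inv φ Vk := by
        rintro e _ ⟨z, hz, hz1, rfl⟩
        exact ⟨φ e z, center_map (φ e) hz, by rw [← map_pow, hz1, map_one], (map_pow (φ e) z _).symm⟩
      have hz1mem : g0 ^ (2 ^ m) ∈ Vk := by
        refine ⟨g0 ^ (2 ^ (m - k)), ?_, ?_, ?_⟩
        · have e : 2 ^ (m - k) = 2 * 2 ^ (m - k - 1) := by
            rw [← pow_succ']; congr 1; omega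
          rw [e, pow_mul]
          exact Subgroup.pow_mem _ (hsqZ g0) _
        · rw [← pow_mul, ← pow_add]
          have e : m - k + (k + 1) = m + 1 := by omega
          rw [e]; exact hn0 g0
        · rw [← pow_mul, ← pow_add]
          have e : m - k + k = m := by omega
          rw [e]
      have hVk : Vk = V := by
        rcases hF.irr Vk hVkV hVkinv with h | h
        · exfalso
          rw [h, Subgroup.mem_bot] at hz1mem
          exact hg0 hz1mem
        · exact h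
      have hv' : x ^ (2 ^ k) ∈ Vk := by rw [hVk]; exact hvV
      obtain ⟨z, hz, _, hzv⟩ := hv'
      have hc : Commute x z⁻¹ := (Subgroup.mem_center_iff.mp (Subgroup.inv_mem _ hz) x)
      have hxz : (x * z⁻¹) ^ (2 ^ k) = 1 := by
        rw [hc.mul_pow, inv_pow, hzv, mul_inv_cancel]
      have hxz' : x * z⁻¹ ∈ Subgroup.center G := ih' _ hxz
      have : x = (x * z⁻¹) * z := by group
      rw [this]
      exact Subgroup.mul_mem _ hxz' hz
  -- the homomorphism `π g = g ^ N`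
  have h4N : 4 ∣ 2 ^ m := by
    have := pow_dvd_pow 2 hm2
    simpa using this
  have hπmul : ∀ g k : G, (g * k) ^ (2 ^ m) = g ^ (2 ^ m) * k ^ (2 ^ m) :=
    fun g k => hC.pow_mul_of_four_dvd h4N g k
  have hπV : ∀ g : G, g ^ (2 ^ m) ∈ V := by
    intro g
    rw [hF.mem, ← pow_mul, ← pow_succ]; exact hn0 g
  have hker : ∀ x : G, x ^ (2 ^ m) = 1 → ∀ g : G, g * x = x * g := fun x hx =>
    Subgroup.mem_center_iff.mp (hA m (by omega) le_rfl x hx)
  have hsurj : ∀ v ∈ V, ∃ g : G, g ^ (2 ^ m) = v := by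
    let W : Subgroup G :=
      { carrier := {v | ∃ g : G, g ^ (2 ^ m) = v}
        one_mem' := ⟨1, one_pow _⟩
        mul_mem' := by
          rintro _ _ ⟨g, rfl⟩ ⟨k, rfl⟩
          exact ⟨g * k, hπmul g k⟩
        inv_mem' := by
          rintro _ ⟨g, rfl⟩
          exact ⟨g⁻¹, inv_pow g _⟩ }
    have hWV : W ≤ V := by
      rintro _ ⟨g, rfl⟩; exact hπV g
    have hWinv : Inv φ W := by
      rintro e _ ⟨g, rfl⟩
      exact ⟨φ e g, (map_pow (φ e) g _).symm⟩
    rcases hF.irr W hWV hWinv with h | h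
    · exfalso
      have : g0 ^ (2 ^ m) ∈ W := ⟨g0, rfl⟩
      rw [h, Subgroup.mem_bot] at this
      exact hg0 this
    · intro v hv
      rw [← h] at hv
      exact hv
  -- well-definedness
  have hWD1 : ∀ a a' g : G, a ^ (2 ^ m) = a' ^ (2 ^ m) → cm a g = cm a' g := by
    intro a a' g haa
    have hk : ∀ y : G, y * (a⁻¹ * a') = (a⁻¹ * a') * y := by
      apply hker
      rw [hπmul, inv_pow, haa, inv_mul_cancel]
    have e : cm a' g = cm (a * (a⁻¹ * a')) g := by rw [mul_inv_cancel_left]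
    rw [e, C2.cm_central_left hk]
  have hWD2 : ∀ a g g' : G, g ^ (2 ^ m) = g' ^ (2 ^ m) → cm a g = cm a g' := by
    intro a g g' hgg
    have hk : ∀ y : G, y * (g⁻¹ * g') = (g⁻¹ * g') * y := by
      apply hker
      rw [hπmul, inv_pow, hgg, inv_mul_cancel]
    have e : cm a g' = cm a (g * (g⁻¹ * g')) := by rw [mul_inv_cancel_left]
    rw [e, C2.cm_central_right hk]
  -- the data for LEMMA E
  have hsurj' : ∀ v : ↥V, ∃ g : G, g ^ (2 ^ m) = (v : G) := fun v => hsurj v v.2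
  let hv : ↥V → G := fun v => Classical.choose (hsurj' v)
  have hhv : ∀ v : ↥V, hv v ^ (2 ^ m) = (v : G) := fun v => Classical.choose_spec (hsurj' v)
  let aV : E → ↥V → ↥V := fun e v => ⟨φ e v, hF.inv e v v.2⟩
  let b : ↥V → ↥V → ↥V := fun t v => ⟨cm (hv v) (hv t), hC.cm_mem _ _⟩
  have hVsq : ∀ v : ↥V, v * v = 1 := by
    intro v
    apply Subtype.ext
    have := (hF.mem v).mp v.2
    rw [pow_two] at this
    exact this
  have haVmul : ∀ e (v w : ↥V), aV e (v * w) = aV e v * aV e w := fun e v w =>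
    Subtype.ext (map_mul (φ e) (v : G) (w : G))
  have haVact : ∀ e f (v : ↥V), aV (e * f) v = aV e (aV f v) := by
    intro e f v
    apply Subtype.ext
    show φ (e * f) (v : G) = φ e (φ f (v : G))
    rw [map_mul]; rfl
  have haV1 : ∀ v : ↥V, aV 1 v = v := by
    intro v
    apply Subtype.ext
    show φ 1 (v : G) = (v : G)
    rw [map_one]; rfl
  obtain ⟨x1, y1, hx1V, hy1V, hxy1, hx11, hy11⟩ := hF.two
  have hthree : ∃ v w : ↥V, v ≠ 1 ∧ w ≠ 1 ∧ v ≠ w :=
    ⟨⟨x1, hx1V⟩, ⟨y1, hy1V⟩, fun h => hx11 (congrArg Subtype.val h),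
      fun h => hy11 (congrArg Subtype.val h), fun h => hxy1 (congrArg Subtype.val h)⟩
  have htrans : ∀ v w : ↥V, v ≠ 1 → w ≠ 1 → ∃ e, aV e v = w := by
    intro v w hv1 hw1
    obtain ⟨e, he⟩ := hF.trans v w v.2 w.2 (fun h => hv1 (Subtype.ext h))
      (fun h => hw1 (Subtype.ext h))
    exact ⟨e, Subtype.ext he⟩
  have hirr : ∀ S : Subgroup ↥V, (∀ e, ∀ t ∈ S, aV e t ∈ S) → S = ⊥ ∨ S = ⊤ := by
    intro S hS
    let W : Subgroup G := S.map V.subtype
    have hWV : W ≤ V := by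
      rintro _ ⟨s, _, rfl⟩; exact s.2
    have hWinv : Inv φ W := by
      rintro e _ ⟨s, hs, rfl⟩
      exact ⟨aV e s, hS e s hs, rfl⟩
    rcases hF.irr W hWV hWinv with h | h
    · left
      rw [eq_bot_iff]
      intro s hs
      have hsW : (s : G) ∈ W := ⟨s, hs, rfl⟩
      rw [h, Subgroup.mem_bot] at hsW
      rw [Subgroup.mem_bot]
      exact Subtype.ext hsW
    · right
      rw [eq_top_iff]
      intro s _
      have hsW : (s : G) ∈ W := by rw [h]; exact s.2
      obtain ⟨s', hs', hss⟩ := hsW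
      have e : s' = s := Subtype.ext hss
      rwa [e] at hs'
  have hbl : ∀ t s v : ↥V, b (t * s) v = b t v * b s v := by
    intro t s v
    apply Subtype.ext
    show cm (hv v) (hv (t * s)) = cm (hv v) (hv t) * cm (hv v) (hv s)
    rw [← hC.cm_mul_right]
    apply hWD2
    rw [hπmul, hhv, hhv, hhv]; rfl
  have hbr : ∀ t v w : ↥V, b t (v * w) = b t v * b t w := by
    intro t v w
    apply Subtype.ext
    show cm (hv (v * w)) (hv t) = cm (hv v) (hv t) * cm (hv w) (hv t)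
    rw [← hC.cm_mul_left]
    apply hWD1
    rw [hπmul, hhv, hhv, hhv]; rfl
  have hbeq : ∀ e (t v : ↥V), b (aV e t) (aV e v) = aV e (b t v) := by
    intro e t v
    apply Subtype.ext
    show cm (hv (aV e v)) (hv (aV e t)) = φ e (cm (hv v) (hv t))
    have e1 : hv (aV e v) ^ (2 ^ m) = (φ e (hv v)) ^ (2 ^ m) := by
      rw [hhv, ← map_pow, hhv]
    have e2 : hv (aV e t) ^ (2 ^ m) = (φ e (hv t)) ^ (2 ^ m) := by
      rw [hhv, ← map_pow, hhv]
    rw [hWD1 _ _ _ e1, hWD2 _ _ _ e2]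
    unfold cm
    rw [map_mul, map_mul, map_mul, map_inv, map_inv]
  have hbne : ∃ t v : ↥V, b t v ≠ 1 := by
    refine ⟨⟨b0 ^ (2 ^ m), hπV b0⟩, ⟨a0 ^ (2 ^ m), hπV a0⟩, ?_⟩
    intro hb1
    have h5 : cm (hv ⟨a0 ^ (2 ^ m), hπV a0⟩) (hv ⟨b0 ^ (2 ^ m), hπV b0⟩) = 1 :=
      congrArg Subtype.val hb1
    rw [hWD1 _ a0 _ (hhv _), hWD2 _ _ b0 (hhv _)] at h5
    apply hab
    unfold cm at h5
    have : a0 * b0 = (a0 * b0 * a0⁻¹ * b0⁻¹) * (b0 * a0) := by group
    rw [this, h5, one_mul]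
  have hcon := hLem E ↥V ↥V aV aV b hHyp.solv hVsq hVsq haVmul haVact haV1 haVmul haVact haV1
    hthree htrans hirr hbl hbr hbeq hbne
  have hx1' : (⟨x1, hx1V⟩ : ↥V) ≠ 1 := fun h => hx11 (congrArg Subtype.val h)
  apply hcon ⟨x1, hx1V⟩ ⟨x1, hx1V⟩ hx1' hx1'
  apply Subtype.ext
  show cm (hv ⟨x1, hx1V⟩) (hv ⟨x1, hx1V⟩) = 1
  exact cm_self _

example : S1CStmt.{0} := s1c

end Cfsg.Agent.H7.S3776S1C
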