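import Mathlib

/-!
# S3777 (Vaughan-Lee): the "module lemma" in group form (helper7)

`A` normal in `G`, `K ≥ A` a subgroup containing `y0`, and `y0 :: ys` generating `G` modulo `A`.
Then `|[A,G]| ≤ |K'| * ∏_{y ∈ ys} |A : C_A(y)|`.
-/

namespace Cfsg.Agent.H7.S3777ML

open scoped commutatorElement

section abstractPart

variable {Γ : Type*} [Group Γ]

/-- The elements `g` such that all `⁅b, g⁆` (`b ∈ B`) lie in `J`; a subgroup when `B` is normal. -/
def stab (B : Subgroup Γ) [hBn : B.Normal] (J : Subgroup Γ) : Subgroup Γ where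
  carrier := {g | ∀ b ∈ B, ⁅b, g⁆ ∈ J}
  one_mem' := by
    intro b _
    simp [commutatorElement_def]
  mul_mem' := by
    intro g h hg hh b hb
    have hc : ⁅b, h⁆ ∈ B := by
      have h1 : h * b⁻¹ * h⁻¹ ∈ B := hBn.conj_mem _ (B.inv_mem hb) h
      have h2 : ⁅b, h⁆ = b * (h * b⁻¹ * h⁻¹) := by
        simp [commutatorElement_def, mul_assoc]
      rw [h2]
      exact B.mul_mem hb h1
    have key : ⁅b, g * h⁆ = ⁅b, g⁆ * (⁅⁅b, h⁆, g⁆)⁻¹ * ⁅b, h⁆ := by
      simp only [commutatorElement_def]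
      group
    rw [key]
    exact J.mul_mem (J.mul_mem (hg b hb) (J.inv_mem (hg _ hc))) (hh b hb)
  inv_mem' := by
    intro g hg b hb
    have hc : g⁻¹ * b * g ∈ B := by
      have := hBn.conj_mem b hb g⁻¹
      simpa using this
    have key : ⁅b, g⁻¹⁆ = (⁅g⁻¹ * b * g, g⁆)⁻¹ := by
      simp only [commutatorElement_def]
      group
    rw [key]
    exact J.inv_mem (hg _ hc)

theorem mem_stab (B : Subgroup Γ) [B.Normal] (J : Subgroup Γ) (g : Γ) :
    g ∈ stab B J ↔ ∀ b ∈ B, ⁅b, g⁆ ∈ J := Iff.rfl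

/-- If `B` is commutative and normal, a generating set modulo `B` lies in `stab B J`, then
`⁅B, ⊤⁆ ≤ J`. -/
theorem commutator_le_of_gen (B : Subgroup Γ) [B.Normal]
    (hB : ∀ x ∈ B, ∀ y ∈ B, x * y = y * x) (J : Subgroup Γ) (S : Set Γ)
    (hS : ∀ s ∈ S, ∀ b ∈ B, ⁅b, s⁆ ∈ J)
    (hgen : Subgroup.closure (S ∪ (B : Set Γ)) = ⊤) : ⁅B, (⊤ : Subgroup Γ)⁆ ≤ J := by
  have htop : stab B J = ⊤ := by
    rw [eq_top_iff, ← hgen, Subgroup.closure_le]
    rintro g (hg | hg)
    · exact hS g hg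
    · intro b hb
      have : ⁅b, g⁆ = 1 := by
        rw [commutatorElement_eq_one_iff_mul_comm]
        exact hB b hb g hg
      rw [this]
      exact J.one_mem
  rw [Subgroup.commutator_le]
  intro b hb g _
  have : g ∈ stab B J := by rw [htop]; trivial
  exact this b hb

/-- The commutator map `b ↦ ⁅b, s⁆` on a commutative normal subgroup is a homomorphism. -/
def cHom (B : Subgroup Γ) [hBn : B.Normal]
    (hB : ∀ x ∈ B, ∀ y ∈ B, x * y = y * x) (s : Γ) : B →* Γ where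
  toFun b := ⁅(b : Γ), s⁆
  map_one' := by simp [commutatorElement_def]
  map_mul' := by
    intro a b
    have ha : s * (a : Γ)⁻¹ * s⁻¹ ∈ B := hBn.conj_mem _ (B.inv_mem a.2) s
    have hb : s * (b : Γ)⁻¹ * s⁻¹ ∈ B := hBn.conj_mem _ (B.inv_mem b.2) s
    have e1 : (s * (a : Γ)⁻¹ * s⁻¹) * (b : Γ) = (b : Γ) * (s * (a : Γ)⁻¹ * s⁻¹) :=
      hB _ ha _ b.2
    have e2 : (s * (a : Γ)⁻¹ * s⁻¹) * (s * (b : Γ)⁻¹ * s⁻¹)
        = (s * (b : Γ)⁻¹ * s⁻¹) * (s * (a : Γ)⁻¹ * s⁻¹) := hB _ ha _ hb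
    have l : ⁅((a * b : B) : Γ), s⁆
        = (a : Γ) * ((b : Γ) * ((s * (b : Γ)⁻¹ * s⁻¹) * (s * (a : Γ)⁻¹ * s⁻¹))) := by
      simp only [commutatorElement_def, Subgroup.coe_mul]
      group
    have r : ⁅(a : Γ), s⁆ * ⁅(b : Γ), s⁆
        = (a : Γ) * (((s * (a : Γ)⁻¹ * s⁻¹) * (b : Γ)) * (s * (b : Γ)⁻¹ * s⁻¹)) := by
      simp only [commutatorElement_def]
      group
    show ⁅((a * b : B) : Γ), s⁆ = ⁅(a : Γ), s⁆ * ⁅(b : Γ), s⁆
    rw [l, r]
    generalize s * (a : Γ)⁻¹ * s⁻¹ = X at e1 e2 ⊢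
    generalize s * (b : Γ)⁻¹ * s⁻¹ = Y at e2 ⊢
    rw [e1, mul_assoc (b : Γ) X Y, e2]

theorem cHom_apply (B : Subgroup Γ) [B.Normal]
    (hB : ∀ x ∈ B, ∀ y ∈ B, x * y = y * x) (s : Γ) (b : B) :
    cHom B hB s b = ⁅(b : Γ), s⁆ := rfl

theorem cHom_range_le (B : Subgroup Γ) [hBn : B.Normal]
    (hB : ∀ x ∈ B, ∀ y ∈ B, x * y = y * x) (s : Γ) : (cHom B hB s).range ≤ B := by
  rintro _ ⟨b, rfl⟩
  have h1 : s * (b : Γ)⁻¹ * s⁻¹ ∈ B := hBn.conj_mem _ (B.inv_mem b.2) s
  have h2 : ⁅(b : Γ), s⁆ = (b : Γ) * (s * (b : Γ)⁻¹ * s⁻¹) := by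
    simp [commutatorElement_def, mul_assoc]
  rw [cHom_apply, h2]
  exact B.mul_mem b.2 h1

/-- Two subgroups of a commutative subgroup: `|H ⊔ K| ≤ |H| * |K|`. -/
theorem card_sup_le [Finite Γ] (B : Subgroup Γ)
    (hB : ∀ x ∈ B, ∀ y ∈ B, x * y = y * x) (H K : Subgroup Γ) (hH : H ≤ B) (hK : K ≤ B) :
    Nat.card ↥(H ⊔ K) ≤ Nat.card H * Nat.card K := by
  have comm : ∀ (m : H) (n : K), Commute (H.subtype m) (K.subtype n) := by
    intro m n
    exact hB _ (hH m.2) _ (hK n.2)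
  have hr := MonoidHom.noncommCoprod_range H.subtype K.subtype comm
  rw [Subgroup.range_subtype, Subgroup.range_subtype] at hr
  have hd := Subgroup.card_range_dvd (MonoidHom.noncommCoprod H.subtype K.subtype comm)
  rw [hr, Nat.card_prod] at hd
  exact Nat.le_of_dvd (Nat.mul_pos Nat.card_pos Nat.card_pos) hd

/-- The join of the ranges of `cHom` along a list. -/
def Jl (B : Subgroup Γ) [B.Normal]
    (hB : ∀ x ∈ B, ∀ y ∈ B, x * y = y * x) : List Γ → Subgroup Γ
  | [] => ⊥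
  | s :: l => (cHom B hB s).range ⊔ Jl B hB l

theorem Jl_le (B : Subgroup Γ) [B.Normal]
    (hB : ∀ x ∈ B, ∀ y ∈ B, x * y = y * x) (l : List Γ) : Jl B hB l ≤ B := by
  induction l with
  | nil => exact bot_le
  | cons s l ih => exact sup_le (cHom_range_le B hB s) ih

theorem range_le_Jl (B : Subgroup Γ) [B.Normal]
    (hB : ∀ x ∈ B, ∀ y ∈ B, x * y = y * x) (l : List Γ) (s : Γ) (hs : s ∈ l) :
    (cHom B hB s).range ≤ Jl B hB l := by
  induction l with
  | nil => simp at hs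
  | cons t l ih =>
    rcases List.mem_cons.mp hs with rfl | h
    · exact le_sup_left
    · exact le_trans (ih h) le_sup_right

theorem card_Jl_le [Finite Γ] (B : Subgroup Γ) [B.Normal]
    (hB : ∀ x ∈ B, ∀ y ∈ B, x * y = y * x) (l : List Γ) :
    Nat.card ↥(Jl B hB l) ≤ (l.map fun s => Nat.card ↥(cHom B hB s).range).prod := by
  induction l with
  | nil => simp [Jl]
  | cons s l ih =>
    simp only [Jl, List.map_cons, List.prod_cons]
    exact le_trans (card_sup_le B hB _ _ (cHom_range_le B hB s) (Jl_le B hB l))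
      (Nat.mul_le_mul_left _ ih)

end abstractPart

section concretePart

variable {G : Type*} [Group G]

/-- `Nat.card H = Nat.card N * Nat.card (H.map (mk' N))` for `N ≤ H`. -/
theorem card_eq_card_mul_card_map [Finite G] (N : Subgroup G) [N.Normal] (H : Subgroup G)
    (hNH : N ≤ H) :
    Nat.card H = Nat.card N * Nat.card ↥(H.map (QuotientGroup.mk' N)) := by
  set f : H →* G ⧸ N := (QuotientGroup.mk' N).domRestrict H with hf
  have h1 : f.range = H.map (QuotientGroup.mk' N) := by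
    rw [hf, MonoidHom.domRestrict_range]
  have h2 : f.ker = N.subgroupOf H := by
    rw [hf, MonoidHom.ker_domRestrict, QuotientGroup.ker_mk']
  have h3 : Nat.card ↥(N.subgroupOf H) = Nat.card N :=
    Nat.card_congr (Subgroup.subgroupOfEquivOfLe hNH).toEquiv
  have h4 := Subgroup.card_mul_index f.ker
  rw [Subgroup.index_ker, h1, h2, h3] at h4
  exact h4.symm

theorem quot_comm (A : Subgroup G) [A.Normal] [(⁅A, A⁆ : Subgroup G).Normal] :
    ∀ x ∈ A.map (QuotientGroup.mk' ⁅A, A⁆), ∀ y ∈ A.map (QuotientGroup.mk' ⁅A, A⁆),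
      x * y = y * x := by
  rintro _ ⟨a, ha, rfl⟩ _ ⟨b, hb, rfl⟩
  rw [← map_mul, ← map_mul]
  show ((a * b : G) : G ⧸ ⁅A, A⁆) = ((b * a : G) : G ⧸ ⁅A, A⁆)
  rw [QuotientGroup.eq]
  have : (a * b)⁻¹ * (b * a) = ⁅b⁻¹, a⁻¹⁆ := by
    simp only [commutatorElement_def]
    group
  rw [this]
  exact Subgroup.commutator_mem_commutator (A.inv_mem hb) (A.inv_mem ha)

/-- **Module lemma, group form.** -/
theorem card_commutator_le [Finite G] (A : Subgroup G) [hA : A.Normal] (K : Subgroup G)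
    (hAK : A ≤ K) (y0 : G) (hy0 : y0 ∈ K) (ys : List G)
    (hgen : Subgroup.closure ({y | y = y0 ∨ y ∈ ys} ∪ (A : Set G)) = ⊤) :
    Nat.card ↥⁅A, (⊤ : Subgroup G)⁆ ≤
      Nat.card ↥⁅A, K⁆ * (ys.map fun y => (Subgroup.centralizer {y}).relIndex A).prod := by
  have hPn : (⁅A, A⁆ : Subgroup G).Normal := Subgroup.commutator_normal A A
  set P : Subgroup G := ⁅A, A⁆ with hP
  set π : G →* G ⧸ P := QuotientGroup.mk' P with hπ
  have hπs : Function.Surjective π := QuotientGroup.mk'_surjective P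
  set B : Subgroup (G ⧸ P) := A.map π with hBdef
  have hBn : B.Normal := Subgroup.Normal.map hA π hπs
  have hB : ∀ x ∈ B, ∀ y ∈ B, x * y = y * x := quot_comm A
  -- the list of generators upstairs
  set L : List (G ⧸ P) := π y0 :: ys.map π with hL
  set J : Subgroup (G ⧸ P) := Jl B hB L with hJ
  -- containment
  have hgen' : Subgroup.closure ({s | s ∈ L} ∪ (B : Set (G ⧸ P))) = ⊤ := by
    have h1 : Subgroup.map π (Subgroup.closure ({y | y = y0 ∨ y ∈ ys} ∪ (A : Set G))) = ⊤ := by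
      rw [hgen]; exact Subgroup.map_top_of_surjective π hπs
    rw [MonoidHom.map_closure] at h1
    rw [eq_top_iff, ← h1]
    apply Subgroup.closure_mono
    rintro _ ⟨x, hx, rfl⟩
    rcases hx with hx | hx
    · left
      rcases hx with rfl | hx
      · show π x ∈ L
        rw [hL]; exact List.mem_cons_self
      · show π x ∈ L
        rw [hL]; exact List.mem_cons_of_mem _ (List.mem_map_of_mem hx)
    · right
      exact ⟨x, hx, rfl⟩
  have hle : ⁅B, (⊤ : Subgroup (G ⧸ P))⁆ ≤ J := by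
    apply commutator_le_of_gen B hB J {s | s ∈ L} _ hgen'
    intro s hs b hb
    exact range_le_Jl B hB L s hs ⟨⟨b, hb⟩, rfl⟩
  have hmap : (⁅A, (⊤ : Subgroup G)⁆).map π = ⁅B, (⊤ : Subgroup (G ⧸ P))⁆ := by
    rw [Subgroup.map_commutator, Subgroup.map_top_of_surjective π hπs]
  -- cardinalities
  have hPle : P ≤ ⁅A, (⊤ : Subgroup G)⁆ := Subgroup.commutator_mono le_rfl le_top
  have c1 : Nat.card ↥⁅A, (⊤ : Subgroup G)⁆
      = Nat.card P * Nat.card ↥⁅B, (⊤ : Subgroup (G ⧸ P))⁆ := by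
    rw [card_eq_card_mul_card_map P _ hPle, ← hπ, hmap]
  have c2 : Nat.card ↥⁅B, (⊤ : Subgroup (G ⧸ P))⁆ ≤ Nat.card J :=
    Subgroup.card_le_of_le hle
  have c3 : Nat.card J ≤ Nat.card ↥(cHom B hB (π y0)).range *
      ((ys.map π).map fun s => Nat.card ↥(cHom B hB s).range).prod := by
    have := card_Jl_le B hB L
    rw [hL, List.map_cons, List.prod_cons] at this
    exact this
  -- the y0 factor
  have c4 : Nat.card P * Nat.card ↥(cHom B hB (π y0)).range ≤ Nat.card ↥⁅A, K⁆ := by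
    set H0 : Subgroup G := (cHom B hB (π y0)).range.comap π with hH0
    have hPH0 : P ≤ H0 := by
      intro x hx
      rw [hH0, Subgroup.mem_comap]
      have : π x = 1 := by
        rw [hπ]; exact (QuotientGroup.eq_one_iff x).mpr hx
      rw [this]; exact Subgroup.one_mem _
    have hm : H0.map π = (cHom B hB (π y0)).range :=
      Subgroup.map_comap_eq_self_of_surjective hπs _
    have e : Nat.card H0 = Nat.card P * Nat.card ↥(cHom B hB (π y0)).range := by
      rw [card_eq_card_mul_card_map P H0 hPH0, ← hπ, hm]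
    rw [← e]
    apply Subgroup.card_le_of_le
    intro x hx
    rw [hH0, Subgroup.mem_comap] at hx
    obtain ⟨⟨b, hb⟩, hbx⟩ := hx
    obtain ⟨a, ha, rfl⟩ := hb
    rw [cHom_apply] at hbx
    have h1 : π ⁅a, y0⁆ = π x := by
      rw [map_commutatorElement]; exact hbx
    have h2 : (⁅a, y0⁆)⁻¹ * x ∈ P := by
      have : ((⁅a, y0⁆ : G) : G ⧸ P) = ((x : G) : G ⧸ P) := h1
      exact QuotientGroup.eq.mp this
    have h3 : x = ⁅a, y0⁆ * ((⁅a, y0⁆)⁻¹ * x) := by group
    rw [h3]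
    exact Subgroup.mul_mem _ (Subgroup.commutator_mem_commutator ha hy0)
      (Subgroup.commutator_mono le_rfl hAK h2)
  -- the other factors
  have c5 : ∀ y : G, Nat.card ↥(cHom B hB (π y)).range
      ≤ (Subgroup.centralizer {y}).relIndex A := by
    intro y
    set ψ : A →* G ⧸ P := (cHom B hB (π y)).comp (π.subgroupMap A) with hψ
    have hr : ψ.range = (cHom B hB (π y)).range := by
      rw [hψ, MonoidHom.range_comp, MonoidHom.range_eq_top.mpr (π.subgroupMap_surjective A),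
        ← MonoidHom.range_eq_map]
    have hk : (Subgroup.centralizer {y}).subgroupOf A ≤ ψ.ker := by
      intro a ha
      rw [Subgroup.mem_subgroupOf, Subgroup.mem_centralizer_iff] at ha
      have hay : y * (a : G) = (a : G) * y := ha y rfl
      rw [MonoidHom.mem_ker, hψ, MonoidHom.comp_apply, cHom_apply]
      show ⁅π (a : G), π y⁆ = 1
      rw [← map_commutatorElement]
      have : ⁅(a : G), y⁆ = 1 := by
        rw [commutatorElement_eq_one_iff_mul_comm]; exact hay.symm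
      rw [this, map_one]
    have hd := Subgroup.index_dvd_of_le hk
    rw [Subgroup.index_ker, hr] at hd
    have hne : ((Subgroup.centralizer {y}).subgroupOf A).index ≠ 0 := Subgroup.index_ne_zero_of_finite
    exact Nat.le_of_dvd (Nat.pos_of_ne_zero hne) hd
  have c6' : ∀ l : List G, ((l.map π).map fun s => Nat.card ↥(cHom B hB s).range).prod
      ≤ (l.map fun y => (Subgroup.centralizer {y}).relIndex A).prod := by
    intro l
    induction l with
    | nil => simp
    | cons y l ih =>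
      simp only [List.map_cons, List.prod_cons]
      exact Nat.mul_le_mul (c5 y) ih
  have c6 := c6' ys
  calc Nat.card ↥⁅A, (⊤ : Subgroup G)⁆
      = Nat.card P * Nat.card ↥⁅B, (⊤ : Subgroup (G ⧸ P))⁆ := c1
    _ ≤ Nat.card P * (Nat.card ↥(cHom B hB (π y0)).range *
          ((ys.map π).map fun s => Nat.card ↥(cHom B hB s).range).prod) :=
        Nat.mul_le_mul_left _ (le_trans c2 c3)
    _ = (Nat.card P * Nat.card ↥(cHom B hB (π y0)).range) *
          ((ys.map π).map fun s => Nat.card ↥(cHom B hB s).range).prod := by ring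
    _ ≤ Nat.card ↥⁅A, K⁆ * (ys.map fun y => (Subgroup.centralizer {y}).relIndex A).prod :=
        Nat.mul_le_mul c4 c6

end concretePart

end Cfsg.Agent.H7.S3777ML
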