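import Cfsg.Agent.Lib.H7.S3777ML
import Cfsg.Agent.Lib.H5.S3777P1Defs

/-!
# S3777, piece S3 (module lemma with generators outside `M`) — helper7
-/

namespace Cfsg.Agent.H7.S3777S3

open Subgroup

universe u

variable {G : Type u} [Group G]

/-- A proper subgroup `H` not inside `M`: some element lies in neither. -/
theorem exists_not_mem_not_mem (H M : Subgroup G) (hH : H ≠ ⊤) (hHM : ¬ H ≤ M) :
    ∃ s, s ∉ H ∧ s ∉ M := by
  obtain ⟨x, hxH, hxM⟩ := SetLike.not_le_iff_exists.mp hHM
  obtain ⟨g, hg⟩ : ∃ g, g ∉ H := by
    by_contra h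
    exact hH (eq_top_iff.mpr fun g _ => by_contra fun hg => h ⟨g, hg⟩)
  by_cases hgM : g ∈ M
  · refine ⟨g * x, ?_, ?_⟩
    · intro h
      exact hg (by simpa using H.mul_mem h (H.inv_mem hxH))
    · intro h
      exact hxM (by simpa using M.mul_mem (M.inv_mem hgM) h)
  · exact ⟨g, hg, hgM⟩

/-- Greedy chain of generators outside `M`. -/
theorem exists_gens [Finite G] (p : ℕ) [Fact p.Prime] (M : Subgroup G) :
    ∀ (a : ℕ) (H : Subgroup G), ¬ H ≤ M → H.index ∣ p ^ a →
      ∃ l : List G, l.length ≤ a ∧ (∀ s ∈ l, s ∉ M) ∧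
        Subgroup.closure ({s | s ∈ l} ∪ (H : Set G)) = ⊤ := by
  intro a
  induction a with
  | zero =>
    intro H _ hidx
    have h1 : H.index = 1 := by simpa using hidx
    have hT : H = ⊤ := Subgroup.index_eq_one.mp h1
    refine ⟨[], le_rfl, by simp, ?_⟩
    rw [hT, eq_top_iff]
    intro x _
    exact Subgroup.subset_closure (Or.inr (Set.mem_univ x))
  | succ a ih =>
    intro H hHM hidx
    by_cases hT : H = ⊤
    · refine ⟨[], Nat.zero_le _, by simp, ?_⟩
      rw [hT, eq_top_iff]
      intro x _
      exact Subgroup.subset_closure (Or.inr (Set.mem_univ x))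
    · obtain ⟨s, hsH, hsM⟩ := exists_not_mem_not_mem H M hT hHM
      set H' := H ⊔ Subgroup.zpowers s with hH'
      have hle : H ≤ H' := le_sup_left
      have hs' : s ∈ H' := (le_sup_right : zpowers s ≤ H') (mem_zpowers s)
      have hidx' : H'.index ∣ p ^ a := by
        have h1 : H'.index ∣ H.index := Subgroup.index_dvd_of_le hle
        obtain ⟨j, hj, hje⟩ := (Nat.dvd_prime_pow (Fact.out)).mp (h1.trans hidx)
        rcases Nat.lt_or_ge j (a + 1) with hlt | hge
        · rw [hje]
          exact pow_dvd_pow p (Nat.lt_succ_iff.mp hlt)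
        · exfalso
          have hj' : j = a + 1 := le_antisymm hj hge
          have h2 : H.index = p ^ (a + 1) :=
            Nat.dvd_antisymm hidx (by rw [← hj', ← hje]; exact h1)
          have h3 : H.relIndex H' * H'.index = H.index := Subgroup.relIndex_mul_index hle
          rw [hje, hj', h2] at h3
          have hpos : 0 < p ^ (a + 1) := pow_pos (Fact.out : p.Prime).pos _
          have h4 : H.relIndex H' = 1 :=
            Nat.eq_of_mul_eq_mul_right hpos (by rw [h3, one_mul])
          have h5 : H' ≤ H := Subgroup.relIndex_eq_one.mp h4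
          exact hsH (h5 hs')
      obtain ⟨l, hl, hlM, hcl⟩ := ih H' (fun h => hHM (hle.trans h)) hidx'
      refine ⟨s :: l, by simp only [List.length_cons]; omega, ?_, ?_⟩
      · intro t ht
        rcases List.mem_cons.mp ht with rfl | h
        · exact hsM
        · exact hlM t h
      · rw [eq_top_iff, ← hcl, Subgroup.closure_le]
        rintro x (hx | hx)
        · exact Subgroup.subset_closure (Or.inl (List.mem_cons_of_mem _ hx))
        · have hsub : H' ≤ Subgroup.closure ({t | t ∈ s :: l} ∪ (H : Set G)) := by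
            apply sup_le
            · intro h hh
              exact Subgroup.subset_closure (Or.inr hh)
            · rw [Subgroup.zpowers_le]
              exact Subgroup.subset_closure (Or.inl List.mem_cons_self)
          exact hsub hx

/-- **S3** of helper5's P1-step cut. -/
theorem s3 : Cfsg.Agent.Lib.H5.S3777.S3Stmt.{u} := by
  intro p _ G _ _ _ M A lam Delta hMidx hAn hAM hrel hcent y0 hy0
  have := hAn
  set K0 := A ⊔ Subgroup.zpowers y0 with hK0
  have hAK : A ≤ K0 := le_sup_left
  have hy0K : y0 ∈ K0 := (le_sup_right : zpowers y0 ≤ K0) (mem_zpowers y0)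
  have hK0M : ¬ K0 ≤ M := fun h => hy0 (h hy0K)
  have hidx : K0.index ∣ p ^ lam := by
    have hA : A.index = p ^ (lam + 1) := by
      rw [← Subgroup.relIndex_mul_index hAM, hrel, hMidx, pow_succ]
    have h1 : K0.index ∣ A.index := Subgroup.index_dvd_of_le hAK
    rw [hA] at h1
    obtain ⟨j, hj, hje⟩ := (Nat.dvd_prime_pow (Fact.out)).mp h1
    rcases Nat.lt_or_ge j (lam + 1) with hlt | hge
    · rw [hje]
      exact pow_dvd_pow p (Nat.lt_succ_iff.mp hlt)
    · exfalso
      have hj' : j = lam + 1 := le_antisymm hj hge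
      have h3 : A.relIndex K0 * K0.index = A.index := Subgroup.relIndex_mul_index hAK
      rw [hje, hj', hA] at h3
      have hpos : 0 < p ^ (lam + 1) := pow_pos (Fact.out : p.Prime).pos _
      have h4 : A.relIndex K0 = 1 :=
        Nat.eq_of_mul_eq_mul_right hpos (by rw [h3, one_mul])
      have h5 : K0 ≤ A := Subgroup.relIndex_eq_one.mp h4
      exact hy0 (hAM (h5 hy0K))
  obtain ⟨l, hl, hlM, hcl⟩ := exists_gens p M lam K0 hK0M hidx
  have hgen : Subgroup.closure ({y | y = y0 ∨ y ∈ l} ∪ (A : Set G)) = ⊤ := by
    rw [eq_top_iff, ← hcl, Subgroup.closure_le]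
    rintro x (hx | hx)
    · exact Subgroup.subset_closure (Or.inl (Or.inr hx))
    · have hsub : K0 ≤ Subgroup.closure ({y | y = y0 ∨ y ∈ l} ∪ (A : Set G)) := by
        apply sup_le
        · intro a ha
          exact Subgroup.subset_closure (Or.inr ha)
        · rw [Subgroup.zpowers_le]
          exact Subgroup.subset_closure (Or.inl (Or.inl rfl))
      exact hsub hx
  have key := Cfsg.Agent.H7.S3777ML.card_commutator_le A K0 hAK y0 hy0K l hgen
  have hprod' : ∀ l' : List G, (∀ s ∈ l', s ∉ M) →
      (l'.map fun y => (Subgroup.centralizer {y}).relIndex A).prod ≤ p ^ (l'.length * Delta) := by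
    intro l'
    induction l' with
    | nil => intro _; simp
    | cons y t ih =>
      intro h
      simp only [List.map_cons, List.prod_cons, List.length_cons]
      have h1 := hcent y (h y List.mem_cons_self)
      have h2 := ih (fun s hs => h s (List.mem_cons_of_mem _ hs))
      calc (Subgroup.centralizer {y}).relIndex A *
            (t.map fun y => (Subgroup.centralizer {y}).relIndex A).prod
          ≤ p ^ Delta * p ^ (t.length * Delta) := Nat.mul_le_mul h1 h2
        _ = p ^ ((t.length + 1) * Delta) := by
          rw [← pow_add]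
          congr 1
          ring
  have hprod : (l.map fun y => (Subgroup.centralizer {y}).relIndex A).prod
      ≤ p ^ (lam * Delta) :=
    le_trans (hprod' l hlM)
      (Nat.pow_le_pow_right (Fact.out : p.Prime).pos (Nat.mul_le_mul_right _ hl))
  exact le_trans key (Nat.mul_le_mul_left _ hprod)

end Cfsg.Agent.H7.S3777S3
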