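import Mathlib
import Cfsg.Agent.Lib.H25.S3797MLDefs
import Cfsg.Agent.Lib.H1.CoprimeAction

/-!
# S3797, main lemma, piece M0B (twin, helper7): `GCoreStmt → MLStmt`

`D = {x | TrivOn V K x}` is a normal subgroup; if `S ⊄ D`, the nontrivial 2-group `S ⧸ (S ⊓ D)` has a
central involution `s`; GCORE applied to `T = {t ∈ S | t² ∈ D ∧ [t, S] ⊆ D}` shows that `E` fixes the
coset `s (S ⊓ D)`; the coprime action gives a fixed point of `E` in it, which is `1`: `s ∈ D`.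
-/

set_option autoImplicit false

namespace Cfsg.Agent.H7.S3797M0B

open Cfsg.Agent.Lib.H25.S3797ML Cfsg.Agent.Lib.H19.S3797

universe u

variable {G : Type u} [Group G]

/-- the kernel of the action on `K/V` -/
def Dsub (V K : Subgroup G) (hV : V.Normal) (hK : K.Normal) : Subgroup G where
  carrier := {x | TrivOn V K x}
  one_mem' := by
    intro k _
    have : (1 : G) * k * 1⁻¹ * k⁻¹ = 1 := by group
    rw [this]; exact V.one_mem
  mul_mem' := by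
    intro x y hx hy k hk
    have h1 : x * (y * k * y⁻¹ * k⁻¹) * x⁻¹ ∈ V := hV.conj_mem _ (hy k hk) x
    have h2 := V.mul_mem h1 (hx k hk)
    have e : x * y * k * (x * y)⁻¹ * k⁻¹ = x * (y * k * y⁻¹ * k⁻¹) * x⁻¹ * (x * k * x⁻¹ * k⁻¹) := by
      group
    rw [e]; exact h2
  inv_mem' := by
    intro x hx k hk
    have hk' : x⁻¹ * k * x⁻¹⁻¹ ∈ K := hK.conj_mem k hk x⁻¹
    have h1 := V.inv_mem (hx _ hk')
    have e : x⁻¹ * k * x⁻¹⁻¹ * k⁻¹ =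
        (x * (x⁻¹ * k * x⁻¹⁻¹) * x⁻¹ * (x⁻¹ * k * x⁻¹⁻¹)⁻¹)⁻¹ := by group
    rw [e]; exact h1

theorem mem_Dsub {V K : Subgroup G} {hV : V.Normal} {hK : K.Normal} {x : G} :
    x ∈ Dsub V K hV hK ↔ TrivOn V K x := Iff.rfl

theorem Dsub_normal (V K : Subgroup G) (hV : V.Normal) (hK : K.Normal) :
    (Dsub V K hV hK).Normal := by
  constructor
  intro x hx g k hk
  have hk' : g⁻¹ * k * g⁻¹⁻¹ ∈ K := hK.conj_mem k hk g⁻¹
  have h1 : g * (x * (g⁻¹ * k * g⁻¹⁻¹) * x⁻¹ * (g⁻¹ * k * g⁻¹⁻¹)⁻¹) * g⁻¹ ∈ V :=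
    hV.conj_mem _ (hx _ hk') g
  have e : g * x * g⁻¹ * k * (g * x * g⁻¹)⁻¹ * k⁻¹ =
      g * (x * (g⁻¹ * k * g⁻¹⁻¹) * x⁻¹ * (g⁻¹ * k * g⁻¹⁻¹)⁻¹) * g⁻¹ := by group
  rw [e]; exact h1

/-- if `A` normalises `S` (elementwise) and `D` is normal, `A` normalises `S ⊓ D` -/
theorem le_normalizer_inf {A S D : Subgroup G} (hD : D.Normal)
    (hAS : ∀ a ∈ A, ∀ s ∈ S, a * s * a⁻¹ ∈ S) :
    A ≤ Subgroup.normalizer ((S ⊓ D : Subgroup G) : Set G) := by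
  intro a ha
  rw [Subgroup.mem_normalizer_iff]
  intro h
  constructor
  · rintro ⟨h1, h2⟩
    exact ⟨hAS a ha h h1, hD.conj_mem h h2 a⟩
  · rintro ⟨h1, h2⟩
    have e : h = a⁻¹ * (a * h * a⁻¹) * a⁻¹⁻¹ := by group
    rw [e]
    exact ⟨hAS a⁻¹ (A.inv_mem ha) _ h1, hD.conj_mem _ h2 a⁻¹⟩

theorem le_normalizer_of_conj {A S : Subgroup G}
    (hAS : ∀ a ∈ A, ∀ s ∈ S, a * s * a⁻¹ ∈ S) :
    A ≤ Subgroup.normalizer (S : Set G) := by
  intro a ha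
  rw [Subgroup.mem_normalizer_iff]
  intro h
  constructor
  · intro h1
    exact hAS a ha h h1
  · intro h1
    have e : h = a⁻¹ * (a * h * a⁻¹) * a⁻¹⁻¹ := by group
    rw [e]
    exact hAS a⁻¹ (A.inv_mem ha) _ h1

/-- a 2-group `S` not inside the normal subgroup `D` has an element `s ∉ D` with `s² ∈ D` and
`[s, S] ⊆ D` -/
theorem exists_central_invol [Finite G] {S D : Subgroup G} (hS : IsPGroup 2 S) (hD : D.Normal)
    (hSD : ¬ S ≤ D) :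
    ∃ s ∈ S, s ∉ D ∧ s ^ 2 ∈ D ∧ ∀ t ∈ S, s * t * s⁻¹ * t⁻¹ ∈ D := by
  classical
  have : Fact (Nat.Prime 2) := ⟨Nat.prime_two⟩
  have hN : (D.subgroupOf S).Normal := hD.subgroupOf S
  have hQ : IsPGroup 2 (↥S ⧸ D.subgroupOf S) := hS.to_quotient _
  have : Nontrivial (↥S ⧸ D.subgroupOf S) := by
    obtain ⟨x, hxS, hxD⟩ := Set.not_subset.mp hSD
    refine ⟨⟨((⟨x, hxS⟩ : ↥S) : ↥S ⧸ D.subgroupOf S), 1, ?_⟩⟩
    intro h
    rw [QuotientGroup.eq_one_iff] at h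
    exact hxD (Subgroup.mem_subgroupOf.mp h)
  have : Nontrivial (Subgroup.center (↥S ⧸ D.subgroupOf S)) := hQ.center_nontrivial
  obtain ⟨⟨z, hz⟩, hz1⟩ := exists_ne (1 : Subgroup.center (↥S ⧸ D.subgroupOf S))
  have hz1' : z ≠ 1 := fun h => hz1 (Subtype.ext h)
  obtain ⟨m, hm⟩ := (IsPGroup.iff_orderOf.mp hQ) z
  have hm0 : m ≠ 0 := by
    rintro rfl
    rw [pow_zero, orderOf_eq_one_iff] at hm
    exact hz1' hm
  obtain ⟨j, rfl⟩ := Nat.exists_eq_succ_of_ne_zero hm0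
  -- z' = z ^ (2 ^ j)
  set z' := z ^ (2 ^ j) with hz'
  have hz'1 : z' ≠ 1 := by
    intro h
    have h1 := orderOf_dvd_of_pow_eq_one h
    rw [hm] at h1
    have h2 := Nat.le_of_dvd (by positivity) h1
    have h3 : 2 ^ j < 2 ^ (j + 1) := Nat.pow_lt_pow_right (by norm_num) (Nat.lt_succ_self j)
    omega
  have hz'2 : z' ^ 2 = 1 := by
    rw [hz', ← pow_mul, ← pow_succ, ← hm]
    exact pow_orderOf_eq_one z
  have hz'c : z' ∈ Subgroup.center (↥S ⧸ D.subgroupOf S) := Subgroup.pow_mem _ hz _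
  obtain ⟨s, hs⟩ := QuotientGroup.mk_surjective z'
  refine ⟨(s : G), s.2, ?_, ?_, ?_⟩
  · intro h
    apply hz'1
    rw [← hs, QuotientGroup.eq_one_iff]
    exact Subgroup.mem_subgroupOf.mpr h
  · have h1 : ((s ^ 2 : ↥S) : ↥S ⧸ D.subgroupOf S) = 1 := by
      rw [QuotientGroup.mk_pow, hs, hz'2]
    rw [QuotientGroup.eq_one_iff] at h1
    have := Subgroup.mem_subgroupOf.mp h1
    simpa using this
  · intro t ht
    have h1 : ((s * ⟨t, ht⟩ * s⁻¹ * (⟨t, ht⟩ : ↥S)⁻¹ : ↥S) : ↥S ⧸ D.subgroupOf S) = 1 := by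
      rw [QuotientGroup.mk_mul, QuotientGroup.mk_mul, QuotientGroup.mk_mul, QuotientGroup.mk_inv,
        QuotientGroup.mk_inv, hs]
      have hc := Subgroup.mem_center_iff.mp hz'c ((⟨t, ht⟩ : ↥S) : ↥S ⧸ D.subgroupOf S)
      rw [← hc]
      group
    rw [QuotientGroup.eq_one_iff] at h1
    have := Subgroup.mem_subgroupOf.mp h1
    simpa using this

/-- **(M0B)** -/
theorem m0b : M0BStmt.{u} := by
  intro hG G _ _ V K S E hVn hKn hVK hVmem hVcen hK2 hS2 hSV hEodd hES htrans hfix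
  classical
  have : Fact (Nat.Prime 2) := ⟨Nat.prime_two⟩
  intro s0 hs0 k0 hk0
  by_contra hcon
  set D := Dsub V K hVn hKn with hDdef
  have hDn : D.Normal := Dsub_normal V K hVn hKn
  have hSD : ¬ S ≤ D := by
    intro h
    exact hcon (h hs0 k0 hk0)
  obtain ⟨s, hsS, hsD, hs2, hsc⟩ := exists_central_invol hS2 hDn hSD
  -- the set T
  set T : Set G := {t | t ∈ S ∧ t ^ 2 ∈ D ∧ ∀ t' ∈ S, t * t' * t⁻¹ * t'⁻¹ ∈ D} with hT
  have hsT : s ∈ T := ⟨hsS, hs2, hsc⟩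
  have hTE : ∀ e ∈ E, ∀ t ∈ T, e * t * e⁻¹ ∈ T := by
    rintro e he t ⟨htS, ht2, htc⟩
    refine ⟨hES e he t htS, ?_, ?_⟩
    · have e1 : (e * t * e⁻¹) ^ 2 = e * t ^ 2 * e⁻¹ := by
        rw [pow_two, pow_two]; group
      rw [e1]
      exact hDn.conj_mem _ ht2 e
    · intro t' ht'
      have h1 : e⁻¹ * t' * e⁻¹⁻¹ ∈ S := hES e⁻¹ (E.inv_mem he) t' ht'
      have h2 := hDn.conj_mem _ (htc _ h1) e
      have e2 : e * t * e⁻¹ * t' * (e * t * e⁻¹)⁻¹ * t'⁻¹ =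
          e * (t * (e⁻¹ * t' * e⁻¹⁻¹) * t⁻¹ * (e⁻¹ * t' * e⁻¹⁻¹)⁻¹) * e⁻¹ := by group
      rw [e2]; exact h2
  have hcore := hG G V K E T hVn hKn hVK hVmem hVcen hK2
    (fun t ht v hv => hSV t ht.1 v hv) hTE htrans
    (fun t ht => ht.2.1) (fun t ht t' ht' => ht.2.2 t' ht'.1)
  -- E fixes the coset of s
  have hfixs : ∀ e ∈ E, e * s * e⁻¹ * s⁻¹ ∈ (S ⊓ D : Subgroup G) := by
    intro e he
    have h1 : e * s * e⁻¹ ∈ T := hTE e he s hsT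
    have h2 : ¬ TrivOn V K (e * s * e⁻¹) := by
      intro h
      apply hsD
      have h3 : e⁻¹ * (e * s * e⁻¹) * e⁻¹⁻¹ ∈ D := hDn.conj_mem _ h e⁻¹
      have e3 : e⁻¹ * (e * s * e⁻¹) * e⁻¹⁻¹ = s := by group
      rwa [e3] at h3
    have h4 : s⁻¹ * (e * s * e⁻¹) ∈ D := hcore s hsT _ h1 hsD h2
    have h5 : s * (s⁻¹ * (e * s * e⁻¹)) * s⁻¹ ∈ D := hDn.conj_mem _ h4 s
    have e5 : s * (s⁻¹ * (e * s * e⁻¹)) * s⁻¹ = e * s * e⁻¹ * s⁻¹ := by group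
    rw [e5] at h5
    exact ⟨S.mul_mem (hES e he s hsS) (S.inv_mem hsS), h5⟩
  -- coprime action
  have hcop : Cfsg.Agent.Lib.H1.CoprimeAction E S := by
    refine ⟨le_normalizer_of_conj hES, ?_, Or.inr ?_⟩
    · obtain ⟨n, hn⟩ := (IsPGroup.iff_card.mp hS2)
      rw [hn]
      exact Nat.Coprime.pow_right n (Nat.coprime_two_right.mpr hEodd)
    · have : Group.IsNilpotent ↥S := hS2.isNilpotent
      infer_instance
  obtain ⟨c, ⟨hcS, hcC⟩, hc⟩ := Cfsg.Agent.Lib.H1.coprime_centralizer_quotient hcop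
    (N := S ⊓ D) inf_le_left (le_normalizer_inf hDn (fun a ha t ht => S.mul_mem (S.mul_mem ha ht) (S.inv_mem ha)))
    (le_normalizer_inf hDn hES) hsS hfixs
  have hc1 : c = 1 := by
    apply hfix c hcS
    intro e he
    have := Subgroup.mem_centralizer_iff.mp hcC e he
    -- this : e * c = c * e
    rw [this]; group
  rw [hc1, mul_one] at hc
  exact hsD (by simpa using D.inv_mem hc.2)

end Cfsg.Agent.H7.S3797M0B

example : Cfsg.Agent.Lib.H25.S3797ML.M0BStmt.{0} := Cfsg.Agent.H7.S3797M0B.m0b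
example : Cfsg.Agent.Lib.H25.S3797ML.M0BStmt.{3} := Cfsg.Agent.H7.S3797M0B.m0b
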