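import Cfsg.Agent.Lib.H19.S3797Defs

/-!
# S3797, piece SER (the `G`-invariant series of the critical subgroup `K`) — helper7
-/

namespace Cfsg.Agent.H7.S3797Ser

open Cfsg.Agent.Lib.H19.S3797

universe u

variable {G : Type u} [Group G]

/-! ### pure group identities -/

theorem comm_sq_eq_one (x y : G) (h1 : Commute (x * y * x⁻¹ * y⁻¹) (x * y * x⁻¹))
    (h2 : Commute x (y ^ 2)) : (x * y * x⁻¹ * y⁻¹) ^ 2 = 1 := by
  calc (x * y * x⁻¹ * y⁻¹) ^ 2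
      = (x * y * x⁻¹ * y⁻¹) * (x * y * x⁻¹) * y⁻¹ := by rw [pow_two]; group
    _ = (x * y * x⁻¹) * (x * y * x⁻¹ * y⁻¹) * y⁻¹ := by rw [h1.eq]
    _ = (x * y ^ 2) * x⁻¹ * (y ^ 2)⁻¹ := by simp only [pow_two]; group
    _ = (y ^ 2 * x) * x⁻¹ * (y ^ 2)⁻¹ := by rw [h2.eq]
    _ = 1 := by group

theorem mul_sq (a b : G) : (a * b) ^ 2 = a ^ 2 * (a⁻¹ * b * a * b⁻¹) * b ^ 2 := by
  simp only [pow_two]; group

theorem pow_two_pow_succ (x : G) (j : ℕ) : x ^ (2 ^ (j + 1)) = (x ^ 2) ^ (2 ^ j) := by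
  rw [pow_succ', pow_mul]

/-! ### the centre of `K` inside `G` -/

/-- `Z(K)` as a subgroup of `G` -/
def ZK (K : Subgroup G) : Subgroup G where
  carrier := {z | z ∈ K ∧ ∀ c ∈ K, z * c = c * z}
  one_mem' := ⟨K.one_mem, fun c _ => by simp⟩
  mul_mem' := by
    rintro a b ⟨ha, ha'⟩ ⟨hb, hb'⟩
    refine ⟨K.mul_mem ha hb, fun c hc => ?_⟩
    rw [mul_assoc, hb' c hc, ← mul_assoc, ha' c hc, mul_assoc]
  inv_mem' := by
    rintro a ⟨ha, ha'⟩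
    refine ⟨K.inv_mem ha, fun c hc => ?_⟩
    have h := ha' c hc
    calc a⁻¹ * c = a⁻¹ * (c * a) * a⁻¹ := by group
      _ = a⁻¹ * (a * c) * a⁻¹ := by rw [h]
      _ = c * a⁻¹ := by group

theorem mem_ZK {K : Subgroup G} {z : G} : z ∈ ZK K ↔ z ∈ K ∧ ∀ c ∈ K, z * c = c * z := Iff.rfl

theorem ZK_le (K : Subgroup G) : ZK K ≤ K := fun _ h => h.1

theorem ZK_comm {K : Subgroup G} {z c : G} (hz : z ∈ ZK K) (hc : c ∈ K) : Commute z c := hz.2 c hc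

theorem ZK_normal (K : Subgroup G) (hK : K.Normal) : (ZK K).Normal := by
  constructor
  rintro z ⟨hz, hz'⟩ g
  refine ⟨hK.conj_mem z hz g, fun c hc => ?_⟩
  have hc' : g⁻¹ * c * g ∈ K := by simpa using hK.conj_mem c hc g⁻¹
  have h := hz' _ hc'
  calc g * z * g⁻¹ * c = g * (z * (g⁻¹ * c * g)) * g⁻¹ := by group
    _ = g * ((g⁻¹ * c * g) * z) * g⁻¹ := by rw [h]
    _ = c * (g * z * g⁻¹) := by group

/-- `Ω_i(Z(K))` -/
def Om (K : Subgroup G) (i : ℕ) : Subgroup G where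
  carrier := {z | z ∈ ZK K ∧ z ^ (2 ^ i) = 1}
  one_mem' := ⟨(ZK K).one_mem, one_pow _⟩
  mul_mem' := by
    rintro a b ⟨ha, ha'⟩ ⟨hb, hb'⟩
    refine ⟨(ZK K).mul_mem ha hb, ?_⟩
    have hc : Commute a b := ZK_comm ha hb.1
    rw [hc.mul_pow, ha', hb', one_mul]
  inv_mem' := by
    rintro a ⟨ha, ha'⟩
    exact ⟨(ZK K).inv_mem ha, by rw [inv_pow, ha', inv_one]⟩

theorem mem_Om {K : Subgroup G} {i : ℕ} {z : G} : z ∈ Om K i ↔ z ∈ ZK K ∧ z ^ (2 ^ i) = 1 :=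
  Iff.rfl

theorem Om_normal (K : Subgroup G) (hK : K.Normal) (i : ℕ) : (Om K i).Normal := by
  constructor
  rintro z ⟨hz, hz'⟩ g
  refine ⟨(ZK_normal K hK).conj_mem z hz g, ?_⟩
  rw [conj_pow, hz', mul_one, mul_inv_cancel]

theorem Om_zero (K : Subgroup G) : Om K 0 = ⊥ := by
  ext z
  rw [mem_Om, Subgroup.mem_bot]
  constructor
  · rintro ⟨_, h⟩
    simpa using h
  · rintro rfl
    exact ⟨(ZK K).one_mem, one_pow _⟩

theorem Om_mono (K : Subgroup G) (i : ℕ) : Om K i ≤ Om K (i + 1) := by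
  rintro z ⟨hz, hz'⟩
  refine ⟨hz, ?_⟩
  rw [pow_succ, pow_mul, hz', one_pow]

/-- step (a): `[S, Ω_{i+1}(Z)] ≤ Ω_i(Z)` for `s` centralising all `v` with `v² = 1`. -/
theorem comm_mem_Om (K : Subgroup G) (hK : K.Normal) (s : G)
    (hs : ∀ v : G, v ^ 2 = 1 → s * v = v * s) (i : ℕ) (z : G) (hz : z ∈ Om K (i + 1)) :
    s * z * s⁻¹ * z⁻¹ ∈ Om K i := by
  obtain ⟨hzZ, hz'⟩ := hz
  have hz1 : s * z * s⁻¹ ∈ ZK K := (ZK_normal K hK).conj_mem z hzZ s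
  have hz2 : z⁻¹ ∈ ZK K := (ZK K).inv_mem hzZ
  refine ⟨(ZK K).mul_mem hz1 hz2, ?_⟩
  have hc : Commute (s * z * s⁻¹) z⁻¹ := ZK_comm hz1 hz2.1
  have hv : (z ^ (2 ^ i)) ^ 2 = 1 := by
    rw [← pow_mul, ← pow_succ]
    exact hz'
  have hsv := hs _ hv
  rw [hc.mul_pow, conj_pow, inv_pow, hsv]
  group

/-! ### the upper part of the series, case `V ≤ Z²` -/

/-- `Z · Ω_{j+1}(K)`-type subgroup: the `k ∈ K` with `(k z)^(2^(j+1)) = 1` for some `z ∈ Z(K)`. -/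
def Kj (K : Subgroup G) (hkey : ∀ a ∈ K, ∀ b ∈ K, ∃ zd ∈ ZK K, (a * b * zd) ^ 2 = a ^ 2 * b ^ 2)
    (hsq : ∀ k ∈ K, k ^ 2 ∈ ZK K) (j : ℕ) : Subgroup G where
  carrier := {k | k ∈ K ∧ ∃ z ∈ ZK K, (k * z) ^ (2 ^ (j + 1)) = 1}
  one_mem' := ⟨K.one_mem, 1, (ZK K).one_mem, by simp⟩
  mul_mem' := by
    rintro k k' ⟨hk, z, hz, hkz⟩ ⟨hk', z', hz', hkz'⟩
    refine ⟨K.mul_mem hk hk', ?_⟩
    have ht : k * z ∈ K := K.mul_mem hk hz.1
    have ht' : k' * z' ∈ K := K.mul_mem hk' hz'.1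
    obtain ⟨zd, hzd, hd⟩ := hkey _ ht _ ht'
    refine ⟨z * z' * zd, (ZK K).mul_mem ((ZK K).mul_mem hz hz') hzd, ?_⟩
    have e1 : k * k' * (z * z' * zd) = (k * z) * (k' * z') * zd := by
      have hzk' : z * k' = k' * z := hz.2 k' hk'
      calc k * k' * (z * z' * zd) = k * (k' * z) * z' * zd := by group
        _ = k * (z * k') * z' * zd := by rw [hzk']
        _ = (k * z) * (k' * z') * zd := by group
    have hc : Commute ((k * z) ^ 2) ((k' * z') ^ 2) := ZK_comm (hsq _ ht) (K.pow_mem ht' 2)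
    rw [e1, pow_two_pow_succ, hd, hc.mul_pow, ← pow_two_pow_succ, ← pow_two_pow_succ, hkz, hkz',
      one_mul]
  inv_mem' := by
    rintro k ⟨hk, z, hz, hkz⟩
    refine ⟨K.inv_mem hk, z⁻¹, (ZK K).inv_mem hz, ?_⟩
    have hzk : z * k = k * z := hz.2 k hk
    have e1 : k⁻¹ * z⁻¹ = (k * z)⁻¹ := by
      have h := congrArg (fun x => x⁻¹) hzk
      simpa [mul_inv_rev] using h
    rw [e1, inv_pow, hkz, inv_one]

theorem mem_Kj {K : Subgroup G} {hkey : ∀ a ∈ K, ∀ b ∈ K, ∃ zd ∈ ZK K, (a * b * zd) ^ 2 = a ^ 2 * b ^ 2}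
    {hsq : ∀ k ∈ K, k ^ 2 ∈ ZK K} {j : ℕ} {k : G} :
    k ∈ Kj K hkey hsq j ↔ k ∈ K ∧ ∃ z ∈ ZK K, (k * z) ^ (2 ^ (j + 1)) = 1 := Iff.rfl

theorem Kj_normal (K : Subgroup G) (hK : K.Normal)
    (hkey : ∀ a ∈ K, ∀ b ∈ K, ∃ zd ∈ ZK K, (a * b * zd) ^ 2 = a ^ 2 * b ^ 2)
    (hsq : ∀ k ∈ K, k ^ 2 ∈ ZK K) (j : ℕ) : (Kj K hkey hsq j).Normal := by
  constructor
  rintro k ⟨hk, z, hz, hkz⟩ g
  refine ⟨hK.conj_mem k hk g, g * z * g⁻¹, (ZK_normal K hK).conj_mem z hz g, ?_⟩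
  have e1 : g * k * g⁻¹ * (g * z * g⁻¹) = g * (k * z) * g⁻¹ := by group
  rw [e1, conj_pow, hkz, mul_one, mul_inv_cancel]

theorem ZK_le_Kj (K : Subgroup G)
    (hkey : ∀ a ∈ K, ∀ b ∈ K, ∃ zd ∈ ZK K, (a * b * zd) ^ 2 = a ^ 2 * b ^ 2)
    (hsq : ∀ k ∈ K, k ^ 2 ∈ ZK K) (j : ℕ) : ZK K ≤ Kj K hkey hsq j := by
  intro z hz
  exact ⟨hz.1, z⁻¹, (ZK K).inv_mem hz, by simp⟩

theorem Kj_mono (K : Subgroup G)
    (hkey : ∀ a ∈ K, ∀ b ∈ K, ∃ zd ∈ ZK K, (a * b * zd) ^ 2 = a ^ 2 * b ^ 2)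
    (hsq : ∀ k ∈ K, k ^ 2 ∈ ZK K) (j : ℕ) : Kj K hkey hsq j ≤ Kj K hkey hsq (j + 1) := by
  rintro k ⟨hk, z, hz, hkz⟩
  refine ⟨hk, z, hz, ?_⟩
  rw [pow_succ, pow_mul, hkz, one_pow]

/-- step (b'): `[S, K_{j+1}] ≤ K_j`. -/
theorem comm_mem_Kj (K : Subgroup G) (hK : K.Normal)
    (hkey : ∀ a ∈ K, ∀ b ∈ K, ∃ zd ∈ ZK K, (a * b * zd) ^ 2 = a ^ 2 * b ^ 2)
    (hsq : ∀ k ∈ K, k ^ 2 ∈ ZK K) (s : G) (hs : ∀ v : G, v ^ 2 = 1 → s * v = v * s)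
    (j : ℕ) (k : G) (hk : k ∈ Kj K hkey hsq (j + 1)) :
    s * k * s⁻¹ * k⁻¹ ∈ Kj K hkey hsq j := by
  obtain ⟨hkK, z, hz, hkz⟩ := hk
  have hcK : s * k * s⁻¹ * k⁻¹ ∈ K := K.mul_mem (hK.conj_mem k hkK s) (K.inv_mem hkK)
  refine ⟨hcK, ?_⟩
  have ht : k * z ∈ K := K.mul_mem hkK hz.1
  have ht' : s * (k * z) * s⁻¹ ∈ K := hK.conj_mem _ ht s
  have htinv : (k * z)⁻¹ ∈ K := K.inv_mem ht
  obtain ⟨zd, hzd, hd⟩ := hkey _ ht' _ htinv
  -- ζ := (s z⁻¹ s⁻¹) z ∈ Z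
  have hzeta1 : s * z⁻¹ * s⁻¹ ∈ ZK K := (ZK_normal K hK).conj_mem _ ((ZK K).inv_mem hz) s
  have hzeta : s * z⁻¹ * s⁻¹ * z ∈ ZK K := (ZK K).mul_mem hzeta1 hz
  refine ⟨(s * z⁻¹ * s⁻¹ * z)⁻¹ * zd, (ZK K).mul_mem ((ZK K).inv_mem hzeta) hzd, ?_⟩
  -- c = t' t⁻¹ ζ
  have e0 : s * k * s⁻¹ * k⁻¹ = s * (k * z) * s⁻¹ * (k * z)⁻¹ * (s * z⁻¹ * s⁻¹ * z) := by
    have h1 : (s * z⁻¹ * s⁻¹ * z) * (k * z)⁻¹ = (k * z)⁻¹ * (s * z⁻¹ * s⁻¹ * z) :=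
      hzeta.2 _ htinv
    calc s * k * s⁻¹ * k⁻¹
        = s * (k * z) * s⁻¹ * ((s * z⁻¹ * s⁻¹ * z) * (k * z)⁻¹) := by group
      _ = s * (k * z) * s⁻¹ * ((k * z)⁻¹ * (s * z⁻¹ * s⁻¹ * z)) := by rw [h1]
      _ = s * (k * z) * s⁻¹ * (k * z)⁻¹ * (s * z⁻¹ * s⁻¹ * z) := by group
  have e1 : s * k * s⁻¹ * k⁻¹ * ((s * z⁻¹ * s⁻¹ * z)⁻¹ * zd)
      = s * (k * z) * s⁻¹ * (k * z)⁻¹ * zd := by
    rw [e0]
    group
  have hc : Commute ((s * (k * z) * s⁻¹) ^ 2) (((k * z)⁻¹) ^ 2) :=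
    ZK_comm (hsq _ ht') (K.pow_mem htinv 2)
  have hv : ((k * z) ^ (2 ^ (j + 1))) ^ 2 = 1 := by
    rw [← pow_mul, ← pow_succ]
    exact hkz
  have hsv := hs _ hv
  rw [e1, pow_two_pow_succ, hd, hc.mul_pow, ← pow_two_pow_succ, ← pow_two_pow_succ, conj_pow,
    inv_pow, hsv]
  group

theorem Kj_zero_le (K : Subgroup G)
    (hkey : ∀ a ∈ K, ∀ b ∈ K, ∃ zd ∈ ZK K, (a * b * zd) ^ 2 = a ^ 2 * b ^ 2)
    (hsq : ∀ k ∈ K, k ^ 2 ∈ ZK K) (hVZ : ∀ x : G, x ^ 2 = 1 → x ∈ K → x ∈ ZK K) :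
    Kj K hkey hsq 0 ≤ ZK K := by
  rintro k ⟨hk, z, hz, hkz⟩
  have h1 : (k * z) ^ 2 = 1 := by simpa using hkz
  have h2 : k * z ∈ ZK K := hVZ _ h1 (K.mul_mem hk hz.1)
  have : k = (k * z) * z⁻¹ := by group
  rw [this]
  exact (ZK K).mul_mem h2 ((ZK K).inv_mem hz)

/-! ### small helpers -/

theorem aux_cancel (A d B : G) (h : d * B = B * d) : A * d * B * d⁻¹ = A * B := by
  calc A * d * B * d⁻¹ = A * (d * B) * d⁻¹ := by group
    _ = A * (B * d) * d⁻¹ := by rw [h]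
    _ = A * B := by group

theorem comm_eq_one_of_comm (s k : G) (h : s * k = k * s) : s * k * s⁻¹ * k⁻¹ = 1 := by
  rw [h]
  group

/-- an element of order 4 in `Z(K)` if `Z(K)` is not of exponent 2 -/
theorem exists_order_four (K : Subgroup G) :
    ∀ (e : ℕ) (z : G), z ∈ ZK K → z ^ (2 ^ e) = 1 → z ^ 2 ≠ 1 →
      ∃ w ∈ ZK K, w ^ 2 ≠ 1 ∧ (w ^ 2) ^ 2 = 1 := by
  intro e
  induction e with
  | zero =>
    intro z _ hz1 hz2
    exfalso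
    apply hz2
    have : z = 1 := by simpa using hz1
    rw [this, one_pow]
  | succ e ih =>
    intro z hz hz1 hz2
    by_cases h4 : (z ^ 2) ^ 2 = 1
    · exact ⟨z, hz, hz2, h4⟩
    · have hz1' : (z ^ 2) ^ (2 ^ e) = 1 := by
        rw [← pow_two_pow_succ]
        exact hz1
      exact ih (z ^ 2) ((ZK K).pow_mem hz 2) hz1' h4

/-- **SER** -/
theorem ser : SerStmt.{u} := by
  intro G _ _ Q V K hF hC S hSV hML
  have hKn : K.Normal := hC.Kn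
  have hVK : V ≤ K := fun v hv =>
    hC.selfc v (hF.VQ hv) (fun k hk => (hF.Vcen v hv k (hC.KQ hk)).symm)
  have hVZ : ∀ v ∈ V, v ∈ ZK K := fun v hv =>
    ⟨hVK hv, fun c hc => (hF.Vcen v hv c (hC.KQ hc)).symm⟩
  have hsq : ∀ k ∈ K, k ^ 2 ∈ ZK K := fun k hk =>
    ⟨K.pow_mem hk 2, fun c hc => hC.sqc k hk c hc⟩
  have hs : ∀ s ∈ S, ∀ v : G, v ^ 2 = 1 → s * v = v * s := fun s hsS v hv =>
    hSV s hsS v ((hF.Vmem v).2 hv)
  have hcomV : ∀ a ∈ K, ∀ b ∈ K, a⁻¹ * b * a * b⁻¹ ∈ V := by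
    intro a ha b hb
    rw [hF.Vmem]
    have hai : a⁻¹ ∈ K := K.inv_mem ha
    have h := comm_sq_eq_one a⁻¹ b
      (hC.comc a⁻¹ hai b hb _ (K.mul_mem (K.mul_mem hai hb) (K.inv_mem hai)))
      ((hC.sqc b hb a⁻¹ hai).symm)
    simpa using h
  -- a uniform exponent
  obtain ⟨e, he1, hexp⟩ : ∃ e : ℕ, 1 ≤ e ∧ ∀ k ∈ K, k ^ (2 ^ e) = 1 := by
    obtain ⟨n, hn⟩ := IsPGroup.iff_card.mp hF.Q2
    refine ⟨n + 1, Nat.le_add_left 1 n, fun k hk => ?_⟩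
    have h1 : (⟨k, hC.KQ hk⟩ : Q) ^ (Nat.card Q) = 1 := pow_card_eq_one'
    have h2 : k ^ (2 ^ n) = 1 := by
      have := congrArg (fun x : Q => (x : G)) h1
      simpa [hn] using this
    rw [pow_succ, pow_mul, h2, one_pow]
  by_cases hI : ∀ v ∈ V, ∃ z ∈ ZK K, z ^ 2 = v
  · -- case (I): `V ≤ Z²`
    have hkey : ∀ a ∈ K, ∀ b ∈ K, ∃ zd ∈ ZK K, (a * b * zd) ^ 2 = a ^ 2 * b ^ 2 := by
      intro a ha b hb
      have hdV := hcomV a ha b hb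
      obtain ⟨z0, hz0, hz0d⟩ := hI _ hdV
      refine ⟨z0⁻¹, (ZK K).inv_mem hz0, ?_⟩
      have hc : Commute (a * b) z0⁻¹ :=
        (ZK_comm ((ZK K).inv_mem hz0) (K.mul_mem ha hb)).symm
      have hdb : (a⁻¹ * b * a * b⁻¹) * b ^ 2 = b ^ 2 * (a⁻¹ * b * a * b⁻¹) :=
        (hVZ _ hdV).2 (b ^ 2) (K.pow_mem hb 2)
      rw [hc.mul_pow, mul_sq, inv_pow, hz0d]
      exact aux_cancel _ _ _ hdb
    have hKj0 : Kj K hkey hsq 0 ≤ ZK K :=
      Kj_zero_le K hkey hsq (fun x hx _ => hVZ x ((hF.Vmem x).2 hx))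
    have hKje : ∀ j, e ≤ j → Kj K hkey hsq j = K := by
      intro j hj
      apply le_antisymm
      · exact fun k hk => hk.1
      · intro k hk
        refine ⟨hk, 1, (ZK K).one_mem, ?_⟩
        obtain ⟨m, hm⟩ : ∃ m, j + 1 = e + m := ⟨j + 1 - e, by omega⟩
        rw [mul_one, hm, pow_add, pow_mul, hexp k hk, one_pow]
    refine ⟨2 * e, fun i => if i ≤ e then Om K i else Kj K hkey hsq (i - e), ?_, ?_, ?_, ?_, ?_⟩
    · -- `L 0 = ⊥`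
      dsimp only
      rw [if_pos (Nat.zero_le e)]
      exact Om_zero K
    · -- `L (2e) = K`
      dsimp only
      have h : ¬ (2 * e ≤ e) := by omega
      rw [if_neg h]
      have h2 : 2 * e - e = e := by omega
      rw [h2]
      exact hKje e le_rfl
    · intro i
      dsimp only
      by_cases h0 : i ≤ e
      · rw [if_pos h0]
        exact Om_normal K hKn i
      · rw [if_neg h0]
        exact Kj_normal K hKn hkey hsq _
    · intro i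
      dsimp only
      by_cases h1 : i + 1 ≤ e
      · have h0 : i ≤ e := by omega
        rw [if_pos h0, if_pos h1]
        exact Om_mono K i
      · by_cases h0 : i ≤ e
        · rw [if_pos h0, if_neg h1]
          exact fun z hz => ZK_le_Kj K hkey hsq _ hz.1
        · rw [if_neg h0, if_neg h1]
          have h2 : i + 1 - e = (i - e) + 1 := by omega
          rw [h2]
          exact Kj_mono K hkey hsq _
    · intro s hsS i hi k hk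
      dsimp only at hk ⊢
      by_cases h1 : i + 1 ≤ e
      · have h0 : i ≤ e := by omega
        rw [if_pos h1] at hk
        rw [if_pos h0]
        exact comm_mem_Om K hKn s (hs s hsS) i k hk
      · rw [if_neg h1] at hk
        have hj : i + 1 - e = (i - e) + 1 := by omega
        rw [hj] at hk
        have hc := comm_mem_Kj K hKn hkey hsq s (hs s hsS) (i - e) k hk
        by_cases h0 : i ≤ e
        · rw [if_pos h0]
          have h00 : i - e = 0 := by omega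
          rw [h00] at hc
          have hcZ := hKj0 hc
          have hie : i = e := by omega
          refine ⟨hcZ, ?_⟩
          rw [hie]
          exact hexp _ hcZ.1
        · rw [if_neg h0]
          exact hc
  · -- case (II): `Z(K)` has exponent 2, use the main lemma
    have hZ2 : ∀ z ∈ ZK K, z ^ 2 = 1 := by
      intro z hz
      by_contra hne
      obtain ⟨w, hw, hw2, hw4⟩ := exists_order_four K e z hz (hexp z hz.1) hne
      apply hI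
      intro v hv
      by_cases hv1 : v = 1
      · exact ⟨1, (ZK K).one_mem, by rw [hv1, one_pow]⟩
      · have hwV : w ^ 2 ∈ V := (hF.Vmem _).2 hw4
        obtain ⟨g, hg⟩ := hF.trans (w ^ 2) v hwV hv hw2 hv1
        refine ⟨g * w * g⁻¹, (ZK_normal K hKn).conj_mem w hw g, ?_⟩
        rw [conj_pow, hg]
    have hK2 : ∀ k ∈ K, k ^ 2 ∈ V := fun k hk => (hF.Vmem _).2 (hZ2 _ (hsq k hk))
    have hml := hML K hKn hVK le_rfl hK2
    refine ⟨2, fun i => match i with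
      | 0 => ⊥
      | 1 => V
      | _ => K, rfl, rfl, ?_, ?_, ?_⟩
    · intro i
      rcases i with _ | _ | i
      · exact inferInstanceAs ((⊥ : Subgroup G).Normal)
      · exact hF.Vn
      · exact hKn
    · intro i
      rcases i with _ | _ | i
      · exact bot_le
      · exact hVK
      · exact le_rfl
    · intro s hsS i hi k hk
      rcases i with _ | _ | i
      · have h1 : s * k * s⁻¹ * k⁻¹ = 1 := comm_eq_one_of_comm s k (hSV s hsS k hk)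
        rw [h1]
        exact Subgroup.one_mem _
      · exact hml s hsS k hk
      · omega

end Cfsg.Agent.H7.S3797Ser
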