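import Cfsg.Agent.Lib.H15.S3814C2Defs
import Cfsg.Agent.Lib.H16.S3814AutCyc
import Cfsg.Agent.Lib.H24.S3814F2E

/-!
# S3814, Case 2', piece (12) EData (helper7)

From `Rank2 K a`: `E = ⟨e₁, e₂⟩ = C_a × C_a`; `E` acts on `⟨mc⟩` through a cyclic group, so some `u1 ∈ E` of order `a`
centralises `mc`; some `u2 ∈ E` of order `a` centralises `mb` and then cannot centralise `mc` (`u2 mb mc` would have
order `abc`); so `E ⊓ C(mc)` is a proper subgroup containing `⟨u1⟩`, hence equal to it.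
-/

namespace Cfsg.Agent.H7.S3814C2EData

open Cfsg.Agent.H7.S3814Defs Cfsg.Agent.H15.S3814C2

universe u

theorem eData : EDataStmt.{u} := by
  intro G _ σ p V K hctx a b c mb mc hT
  have hfin := hctx.cex.fin
  have haP : a.Prime := hctx.cex.prime a hT.ha.1
  have hbP : b.Prime := hctx.cex.prime b hT.hb.1
  have hcP : c.Prime := hctx.cex.prime c hT.hc.1
  obtain ⟨e₁, he₁K, e₂, he₂K, ho₁, ho₂, hcomm, hnot⟩ := hctx.facts.f2 a hT.ha.1 hT.ha.2
  have hc21 : Commute e₂ e₁ := hcomm.symm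
  obtain ⟨E, hEe, hEcard, hEnc, h2E, h1E, hEform⟩ :=
    Cfsg.Agent.Lib.H24.S3814F2E.exists_subgroup haP e₂ e₁ ho₂ ho₁ hc21 hnot
  have hEK : E ≤ K := by
    intro e he
    obtain ⟨i, j, rfl⟩ := hEform e he
    exact K.mul_mem (K.pow_mem he₂K i) (K.pow_mem he₁K j)
  have hEcomm : ∀ x ∈ E, ∀ y ∈ E, x * y = y * x := by
    intro x hx y hy
    have := (hEe.1).is_comm.comm ⟨x, hx⟩ ⟨y, hy⟩
    exact congrArg Subtype.val this
  -- normalising `⟨mc⟩`, `⟨mb⟩`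
  obtain ⟨-, hmcK, hmco, hmcn⟩ := hT.npc
  obtain ⟨-, hmbK, hmbo, hmbn⟩ := hT.npb
  have nc : ∀ x ∈ K, x * mc * x⁻¹ ∈ Subgroup.zpowers mc := by
    intro x hx
    have := hmcn x⁻¹ (K.inv_mem hx)
    simpa using this
  have nb : ∀ x ∈ K, x * mb * x⁻¹ ∈ Subgroup.zpowers mb := by
    intro x hx
    have := hmbn x⁻¹ (K.inv_mem hx)
    simpa using this
  obtain ⟨u1, ⟨s1, k1, hu1⟩, hu1o, hu1c⟩ :=
    Cfsg.Agent.Lib.H16.S3814AutCyc.exists_orderOf_eq_commute haP hcP mc e₂ e₁ hmco ho₂ ho₁ hc21 hnot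
      (nc e₂ he₂K) (nc e₁ he₁K)
  obtain ⟨u2, ⟨s2, k2, hu2⟩, hu2o, hu2c⟩ :=
    Cfsg.Agent.Lib.H16.S3814AutCyc.exists_orderOf_eq_commute haP hbP mb e₂ e₁ hmbo ho₂ ho₁ hc21 hnot
      (nb e₂ he₂K) (nb e₁ he₁K)
  have hu1E : u1 ∈ E := by
    rw [hu1]; exact E.mul_mem (E.pow_mem h2E s1) (E.pow_mem h1E k1)
  have hu2E : u2 ∈ E := by
    rw [hu2]; exact E.mul_mem (E.pow_mem h2E s2) (E.pow_mem h1E k2)
  -- `u2` does not centralise `mc`
  have hu2nc : ¬ Commute u2 mc := by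
    intro h
    -- `u2 * (mb * mc)` has order `a * (b * c)`
    have hbc : Commute mb mc := hT.comm
    have hobc : orderOf (mb * mc) = b * c := by
      rw [hbc.orderOf_mul_eq_mul_orderOf_of_coprime (by
        rw [hmbo, hmco]; exact (Nat.coprime_primes hbP hcP).2 hT.hbc), hmbo, hmco]
    have hu2bc : Commute u2 (mb * mc) := hu2c.mul_right h
    have ho : orderOf (u2 * (mb * mc)) = a * (b * c) := by
      rw [hu2bc.orderOf_mul_eq_mul_orderOf_of_coprime (by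
        rw [hu2o, hobc]
        exact Nat.Coprime.mul_right ((Nat.coprime_primes haP hbP).2 hT.hab)
          ((Nat.coprime_primes haP hcP).2 hT.hac)), hu2o, hobc]
    exact hctx.cex.notriple a hT.ha.1 b hT.hb.1 c hT.hc.1 hT.hab hT.hbc hT.hac _
      (by rw [ho, mul_assoc])
  refine ⟨E, u1, hEK, hEcomm, hEnc, hEcard, hu1E, hu1o, hu1c, ?_⟩
  -- the centraliser of `mc` in `E`
  set C : Subgroup G := E ⊓ Subgroup.centralizer {mc} with hC
  have hmemC : ∀ e, e ∈ C ↔ e ∈ E ∧ Commute e mc := by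
    intro e
    rw [hC, Subgroup.mem_inf, Subgroup.mem_centralizer_iff]
    constructor
    · rintro ⟨h1, h2⟩
      exact ⟨h1, (h2 mc (Set.mem_singleton mc)).symm⟩
    · rintro ⟨h1, h2⟩
      refine ⟨h1, ?_⟩
      intro x hx
      rw [Set.mem_singleton_iff] at hx
      subst hx
      exact h2.symm
  have hCE : C ≤ E := inf_le_left
  have hzC : Subgroup.zpowers u1 ≤ C := by
    rw [Subgroup.zpowers_le]
    exact (hmemC u1).2 ⟨hu1E, hu1c⟩
  have hcz : Nat.card (Subgroup.zpowers u1) = a := by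
    rw [Nat.card_zpowers, hu1o]
  have hdvd : Nat.card C ∣ a ^ 2 := hEcard ▸ Subgroup.card_dvd_of_le hCE
  obtain ⟨m, hm2, hm⟩ := (Nat.dvd_prime_pow haP).1 hdvd
  have hadvd : a ∣ Nat.card C := hcz ▸ Subgroup.card_dvd_of_le hzC
  have hm_ne2 : m ≠ 2 := by
    intro h2
    rw [h2] at hm
    have : C = E := Subgroup.eq_of_le_of_card_ge hCE (by rw [hm, hEcard])
    have hu2C : u2 ∈ C := this ▸ hu2E
    exact hu2nc ((hmemC u2).1 hu2C).2
  have hm_ne0 : m ≠ 0 := by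
    intro h0
    rw [h0, pow_zero] at hm
    rw [hm] at hadvd
    exact haP.one_lt.ne' (Nat.dvd_one.1 hadvd)
  have hm1 : m = 1 := by omega
  rw [hm1, pow_one] at hm
  have hEq : Subgroup.zpowers u1 = C := Subgroup.eq_of_le_of_card_ge hzC (by rw [hm, hcz])
  intro e heE hec
  rw [hEq]
  exact (hmemC e).2 ⟨heE, hec⟩

example : EDataStmt.{0} := eData

end Cfsg.Agent.H7.S3814C2EData
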