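import Cfsg.Agent.Lib.H7.S3814Defs2
import Cfsg.Agent.Lib.H4.S3814F2

/-! # S3814 piece F2 : bridge from helper4's `f2` to `F2Stmt` (helper7) -/

namespace Cfsg.Agent.H7.S3814F2

open Cfsg.Agent.H7.S3814Defs

universe u

theorem f2 : F2Stmt.{u} := by
  intro G _ σ hG t ht
  have := hG.fin
  have := hG.sol
  obtain ⟨x, y, hx, hy, hc, hn⟩ :=
    Cfsg.Agent.Lib.H4.S3814F2.f2 (G := G) σ (by rw [hG.card4]) hG.prime hG.pairs hG.notriple t ht
  exact ⟨x, Subgroup.mem_top x, y, Subgroup.mem_top y, hx, hy, hc.eq, hn⟩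

example : F2Stmt.{0} := f2

end Cfsg.Agent.H7.S3814F2
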