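import Mathlib

/-!
# S4415 (B7), generic part: an automorphism of an extraspecial-like 2-group that is trivial
modulo the centre `⟨z⟩` is inner; consequence `T = X * C_T(X)`.

Pure group theory (Mathlib only).  helper7.
-/

namespace Cfsg.Agent.Lib.H7.S4415B7

section core

variable {X : Type*} [Group X]

/-- the commutation sign -/
noncomputable def csign (y x : X) : ℤˣ := by
  classical exact if y * x = x * y then 1 else -1

theorem csign_comm (y x : X) : csign y x = csign x y := by
  classical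
  unfold csign
  by_cases h : y * x = x * y
  · rw [if_pos h, if_pos h.symm]
  · rw [if_neg h, if_neg (fun h' => h h'.symm)]

theorem z_central (z : X) (hcomm : ∀ x y : X, x * y = y * x ∨ x * y = z * y * x) (y : X) :
    z * y = y * z := by
  rcases hcomm z y with h | h
  · exact h
  · have : z = 1 := by
      have h2 : z * y = z * y * z := h
      have h3 : z * y * 1 = z * y * z := by rw [mul_one]; exact h2
      exact (mul_left_cancel h3).symm
    rw [this]; simp

theorem csign_mul_right (z : X) (hz2 : z * z = 1)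
    (hcomm : ∀ x y : X, x * y = y * x ∨ x * y = z * y * x) (y x x' : X) :
    csign y (x * x') = csign y x * csign y x' := by
  classical
  have hzc := z_central z hcomm
  unfold csign
  by_cases h1 : y * x = x * y <;> by_cases h2 : y * x' = x' * y
  · have : y * (x * x') = x * x' * y := by
      rw [← mul_assoc, h1, mul_assoc, h2, mul_assoc]
    rw [if_pos h1, if_pos h2, if_pos this]; simp
  · have e2 : y * x' = z * x' * y := (hcomm y x').resolve_left h2
    have hne : ¬ (y * (x * x') = x * x' * y) := by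
      intro h
      apply h2
      have : x * (y * x') = x * (x' * y) := by
        rw [← mul_assoc, ← h1, mul_assoc, h, mul_assoc]
      exact mul_left_cancel this
    rw [if_pos h1, if_neg h2, if_neg hne]; simp
  · have hne : ¬ (y * (x * x') = x * x' * y) := by
      intro h
      apply h1
      have : y * x * x' = x * y * x' := by
        rw [mul_assoc, h, mul_assoc, ← h2, mul_assoc]
      exact mul_right_cancel this
    rw [if_neg h1, if_pos h2, if_neg hne]; simp
  · have e1 : y * x = z * x * y := (hcomm y x).resolve_left h1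
    have e2 : y * x' = z * x' * y := (hcomm y x').resolve_left h2
    have : y * (x * x') = x * x' * y := by
      calc y * (x * x') = (y * x) * x' := by rw [mul_assoc]
        _ = z * x * y * x' := by rw [e1]
        _ = z * x * (y * x') := by rw [mul_assoc]
        _ = z * x * (z * x' * y) := by rw [e2]
        _ = z * (x * z) * (x' * y) := by simp only [mul_assoc]
        _ = z * (z * x) * (x' * y) := by rw [hzc x]
        _ = (z * z) * x * (x' * y) := by simp only [mul_assoc]
        _ = x * x' * y := by rw [hz2, one_mul, mul_assoc]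
    rw [if_neg h1, if_neg h2, if_pos this]; simp

theorem csign_mul_left (z : X) (hz2 : z * z = 1)
    (hcomm : ∀ x y : X, x * y = y * x ∨ x * y = z * y * x) (y y' x : X) :
    csign (y * y') x = csign y x * csign y' x := by
  rw [csign_comm, csign_mul_right z hz2 hcomm, csign_comm x y, csign_comm x y']

theorem csign_eq_one_iff (y x : X) : csign y x = 1 ↔ y * x = x * y := by
  classical
  unfold csign
  by_cases h : y * x = x * y
  · rw [if_pos h]; simp [h]
  · rw [if_neg h]
    constructor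
    · intro h'; exact absurd h' (by decide)
    · intro h'; exact absurd h' h

/-- **Duality for an extraspecial-like group**: every `ζ : X →* ℤˣ` killing `z` is the
commutation sign of some `y`. -/
theorem exists_csign_eq [Finite X] (z : X) (hz2 : z * z = 1)
    (hcomm : ∀ x y : X, x * y = y * x ∨ x * y = z * y * x)
    (hsq : ∀ x : X, x * x = 1 ∨ x * x = z)
    (hcen : ∀ x : X, (∀ y, x * y = y * x) → x = 1 ∨ x = z)
    (ζ : X →* ℤˣ) (hζ : ζ z = 1) : ∃ y : X, ∀ x, csign y x = ζ x := by
  classical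
  have hzc := z_central z hcomm
  let Z : Subgroup X := Subgroup.zpowers z
  have hzZ : z ∈ Z := Subgroup.mem_zpowers z
  have hZc : ∀ n ∈ Z, ∀ g : X, g * n = n * g := by
    intro n hn g
    have : Z ≤ Subgroup.center X := by
      rw [Subgroup.zpowers_le]
      rw [Subgroup.mem_center_iff]
      intro g; exact (hzc g).symm
    exact Subgroup.mem_center_iff.mp (this hn) g
  have hZn : Z.Normal := by
    refine ⟨fun n hn g => ?_⟩
    have : g * n * g⁻¹ = n := by rw [hZc n hn g, mul_assoc, mul_inv_cancel, mul_one]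
    rw [this]; exact hn
  have hmkz : ((z : X) : X ⧸ Z) = 1 := (QuotientGroup.eq_one_iff z).mpr hzZ
  let commV : CommGroup (X ⧸ Z) :=
    { (inferInstance : Group (X ⧸ Z)) with
      mul_comm := by
        intro a b
        induction a using QuotientGroup.induction_on with
        | H x =>
        induction b using QuotientGroup.induction_on with
        | H y =>
        rcases hcomm x y with h | h
        · rw [← QuotientGroup.mk_mul, h, QuotientGroup.mk_mul]
        · rw [← QuotientGroup.mk_mul, h, QuotientGroup.mk_mul, QuotientGroup.mk_mul, hmkz,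
            one_mul] }
  have hexp : Monoid.exponent (X ⧸ Z) ∣ 2 := by
    apply Monoid.exponent_dvd_of_forall_pow_eq_one
    intro a
    induction a using QuotientGroup.induction_on with
    | H x =>
    rw [pow_two, ← QuotientGroup.mk_mul]
    rcases hsq x with h | h
    · rw [h]; rfl
    · rw [h]; exact hmkz
  have h2 : HasEnoughRootsOfUnity ℤ 2 :=
    ⟨⟨-1, IsPrimitiveRoot.neg_one 0 (by norm_num)⟩, rootsOfUnity.isCyclic ℤ 2⟩
  have hE : HasEnoughRootsOfUnity ℤ (Monoid.exponent (X ⧸ Z)) :=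
    HasEnoughRootsOfUnity.of_dvd ℤ hexp
  have hcard : Nat.card ((X ⧸ Z) →* ℤˣ) = Nat.card (X ⧸ Z) :=
    CommGroup.card_monoidHom_of_hasEnoughRootsOfUnity (X ⧸ Z) ℤ
  -- the pairing
  let pair : X → (X →* ℤˣ) := fun y =>
    MonoidHom.mk' (csign y) (csign_mul_right z hz2 hcomm y)
  have hpairker : ∀ y, Z ≤ (pair y).ker := by
    intro y
    rw [Subgroup.zpowers_le, MonoidHom.mem_ker]
    show csign y z = 1
    rw [csign_eq_one_iff]; exact (hzc y).symm
  let Φ : X →* ((X ⧸ Z) →* ℤˣ) :=
    MonoidHom.mk' (fun y => QuotientGroup.lift Z (pair y) (hpairker y)) (by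
      intro y y'
      ext x
      show ((csign (y * y') x : ℤˣ) : ℤ) = ((csign y x * csign y' x : ℤˣ) : ℤ)
      rw [csign_mul_left z hz2 hcomm y y' x])
  have hker : Φ.ker ≤ Z := by
    intro y hy
    rw [MonoidHom.mem_ker] at hy
    have hall : ∀ x, y * x = x * y := by
      intro x
      rw [← csign_eq_one_iff]
      have := DFunLike.congr_fun hy (x : X ⧸ Z)
      exact this
    rcases hcen y hall with h | h
    · rw [h]; exact Z.one_mem
    · rw [h]; exact hzZ
  have hsurj : Function.Surjective Φ := by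
    apply MonoidHom.surjective_of_card_ker_le_div
    rw [hcard]
    have h1 : Nat.card X = Nat.card (X ⧸ Z) * Nat.card Z :=
      Subgroup.card_eq_card_quotient_mul_card_subgroup Z
    have hpos : 0 < Nat.card (X ⧸ Z) := Nat.card_pos
    rw [h1, Nat.mul_div_cancel_left _ hpos]
    exact Subgroup.card_le_of_le hker
  have hζker : Z ≤ ζ.ker := by
    rw [Subgroup.zpowers_le, MonoidHom.mem_ker]; exact hζ
  obtain ⟨y, hy⟩ := hsurj (QuotientGroup.lift Z ζ hζker)
  refine ⟨y, fun x => ?_⟩
  have := DFunLike.congr_fun hy (x : X ⧸ Z)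
  exact this

end core

section subgroup

variable {G : Type*} [Group G]

/-- `t` commutes with `z` as soon as it acts trivially modulo `z` on `z` itself. -/
theorem comm_z_of_trivial_mod (z : G) (hz2 : z * z = 1) (t : G)
    (ht : t * z * t⁻¹ = z ∨ t * z * t⁻¹ = z * z) : t * z = z * t := by
  rcases ht with h | h
  · have h' : t * z * t⁻¹ * t = z * t := by rw [h]
    simpa [mul_assoc] using h'
  · rw [hz2] at h
    have : z = 1 := by
      have h' : t⁻¹ * (t * z * t⁻¹) * t = t⁻¹ * 1 * t := by rw [h]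
      simpa [mul_assoc] using h'
    rw [this]; simp

/-- **(B7a)** An element `t` acting on `X` trivially modulo the centre `⟨z⟩` induces an inner
automorphism of `X`. -/
theorem inner_of_trivial_mod (X : Subgroup G) [Finite X] (z : G) (hz2 : z * z = 1) (hzX : z ∈ X)
    (hcomm : ∀ x ∈ X, ∀ y ∈ X, x * y = y * x ∨ x * y = z * y * x)
    (hsq : ∀ x ∈ X, x * x = 1 ∨ x * x = z)
    (hcen : ∀ x ∈ X, (∀ y ∈ X, x * y = y * x) → x = 1 ∨ x = z)
    (t : G) (ht : ∀ x ∈ X, t * x * t⁻¹ = x ∨ t * x * t⁻¹ = z * x) :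
    ∃ y ∈ X, ∀ x ∈ X, t * x * t⁻¹ = y * x * y⁻¹ := by
  classical
  by_cases hz1 : z = 1
  · refine ⟨1, X.one_mem, fun x hx => ?_⟩
    rcases ht x hx with h | h
    · rw [h]; simp
    · rw [h, hz1]; simp
  have htz : t * z = z * t := comm_z_of_trivial_mod z hz2 t (ht z hzX)
  have hzcX : ∀ x ∈ X, z * x = x * z := by
    intro x hx
    rcases hcomm z hzX x hx with h | h
    · exact h
    · exfalso; apply hz1
      have h3 : z * x * 1 = z * x * z := by rw [mul_one]; exact h
      exact (mul_left_cancel h3).symm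
  -- the sign of `t`
  let ζf : ↥X → ℤˣ := fun x => if t * (x : G) * t⁻¹ = (x : G) then 1 else -1
  have hζmul : ∀ a b : ↥X, ζf (a * b) = ζf a * ζf b := by
    intro a b
    have hconj : t * ((a : G) * (b : G)) * t⁻¹ = (t * a * t⁻¹) * (t * b * t⁻¹) := by group
    show (if t * ((a * b : ↥X) : G) * t⁻¹ = ((a * b : ↥X) : G) then (1 : ℤˣ) else -1)
      = (if t * (a : G) * t⁻¹ = (a : G) then (1 : ℤˣ) else -1)
        * (if t * (b : G) * t⁻¹ = (b : G) then (1 : ℤˣ) else -1)
    rw [Subgroup.coe_mul, hconj]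
    by_cases h1 : t * (a : G) * t⁻¹ = (a : G) <;> by_cases h2 : t * (b : G) * t⁻¹ = (b : G)
    · rw [if_pos h1, if_pos h2, h1, h2, if_pos rfl]; simp
    · have e2 := (ht b b.2).resolve_left h2
      have hne : ¬ ((t * (a : G) * t⁻¹) * (t * (b : G) * t⁻¹) = (a : G) * (b : G)) := by
        rw [h1]; intro h; exact h2 (mul_left_cancel h)
      rw [if_pos h1, if_neg h2, if_neg hne]; simp
    · have hne : ¬ ((t * (a : G) * t⁻¹) * (t * (b : G) * t⁻¹) = (a : G) * (b : G)) := by
        rw [h2]; intro h; exact h1 (mul_right_cancel h)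
      rw [if_neg h1, if_pos h2, if_neg hne]; simp
    · have e1 := (ht a a.2).resolve_left h1
      have e2 := (ht b b.2).resolve_left h2
      have : (t * (a : G) * t⁻¹) * (t * (b : G) * t⁻¹) = (a : G) * (b : G) := by
        rw [e1, e2]
        calc z * (a : G) * (z * (b : G)) = z * ((a : G) * z) * (b : G) := by
              simp only [mul_assoc]
          _ = z * (z * (a : G)) * (b : G) := by rw [hzcX a a.2]
          _ = (z * z) * (a : G) * (b : G) := by simp only [mul_assoc]
          _ = (a : G) * (b : G) := by rw [hz2, one_mul]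
      rw [if_neg h1, if_neg h2, if_pos this]; simp
  let ζ : ↥X →* ℤˣ := MonoidHom.mk' ζf hζmul
  let z' : ↥X := ⟨z, hzX⟩
  have hζz : ζ z' = 1 := by
    show (if t * z * t⁻¹ = z then (1 : ℤˣ) else -1) = 1
    rw [if_pos (by rw [htz]; simp)]
  have hcomm' : ∀ x y : ↥X, x * y = y * x ∨ x * y = z' * y * x := by
    intro x y
    rcases hcomm x x.2 y y.2 with h | h
    · left; exact Subtype.ext h
    · right; exact Subtype.ext h
  have hsq' : ∀ x : ↥X, x * x = 1 ∨ x * x = z' := by
    intro x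
    rcases hsq x x.2 with h | h
    · left; exact Subtype.ext h
    · right; exact Subtype.ext h
  have hcen' : ∀ x : ↥X, (∀ y, x * y = y * x) → x = 1 ∨ x = z' := by
    intro x hx
    rcases hcen x x.2 (fun y hy => by
      have := hx ⟨y, hy⟩
      exact congrArg Subtype.val this) with h | h
    · left; exact Subtype.ext h
    · right; exact Subtype.ext h
  have hz2' : z' * z' = 1 := Subtype.ext hz2
  obtain ⟨y, hy⟩ := exists_csign_eq z' hz2' hcomm' hsq' hcen' ζ hζz
  refine ⟨y, y.2, fun x hx => ?_⟩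
  have hyx := hy ⟨x, hx⟩
  by_cases h1 : t * x * t⁻¹ = x
  · have hζ1 : ζ ⟨x, hx⟩ = 1 := by
      show (if t * x * t⁻¹ = x then (1 : ℤˣ) else -1) = 1
      rw [if_pos h1]
    rw [hζ1, csign_eq_one_iff] at hyx
    have hyx' : (y : G) * x = x * (y : G) := congrArg Subtype.val hyx
    rw [h1, hyx']; simp
  · have e1 := (ht x hx).resolve_left h1
    have hζ1 : ζ ⟨x, hx⟩ = -1 := by
      show (if t * x * t⁻¹ = x then (1 : ℤˣ) else -1) = -1
      rw [if_neg h1]
    have hnc : ¬ ((y : G) * x = x * (y : G)) := by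
      intro h
      have : csign y ⟨x, hx⟩ = 1 := by
        rw [csign_eq_one_iff]; exact Subtype.ext h
      rw [this, hζ1] at hyx
      exact absurd hyx (by decide)
    have e2 := (hcomm y y.2 x hx).resolve_left hnc
    rw [e1, e2]; simp [mul_assoc]

/-- **(B7b)** If every `t ∈ T` acts on `X ≤ T` trivially modulo `⟨z⟩`, then `T = X * C_T(X)`. -/
theorem eq_mul_centralizer (X : Subgroup G) [Finite X] (z : G) (hz2 : z * z = 1) (hzX : z ∈ X)
    (hcomm : ∀ x ∈ X, ∀ y ∈ X, x * y = y * x ∨ x * y = z * y * x)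
    (hsq : ∀ x ∈ X, x * x = 1 ∨ x * x = z)
    (hcen : ∀ x ∈ X, (∀ y ∈ X, x * y = y * x) → x = 1 ∨ x = z)
    (T : Subgroup G) (hXT : X ≤ T)
    (hT : ∀ t ∈ T, ∀ x ∈ X, t * x * t⁻¹ = x ∨ t * x * t⁻¹ = z * x) :
    ∀ t ∈ T, ∃ y ∈ X, ∃ c ∈ T ⊓ Subgroup.centralizer (X : Set G), t = y * c := by
  intro t htT
  obtain ⟨y, hyX, hy⟩ := inner_of_trivial_mod X z hz2 hzX hcomm hsq hcen t (hT t htT)
  have hcz : y⁻¹ * t ∈ Subgroup.centralizer (X : Set G) := ?_
  · exact ⟨y, hyX, y⁻¹ * t,
      Subgroup.mem_inf.mpr ⟨T.mul_mem (T.inv_mem (hXT hyX)) htT, hcz⟩, by simp⟩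
  rw [Subgroup.mem_centralizer_iff]
  intro x hx
  have h := hy x hx
  -- t x t⁻¹ = y x y⁻¹  ⟹  x (y⁻¹ t) = (y⁻¹ t) x
  have h' : t * x = y * x * y⁻¹ * t := by
    rw [← h]; simp [mul_assoc]
  calc x * (y⁻¹ * t) = y⁻¹ * (y * x * y⁻¹ * t) := by simp [mul_assoc]
    _ = y⁻¹ * (t * x) := by rw [h']
    _ = y⁻¹ * t * x := by rw [mul_assoc]

/-- **(B7c)** ... hence `T = X` when `C_T(X) ≤ X`. -/
theorem le_of_centralizer_le (X : Subgroup G) [Finite X] (z : G) (hz2 : z * z = 1) (hzX : z ∈ X)
    (hcomm : ∀ x ∈ X, ∀ y ∈ X, x * y = y * x ∨ x * y = z * y * x)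
    (hsq : ∀ x ∈ X, x * x = 1 ∨ x * x = z)
    (hcen : ∀ x ∈ X, (∀ y ∈ X, x * y = y * x) → x = 1 ∨ x = z)
    (T : Subgroup G) (hXT : X ≤ T)
    (hT : ∀ t ∈ T, ∀ x ∈ X, t * x * t⁻¹ = x ∨ t * x * t⁻¹ = z * x)
    (hC : T ⊓ Subgroup.centralizer (X : Set G) ≤ X) : T ≤ X := by
  intro t htT
  obtain ⟨y, hyX, c, hc, rfl⟩ := eq_mul_centralizer X z hz2 hzX hcomm hsq hcen T hXT hT t htT
  exact X.mul_mem hyX (hC hc)

/-- **(B7d)** elementwise form: `t` acting trivially modulo `⟨z⟩` lies in `X * C_G(X)`. -/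
theorem mem_mul_centralizer (X : Subgroup G) [Finite X] (z : G) (hz2 : z * z = 1) (hzX : z ∈ X)
    (hcomm : ∀ x ∈ X, ∀ y ∈ X, x * y = y * x ∨ x * y = z * y * x)
    (hsq : ∀ x ∈ X, x * x = 1 ∨ x * x = z)
    (hcen : ∀ x ∈ X, (∀ y ∈ X, x * y = y * x) → x = 1 ∨ x = z)
    (t : G) (ht : ∀ x ∈ X, t * x * t⁻¹ = x ∨ t * x * t⁻¹ = z * x) :
    ∃ y ∈ X, y⁻¹ * t ∈ Subgroup.centralizer (X : Set G) := by
  obtain ⟨y, hyX, hy⟩ := inner_of_trivial_mod X z hz2 hzX hcomm hsq hcen t ht
  refine ⟨y, hyX, ?_⟩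
  rw [Subgroup.mem_centralizer_iff]
  intro x hx
  have h := hy x hx
  have h' : t * x = y * x * y⁻¹ * t := by
    rw [← h]; simp [mul_assoc]
  calc x * (y⁻¹ * t) = y⁻¹ * (y * x * y⁻¹ * t) := by simp [mul_assoc]
    _ = y⁻¹ * (t * x) := by rw [h']
    _ = y⁻¹ * t * x := by rw [mul_assoc]

end subgroup

end Cfsg.Agent.Lib.H7.S4415B7
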