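import Mathlib
import Cfsg.Agent.S4072

/-!
# S4073 piece CA2 (helper7): a solvable non-nilpotent centralizer is impossible

`G` simple non-abelian with every non-abelian subgroup self-normalizing (`SN G`), `x ≠ 1`,
`C = C_G(x)` solvable and not nilpotent.  By `S4071.forward`, `C = ⟨y⟩ ⋉ A` with `y` a `p`-element
acting fixed-point-freely on the abelian normal `p'`-group `A`.  Then `x ∈ ⟨y⟩` and `C_G(y) = ⟨y⟩`.
Either `⟨y⟩` is not a Sylow subgroup (its normalizer grows) or Burnside's transfer theorem applies: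
in both cases some `w ∈ N_G(⟨y⟩)` lies outside `⟨y⟩ = C_G(y)`.  `L = N_G(⟨x⟩) ∋ w` is an `SN`-group, not
simple, hence solvable, and not nilpotent: `L = ⟨v⟩ ⋉ B` (prime `r`).  If `r = p`, `[w,y] ∈ ⟨y⟩ ∩ B = 1`;
if `r ≠ p`, `y ∈ B` and `[y,a] ∈ A ∩ B` commutes with `y` for `a ∈ A`, forcing `A = 1`.
-/

set_option autoImplicit false

namespace Cfsg.Agent.Lib.H7.SNS

open Cfsg.Agent.S4072 (SN)
open Subgroup

/-- commutative groups are nilpotent (mixin form). -/
theorem ca2_nilpotent_of_comm {K : Type*} [Group K] (h : ∀ a b : K, a * b = b * a) :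
    Group.IsNilpotent K :=
  ⟨⟨1, Subgroup.upperCentralSeries_one_eq_top_iff.2 ⟨⟨h⟩⟩⟩⟩

/-- in `K = ⟨y⟩ ⋉ A` with `y` fixed-point-free on `A`, `C_K(y) = ⟨y⟩`. -/
theorem ca2_centralizer_gen {K : Type*} [Group K] (y : K) (A : Subgroup K)
    (hcompl : (zpowers y).IsComplement' A)
    (hfpf : ∀ a : K, a ∈ A → a ≠ 1 → y * a * y⁻¹ ≠ a) (g : K) (hg : g * y = y * g) :
    g ∈ zpowers y := by
  obtain ⟨⟨⟨s, hs⟩, ⟨t, ht⟩⟩, hst⟩ := hcompl.2 g
  change s * t = g at hst
  have hsy : Commute s y := by
    obtain ⟨j, rfl⟩ := hs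
    exact (Commute.refl y).zpow_left j
  have hty : Commute t y := by
    have : t = s⁻¹ * g := by rw [← hst]; group
    rw [this]
    exact (hsy.inv_left).mul_left hg
  have ht1 : t = 1 := by
    by_contra h1
    apply hfpf t ht h1
    rw [← hty.eq, mul_inv_cancel_right]
  rw [← hst, ht1, mul_one]; exact hs

/-- modulo the normal complement `B`, everything is a power of `v`. -/
theorem ca2_quot_mem {K : Type*} [Group K] (v : K) (B : Subgroup K) [B.Normal]
    (hcompl : (zpowers v).IsComplement' B) (g : K) :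
    (QuotientGroup.mk g : K ⧸ B) ∈ zpowers (QuotientGroup.mk v : K ⧸ B) := by
  obtain ⟨⟨⟨s, hs⟩, ⟨t, ht⟩⟩, hst⟩ := hcompl.2 g
  change s * t = g at hst
  obtain ⟨j, rfl⟩ := hs
  refine ⟨j, ?_⟩
  change (QuotientGroup.mk v : K ⧸ B) ^ j = _
  rw [← hst, QuotientGroup.mk_mul, (QuotientGroup.eq_one_iff t).2 ht, mul_one,
    QuotientGroup.mk_zpow]

/-- a non-Sylow or self-centralizing cyclic `p`-subgroup of a simple group has an element of its
normalizer outside it. -/
theorem ca2_exists_normalizing {G : Type*} [Group G] [Finite G] [IsSimpleGroup G]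
    (hna : ¬ IsMulCommutative G) {p : ℕ} [Fact p.Prime] (y : G) (k : ℕ)
    (hk : orderOf y = p ^ k) (hCy : ∀ g : G, g * y = y * g → g ∈ zpowers y) :
    ∃ w : G, w ∈ normalizer ((zpowers y : Subgroup G) : Set G) ∧ w ∉ zpowers y := by
  have hcardY : Nat.card (zpowers y) = p ^ k := by rw [Nat.card_zpowers, hk]
  have hYp : IsPGroup p (zpowers y) := IsPGroup.of_card hcardY
  obtain ⟨S, hS⟩ := hYp.exists_le_sylow
  by_cases hYS : zpowers y = (S : Subgroup G)
  · -- Burnside transfer
    by_contra hcon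
    push Not at hcon
    have hNC : normalizer ((S : Subgroup G) : Set G) ≤ centralizer ((S : Subgroup G) : Set G) := by
      intro w hw
      have hwY : w ∈ zpowers y := hcon w (by rw [hYS]; exact hw)
      rw [mem_centralizer_iff]
      intro s hs
      rw [SetLike.mem_coe, ← hYS] at hs
      obtain ⟨a, rfl⟩ := hwY
      obtain ⟨b, rfl⟩ := hs
      exact (Commute.zpow_zpow_self y b a).eq
    have hcomp := MonoidHom.ker_transferSylow_isComplement' S hNC
    have hnorm : (MonoidHom.transferSylow S hNC).ker.Normal := inferInstance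
    rcases hnorm.eq_bot_or_eq_top with h0 | h1
    · rw [h0, isComplement'_bot_left] at hcomp
      apply hna
      refine ⟨⟨fun a b => ?_⟩⟩
      have ha : a ∈ zpowers y := by rw [hYS, hcomp]; exact mem_top a
      have hb : b ∈ zpowers y := by rw [hYS, hcomp]; exact mem_top b
      obtain ⟨i, rfl⟩ := ha
      obtain ⟨j, rfl⟩ := hb
      exact (Commute.zpow_zpow_self y i j).eq
    · rw [h1, isComplement'_top_left] at hcomp
      have hy1 : y = 1 := by
        have : y ∈ (S : Subgroup G) := hS (mem_zpowers y)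
        rw [hcomp] at this
        exact mem_bot.1 this
      apply hna
      refine ⟨⟨fun a b => ?_⟩⟩
      have ha : a ∈ zpowers y := hCy a (by rw [hy1]; simp)
      have hb : b ∈ zpowers y := hCy b (by rw [hy1]; simp)
      obtain ⟨i, rfl⟩ := ha
      obtain ⟨j, rfl⟩ := hb
      exact (Commute.zpow_zpow_self y i j).eq
  · -- the normalizer grows
    have hcardS := S.card_eq_multiplicity
    have hdvd1 : p ^ k ∣ p ^ (Nat.card G).factorization p := by
      rw [← hcardY, ← hcardS]; exact Subgroup.card_dvd_of_le hS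
    have hp : p.Prime := Fact.out
    have hle : k ≤ (Nat.card G).factorization p :=
      (Nat.pow_dvd_pow_iff_le_right hp.one_lt).1 hdvd1
    have hne : k ≠ (Nat.card G).factorization p := by
      intro he
      apply hYS
      apply Subgroup.eq_of_le_of_card_ge hS
      rw [hcardY, hcardS, he]
    have hlt : k + 1 ≤ (Nat.card G).factorization p := by omega
    have hdvd : p ^ (k + 1) ∣ Nat.card G :=
      (pow_dvd_pow p hlt).trans (Nat.ordProj_dvd _ _)
    have hq := Sylow.prime_dvd_card_quotient_normalizer hdvd hcardY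
    by_contra hcon
    push Not at hcon
    have htop : (zpowers y).subgroupOf (normalizer ((zpowers y : Subgroup G) : Set G)) = ⊤ := by
      rw [eq_top_iff]
      intro g _
      rw [mem_subgroupOf]
      exact hcon g g.2
    have hone : Nat.card (↥(normalizer ((zpowers y : Subgroup G) : Set G)) ⧸
        (zpowers y).subgroupOf (normalizer ((zpowers y : Subgroup G) : Set G))) = 1 := by
      rw [← Subgroup.index_eq_card, htop, index_top]
    change p ∣ Nat.card (↥(normalizer ((zpowers y : Subgroup G) : Set G)) ⧸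
        (zpowers y).subgroupOf (normalizer ((zpowers y : Subgroup G) : Set G))) at hq
    rw [hone] at hq
    exact hp.one_lt.ne' (Nat.dvd_one.1 hq)

/-- CA2 (solvable non-nilpotent centralizer is impossible). -/
theorem ca2 {G : Type*} [Group G] [Finite G] [IsSimpleGroup G] (hna : ¬ IsMulCommutative G)
    (h : SN G) (x : G) (hx : x ≠ 1)
    (hsol : Group.IsSolvable ↥(Subgroup.centralizer ({x} : Set G)))
    (hnn : ¬ Group.IsNilpotent ↥(Subgroup.centralizer ({x} : Set G))) : False := by
  classical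
  -- structure of `C`
  obtain ⟨y', A', p, hp, hAn, hAc, ⟨k, hk⟩, hpA, hcompl, -, hfpf⟩ :=
    Cfsg.Agent.S4071.forward (G := ↥(Subgroup.centralizer ({x} : Set G))) hnn
      (h.subgroup (Subgroup.centralizer ({x} : Set G)))
  have : Fact p.Prime := ⟨hp⟩
  have hxC : x ∈ Subgroup.centralizer ({x} : Set G) := by
    rw [mem_centralizer_singleton_iff]
  have hK1 := ca2_centralizer_gen y' A' hcompl hfpf
  have hy'x : (y' : G) * x = x * (y' : G) := mem_centralizer_singleton_iff.1 y'.2
  have hxy' : (⟨x, hxC⟩ : ↥(Subgroup.centralizer ({x} : Set G))) ∈ zpowers y' :=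
    hK1 _ (Subtype.ext hy'x.symm)
  obtain ⟨i, hi⟩ := hxy'
  have hxi : x = (y' : G) ^ i := by
    have := congrArg Subtype.val hi
    simpa using this.symm
  -- `C_G(y) = ⟨y⟩`
  have hCy : ∀ g : G, g * (y' : G) = (y' : G) * g → g ∈ zpowers (y' : G) := by
    intro g hg
    have hgC : g ∈ Subgroup.centralizer ({x} : Set G) := by
      rw [mem_centralizer_singleton_iff, hxi]
      exact ((show Commute g (y' : G) from hg).zpow_right i).eq
    obtain ⟨j, hj⟩ := hK1 ⟨g, hgC⟩ (Subtype.ext hg)
    exact ⟨j, by have := congrArg Subtype.val hj; simpa using this⟩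
  have hkG : orderOf (y' : G) = p ^ k := by rw [Subgroup.orderOf_coe, hk]
  -- `w`
  obtain ⟨w, hwN, hwY⟩ := ca2_exists_normalizing hna (y' : G) k hkG hCy
  have hwy : w * (y' : G) * w⁻¹ ∈ zpowers (y' : G) :=
    ((mem_normalizer_iff.1 hwN) _).1 (mem_zpowers _)
  -- `L = N_G(⟨x⟩)`
  have hCL : Subgroup.centralizer ({x} : Set G) ≤ normalizer ((zpowers x : Subgroup G) : Set G) := by
    intro c hc
    apply mem_normalizer_fintype
    rintro n ⟨j, rfl⟩
    have hcx : Commute c x := (mem_centralizer_singleton_iff.1 hc)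
    have : c * x ^ j * c⁻¹ = x ^ j := by
      rw [(hcx.zpow_right j).eq, mul_inv_cancel_right]
    change c * x ^ j * c⁻¹ ∈ zpowers x
    rw [this]; exact ⟨j, rfl⟩
  have hwL : w ∈ normalizer ((zpowers x : Subgroup G) : Set G) := by
    apply mem_normalizer_fintype
    rintro n ⟨j, rfl⟩
    obtain ⟨e, he⟩ := hwy
    change (y' : G) ^ e = _ at he
    change w * x ^ j * w⁻¹ ∈ zpowers x
    have h1 : w * x * w⁻¹ = x ^ e := by
      rw [hxi, ← conj_zpow, ← he, ← zpow_mul, ← zpow_mul, mul_comm]
    have h2 : w * x ^ j * w⁻¹ = (x ^ e) ^ j := by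
      rw [← conj_zpow, h1]
    rw [h2, ← zpow_mul]; exact ⟨e * j, rfl⟩
  have hLsn : SN ↥(normalizer ((zpowers x : Subgroup G) : Set G)) := h.subgroup _
  have hLsol : Group.IsSolvable ↥(normalizer ((zpowers x : Subgroup G) : Set G)) := by
    rcases Cfsg.Agent.S4072.result hLsn with hs | hs
    · exact hs
    · exfalso
      have hn : ((zpowers x).subgroupOf (normalizer ((zpowers x : Subgroup G) : Set G))).Normal :=
        Subgroup.normal_in_normalizer
      rcases hn.eq_bot_or_eq_top with h0 | h1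
      · apply hx
        have : (⟨x, hCL hxC⟩ : ↥(normalizer ((zpowers x : Subgroup G) : Set G))) ∈
            (zpowers x).subgroupOf (normalizer ((zpowers x : Subgroup G) : Set G)) := by
          rw [mem_subgroupOf]; exact mem_zpowers x
        rw [h0, mem_bot] at this
        exact congrArg Subtype.val this
      · apply hnn
        apply ca2_nilpotent_of_comm
        intro a b
        have ha : (⟨(a : G), hCL a.2⟩ : ↥(normalizer ((zpowers x : Subgroup G) : Set G))) ∈
            (zpowers x).subgroupOf (normalizer ((zpowers x : Subgroup G) : Set G)) := by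
          rw [h1]; exact mem_top _
        have hb : (⟨(b : G), hCL b.2⟩ : ↥(normalizer ((zpowers x : Subgroup G) : Set G))) ∈
            (zpowers x).subgroupOf (normalizer ((zpowers x : Subgroup G) : Set G)) := by
          rw [h1]; exact mem_top _
        rw [mem_subgroupOf] at ha hb
        obtain ⟨i, hi⟩ := ha
        obtain ⟨j, hj⟩ := hb
        apply Subtype.ext
        change (a : G) * (b : G) = (b : G) * (a : G)
        simp only at hi hj
        rw [← hi, ← hj]
        exact (Commute.zpow_zpow_self x i j).eq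
  have hLnn : ¬ Group.IsNilpotent ↥(normalizer ((zpowers x : Subgroup G) : Set G)) := by
    intro hn
    have : Group.IsNilpotent ↥((Subgroup.centralizer ({x} : Set G)).subgroupOf
        (normalizer ((zpowers x : Subgroup G) : Set G))) := inferInstance
    exact hnn (Group.nilpotent_of_mulEquiv (Subgroup.subgroupOfEquivOfLe hCL))
  obtain ⟨v', B', r, hr, hBn, hBc, ⟨m, hm⟩, hrB, hcomplL, -, -⟩ :=
    Cfsg.Agent.S4071.forward (G := ↥(normalizer ((zpowers x : Subgroup G) : Set G))) hLnn hLsn
  have : Fact r.Prime := ⟨hr⟩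
  have hq := ca2_quot_mem v' B' hcomplL
  have hyL : (y' : G) ∈ normalizer ((zpowers x : Subgroup G) : Set G) := hCL y'.2
  by_cases hrp : r = p
  · -- `[w,y] ∈ ⟨y⟩ ∩ B = 1`
    subst hrp
    obtain ⟨a, ha⟩ := hq ⟨w, hwL⟩
    obtain ⟨b, hb⟩ := hq ⟨(y' : G), hyL⟩
    have hcB : (⟨w, hwL⟩ * ⟨(y' : G), hyL⟩ * (⟨w, hwL⟩)⁻¹ * (⟨(y' : G), hyL⟩)⁻¹ :
        ↥(normalizer ((zpowers x : Subgroup G) : Set G))) ∈ B' := by
      rw [← QuotientGroup.eq_one_iff]
      simp only [QuotientGroup.mk_mul, QuotientGroup.mk_inv]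
      simp only at ha hb
      rw [← ha, ← hb]
      have := (Commute.zpow_zpow_self (QuotientGroup.mk v' :
        ↥(normalizer ((zpowers x : Subgroup G) : Set G)) ⧸ B') a b).eq
      rw [this]; group
    have ho1 : orderOf (w * (y' : G) * w⁻¹ * (y' : G)⁻¹) ∣ Nat.card B' := by
      have := orderOf_dvd_natCard (⟨_, hcB⟩ : B')
      rw [Subgroup.orderOf_mk, ← Subgroup.orderOf_coe] at this
      exact this
    have ho2 : orderOf (w * (y' : G) * w⁻¹ * (y' : G)⁻¹) ∣ r ^ k := by
      rw [← hkG]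
      apply orderOf_dvd_of_mem_zpowers
      exact (zpowers (y' : G)).mul_mem hwy ((zpowers (y' : G)).inv_mem (mem_zpowers _))
    have hcop : Nat.Coprime (r ^ k) (Nat.card B') :=
      Nat.Coprime.pow_left k ((Nat.Prime.coprime_iff_not_dvd hr).mpr hrB)
    have h1 : w * (y' : G) * w⁻¹ * (y' : G)⁻¹ = 1 :=
      orderOf_eq_one_iff.mp (Nat.eq_one_of_dvd_coprimes hcop ho2 ho1)
    apply hwY
    apply hCy
    calc w * (y' : G) = (w * (y' : G) * w⁻¹ * (y' : G)⁻¹) * ((y' : G) * w) := by group
      _ = (y' : G) * w := by rw [h1, one_mul]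
  · -- `y ∈ B`, so `A = 1`
    have hyB : (⟨(y' : G), hyL⟩ : ↥(normalizer ((zpowers x : Subgroup G) : Set G))) ∈ B' := by
      obtain ⟨b, hb⟩ := hq ⟨(y' : G), hyL⟩
      simp only at hb
      have hv1 : (QuotientGroup.mk v' :
          ↥(normalizer ((zpowers x : Subgroup G) : Set G)) ⧸ B') ^ (r ^ m) = 1 := by
        rw [← QuotientGroup.mk_pow, ← hm, pow_orderOf_eq_one, QuotientGroup.mk_one]
      have hpow : (⟨(y' : G), hyL⟩ : ↥(normalizer ((zpowers x : Subgroup G) : Set G))) ^ (r ^ m)
          ∈ B' := by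
        rw [← QuotientGroup.eq_one_iff, QuotientGroup.mk_pow, ← hb, ← zpow_natCast, ← zpow_mul,
          mul_comm, zpow_mul, zpow_natCast, hv1, one_zpow]
      have hoy : orderOf (⟨(y' : G), hyL⟩ :
          ↥(normalizer ((zpowers x : Subgroup G) : Set G))) = p ^ k := by
        rw [← Subgroup.orderOf_coe]; exact hkG
      have hcop : (r ^ m).Coprime (orderOf (⟨(y' : G), hyL⟩ :
          ↥(normalizer ((zpowers x : Subgroup G) : Set G)))) := by
        rw [hoy]
        exact Nat.Coprime.pow _ _ ((Nat.coprime_primes hr hp).2 hrp)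
      obtain ⟨e, he⟩ := exists_pow_eq_self_of_coprime hcop
      rw [← he]
      exact B'.pow_mem hpow e
    have hBcomm := Cfsg.Agent.S4071.comm_of_isMulCommutative hBc
    have hA1 : ∀ a' : ↥(Subgroup.centralizer ({x} : Set G)), a' ∈ A' → a' = 1 := by
      intro a' ha'
      -- the commutator
      have hcA : y' * a' * y'⁻¹ * a'⁻¹ ∈ A' :=
        A'.mul_mem (hAn.conj_mem a' ha' y') (A'.inv_mem ha')
      have hcB : (⟨(y' : G), hyL⟩ * ⟨(a' : G), hCL a'.2⟩ * (⟨(y' : G), hyL⟩)⁻¹ *
          (⟨(a' : G), hCL a'.2⟩)⁻¹ : ↥(normalizer ((zpowers x : Subgroup G) : Set G))) ∈ B' := by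
        have : (⟨(y' : G), hyL⟩ * ⟨(a' : G), hCL a'.2⟩ * (⟨(y' : G), hyL⟩)⁻¹ *
          (⟨(a' : G), hCL a'.2⟩)⁻¹ : ↥(normalizer ((zpowers x : Subgroup G) : Set G))) =
          ⟨(y' : G), hyL⟩ * (⟨(a' : G), hCL a'.2⟩ * (⟨(y' : G), hyL⟩)⁻¹ *
          (⟨(a' : G), hCL a'.2⟩)⁻¹) := by group
        rw [this]
        exact B'.mul_mem hyB (hBn.conj_mem _ (B'.inv_mem hyB) _)
      have hcomm := hBcomm _ hyB _ hcB
      have hcomm' : y' * (y' * a' * y'⁻¹ * a'⁻¹) = (y' * a' * y'⁻¹ * a'⁻¹) * y' := by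
        apply Subtype.ext
        have h2 := congrArg Subtype.val hcomm
        simpa using h2
      have hc1 : y' * a' * y'⁻¹ * a'⁻¹ = 1 := by
        by_contra hne
        apply hfpf _ hcA hne
        rw [hcomm', mul_inv_cancel_right]
      by_contra hne
      apply hfpf a' ha' hne
      calc y' * a' * y'⁻¹ = (y' * a' * y'⁻¹ * a'⁻¹) * a' := by group
        _ = a' := by rw [hc1, one_mul]
    have hAbot : A' = ⊥ := by
      rw [eq_bot_iff]
      intro a ha
      rw [mem_bot]; exact hA1 a ha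
    rw [hAbot, isComplement'_bot_right] at hcompl
    apply hnn
    apply ca2_nilpotent_of_comm
    intro a b
    have ha : a ∈ zpowers y' := by rw [hcompl]; exact mem_top a
    have hb : b ∈ zpowers y' := by rw [hcompl]; exact mem_top b
    obtain ⟨i, rfl⟩ := ha
    obtain ⟨j, rfl⟩ := hb
    exact (Commute.zpow_zpow_self y' i j).eq

end Cfsg.Agent.Lib.H7.SNS
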