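import Mathlib
import Cfsg.Prelude.Def_Local
import Cfsg.Prelude.Def_CaseTheorems
import Cfsg.Agent.Lib.H7.PComponent3
import Cfsg.Agent.Lib.H7.Quasisimple
import Cfsg.Agent.Lib.H15.SymF1

/-!
# S3153 piece COMP (helper7): a 2-component containing a quasisimple subgroup centralizing `O(X)`
and not inside `O(X)` is quasisimple.
-/

set_option autoImplicit false
open Cfsg

namespace Cfsg.Agent.Lib.H7.STD

/-- COMP: a 2-component `L` containing a quasisimple subgroup `P` with `[P, O(X)] = 1` and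
`P ≰ O(X)` is quasisimple. -/
theorem quasisimple_of_isPComponent_of_le {X : Type*} [Group X] [Finite X] (P L : Subgroup X)
    (hP : Cfsg.IsQuasisimple ↥P) (hPW : ⁅P, Cfsg.pPrimeCore 2 X⁆ = ⊥)
    (hPW' : ¬ P ≤ Cfsg.pPrimeCore 2 X) (hL : Cfsg.IsPComponent 2 L) (hPL : P ≤ L) :
    Cfsg.IsQuasisimple ↥L := by
  have : Fact (Nat.Prime 2) := ⟨Nat.prime_two⟩
  obtain ⟨W, hW⟩ : ∃ W : Subgroup X, W = pPrimeCore 2 X := ⟨_, rfl⟩
  have hWn : W.Normal := by rw [hW]; infer_instance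
  apply quasisimple_of_commutator_pPrimeCore_eq_bot 2 hL
  rw [map_pPrimeCore_of_isSubnormal 2 hL.1, ← hW]
  obtain ⟨D, hD⟩ : ∃ D : Subgroup X,
      D = L ⊓ Subgroup.centralizer ((W ⊓ L : Subgroup X) : Set X) := ⟨_, rfl⟩
  have hDL : D ≤ L := by rw [hD]; exact inf_le_left
  have hDmem : ∀ d : X, d ∈ D ↔ d ∈ L ∧ ∀ w ∈ W, w ∈ L → w * d = d * w := by
    intro d
    rw [hD, Subgroup.mem_inf, Subgroup.mem_centralizer_iff]
    constructor
    · rintro ⟨h1, h2⟩
      exact ⟨h1, fun w hw hwL => h2 w ⟨hw, hwL⟩⟩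
    · rintro ⟨h1, h2⟩
      exact ⟨h1, fun w hw => h2 w hw.1 hw.2⟩
  have hPD : P ≤ D := by
    intro x hx
    rw [hDmem]
    refine ⟨hPL hx, fun w hw _ => ?_⟩
    have h1 := Subgroup.commutator_mem_commutator hx (hW ▸ hw)
    rw [hPW, Subgroup.mem_bot, commutatorElement_eq_one_iff_mul_comm] at h1
    exact h1.symm
  have hconj : ∀ l ∈ L, ∀ d ∈ D, l * d * l⁻¹ ∈ D := by
    intro l hl d hd
    rw [hDmem] at hd ⊢
    refine ⟨L.mul_mem (L.mul_mem hl hd.1) (L.inv_mem hl), fun w hw hwL => ?_⟩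
    have h1 : l⁻¹ * w * l ∈ W := by
      have := hWn.conj_mem w hw l⁻¹
      simpa using this
    have h2 : l⁻¹ * w * l ∈ L := L.mul_mem (L.mul_mem (L.inv_mem hl) hwL) hl
    have h3 := hd.2 _ h1 h2
    calc w * (l * d * l⁻¹) = l * ((l⁻¹ * w * l) * d) * l⁻¹ := by group
      _ = l * (d * (l⁻¹ * w * l)) * l⁻¹ := by rw [h3]
      _ = l * d * l⁻¹ * w := by group
  have hDn : (D.subgroupOf L).Normal := by
    constructor
    intro d hd l
    rw [Subgroup.mem_subgroupOf] at hd ⊢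
    simpa using hconj l l.2 d hd
  have hDsub : D.IsSubnormal := Subgroup.IsSubnormal.step _ _ hDL hL.1 hDn
  -- images
  have hWker : ∀ x : X, QuotientGroup.mk' (pPrimeCore 2 X) x = 1 ↔ x ∈ W := by
    intro x
    rw [hW, ← MonoidHom.mem_ker, QuotientGroup.ker_mk']
  rcases Cfsg.Agent.Lib.H15.SymF.eq_or_central_of_quasisimple
      (L.map (QuotientGroup.mk' (pPrimeCore 2 X))) hL.2.1.2
      (D.map (QuotientGroup.mk' (pPrimeCore 2 X))) (Subgroup.map_mono hDL) (by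
        rintro _ ⟨l, hl, rfl⟩ _ ⟨d, hd, rfl⟩
        refine ⟨l * d * l⁻¹, hconj l hl d hd, ?_⟩
        simp) with h | h
  · have hDeq : D = L := hL.2.2 D hDsub hDL h
    rw [Subgroup.commutator_eq_bot_iff_le_centralizer]
    intro l hl
    rw [← hDeq, hD] at hl
    exact hl.2
  · exfalso
    apply hPW'
    rw [← hW]
    have hperf : ⁅P, P⁆ = P := Subgroup.isPerfect_iff.1 hP.1
    rw [← hperf, Subgroup.commutator_le]
    intro a ha b hb
    rw [← hWker, map_commutatorElement, commutatorElement_eq_one_iff_mul_comm]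
    exact h _ ⟨b, hPD hb, rfl⟩ _ ⟨a, hPL ha, rfl⟩

end Cfsg.Agent.Lib.H7.STD
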