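import Mathlib

/-!
# S3017 (Shult): definitions for the abstract (Fourier) part of the farm-out

`A` finite abelian group (additive), `Ν` a finite group acting on `A` through the explicit
function `act : Ν → A → A`, `X i : A → ℂ` a finite family of "characters".
-/

set_option autoImplicit false

namespace Cfsg.Agent.Lib.H7.Shult

open scoped ComplexConjugate

/-- orbit average of `ψ` at `a`: `|Ν|⁻¹ ∑_n ψ (n • a)` -/
noncomputable def sAvg {A Ν : Type*} [AddCommGroup A] [Fintype Ν] (act : Ν → A → A)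
    (ψ : AddChar A ℂ) (a : A) : ℂ :=
  (1 / (Fintype.card Ν : ℂ)) * ∑ n, ψ (act n a)

/-- the FOUR identity: for `c ≠ 0`,
`∑_i (|A| m_i(ψ) / f_i) X_i(a) conj X_i(c) = γ_c |c^Ν| s_a(ψ) conj s_c(ψ)`. -/
def FourProp {A Ν ι : Type*} [AddCommGroup A] [Fintype A] [Fintype Ν] [Fintype ι]
    (act : Ν → A → A) (X : ι → A → ℂ) (f : ι → ℕ) (m : ι → AddChar A ℂ → ℕ) : Prop :=
  ∀ (ψ : AddChar A ℂ) (a c : A), c ≠ 0 →
    ∑ i, ((Fintype.card A : ℂ) * (m i ψ : ℂ) / (f i : ℂ)) * X i a * conj (X i c) =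
      (∑ i, X i c * conj (X i c)) * (Nat.card {e : A // ∃ n, e = act n c} : ℂ) *
        sAvg act ψ a * conj (sAvg act ψ c)

end Cfsg.Agent.Lib.H7.Shult
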