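import Mathlib
import Cfsg.Prelude.Def_SubgroupEmbedding
import Cfsg.Prelude.Def_Blocks
import Cfsg.Prelude.Def_CaseTheorems
import Cfsg.Prelude.Def_Local
import Cfsg.Prelude.Def_Characters

/-!
# S3017 (Shult): common definitions for the farm-out

`H` abelian extremely closed 2-subgroup of `G`; `N = N_G(H)`.
* `Tg H g = ⟨H, g H g⁻¹⟩`, `Kg H g = O(T_g)` (as a subgroup of `G`),
* `cj H n b` : conjugation action of `N` on `H` (subtype level),
* `CentHyp`, `EndHyp` : the configuration of the character-theoretic endgame,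
* `LocProp`, `CSProp`, `OrthProp` : interfaces between the pieces.
-/

set_option autoImplicit false

namespace Cfsg.Agent.Lib.H7.Shult

open Subgroup
open scoped ComplexConjugate

universe u

variable {G : Type u} [Group G]

/-- `T_g = ⟨H, g H g⁻¹⟩` -/
def Tg (H : Subgroup G) (g : G) : Subgroup G := H ⊔ H.map (MulAut.conj g).toMonoidHom

/-- `K_g = O(T_g)`, as a subgroup of `G` -/
def Kg (H : Subgroup G) (g : G) : Subgroup G :=
  (Cfsg.pPrimeCore 2 ↥(Tg H g)).map (Tg H g).subtype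

theorem Kg_le_Tg (H : Subgroup G) (g : G) : Kg H g ≤ Tg H g := by
  intro x hx
  obtain ⟨y, _, rfl⟩ := hx
  exact y.2

/-- for `1 ≠ h ∈ H`: `C_G(h) = N_{C_G(h)}(H) O(C_G(h))` -/
def CentHyp (H : Subgroup G) : Prop :=
  ∀ h ∈ H, h ≠ 1 → ∀ c ∈ centralizer ({h} : Set G),
    ∃ n ∈ normalizer (H : Set G), ∃ w ∈ Cfsg.centralizerPPrimeCore 2 h, c = n * w

/-- the configuration of the character-theoretic endgame -/
structure EndHyp (H : Subgroup G) : Prop where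
  two : IsPGroup 2 H
  comm : ∀ a ∈ H, ∀ b ∈ H, a * b = b * a
  cl : Cfsg.IsExtremelyClosed H
  ne : H ≠ ⊥
  core : Cfsg.oddCore G = ⊥
  gen : normalClosure (H : Set G) = ⊤
  zc : ∀ h ∈ H, h ∈ center G → h = 1
  cen : CentHyp H

/-- conjugation action of `N_G(H)` on `H` -/
def cj (H : Subgroup G) (n : ↥(normalizer (H : Set G))) (b : ↥H) : ↥H :=
  ⟨(n : G) * (b : G) * (n : G)⁻¹, (mem_normalizer_iff.mp n.2 (b : G)).mp b.2⟩

@[simp] theorem coe_cj (H : Subgroup G) (n : ↥(normalizer (H : Set G))) (b : ↥H) :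
    ((cj H n b : ↥H) : G) = (n : G) * (b : G) * (n : G)⁻¹ := rfl

theorem cj_one (H : Subgroup G) (b : ↥H) : cj H 1 b = b := by
  apply Subtype.ext; simp

theorem cj_mul (H : Subgroup G) (m n : ↥(normalizer (H : Set G))) (b : ↥H) :
    cj H (m * n) b = cj H m (cj H n b) := by
  apply Subtype.ext; simp [mul_assoc]

theorem cj_map_mul (H : Subgroup G) (n : ↥(normalizer (H : Set G))) (a b : ↥H) :
    cj H n (a * b) = cj H n a * cj H n b := by
  apply Subtype.ext; simp [mul_assoc]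

theorem cj_map_one (H : Subgroup G) (n : ↥(normalizer (H : Set G))) : cj H n 1 = 1 := by
  apply Subtype.ext; simp

theorem cj_map_inv (H : Subgroup G) (n : ↥(normalizer (H : Set G))) (b : ↥H) :
    cj H n b⁻¹ = (cj H n b)⁻¹ := by
  apply Subtype.ext; simp [mul_assoc]

theorem cj_inv_cj (H : Subgroup G) (n : ↥(normalizer (H : Set G))) (b : ↥H) :
    cj H n⁻¹ (cj H n b) = b := by
  rw [← cj_mul, inv_mul_cancel, cj_one]

theorem cj_cj_inv (H : Subgroup G) (n : ↥(normalizer (H : Set G))) (b : ↥H) :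
    cj H n (cj H n⁻¹ b) = b := by
  rw [← cj_mul, mul_inv_cancel, cj_one]

theorem cj_injective (H : Subgroup G) (n : ↥(normalizer (H : Set G))) :
    Function.Injective (cj H n) := fun a b h => by
  rw [← cj_inv_cj H n a, h, cj_inv_cj]

/-- **LOC** at `g`: there is `ν ∈ N` such that conjugation by `g` and by `ν` agree on `H` modulo
`K_g`, in the form seen by the characters of the set `B` (the principal 2-block). -/
def LocProp (H : Subgroup G) (B : Set (Cfsg.IrrCharacter G)) (g : G) : Prop :=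
  ∃ ν ∈ normalizer (H : Set G), ∀ a ∈ H, ∀ b ∈ H,
    (a * (ν * b * ν⁻¹) = 1 → ¬ 2 ∣ orderOf (a * (g * b * g⁻¹))) ∧
    (a * (ν * b * ν⁻¹) ≠ 1 → ∀ χ ∈ B,
      (χ : G → ℂ) (a * (g * b * g⁻¹)) = (χ : G → ℂ) (a * (ν * b * ν⁻¹))) ∧
    (g * b * g⁻¹ ∈ H → g * b * g⁻¹ = ν * b * ν⁻¹)

/-- **CS** (structure equation) for the pair `a b : H` and every `χ ∈ B`:
`χ(a)χ(b)/χ(1) = |N|⁻¹ ∑_{n ∈ N, a·b^n ≠ 1} χ(a·b^n) + (|N||G|)⁻¹ ∑_x wt(x) χ(a·x b x⁻¹)`
with `wt ≥ 0` supported on `x` with `a·x b x⁻¹` of odd order, of total mass `|G|·#{n | a·b^n = 1}`. -/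
def CSProp [Finite G] (H : Subgroup G) (B : Set (Cfsg.IrrCharacter G)) (a b : ↥H) : Prop :=
  ∃ wt : G → ℕ,
    (∀ x, wt x ≠ 0 → ¬ 2 ∣ orderOf ((a : G) * (x * (b : G) * x⁻¹))) ∧
    (∑ᶠ x, wt x =
      Nat.card G * Nat.card {n : ↥(normalizer (H : Set G)) // a * cj H n b = 1}) ∧
    ∀ χ ∈ B, (χ : G → ℂ) a * (χ : G → ℂ) b / (χ : G → ℂ) 1 =
      (1 / (Nat.card ↥(normalizer (H : Set G)) : ℂ)) *
        (∑ᶠ (n : ↥(normalizer (H : Set G))) (_ : a * cj H n b ≠ 1),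
          (χ : G → ℂ) ((a * cj H n b : ↥H) : G)) +
      (1 / ((Nat.card ↥(normalizer (H : Set G)) : ℂ) * (Nat.card G : ℂ))) *
        ∑ᶠ x, (wt x : ℂ) * (χ : G → ℂ) ((a : G) * (x * (b : G) * x⁻¹))

/-- **ORTH**: `∑_{χ ∈ B} χ(a)χ(b)conj χ(c)/χ(1) = (γ_c/|N|) #{n ∈ N | a·b^n ∈ c^N}` for `c ≠ 1`. -/
def OrthProp (H : Subgroup G) (B : Set (Cfsg.IrrCharacter G)) : Prop :=
  ∀ a b c : ↥H, c ≠ 1 →
    ∑ᶠ χ ∈ B, (χ : G → ℂ) a * (χ : G → ℂ) b * conj ((χ : G → ℂ) c) / (χ : G → ℂ) 1 =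
      (∑ᶠ χ ∈ B, (χ : G → ℂ) c * conj ((χ : G → ℂ) c)) /
          (Nat.card ↥(normalizer (H : Set G)) : ℂ) *
        (Nat.card {n : ↥(normalizer (H : Set G)) //
          ∃ m : ↥(normalizer (H : Set G)), a * cj H n b = cj H m c} : ℂ)

end Cfsg.Agent.Lib.H7.Shult
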