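import Mathlib
import Cfsg.Agent.Lib.H9.SHLOC
import Cfsg.Agent.Lib.H11.SHCSG
import Cfsg.Agent.Lib.H12.SHGLUEA
import Cfsg.Agent.Lib.H8.SHZST
import Cfsg.Agent.Lib.H2.SHREDQ
import Cfsg.Agent.Lib.L0.PRegCongP
import Cfsg.Agent.S0942

/-!
# S3017 (Shult): the minimal configuration

`min_normal` : in the minimal configuration of helper2's `H2.SH.red'` the subgroup `H` is normal,
given the two group-side case theorems (CASE A, CASE B) as explicit hypotheses.
Inputs: helper9's `loc_main` (+ landed S0942) gives helper11's `LocData`; `g = k ν` and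
`H ⊓ K_g = ⊥` give control of fusion; if `N_G(H)` centralizes `H`, helper8's `zst_core` makes an
involution of `H` central.
-/

set_option autoImplicit false

namespace Cfsg.Agent.Lib.H7.Shult

open Cfsg

universe u

section loc

variable {G : Type u} [Group G] [Finite G] {H : Subgroup G}

/-- LOC (helper9) + S0942 give `LocData` (helper11's shape). -/
theorem locData_of_loc (M : Ideal AlgInt) (hM : IsPModular 2 M)
    (hH2 : IsPGroup 2 H) (hHab : IsMulCommutative H) (hcl : IsExtremelyClosed H)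
    (hIH : ∀ h ∈ H, h ≠ 1 → Subgroup.normalizer
        ((H.subgroupOf (Subgroup.centralizer ({h} : Set G)) :
          Subgroup ↥(Subgroup.centralizer ({h} : Set G))) :
          Set ↥(Subgroup.centralizer ({h} : Set G))) ⊔
        Cfsg.oddCore ↥(Subgroup.centralizer ({h} : Set G)) = ⊤) :
    Cfsg.Agent.Lib.H11.SH.LocData 2 H (principalBlock M G) := by
  have : Fact (Nat.Prime 2) := ⟨Nat.prime_two⟩
  intro g
  obtain ⟨k, hk, ν, hν, hg, hmain⟩ := Cfsg.Agent.Lib.H9.SH.loc_main hH2 hHab hcl hIH g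
  refine ⟨ν, hν, fun a ha b hb => ⟨?_, ?_⟩⟩
  · intro hne χ hχ
    obtain ⟨x, w, hw, hx⟩ := (hmain a ha b hb).1 hne
    have hb' : ν * b * ν⁻¹ ∈ H := ((Subgroup.mem_normalizer_iff.1 hν) b).1 hb
    have hu : a * (ν * b * ν⁻¹) ∈ H := H.mul_mem ha hb'
    have hu2 : ∃ j : ℕ, orderOf (a * (ν * b * ν⁻¹)) = 2 ^ j := by
      obtain ⟨j, hj⟩ := hH2 ⟨_, hu⟩
      have h1 : (a * (ν * b * ν⁻¹)) ^ 2 ^ j = 1 := by
        have := congrArg Subtype.val hj
        simpa using this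
      obtain ⟨i, _, hi⟩ := (Nat.dvd_prime_pow Nat.prime_two).1 (orderOf_dvd_of_pow_eq_one h1)
      exact ⟨i, hi⟩
    have h942 := Cfsg.Agent.S0942.result 2 M hM (a * (ν * b * ν⁻¹)) hu2 w hw χ hχ
    have hcf := Cfsg.Agent.Lib.L0.isClassFunction_of_isCharacter
      (Cfsg.Agent.Lib.L0.isCharacter_of_irr χ.2)
    rw [← h942, ← hx]
    exact (hcf _ x).symm
  · intro h1 h2
    have hodd := (hmain a ha b hb).2 h1
    exact (Nat.not_even_iff_odd.2 hodd) (even_iff_two_dvd.2 h2)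

/-- `N_G(H)` controls fusion in `H`. -/
theorem fus_of_loc (hH2 : IsPGroup 2 H) (hHab : IsMulCommutative H)
    (hcl : IsExtremelyClosed H) :
    ∀ h ∈ H, ∀ c ∈ H, IsConj h c →
      ∃ n ∈ Subgroup.normalizer (H : Set G), n * c * n⁻¹ = h := by
  intro h hh c hc hconj
  obtain ⟨g, hg⟩ := isConj_iff.1 hconj
  obtain ⟨k, hk, ν, hν, hgk⟩ := Cfsg.Agent.Lib.H9.SH.exists_struct hH2 hHab hcl g
  have hb' : ν * h * ν⁻¹ ∈ H := ((Subgroup.mem_normalizer_iff.1 hν) h).1 hh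
  have hc' : c = k * (ν * h * ν⁻¹) * k⁻¹ := by rw [← hg, hgk]; group
  have hmem : (ν * h * ν⁻¹)⁻¹ * c ∈ Cfsg.Agent.Lib.H9.SH.Kg H g := by
    have h1 : (ν * h * ν⁻¹)⁻¹ * c = ((ν * h * ν⁻¹)⁻¹ * k * ((ν * h * ν⁻¹)⁻¹)⁻¹) * k⁻¹ := by
      rw [hc']; group
    rw [h1]
    refine Subgroup.mul_mem _ ?_ (Subgroup.inv_mem _ hk)
    exact Cfsg.Agent.Lib.H9.SH.Kg_conj_mem H g
      (Cfsg.Agent.Lib.H9.SH.H_le_Tg H g (H.inv_mem hb')) hk
  have hmemH : (ν * h * ν⁻¹)⁻¹ * c ∈ H := H.mul_mem (H.inv_mem hb') hc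
  have h1 : (ν * h * ν⁻¹)⁻¹ * c = 1 := by
    have h2 : (ν * h * ν⁻¹)⁻¹ * c ∈ H ⊓ Cfsg.Agent.Lib.H9.SH.Kg H g := ⟨hmemH, hmem⟩
    rw [Cfsg.Agent.Lib.H9.SH.H_inf_Kg hH2 hHab hcl g, Subgroup.mem_bot] at h2
    exact h2
  have hceq : c = ν * h * ν⁻¹ := (inv_mul_eq_one.1 h1).symm
  refine ⟨ν⁻¹, Subgroup.inv_mem _ hν, ?_⟩
  rw [hceq]; group

end loc

/-- the shape of the group-side CASE A theorem -/
def CaseAStmt : Prop :=
  ∀ (G : Type u) [Group G] [Finite G] (M : Ideal AlgInt), IsPModular 2 M → ∀ H : Subgroup G,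
    IsPGroup 2 H → (∀ a ∈ H, ∀ b ∈ H, a * b = b * a) →
    Cfsg.Agent.Lib.H11.SH.LocData 2 H (principalBlock M G) →
    (∀ h ∈ H, ∀ c ∈ H, IsConj h c → ∃ n ∈ Subgroup.normalizer (H : Set G), n * c * n⁻¹ = h) →
    Subgroup.normalClosure (H : Set G) = ⊤ → ¬ Cfsg.Agent.Lib.H12.SH.TransN H →
    ∀ n ∈ Subgroup.normalizer (H : Set G), ∀ a ∈ H, n * a * n⁻¹ = a

/-- the shape of the group-side CASE B theorem -/
def CaseBStmt : Prop :=
  ∀ (G : Type u) [Group G] [Finite G] (M : Ideal AlgInt), IsPModular 2 M → ∀ H : Subgroup G,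
    IsPGroup 2 H → (∀ a ∈ H, ∀ b ∈ H, a * b = b * a) →
    Cfsg.Agent.Lib.H11.SH.LocData 2 H (principalBlock M G) →
    Subgroup.normalClosure (H : Set G) = ⊤ → Cfsg.Agent.Lib.H12.SH.TransN H →
    ¬ (∀ n ∈ Subgroup.normalizer (H : Set G), ∀ a ∈ H, n * a * n⁻¹ = a) → False

/-- **MIN**: in the minimal configuration `H` is normal. -/
theorem min_normal (caseA : CaseAStmt.{u}) (caseB : CaseBStmt.{u}) :
    ∀ (G : Type u) [Group G] [Finite G] (H : Subgroup G), IsPGroup 2 H →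
      IsMulCommutative H → IsExtremelyClosed H → Cfsg.Agent.Lib.H2.SH.SmallerOK G →
      oddCore G = ⊥ → Subgroup.normalClosure (H : Set G) = ⊤ →
      H ⊓ Subgroup.center G = ⊥ → H.Normal := by
  intro G _ _ H hH2 hHab hcl IH hO hncl hZ
  by_cases hbot : H = ⊥
  · subst hbot; infer_instance
  exfalso
  obtain ⟨M, hM⟩ := Cfsg.Agent.Lib.L0.PRegP.exists_isPModular Nat.prime_two
  have hcomm : ∀ a ∈ H, ∀ b ∈ H, a * b = b * a :=
    fun a ha b hb => setLike_mul_comm ha hb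
  have hIH : ∀ h ∈ H, h ≠ 1 → Subgroup.normalizer
      ((H.subgroupOf (Subgroup.centralizer ({h} : Set G)) :
        Subgroup ↥(Subgroup.centralizer ({h} : Set G))) :
        Set ↥(Subgroup.centralizer ({h} : Set G))) ⊔
      Cfsg.oddCore ↥(Subgroup.centralizer ({h} : Set G)) = ⊤ := by
    intro h hh h1
    refine Cfsg.Agent.Lib.H2.SH.smallerOK_subgroup IH H hH2 hHab hcl
      (Subgroup.centralizer ({h} : Set G)) ?_ ?_
    · intro x hx
      rw [Subgroup.mem_centralizer_iff]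
      intro y hy
      rw [Set.mem_singleton_iff] at hy
      subst hy
      exact hcomm y hh x hx
    · intro htop
      have hc : h ∈ Subgroup.center G := by
        rw [Subgroup.mem_center_iff]
        intro g
        have hg : g ∈ Subgroup.centralizer ({h} : Set G) := htop ▸ Subgroup.mem_top g
        exact ((Subgroup.mem_centralizer_iff.1 hg) h rfl).symm
      have hmem : h ∈ H ⊓ Subgroup.center G := ⟨hh, hc⟩
      rw [hZ, Subgroup.mem_bot] at hmem
      exact h1 hmem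
  have hloc := locData_of_loc M hM hH2 hHab hcl hIH
  have hfus := fus_of_loc hH2 hHab hcl
  by_cases hcen : ∀ n ∈ Subgroup.normalizer (H : Set G), ∀ a ∈ H, n * a * n⁻¹ = a
  · obtain ⟨a, ha, ha2⟩ := Cfsg.Agent.Lib.H12.SH.exists_involution hH2 hbot
    have haa : a * a = 1 := by
      rw [← sq, ← ha2]; exact pow_orderOf_eq_one a
    have hodd : ∀ g : G, Odd (orderOf (a * (g * a * g⁻¹))) := by
      intro g
      obtain ⟨ν, hν, hh⟩ := hloc g
      have h1 : a * (ν * a * ν⁻¹) = 1 := by rw [hcen ν hν a ha]; exact haa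
      have h2 := (hh a ha a ha).2 h1
      rcases Nat.even_or_odd (orderOf (a * (g * a * g⁻¹))) with he | ho
      · exact absurd (even_iff_two_dvd.1 he) h2
      · exact ho
    have hc := Cfsg.Agent.Lib.H8.SH.zst_core hO a ha2 hodd
    have hmem : a ∈ H ⊓ Subgroup.center G := ⟨ha, hc⟩
    rw [hZ, Subgroup.mem_bot] at hmem
    rw [hmem, orderOf_one] at ha2
    exact absurd ha2 (by norm_num)
  · by_cases htr : Cfsg.Agent.Lib.H12.SH.TransN H
    · exact caseB G M hM H hH2 hcomm hloc hncl htr hcen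
    · exact hcen (caseA G M hM H hH2 hcomm hloc hfus hncl htr)

end Cfsg.Agent.Lib.H7.Shult
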