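import Cfsg.Agent.Lib.H7.SpMinQC
import Cfsg.Agent.Lib.H3.SpMinGL1
import Cfsg.Agent.Lib.H5.SpMinA4
import Cfsg.Agent.Lib.H18.SpMinRB
import Cfsg.Agent.Lib.H18.SpMinD
import Cfsg.Agent.Lib.H2.SpMinCOV
import Cfsg.Agent.Lib.H25.SpMinB2
import Cfsg.Agent.Lib.H4.SpMinCQ
import Cfsg.Agent.Lib.H4.SpMinCZ
import Cfsg.Prelude.Def_Classical

/-!
# S2142 (helper7, architect): the minimal index of a proper subgroup of `Sp_{2m}(2)`, `m ≥ 3`, is `2^(m-1) (2^m - 1)` — assembly

Pieces: A1/A2 helper1 (rank-3 Fisher inequality), GL1/CNT helper3, FIX/COV helper2, CZ/CQ helper4, A4 helper5, D/RB helper18, B2 helper25,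
QA/QC helper7.  Blueprint: tools/blueprints/S2142.md.
-/

set_option autoImplicit false
set_option linter.unusedSectionVars false
set_option linter.unusedVariables false

namespace Cfsg.Agent.Lib.H7.SpMin

open Matrix Cfsg.Agent.Lib.H4 Cfsg.Agent.Lib.H2.Sp

variable {F : Type*} [Field F] [Fintype F] (m : ℕ)

set_option quotPrecheck false in
local notation "Sp" => ↥(Matrix.symplecticGroup (Fin m) F)

set_option quotPrecheck false in
local notation "MM" => Matrix (Fin m ⊕ Fin m) (Fin m ⊕ Fin m) F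

set_option quotPrecheck false in
local notation "VV" => (Fin m ⊕ Fin m → F)

set_option quotPrecheck false in
local notation "B" => Cfsg.sympForm m F

/-! ## PROVED assembly (helper7) -/

/-- a transitive subgroup containing a transvection is everything -/
theorem eq_top_of_isTrans_of_t_mem (hF : Fintype.card F = 2) (H : Subgroup Sp) (htr : IsTrans m H) (v : VV) (hv : v ≠ 0)
    (hvH : t m v ∈ H) : H = ⊤ := by
  rw [eq_top_iff, ← TS_eq_top m]
  unfold TS
  rw [Subgroup.closure_le]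
  rintro g ⟨w, c, rfl⟩
  by_cases hw : w = 0
  · subst hw
    have : tv m (0 : VV) c = 1 := by
      apply Subtype.ext
      rw [tv_val, Matrix.ext_iff_mulVec]
      intro x
      rw [sympTransvection_mulVec, smul_zero, add_zero]
      simp
    rw [this]; exact one_mem _
  rcases eq_zero_or_one hF c with rfl | rfl
  · rw [tv_zero_right]; exact one_mem _
  · obtain ⟨h, hh, hhv⟩ := htr v w hv hw
    have := conj_tv h v (1 : F)
    rw [hhv] at this
    rw [SetLike.mem_coe, ← this]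
    exact mul_mem (mul_mem hh hvH) (inv_mem hh)

/-- the transitive case -/
theorem index_ge_of_isTrans (hF : Fintype.card F = 2) (hm : 3 ≤ m) (H : Subgroup Sp) (hH : H ≠ ⊤) (htr : IsTrans m H) :
    2 ^ (2 * m - 1) ≤ H.index := by
  have hno : ∀ v : VV, v ≠ 0 → t m v ∉ H := fun v hv hvH => hH (eq_top_of_isTrans_of_t_mem m hF H htr v hv hvH)
  by_cases hfull : ∀ p : VV, p ≠ 0 → ∀ y : VV, B p y = 0 → s m p y ∈ H ∨ s m p y * t m p ∈ H
  · exact (Cfsg.Agent.Lib.H25.SpMin.false_of_full m hF hm H hno hfull).elim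
  · push Not at hfull
    obtain ⟨a, ha, y₀, hy₀, hy₀H⟩ := hfull
    obtain ⟨U, hU⟩ := Cfsg.Agent.Lib.H18.SpMin.exists_Rbar m hF a H
    have haU : a ∈ U := by
      rw [hU]
      refine ⟨sympForm_self m a, Or.inl ?_⟩
      have h1 : s m a a = 1 := by
        have haa : a + a = 0 := by
          funext i
          exact add_self_eq hF (a i)
        unfold s
        rw [haa, tv_mul, add_self_eq hF, tv_zero_right, one_mul]
        apply Subtype.ext
        rw [tv_val, Matrix.ext_iff_mulVec]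
        intro x
        rw [sympTransvection_mulVec, smul_zero, add_zero]
        simp
      rw [h1]; exact one_mem _
    have hUa : ∀ y ∈ U, B a y = 0 := fun y hy => ((hU y).mp hy).1
    have hy₀U : y₀ ∉ U := fun h => by
      rcases ((hU y₀).mp h).2 with h1 | h1
      · exact hy₀H.1 h1
      · exact hy₀H.2 h1
    have h1 := Cfsg.Agent.Lib.H3.SpMin.index_ge_mul_conj H (Pa m a) (Qa m a)
      (by
        intro g
        have hga : (g : MM) *ᵥ a ≠ 0 := by
          intro h0
          apply ha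
          have h2 : ((g⁻¹ : Sp) : MM) *ᵥ ((g : MM) *ᵥ a) = a := by
            rw [Matrix.mulVec_mulVec, ← Submonoid.coe_mul, inv_mul_cancel, Submonoid.coe_one, Matrix.one_mulVec]
          rw [h0, Matrix.mulVec_zero] at h2
          exact h2.symm
        obtain ⟨h, hh, hha⟩ := htr a ((g : MM) *ᵥ a) ha hga
        refine ⟨h, hh, h⁻¹ * g, ?_, by group⟩
        rw [mem_Pa, Submonoid.coe_mul, ← Matrix.mulVec_mulVec, ← hha, Matrix.mulVec_mulVec, ← Submonoid.coe_mul,
          inv_mul_cancel, Submonoid.coe_one, Matrix.one_mulVec])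
      (Qa_le_Pa m hF a) (conj_mem_Qa m hF a) (Qa_comm m hF a)
    have h2 := Cfsg.Agent.Lib.H18.SpMin.relIndex_mul_card m hF a ha H (hno a ha) U hU
    have h3 := Cfsg.Agent.Lib.H18.SpMin.card_images_le_card_conj m hF a ha H U hU
    have h4 := Cfsg.Agent.Lib.H2.SpMin.card_le_two_mul_images m hF a ha U haU hUa y₀ hy₀ hy₀U
    -- numerics
    set r := (Qa m a ⊓ H).relIndex (Qa m a) with hr
    set c := Nat.card {K : Subgroup Sp // ∃ p ∈ Pa m a, K = (Qa m a ⊓ H).map (MulAut.conj p).toMonoidHom} with hc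
    set i := Nat.card {U' : Submodule F VV // ∃ p ∈ Pa m a, U' = U.map (Matrix.toLin' (p : MM))} with hi
    set u := Nat.card U with hu
    have h5 : 2 ^ (2 * m) ≤ 2 * (r * c) := by
      calc 2 ^ (2 * m) = r * u := h2.symm
        _ ≤ r * (2 * i) := Nat.mul_le_mul_left _ h4
        _ ≤ r * (2 * c) := Nat.mul_le_mul_left _ (Nat.mul_le_mul_left _ h3)
        _ = 2 * (r * c) := by ring
    have h6 : 2 ^ (2 * m) = 2 * 2 ^ (2 * m - 1) := by
      rw [← pow_succ']; congr 1; omega
    omega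

/-- the main theorem for the matrix group -/
theorem sp_min_index (hF : Fintype.card F = 2) (hm : 3 ≤ m) :
    (∀ H : Subgroup Sp, H ≠ ⊤ → 2 ^ (m - 1) * (2 ^ m - 1) ≤ H.index) ∧
      ∃ H : Subgroup Sp, H.index = 2 ^ (m - 1) * (2 ^ m - 1) := by
  have hnum : 2 ^ (m - 1) * (2 ^ m - 1) = 2 ^ (2 * m - 1) - 2 ^ (m - 1) := by
    have h1 : 2 ^ (2 * m - 1) = 2 ^ (m - 1) * 2 ^ m := by rw [← pow_add]; congr 1; omega
    rw [h1, Nat.mul_sub, mul_one]
  refine ⟨fun H hH => ?_, ?_⟩
  · by_cases htr : IsTrans m H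
    · have := index_ge_of_isTrans m hF hm H hH htr
      rw [hnum]; exact le_trans (Nat.sub_le _ _) this
    · exact Cfsg.Agent.Lib.H5.SpMin.index_ge_of_not_isTrans m hF (by omega) H htr
  · refine ⟨OQ m (Qminus m (by omega)), ?_⟩
    rw [Cfsg.Agent.Lib.H4.SpMin.index_OQ m hF _ (Cfsg.Agent.Lib.H4.SpMin.Qminus_isQuad m hF (by omega)), Cfsg.Agent.Lib.H4.SpMin.card_zeros_Qminus m hF (by omega), hnum]

/-- **S2142** -/
theorem result_of (hF : Fintype.card F = 2) (hm : 3 ≤ m) :
    (∀ H : Subgroup (Cfsg.PSp m F), H ≠ ⊤ → 2 ^ (m - 1) * (2 ^ m - 1) ≤ H.index) ∧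
      (∃ H : Subgroup (Cfsg.PSp m F), H.index = 2 ^ (m - 1) * (2 ^ m - 1)) :=
  Cfsg.Agent.Lib.H18.SpMin.psp_transfer m hF (by omega) _ (sp_min_index m hF hm).1 (sp_min_index m hF hm).2

end Cfsg.Agent.Lib.H7.SpMin
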