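import Cfsg.Agent.Lib.H7.SpMinDefs

/-!
# S2142-QA (helper7): the radical `Q_a` of the stabiliser of a vector in `Sp_{2m}(2)`
-/

set_option autoImplicit false
set_option linter.unusedSectionVars false
set_option linter.unusedVariables false
set_option linter.unusedSimpArgs false

namespace Cfsg.Agent.Lib.H7.SpMin

open Matrix Cfsg.Agent.Lib.H4 Cfsg.Agent.Lib.H2.Sp

variable {F : Type*} [Field F] [Fintype F] (m : ℕ)

set_option quotPrecheck false in
local notation "Sp" => ↥(Matrix.symplecticGroup (Fin m) F)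

set_option quotPrecheck false in
local notation "MM" => Matrix (Fin m ⊕ Fin m) (Fin m ⊕ Fin m) F

set_option quotPrecheck false in
local notation "VV" => (Fin m ⊕ Fin m → F)

set_option quotPrecheck false in
local notation "B" => Cfsg.sympForm m F

theorem t_mulVec (v x : VV) : (t m v : MM) *ᵥ x = x + B x v • v := by
  unfold t; rw [tv_mulVec, one_mul]

theorem ext_mulVec (g h : Sp) (hgh : ∀ x : VV, (g : MM) *ᵥ x = (h : MM) *ᵥ x) : g = h := by
  apply Subtype.ext
  rw [Matrix.ext_iff_mulVec]
  exact hgh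

theorem mul_mulVec (g h : Sp) (x : VV) : ((g * h : Sp) : MM) *ᵥ x = (g : MM) *ᵥ ((h : MM) *ᵥ x) := by
  rw [Submonoid.coe_mul, Matrix.mulVec_mulVec]

theorem sympForm_mulVec (g : Sp) (u v : VV) : B ((g : MM) *ᵥ u) ((g : MM) *ᵥ v) = B u v :=
  (mem_symplecticGroup_iff_sympForm m g.1).1 g.2 u v

theorem s_mulVec (hF : Fintype.card F = 2) (a y x : VV) (hay : B a y = 0) :
    (s m a y : MM) *ᵥ x = x + B x a • y + B x y • a := by
  have h2 := two_eq_zero hF
  have hya : B y a = 0 := by rw [sympForm_symm m hF, hay]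
  unfold s
  rw [mul_mulVec, mul_mulVec, tv_mulVec, tv_mulVec, tv_mulVec]
  simp only [one_mul, sympForm_add_left, sympForm_add_right, sympForm_smul_left, sympForm_self, hay, hya,
    mul_zero, add_zero, zero_add]
  funext i
  simp only [Pi.add_apply, Pi.smul_apply, smul_eq_mul]
  linear_combination (B x a * a i + B x y * y i) * h2

theorem s_mul_s_of_perp (hF : Fintype.card F = 2) (a y y' : VV) (hay : B a y = 0) (hay' : B a y' = 0)
    (hyy : B y y' = 0) : s m a y * s m a y' = s m a (y + y') := by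
  have hy'y : B y' y = 0 := by rw [sympForm_symm m hF, hyy]
  have hya : B y a = 0 := by rw [sympForm_symm m hF, hay]
  have hy'a : B y' a = 0 := by rw [sympForm_symm m hF, hay']
  apply ext_mulVec
  intro x
  rw [mul_mulVec, s_mulVec m hF a y' x hay', s_mulVec m hF a y _ hay,
    s_mulVec m hF a (y + y') x (by rw [sympForm_add_right, hay, hay', add_zero])]
  simp only [sympForm_add_left, sympForm_add_right, sympForm_smul_left, sympForm_self, hay, hay', hya, hy'a, hyy, hy'y,
    mul_zero, add_zero, zero_add, smul_add, add_smul]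
  abel

theorem s_mul_s_of_not_perp (hF : Fintype.card F = 2) (a y y' : VV) (hay : B a y = 0) (hay' : B a y' = 0)
    (hyy : B y y' ≠ 0) : s m a y * s m a y' = s m a (y + y') * t m a := by
  have hyy1 : B y y' = 1 := eq_one_of_ne_zero hF hyy
  have hy'y : B y' y = 1 := by rw [sympForm_symm m hF, hyy1]
  have hya : B y a = 0 := by rw [sympForm_symm m hF, hay]
  have hy'a : B y' a = 0 := by rw [sympForm_symm m hF, hay']
  have h2 := two_eq_zero hF
  apply ext_mulVec
  intro x
  rw [mul_mulVec, mul_mulVec, s_mulVec m hF a y' x hay', s_mulVec m hF a y _ hay, t_mulVec,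
    s_mulVec m hF a (y + y') _ (by rw [sympForm_add_right, hay, hay', add_zero])]
  simp only [sympForm_add_left, sympForm_add_right, sympForm_smul_left, sympForm_self, hay, hay', hya, hy'a, hyy1, hy'y,
    mul_zero, add_zero, zero_add, mul_one]
  funext i
  simp only [Pi.add_apply, Pi.smul_apply, smul_eq_mul]
  linear_combination (0 : F) * h2


theorem s_conj (g : Sp) (a y : VV) :
    g * s m a y * g⁻¹ = s m ((g : MM) *ᵥ a) ((g : MM) *ᵥ y) := by
  unfold s
  rw [← conj_tv, ← conj_tv, ← Matrix.mulVec_add, ← conj_tv]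
  group

theorem t_conj (g : Sp) (a : VV) : g * t m a * g⁻¹ = t m ((g : MM) *ᵥ a) := by
  unfold t
  rw [conj_tv]

theorem t_mul_self (hF : Fintype.card F = 2) (a : VV) : t m a * t m a = 1 := by
  unfold t
  rw [tv_mul, add_self_eq hF, tv_zero_right]


theorem s_fix (hF : Fintype.card F = 2) (a y : VV) (hay : B a y = 0) : (s m a y : MM) *ᵥ a = a := by
  rw [s_mulVec m hF a y a hay, sympForm_self, hay, zero_smul, zero_smul, add_zero, add_zero]

theorem t_fix (a : VV) : (t m a : MM) *ᵥ a = a := by
  rw [t_mulVec, sympForm_self, zero_smul, add_zero]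

theorem s_zero (hF : Fintype.card F = 2) (a : VV) : s m a 0 = 1 := by
  apply ext_mulVec
  intro x
  rw [s_mulVec m hF a 0 x (by simp [Cfsg.sympForm]), Submonoid.coe_one, Matrix.one_mulVec, smul_zero, add_zero]
  have : B x 0 = 0 := by simp [Cfsg.sympForm]
  rw [this, zero_smul, add_zero]

theorem s_mul_self (hF : Fintype.card F = 2) (a y : VV) (hay : B a y = 0) : s m a y * s m a y = 1 := by
  rw [s_mul_s_of_perp m hF a y y hay hay (sympForm_self m y)]
  have : y + y = 0 := by
    funext i
    exact add_self_eq hF (y i)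
  rw [this, s_zero m hF]

theorem t_comm_s (hF : Fintype.card F = 2) (a y : VV) (hay : B a y = 0) : t m a * s m a y = s m a y * t m a := by
  have h1 := t_conj m (s m a y) a
  rw [s_fix m hF a y hay, mul_inv_eq_iff_eq_mul] at h1
  exact h1.symm

/-- the general product formula -/
theorem s_mul_s (hF : Fintype.card F = 2) (a y y' : VV) (hay : B a y = 0) (hay' : B a y' = 0) :
    s m a y * s m a y' = s m a (y + y') ∨ s m a y * s m a y' = s m a (y + y') * t m a := by
  by_cases hyy : B y y' = 0
  · exact Or.inl (s_mul_s_of_perp m hF a y y' hay hay' hyy)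
  · exact Or.inr (s_mul_s_of_not_perp m hF a y y' hay hay' hyy)

theorem mem_Qa_iff (hF : Fintype.card F = 2) (a : VV) (g : Sp) :
    g ∈ Qa m a ↔ ∃ y : VV, B a y = 0 ∧ (g = s m a y ∨ g = s m a y * t m a) := by
  constructor
  · intro hg
    unfold Qa at hg
    induction hg using Subgroup.closure_induction with
    | mem x hx =>
      rcases hx with ⟨y, hy, rfl⟩ | hx
      · exact ⟨y, hy, Or.inl rfl⟩
      · rw [Set.mem_singleton_iff] at hx
        subst hx
        refine ⟨0, by simp [Cfsg.sympForm], Or.inr ?_⟩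
        rw [s_zero m hF, one_mul]
    | one => exact ⟨0, by simp [Cfsg.sympForm], Or.inl (s_zero m hF a).symm⟩
    | mul x x' _ _ ihx ihx' =>
      obtain ⟨y, hy, hx⟩ := ihx
      obtain ⟨y', hy', hx'⟩ := ihx'
      have hyy' : B a (y + y') = 0 := by rw [sympForm_add_right, hy, hy', add_zero]
      refine ⟨y + y', hyy', ?_⟩
      have hc := t_comm_s m hF a y' hy'
      have htt := t_mul_self m hF a
      rcases s_mul_s m hF a y y' hy hy' with h | h <;> rcases hx with rfl | rfl <;> rcases hx' with rfl | rfl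
      · exact Or.inl h
      · right; rw [← mul_assoc, h]
      · right; rw [mul_assoc, hc, ← mul_assoc, h]
      · left; rw [mul_assoc, ← mul_assoc (t m a), hc, mul_assoc, htt, mul_one, h]
      · exact Or.inr h
      · left; rw [← mul_assoc, h, mul_assoc, htt, mul_one]
      · left; rw [mul_assoc, hc, ← mul_assoc, h, mul_assoc, htt, mul_one]
      · right; rw [mul_assoc, ← mul_assoc (t m a), hc, mul_assoc, htt, mul_one, h]
    | inv x _ ihx =>
      obtain ⟨y, hy, hx⟩ := ihx
      refine ⟨y, hy, ?_⟩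
      have hss := s_mul_self m hF a y hy
      have htt := t_mul_self m hF a
      have hc := t_comm_s m hF a y hy
      rcases hx with rfl | rfl
      · left; exact inv_eq_of_mul_eq_one_right hss
      · right
        apply inv_eq_of_mul_eq_one_right
        rw [mul_assoc, ← mul_assoc (t m a), hc, mul_assoc, htt, mul_one, hss]
  · rintro ⟨y, hy, rfl | rfl⟩
    · exact Subgroup.subset_closure (Or.inl ⟨y, hy, rfl⟩)
    · exact mul_mem (Subgroup.subset_closure (Or.inl ⟨y, hy, rfl⟩)) (Subgroup.subset_closure (Or.inr rfl))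


theorem s_comm_s (hF : Fintype.card F = 2) (a y y' : VV) (hay : B a y = 0) (hay' : B a y' = 0) :
    s m a y * s m a y' = s m a y' * s m a y := by
  by_cases hyy : B y y' = 0
  · have hy'y : B y' y = 0 := by rw [sympForm_symm m hF, hyy]
    rw [s_mul_s_of_perp m hF a y y' hay hay' hyy, s_mul_s_of_perp m hF a y' y hay' hay hy'y, add_comm]
  · have hy'y : B y' y ≠ 0 := by rw [sympForm_symm m hF]; exact hyy
    rw [s_mul_s_of_not_perp m hF a y y' hay hay' hyy, s_mul_s_of_not_perp m hF a y' y hay' hay hy'y, add_comm]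

theorem Qa_comm (hF : Fintype.card F = 2) (a : VV) : ∀ q ∈ Qa m a, ∀ q' ∈ Qa m a, q * q' = q' * q := by
  intro q hq q' hq'
  rw [mem_Qa_iff m hF] at hq hq'
  obtain ⟨y, hy, hq⟩ := hq
  obtain ⟨y', hy', hq'⟩ := hq'
  have hc := t_comm_s m hF a y hy
  have hc' := t_comm_s m hF a y' hy'
  have hs := s_comm_s m hF a y y' hy hy'
  rcases hq with rfl | rfl <;> rcases hq' with rfl | rfl
  · exact hs
  · rw [← mul_assoc, hs, mul_assoc, mul_assoc, hc]
  · rw [mul_assoc, hc', ← mul_assoc, hs, mul_assoc]
  · calc s m a y * t m a * (s m a y' * t m a) = s m a y * (t m a * s m a y') * t m a := by group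
      _ = s m a y * (s m a y' * t m a) * t m a := by rw [hc']
      _ = (s m a y * s m a y') * t m a * t m a := by group
      _ = (s m a y' * s m a y) * t m a * t m a := by rw [hs]
      _ = s m a y' * (s m a y * t m a) * t m a := by group
      _ = s m a y' * (t m a * s m a y) * t m a := by rw [hc]
      _ = s m a y' * t m a * (s m a y * t m a) := by group

theorem Qa_le_Pa (hF : Fintype.card F = 2) (a : VV) : Qa m a ≤ Pa m a := by
  intro g hg
  rw [mem_Qa_iff m hF] at hg
  obtain ⟨y, hy, rfl | rfl⟩ := hg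
  · rw [mem_Pa]; exact s_fix m hF a y hy
  · rw [mem_Pa, mul_mulVec, t_fix, s_fix m hF a y hy]

theorem conj_mem_Qa (hF : Fintype.card F = 2) (a : VV) : ∀ p ∈ Pa m a, ∀ q ∈ Qa m a, p * q * p⁻¹ ∈ Qa m a := by
  intro p hp q hq
  rw [mem_Pa] at hp
  rw [mem_Qa_iff m hF] at hq ⊢
  obtain ⟨y, hy, hq⟩ := hq
  have hpy : B a ((p : MM) *ᵥ y) = 0 := by
    have := sympForm_mulVec m p a y
    rw [hp] at this
    rw [this, hy]
  have h1 : p * s m a y * p⁻¹ = s m a ((p : MM) *ᵥ y) := by
    rw [s_conj, hp]
  have h2 : p * t m a * p⁻¹ = t m a := by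
    rw [t_conj, hp]
  refine ⟨(p : MM) *ᵥ y, hpy, ?_⟩
  rcases hq with rfl | rfl
  · left; exact h1
  · right
    calc p * (s m a y * t m a) * p⁻¹ = (p * s m a y * p⁻¹) * (p * t m a * p⁻¹) := by group
      _ = s m a ((p : MM) *ᵥ y) * t m a := by rw [h1, h2]

end Cfsg.Agent.Lib.H7.SpMin
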