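import Cfsg.Agent.Lib.H7.SpMinQA
import Cfsg.Agent.Lib.H2.SpOrder

/-!
# S2142-QC (helper7): `|Q_a| = 2^(2m-1)` — `Q_a` acts regularly on `{v | B a v = 1}`
-/

set_option autoImplicit false
set_option linter.unusedSectionVars false
set_option linter.unusedVariables false
set_option linter.unusedSimpArgs false

namespace Cfsg.Agent.Lib.H7.SpMin

open Matrix Cfsg.Agent.Lib.H4 Cfsg.Agent.Lib.H2.Sp

variable {F : Type*} [Field F] [Fintype F] (m : ℕ)

set_option quotPrecheck false in
local notation "Sp" => ↥(Matrix.symplecticGroup (Fin m) F)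

set_option quotPrecheck false in
local notation "MM" => Matrix (Fin m ⊕ Fin m) (Fin m ⊕ Fin m) F

set_option quotPrecheck false in
local notation "VV" => (Fin m ⊕ Fin m → F)

set_option quotPrecheck false in
local notation "B" => Cfsg.sympForm m F

theorem sympForm_zero_right' (v : VV) : B v 0 = 0 := by simp [Cfsg.sympForm]

theorem sympForm_zero_left' (v : VV) : B 0 v = 0 := by simp [Cfsg.sympForm]

theorem s_self (hF : Fintype.card F = 2) (a : VV) : s m a a = 1 := by
  apply ext_mulVec
  intro x
  rw [s_mulVec m hF a a x (sympForm_self m a), Submonoid.coe_one, Matrix.one_mulVec, add_assoc, ← add_smul,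
    add_self_eq hF, zero_smul, add_zero]

/-- an element of `Q_a` fixing a vector `b` with `B a b = 1` is trivial -/
theorem eq_one_of_mem_Qa_of_fix (hF : Fintype.card F = 2) (a b : VV) (hab : B a b = 1) (g : Sp) (hg : g ∈ Qa m a)
    (hgb : (g : MM) *ᵥ b = b) : g = 1 := by
  have hba : B b a = 1 := by rw [sympForm_symm m hF, hab]
  rw [mem_Qa_iff m hF] at hg
  obtain ⟨y, hy, rfl | rfl⟩ := hg
  · rw [s_mulVec m hF a y b hy, hba, one_smul, add_assoc, add_eq_left] at hgb
    -- y = B b y • a
    have hy' : y = B b y • a := by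
      have := congrArg (fun z => z + B b y • a) hgb
      simp only [zero_add] at this
      rw [add_assoc, ← add_smul, add_self_eq hF, zero_smul, add_zero] at this
      exact this
    rcases eq_zero_or_one hF (B b y) with h0 | h1
    · rw [h0, zero_smul] at hy'
      rw [hy', s_zero m hF]
    · rw [h1, one_smul] at hy'
      rw [hy', s_self m hF]
  · exfalso
    rw [mul_mulVec, t_mulVec, hba, one_smul, Matrix.mulVec_add, s_fix m hF a y hy, s_mulVec m hF a y b hy, hba, one_smul,
      add_assoc, add_assoc, add_eq_left] at hgb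
    -- y + (B b y • a + a) = 0
    have hy' : y = (B b y + 1) • a := by
      have := congrArg (fun z => z + (B b y • a + a)) hgb
      simp only [zero_add] at this
      rw [add_assoc] at this
      have h2 : B b y • a + a + (B b y • a + a) = 0 := by
        funext i
        exact add_self_eq hF _
      rw [h2, add_zero] at this
      rw [add_smul, one_smul]
      exact this
    have h3 : B b y = (B b y + 1) * B b a := by
      conv_lhs => rw [hy']
      rw [sympForm_smul_right]
    rw [hba, mul_one] at h3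
    have : (1 : F) = 0 := by linear_combination -h3
    exact one_ne_zero this

theorem card_Qa (hF : Fintype.card F = 2) (a : VV) (ha : a ≠ 0) : Nat.card (Qa m a) = 2 ^ (2 * m - 1) := by
  obtain ⟨b0, hb0⟩ := exists_sympForm_ne_zero m a ha
  have hab : B a b0 = 1 := eq_one_of_ne_zero hF hb0
  have hba : B b0 a = 1 := by rw [sympForm_symm m hF, hab]
  have hfib := card_fiber a ha
  rw [hF] at hfib
  have hm : 1 ≤ m := by
    rcases Nat.eq_zero_or_pos m with rfl | h
    · exfalso; apply ha; funext i; rcases i with i | i <;> exact i.elim0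
    · exact h
  have h2 : (2 : ℕ) ^ (2 * m) = 2 ^ (2 * m - 1) * 2 := by
    rw [← pow_succ]; congr 1; omega
  rw [h2] at hfib
  have hfib' : Nat.card {v : VV // B a v = 1} = 2 ^ (2 * m - 1) := Nat.eq_of_mul_eq_mul_right (by norm_num) hfib
  rw [← hfib']
  let f : Qa m a → {v : VV // B a v = 1} := fun g =>
    ⟨((g : Sp) : MM) *ᵥ b0, by
      have h1 := sympForm_mulVec m (g : Sp) a b0
      have h2 : ((g : Sp) : MM) *ᵥ a = a := Qa_le_Pa m hF a g.2
      rw [h2] at h1
      rw [h1, hab]⟩
  apply Nat.card_eq_of_bijective f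
  constructor
  · intro g g' hgg
    have h1 : ((g : Sp) : MM) *ᵥ b0 = ((g' : Sp) : MM) *ᵥ b0 := congrArg Subtype.val hgg
    have h3 : (((g : Sp)⁻¹ * (g' : Sp) : Sp) : MM) *ᵥ b0 = b0 := by
      rw [mul_mulVec, ← h1, ← mul_mulVec, inv_mul_cancel, Submonoid.coe_one, Matrix.one_mulVec]
    have h4 := eq_one_of_mem_Qa_of_fix m hF a b0 hab _ (mul_mem (inv_mem g.2) g'.2) h3
    apply Subtype.ext
    exact inv_mul_eq_one.mp h4
  · rintro ⟨v, hv⟩
    -- z := v + b0 is perpendicular to a
    have hz : B a (v + b0) = 0 := by rw [sympForm_add_right, hv, hab, add_self_eq hF]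
    rcases eq_zero_or_one hF (B b0 (v + b0)) with h0 | h1
    · refine ⟨⟨s m a (v + b0), (mem_Qa_iff m hF a _).2 ⟨_, hz, Or.inl rfl⟩⟩, ?_⟩
      apply Subtype.ext
      show (s m a (v + b0) : MM) *ᵥ b0 = v
      rw [s_mulVec m hF a _ b0 hz, hba, one_smul, h0, zero_smul, add_zero, add_comm v b0, ← add_assoc]
      have : b0 + b0 = 0 := by funext i; exact add_self_eq hF _
      rw [this, zero_add]
    · refine ⟨⟨s m a (v + b0) * t m a, (mem_Qa_iff m hF a _).2 ⟨_, hz, Or.inr rfl⟩⟩, ?_⟩
      apply Subtype.ext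
      show ((s m a (v + b0) * t m a : Sp) : MM) *ᵥ b0 = v
      rw [mul_mulVec, t_mulVec, hba, one_smul, Matrix.mulVec_add, s_fix m hF a _ hz, s_mulVec m hF a _ b0 hz, hba, one_smul,
        h1, one_smul]
      funext i
      simp only [Pi.add_apply]
      linear_combination (b0 i + a i) * two_eq_zero hF

end Cfsg.Agent.Lib.H7.SpMin
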