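import Cfsg.Agent.Lib.H7.SpMinQC

/-!
# S2142-RB3 (helper7): the `P_a`-conjugates of `Q_a ⊓ H` map onto the `P_a`-images of the subspace `U = R̄_a`
-/

set_option autoImplicit false
set_option linter.unusedSectionVars false
set_option linter.unusedVariables false
set_option linter.unusedSimpArgs false

namespace Cfsg.Agent.Lib.H7.SpMin

open Matrix Cfsg.Agent.Lib.H4 Cfsg.Agent.Lib.H2.Sp

variable {F : Type*} [Field F] [Fintype F] (m : ℕ)

set_option quotPrecheck false in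
local notation "Sp" => ↥(Matrix.symplecticGroup (Fin m) F)

set_option quotPrecheck false in
local notation "MM" => Matrix (Fin m ⊕ Fin m) (Fin m ⊕ Fin m) F

set_option quotPrecheck false in
local notation "VV" => (Fin m ⊕ Fin m → F)

set_option quotPrecheck false in
local notation "B" => Cfsg.sympForm m F

theorem inv_mulVec_mulVec (g : Sp) (x : VV) : ((g⁻¹ : Sp) : MM) *ᵥ ((g : MM) *ᵥ x) = x := by
  rw [← mul_mulVec, inv_mul_cancel, Submonoid.coe_one, Matrix.one_mulVec]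

theorem mulVec_inv_mulVec (g : Sp) (x : VV) : (g : MM) *ᵥ (((g⁻¹ : Sp) : MM) *ᵥ x) = x := by
  rw [← mul_mulVec, mul_inv_cancel, Submonoid.coe_one, Matrix.one_mulVec]

/-- membership in a conjugate -/
theorem mem_map_conj_iff {G : Type*} [Group G] (K : Subgroup G) (p g : G) :
    g ∈ K.map (MulAut.conj p).toMonoidHom ↔ p⁻¹ * g * p ∈ K := by
  constructor
  · rintro ⟨k, hk, rfl⟩
    have : p⁻¹ * (MulAut.conj p).toMonoidHom k * p = k := by
      simp [MulAut.conj_apply, mul_assoc]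
    rw [this]; exact hk
  · intro h
    refine ⟨p⁻¹ * g * p, h, ?_⟩
    simp [MulAut.conj_apply, mul_assoc]

/-- the key description of `p U` through the conjugate `p (Q_a ⊓ H) p⁻¹` -/
theorem mem_map_iff_conj (hF : Fintype.card F = 2) (a : VV) (H : Subgroup Sp)
    (U : Submodule F VV) (hU : ∀ y, y ∈ U ↔ B a y = 0 ∧ (s m a y ∈ H ∨ s m a y * t m a ∈ H))
    (p : Sp) (hp : p ∈ Pa m a) (y : VV) :
    y ∈ U.map (Matrix.toLin' (p : MM)) ↔
      B a y = 0 ∧ (s m a y ∈ (Qa m a ⊓ H).map (MulAut.conj p).toMonoidHom ∨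
        s m a y * t m a ∈ (Qa m a ⊓ H).map (MulAut.conj p).toMonoidHom) := by
  rw [mem_Pa] at hp
  have hpi : ((p⁻¹ : Sp) : MM) *ᵥ a = a := by
    have := inv_mulVec_mulVec m p a
    rwa [hp] at this
  have hBy : B a (((p⁻¹ : Sp) : MM) *ᵥ y) = B a y := by
    have := sympForm_mulVec m (p⁻¹ : Sp) a y
    rwa [hpi] at this
  have h1 : p⁻¹ * s m a y * p = s m a (((p⁻¹ : Sp) : MM) *ᵥ y) := by
    have := s_conj m (p⁻¹ : Sp) a y
    rw [inv_inv, hpi] at this
    exact this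
  have h2 : p⁻¹ * (s m a y * t m a) * p = s m a (((p⁻¹ : Sp) : MM) *ᵥ y) * t m a := by
    have h3 := t_conj m (p⁻¹ : Sp) a
    rw [inv_inv, hpi] at h3
    calc p⁻¹ * (s m a y * t m a) * p = (p⁻¹ * s m a y * p) * (p⁻¹ * t m a * p) := by group
      _ = _ := by rw [h1, h3]
  have hmem : y ∈ U.map (Matrix.toLin' (p : MM)) ↔ ((p⁻¹ : Sp) : MM) *ᵥ y ∈ U := by
    rw [Submodule.mem_map]
    constructor
    · rintro ⟨u, hu, rfl⟩
      rw [Matrix.toLin'_apply, inv_mulVec_mulVec]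
      exact hu
    · intro h
      exact ⟨_, h, by rw [Matrix.toLin'_apply, mulVec_inv_mulVec]⟩
  rw [hmem, hU, hBy, mem_map_conj_iff, mem_map_conj_iff, h1, h2]
  constructor
  · rintro ⟨h0, h | h⟩
    · exact ⟨h0, Or.inl ⟨(mem_Qa_iff m hF a _).2 ⟨_, by rw [hBy]; exact h0, Or.inl rfl⟩, h⟩⟩
    · exact ⟨h0, Or.inr ⟨(mem_Qa_iff m hF a _).2 ⟨_, by rw [hBy]; exact h0, Or.inr rfl⟩, h⟩⟩
  · rintro ⟨h0, h | h⟩
    · exact ⟨h0, Or.inl h.2⟩
    · exact ⟨h0, Or.inr h.2⟩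

theorem card_images_le_card_conj (hF : Fintype.card F = 2) (a : VV) (ha : a ≠ 0) (H : Subgroup Sp)
    (U : Submodule F VV) (hU : ∀ y, y ∈ U ↔ B a y = 0 ∧ (s m a y ∈ H ∨ s m a y * t m a ∈ H)) :
    Nat.card {U' : Submodule F VV // ∃ p ∈ Pa m a, U' = U.map (Matrix.toLin' (p : MM))} ≤
      Nat.card {K : Subgroup Sp // ∃ p ∈ Pa m a, K = (Qa m a ⊓ H).map (MulAut.conj p).toMonoidHom} := by
  classical
  have key : ∀ p ∈ Pa m a, ∀ p' ∈ Pa m a,
      (Qa m a ⊓ H).map (MulAut.conj p).toMonoidHom = (Qa m a ⊓ H).map (MulAut.conj p').toMonoidHom →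
      U.map (Matrix.toLin' (p : MM)) = U.map (Matrix.toLin' (p' : MM)) := by
    intro p hp p' hp' hK
    ext y
    rw [mem_map_iff_conj m hF a H U hU p hp y, mem_map_iff_conj m hF a H U hU p' hp' y, hK]
  let f : {K : Subgroup Sp // ∃ p ∈ Pa m a, K = (Qa m a ⊓ H).map (MulAut.conj p).toMonoidHom} →
      {U' : Submodule F VV // ∃ p ∈ Pa m a, U' = U.map (Matrix.toLin' (p : MM))} := fun K =>
    ⟨U.map (Matrix.toLin' ((Classical.choose K.2 : Sp) : MM)),
      ⟨Classical.choose K.2, (Classical.choose_spec K.2).1, rfl⟩⟩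
  apply Nat.card_le_card_of_surjective f
  rintro ⟨U', p', hp', rfl⟩
  let K' : {K : Subgroup Sp // ∃ p ∈ Pa m a, K = (Qa m a ⊓ H).map (MulAut.conj p).toMonoidHom} :=
    ⟨(Qa m a ⊓ H).map (MulAut.conj p').toMonoidHom, p', hp', rfl⟩
  refine ⟨K', ?_⟩
  apply Subtype.ext
  show U.map (Matrix.toLin' ((Classical.choose K'.2 : Sp) : MM)) = U.map (Matrix.toLin' (p' : MM))
  exact key _ (Classical.choose_spec K'.2).1 p' hp' (Classical.choose_spec K'.2).2.symm

end Cfsg.Agent.Lib.H7.SpMin
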