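import Cfsg.Agent.Lib.H14.SuzM.Base

set_option autoImplicit false
set_option maxRecDepth 100000

/-!
# S2048, piece CV: the generic cover lemma (helper7)

A group `C` generated by seven elements that are involutions modulo a central element `z` of prime
order `p`, mapping onto `Suz` with `z ↦ 1`, all relator words of `Suz` having values in `⟨z⟩`, and `C`
perfect: then `C` is finite, `C → Suz` is a stem extension and `p` divides the order of its kernel.
-/

namespace Cfsg.Agent.Lib.H7.SuzM

open Cfsg.Agent.Lib.H14.SuzM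
open Cfsg.Agent.Lib.H17.SuzGlue (gen idx rels relW)

theorem relW_lt : ∀ w ∈ relW, ∀ x ∈ w, x < 7 := by decide

theorem idx_gen_of_lt : ∀ x < 7, idx (gen x) = x := by decide

theorem stem_of_cover {C : Type} [Group C] (c : ℕ → C) (z : C) (p : ℕ) (hp : p.Prime)
    (hgen : Subgroup.closure {x : C | ∃ i < 7, x = c i} = ⊤)
    (hz : z ∈ Subgroup.center C) (hzp : z ^ p = 1) (hz1 : z ≠ 1)
    (π : C →* G) (hπ : ∀ i < 7, π (c i) = sg i) (hπz : π z = 1)
    (hsq : ∀ i < 7, c i * c i ∈ Subgroup.zpowers z)
    (hrel : ∀ w ∈ Cfsg.Agent.Lib.H17.SuzGlue.relW, wv c w ∈ Subgroup.zpowers z)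
    (hperf : commutator C = ⊤) (hfin : Finite G) :
    Finite C ∧ Cfsg.IsStemExtension π ∧ p ∣ Nat.card π.ker := by
  classical
  -- the central subgroup
  have hNc : Subgroup.zpowers z ≤ Subgroup.center C := by
    rw [Subgroup.zpowers_le]; exact hz
  have hNn : (Subgroup.zpowers z).Normal :=
    ⟨fun n hn g => by
      have h1 : g * n = n * g := Subgroup.mem_center_iff.1 (hNc hn) g
      rw [h1, mul_inv_cancel_right]; exact hn⟩
  -- the assignment into the quotient
  let f : Cfsg.Agent.Lib.H17.SuzGlue.Gen → C ⧸ Subgroup.zpowers z :=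
    fun u => QuotientGroup.mk' (Subgroup.zpowers z) (c (idx u))
  have hinv : ∀ u, f u * f u = 1 := by
    intro u
    show QuotientGroup.mk' (Subgroup.zpowers z) (c (idx u)) *
      QuotientGroup.mk' (Subgroup.zpowers z) (c (idx u)) = 1
    rw [← map_mul]
    exact (QuotientGroup.eq_one_iff _).2 (hsq _ (Cfsg.Agent.Lib.H17.SuzGlue.idx_lt u))
  have hmapw : ∀ w : List ℕ, (∀ x ∈ w, x < 7) →
      ((w.map gen).map f).prod = QuotientGroup.mk' (Subgroup.zpowers z) (wv c w) := by
    intro w
    induction w with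
    | nil => intro _; simp [wv]
    | cons x w ih =>
      intro hx
      rw [List.map_cons, List.map_cons, List.prod_cons, wv_cons, map_mul,
        ih (fun y hy => hx y (List.mem_cons_of_mem _ hy))]
      show QuotientGroup.mk' (Subgroup.zpowers z) (c (idx (gen x))) * _ = _
      rw [idx_gen_of_lt x (hx x List.mem_cons_self)]
  have hW : ∀ w ∈ relW, ((w.map gen).map f).prod = 1 := by
    intro w hw
    rw [hmapw w (relW_lt w hw)]
    exact (QuotientGroup.eq_one_iff _).2 (hrel w hw)
  let ψ : G →* C ⧸ Subgroup.zpowers z :=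
    PresentedGroup.toGroup (Cfsg.Agent.Lib.H17.SuzGlue.lift_rels f hinv hW)
  have hψ : ∀ i < 7, ψ (sg i) = QuotientGroup.mk' (Subgroup.zpowers z) (c i) := by
    intro i hi
    show PresentedGroup.toGroup _ (PresentedGroup.of (gen i)) = _
    rw [PresentedGroup.toGroup.of]
    show QuotientGroup.mk' (Subgroup.zpowers z) (c (idx (gen i))) = _
    rw [idx_gen_of_lt i hi]
  have hcomp : ψ.comp π = QuotientGroup.mk' (Subgroup.zpowers z) := by
    apply MonoidHom.eq_of_eqOn_dense hgen
    rintro x ⟨i, hi, rfl⟩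
    show ψ (π (c i)) = _
    rw [hπ i hi, hψ i hi]
  -- the kernel
  have hker : π.ker = Subgroup.zpowers z := by
    apply le_antisymm
    · intro x hx
      have h1 : QuotientGroup.mk' (Subgroup.zpowers z) x = 1 := by
        rw [← hcomp]
        show ψ (π x) = 1
        rw [MonoidHom.mem_ker.1 hx, map_one]
      exact (QuotientGroup.eq_one_iff _).1 h1
    · rw [Subgroup.zpowers_le]
      exact MonoidHom.mem_ker.2 hπz
  -- surjectivity
  have hs : Function.Surjective π := by
    rw [← MonoidHom.range_eq_top, eq_top_iff, ← Cfsg.Agent.Lib.H17.SuzGlue.closure_gens,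
      Subgroup.closure_le]
    rintro _ ⟨i, hi, rfl⟩
    exact ⟨c i, hπ i hi⟩
  -- the order of `z`
  have : Fact p.Prime := ⟨hp⟩
  have hord : orderOf z = p := orderOf_eq_prime hzp hz1
  have hcardN : Nat.card (Subgroup.zpowers z) = p := by
    rw [Nat.card_zpowers, hord]
  have hfinN : Finite (Subgroup.zpowers z) :=
    Nat.finite_of_card_ne_zero (by rw [hcardN]; exact hp.ne_zero)
  have hfinQ : Finite (C ⧸ Subgroup.zpowers z) := by
    rw [← hker]
    exact Finite.of_equiv _ (QuotientGroup.quotientKerEquivRange π).symm.toEquiv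
  have hfinC : Finite C :=
    Finite.of_equiv _ (Subgroup.groupEquivQuotientProdSubgroup (s := Subgroup.zpowers z)).symm
  refine ⟨hfinC, ⟨hs, ?_, ?_⟩, ?_⟩
  · rw [hker]; exact hNc
  · rw [hperf]; exact le_top
  · rw [hker, hcardN]

end Cfsg.Agent.Lib.H7.SuzM
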