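import Cfsg.Agent.Lib.H14.SuzM.Tab3
import Cfsg.Agent.Lib.H17.CosetPerm

set_option autoImplicit false
set_option maxRecDepth 100000

/-!
# S2048, piece M3 (kernel computations): the monomial model of `3.Suz` (helper7)

The seven tables of `SuzM/Tab3.lean` are involutions of `Fin 5346` satisfying the 41 relator words of
the presented triple cover `PC3`; this gives a homomorphism `PC3 →* Perm (Fin 5346)` under which
`z3 = (bfg)^5` moves the point `0`.
-/

namespace Cfsg.Agent.Lib.H7.SuzM

open Cfsg.Agent.Lib.H14.SuzM Cfsg.Agent.Lib.H17.CosetCert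
open Cfsg.Agent.Lib.H17.SuzGlue (gen idx Gen)

theorem tabs3_ok : M3.tabs.all
    (fun t => checkRange 13 8192 t 5346 5346 && checkWord 13 8192 [t, t] 5346) = true := by
  decide +kernel

theorem cov3_ok_a : ((covW3.take 21).all
    (fun w => checkWord 13 8192 (w.map M3.tabOf) 5346)) = true := by
  decide +kernel

theorem cov3_ok_b : (((covW3.drop 21).take 4).all
    (fun w => checkWord 13 8192 (w.map M3.tabOf) 5346)) = true := by
  decide +kernel

theorem cov3_ok_c : (((covW3.drop 25).take 8).all
    (fun w => checkWord 13 8192 (w.map M3.tabOf) 5346)) = true := by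
  decide +kernel

theorem cov3_ok_d : ((covW3.drop 33).all
    (fun w => checkWord 13 8192 (w.map M3.tabOf) 5346)) = true := by
  decide +kernel

theorem z3_moves : Nat.beq (applyT 13 8192 (zw.map M3.tabOf).reverse 0) 0 = false := by
  decide +kernel

end Cfsg.Agent.Lib.H7.SuzM
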