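import Mathlib
import Cfsg.Agent.Lib.H7.T27Defs
import Cfsg.Agent.Lib.H3.H108Hyp
import Cfsg.Agent.Lib.H18.T27CE3
import Cfsg.Agent.Lib.H24.T27CE4
import Cfsg.Agent.Lib.H23.ClassProduct

/-!
# S3701 piece CE (helper7): the weighted class equation, modulo CE5 (`final_sum`)
-/

set_option autoImplicit false
set_option linter.unusedSectionVars false

namespace Cfsg.Agent.Lib.H7.T27

open Cfsg Cfsg.Agent.Lib.H7.K4 Cfsg.Agent.Lib.H3.H108
open scoped ComplexConjugate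

/-- a weight on `V` as a function on `M3`, supported on the `T`-part -/
def wtM (wt : V → ℤ) (s : ↥M3) : ℂ :=
  if (s : S333) ^ 3 = 1 then ((wt (lg3 (s : S333)) : ℤ) : ℂ) else 0

theorem lg_conj (a b : S3) (hb : b ^ 3 = 1) : cc (lg (a * b * a⁻¹)) = cc (lg b) := by
  revert a b; decide

theorem lg_eq_zero (a : S3) (ha : a ^ 3 = 1) (h0 : lg a = 0) : a = 1 := by
  revert a; decide

theorem lg_one : lg 1 = 0 := by decide

theorem pow3_conj (g s : S333) : (g * s * g⁻¹) ^ 3 = 1 ↔ s ^ 3 = 1 := by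
  rw [conj_pow]
  constructor
  · intro h
    have : s ^ 3 = g⁻¹ * (g * s ^ 3 * g⁻¹) * g := by group
    rw [this, h]; group
  · intro h; rw [h]; group

theorem pow3_comp (s : S333) (h : s ^ 3 = 1) : s.1 ^ 3 = 1 ∧ s.2.1 ^ 3 = 1 ∧ s.2.2 ^ 3 = 1 := by
  have h1 := congrArg Prod.fst h
  have h2 := congrArg (fun p : S333 => p.2.1) h
  have h3 := congrArg (fun p : S333 => p.2.2) h
  exact ⟨h1, h2, h3⟩

/-- `u0 ∘ lg3` is a class function on the `T`-part -/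
theorem u0_conj (g s : S333) (hs : s ^ 3 = 1) : u0 (lg3 (g * s * g⁻¹)) = u0 (lg3 s) := by
  obtain ⟨h1, h2, h3⟩ := pow3_comp s hs
  unfold u0 lg3
  simp only [Prod.fst_mul, Prod.snd_mul, Prod.fst_inv, Prod.snd_inv]
  rw [lg_conj _ _ h1, lg_conj _ _ h2, lg_conj _ _ h3]

theorem cc_eq_two_iff (x : ZMod 3) : cc x = 2 ↔ x = 0 := by
  revert x; decide

theorem v0_conj (g s : S333) (hs : s ^ 3 = 1) : v0 (lg3 (g * s * g⁻¹)) = v0 (lg3 s) := by
  obtain ⟨h1, h2, h3⟩ := pow3_comp s hs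
  have e2 := lg_conj g.2.1 s.2.1 h2
  have e3 := lg_conj g.2.2 s.2.2 h3
  unfold v0 lg3
  simp only [Prod.fst_mul, Prod.snd_mul, Prod.fst_inv, Prod.snd_inv]
  have i2 : lg (g.2.1 * s.2.1 * g.2.1⁻¹) = 0 ↔ lg s.2.1 = 0 := by
    rw [← cc_eq_two_iff, ← cc_eq_two_iff, e2]
  have i3 : lg (g.2.2 * s.2.2 * g.2.2⁻¹) = 0 ↔ lg s.2.2 = 0 := by
    rw [← cc_eq_two_iff, ← cc_eq_two_iff, e3]
  simp only [ne_eq, i2, i3]

theorem wtM_u0_conj (s g : ↥M3) : wtM u0 (g * s * g⁻¹) = wtM u0 s := by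
  unfold wtM
  have hc : ((g * s * g⁻¹ : ↥M3) : S333) = (g : S333) * (s : S333) * (g : S333)⁻¹ := by
    simp
  rw [hc]
  by_cases hs : (s : S333) ^ 3 = 1
  · rw [if_pos hs, if_pos ((pow3_conj _ _).2 hs), u0_conj _ _ hs]
  · rw [if_neg hs, if_neg (fun h => hs ((pow3_conj _ _).1 h))]

theorem wtM_v0_conj (s g : ↥M3) : wtM v0 (g * s * g⁻¹) = wtM v0 s := by
  unfold wtM
  have hc : ((g * s * g⁻¹ : ↥M3) : S333) = (g : S333) * (s : S333) * (g : S333)⁻¹ := by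
    simp
  rw [hc]
  by_cases hs : (s : S333) ^ 3 = 1
  · rw [if_pos hs, if_pos ((pow3_conj _ _).2 hs), v0_conj _ _ hs]
  · rw [if_neg hs, if_neg (fun h => hs ((pow3_conj _ _).1 h))]

/-- conjugation in `M3` preserves the triviality of the third coordinate -/
theorem third_of_isConj {s s' : ↥M3} (h : IsConj s s') :
    ((s : S333).2.2 = 1 ↔ (s' : S333).2.2 = 1) := by
  rw [isConj_iff] at h
  obtain ⟨c, hc⟩ := h
  have h1 : (s' : S333) = (c : S333) * (s : S333) * (c : S333)⁻¹ := by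
    rw [← hc]; simp
  rw [h1]
  simp only [Prod.snd_mul, Prod.snd_inv]
  constructor
  · intro h; rw [h]; group
  · intro h
    have : (s : S333).2.2 = (c : S333).2.2⁻¹ * ((c : S333).2.2 * (s : S333).2.2 * (c : S333).2.2⁻¹) *
        (c : S333).2.2 := by group
    rw [this, h]; group

theorem wtM_ne_zero {wt : V → ℤ} {s : ↥M3} (h : wtM wt s ≠ 0) :
    (s : S333) ^ 3 = 1 ∧ wt (lg3 (s : S333)) ≠ 0 := by
  unfold wtM at h
  by_cases hs : (s : S333) ^ 3 = 1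
  · rw [if_pos hs] at h
    exact ⟨hs, fun h0 => h (by rw [h0]; simp)⟩
  · rw [if_neg hs] at h; exact absurd rfl h

theorem lg3_one : lg3 (1 : S333) = 0 := by
  unfold lg3
  simp only [Prod.fst_one, Prod.snd_one, lg_one]
  rfl

theorem ne_one_of_wt {wt : V → ℤ} (h0 : wt 0 = 0) {s : ↥M3} (h : wtM wt s ≠ 0) : s ≠ 1 := by
  rintro rfl
  obtain ⟨_, h2⟩ := wtM_ne_zero h
  apply h2
  rw [Subgroup.coe_one, lg3_one, h0]

theorem Lf_eq_sum {G : Type*} [Group G] (h : Hyp3 G) (wt : V → ℤ) (F : G → ℂ) :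
    h.Lf wt F = ∑ s : ↥M3, wtM wt s * F (h.el s) := by
  unfold Hyp3.Lf wtM
  refine Finset.sum_congr rfl fun s _ => ?_
  split_ifs <;> simp

section ce
variable {G : Type*} [Group G] [Fintype G]

/-- CE, modulo CE5 (`hfinal`). -/
theorem class_eq3_of_final (h : Hyp3 G) [Fintype (IrrCharacter G)]
    (hfinal : (∑ s1 : ↥M3, ∑ s2 : ↥M3, wtM u0 s1 * wtM v0 s2 * wtM w0 (s1 * s2)⁻¹) = 36) :
    ∑ χ : IrrCharacter G, h.Lf u0 (χ : G → ℂ) * h.Lf v0 (χ : G → ℂ) * h.Lf w0 (χ : G → ℂ) /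
      (χ : G → ℂ) 1 = 108 ^ 2 * 36 / (Nat.card G : ℂ) := by
  classical
  have hGne : (Nat.card G : ℂ) ≠ 0 := by exact_mod_cast (Nat.card_pos (α := G)).ne'
  -- expand
  have hexp : ∀ χ : IrrCharacter G,
      h.Lf u0 (χ : G → ℂ) * h.Lf v0 (χ : G → ℂ) * h.Lf w0 (χ : G → ℂ) / (χ : G → ℂ) 1 =
      ∑ s1 : ↥M3, ∑ s2 : ↥M3, ∑ s3 : ↥M3, wtM u0 s1 * wtM v0 s2 * wtM w0 s3 *
        ((χ : G → ℂ) (h.el s1) * (χ : G → ℂ) (h.el s2) * (χ : G → ℂ) (h.el s3) /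
          (χ : G → ℂ) 1) := by
    intro χ
    rw [Lf_eq_sum, Lf_eq_sum, Lf_eq_sum, Finset.sum_mul_sum, Finset.sum_mul, Finset.sum_div]
    refine Finset.sum_congr rfl fun s1 _ => ?_
    rw [Finset.sum_mul, Finset.sum_div]
    refine Finset.sum_congr rfl fun s2 _ => ?_
    rw [Finset.mul_sum, Finset.sum_div]
    refine Finset.sum_congr rfl fun s3 _ => ?_
    ring
  simp only [hexp]
  rw [Finset.sum_comm]
  have h2 : ∀ s1 : ↥M3, ∑ χ : IrrCharacter G, ∑ s2 : ↥M3, ∑ s3 : ↥M3,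
      wtM u0 s1 * wtM v0 s2 * wtM w0 s3 *
        ((χ : G → ℂ) (h.el s1) * (χ : G → ℂ) (h.el s2) * (χ : G → ℂ) (h.el s3) /
          (χ : G → ℂ) 1) =
      ∑ s2 : ↥M3, ∑ s3 : ↥M3, wtM u0 s1 * wtM v0 s2 * wtM w0 s3 *
        ((Nat.card G : ℂ)⁻¹ * ∑ g : ↥M3, ∑ k : ↥M3,
          if (g * s1 * g⁻¹) * (k * s2 * k⁻¹) = s3⁻¹ then (1 : ℂ) else 0) := by
    intro s1
    rw [Finset.sum_comm]
    refine Finset.sum_congr rfl fun s2 _ => ?_
    rw [Finset.sum_comm]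
    refine Finset.sum_congr rfl fun s3 _ => ?_
    rw [← Finset.mul_sum]
    by_cases hz : wtM u0 s1 * wtM v0 s2 * wtM w0 s3 = 0
    · rw [hz, zero_mul, zero_mul]
    · congr 1
      have hu : wtM u0 s1 ≠ 0 := fun h0 => hz (by rw [h0, zero_mul, zero_mul])
      have hv : wtM v0 s2 ≠ 0 := fun h0 => hz (by rw [h0, mul_zero, zero_mul])
      have hw : wtM w0 s3 ≠ 0 := fun h0 => hz (by rw [h0, mul_zero])
      obtain ⟨hu3, _⟩ := wtM_ne_zero hu
      obtain ⟨hv3, hvne⟩ := wtM_ne_zero hv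
      obtain ⟨hw3, hwne⟩ := wtM_ne_zero hw
      have hs1 : s1 ≠ 1 := ne_one_of_wt (by decide) hu
      have hs2 : s2 ≠ 1 := ne_one_of_wt (by decide) hv
      have hs3 : s3 ≠ 1 := ne_one_of_wt (by decide) hw
      have p1 : s1 ^ 3 = 1 := Subtype.ext (by simpa using hu3)
      have p2 : s2 ^ 3 = 1 := Subtype.ext (by simpa using hv3)
      have p3 : s3⁻¹ ^ 3 = 1 := by
        have : s3 ^ 3 = 1 := Subtype.ext (by simpa using hw3)
        rw [inv_pow, this, inv_one]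
      have hs3' : s3⁻¹ ≠ 1 := fun hh => hs3 (inv_eq_one.1 hh)
      -- third coordinates
      obtain ⟨_, _, c23⟩ := pow3_comp _ hv3
      obtain ⟨_, _, c33⟩ := pow3_comp _ hw3
      have t2 : (s2 : S333).2.2 = 1 := by
        apply lg_eq_zero _ c23
        by_contra hne
        apply hvne
        unfold v0 lg3
        simp only
        rw [if_neg (fun hh => hne hh.2)]
      have t3 : (s3 : S333).2.2 ≠ 1 := by
        intro h1
        apply hwne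
        unfold w0 lg3
        simp only
        rw [if_neg (fun hh => hh.1 (by rw [h1]; exact lg_one))]
      have hnc : ¬ (IsConj s1 s2 ∧ IsConj s3⁻¹ s1⁻¹) := by
        rintro ⟨c12, c31⟩
        have c31' : IsConj s3 s1 := by
          have := c31
          rw [isConj_iff] at this ⊢
          obtain ⟨c, hc⟩ := this
          refine ⟨c, ?_⟩
          have : (c * s3⁻¹ * c⁻¹)⁻¹ = (s1⁻¹)⁻¹ := by rw [hc]
          rw [inv_inv] at this
          rw [← this]; group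
        have := (third_of_isConj (c31'.trans c12)).2 t2
        exact t3 this
      have hcnt := Cfsg.Agent.Lib.H18.T27.count_eq_cnt3 h s1 s2 s3⁻¹ p1 p2 p3 hs1 hs2 hs3' hnc
      have hform := Cfsg.Agent.Lib.H23.sum_sum_ite_conj_mul_eq (G := G) (h.el s1) (h.el s2)
        (h.el s3⁻¹)
      rw [hcnt] at hform
      have hinv : (h.el s3⁻¹)⁻¹ = h.el s3 := by rw [h.el_inv, inv_inv]
      simp only [hinv] at hform
      have hcast : ((cnt3 s1 s2 s3⁻¹ : ℕ) : ℂ) = ∑ g : ↥M3, ∑ k : ↥M3,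
          if (g * s1 * g⁻¹) * (k * s2 * k⁻¹) = s3⁻¹ then (1 : ℂ) else 0 := by
        unfold cnt3
        push_cast
        rfl
      rw [← hcast, hform]
      field_simp
  rw [Finset.sum_congr rfl fun s1 _ => h2 s1]
  have h3 : ∑ s1 : ↥M3, ∑ s2 : ↥M3, ∑ s3 : ↥M3, wtM u0 s1 * wtM v0 s2 * wtM w0 s3 *
        ((Nat.card G : ℂ)⁻¹ * ∑ g : ↥M3, ∑ k : ↥M3,
          if (g * s1 * g⁻¹) * (k * s2 * k⁻¹) = s3⁻¹ then (1 : ℂ) else 0) =
      (Nat.card G : ℂ)⁻¹ * ∑ s1 : ↥M3, ∑ s2 : ↥M3, ∑ s3 : ↥M3, wtM u0 s1 * wtM v0 s2 * wtM w0 s3 *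
        (∑ g : ↥M3, ∑ k : ↥M3,
          if (g * s1 * g⁻¹) * (k * s2 * k⁻¹) = s3⁻¹ then (1 : ℂ) else 0) := by
    simp only [Finset.mul_sum]
    refine Finset.sum_congr rfl fun s1 _ => Finset.sum_congr rfl fun s2 _ =>
      Finset.sum_congr rfl fun s3 _ => ?_
    ring
  rw [h3, Cfsg.Agent.Lib.H24.T27.rearrange (wtM u0) (wtM v0) (wtM w0) wtM_u0_conj wtM_v0_conj,
    hfinal]
  have hcard : (Fintype.card ↥M3 : ℂ) = 108 := by
    have := card_M3
    rw [Nat.card_eq_fintype_card] at this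
    exact_mod_cast this
  rw [hcard]
  field_simp

end ce

end Cfsg.Agent.Lib.H7.T27
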