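import Mathlib
import Cfsg.Agent.Lib.H7.T27CE

/-!
# S3701 pieces CE5 + CE (helper7): the final sum and the weighted class equation
-/

set_option autoImplicit false
set_option linter.unusedSectionVars false
set_option maxRecDepth 1000000

namespace Cfsg.Agent.Lib.H7.T27

open Cfsg Cfsg.Agent.Lib.H7.K4 Cfsg.Agent.Lib.H3.H108
open scoped ComplexConjugate

/-- the exponential `V → S3 × S3 × S3` -/
def exp3' (a : V) : S333 := (c3 ^ a.1.val, c3 ^ a.2.1.val, c3 ^ a.2.2.val)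

theorem exp3'_mem (a : V) : exp3' a ∈ M3 := by
  revert a; decide

/-- the exponential `V → M3` -/
def exp3 (a : V) : ↥M3 := ⟨exp3' a, exp3'_mem a⟩

theorem exp3'_pow (a : V) : exp3' a ^ 3 = 1 := by
  revert a; decide

theorem lg3_exp3' (a : V) : lg3 (exp3' a) = a := by
  revert a; decide

theorem exp3'_lg3_comp (x : S3) (hx : x ^ 3 = 1) : c3 ^ (lg x).val = x := by
  revert x; decide

theorem exp3'_lg3 (s : S333) (hs : s ^ 3 = 1) : exp3' (lg3 s) = s := by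
  obtain ⟨h1, h2, h3⟩ := pow3_comp s hs
  unfold exp3' lg3
  simp only
  rw [exp3'_lg3_comp _ h1, exp3'_lg3_comp _ h2, exp3'_lg3_comp _ h3]

theorem exp3'_mul_inv (a b : V) : (exp3' a * exp3' b)⁻¹ = exp3' (-a - b) := by
  revert a b; decide

theorem exp3_injective : Function.Injective exp3 := by
  intro a b hab
  have h1 : exp3' a = exp3' b := congrArg Subtype.val hab
  rw [← lg3_exp3' a, h1, lg3_exp3']

theorem wtM_exp3 (wt : V → ℤ) (a : V) : wtM wt (exp3 a) = ((wt a : ℤ) : ℂ) := by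
  unfold wtM
  show (if exp3' a ^ 3 = 1 then ((wt (lg3 (exp3' a)) : ℤ) : ℂ) else 0) = _
  rw [if_pos (exp3'_pow a), lg3_exp3']

theorem wtM_exp3_mul_inv (wt : V → ℤ) (a b : V) :
    wtM wt (exp3 a * exp3 b)⁻¹ = ((wt (-a - b) : ℤ) : ℂ) := by
  have h : (exp3 a * exp3 b)⁻¹ = exp3 (-a - b) := by
    apply Subtype.ext
    show (exp3' a * exp3' b)⁻¹ = exp3' (-a - b)
    exact exp3'_mul_inv a b
  rw [h, wtM_exp3]

theorem wtM_eq_zero_of_not_range (wt : V → ℤ) (s : ↥M3) (hs : s ∉ Set.range exp3) :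
    wtM wt s = 0 := by
  unfold wtM
  rw [if_neg]
  intro h3
  apply hs
  refine ⟨lg3 (s : S333), ?_⟩
  apply Subtype.ext
  show exp3' (lg3 (s : S333)) = (s : S333)
  exact exp3'_lg3 _ h3

theorem final_int : ∑ a : V, ∑ b : V, u0 a * v0 b * w0 (-a - b) = 36 := by decide

/-- CE5, in the `wtM` form. -/
theorem final_sum' :
    (∑ s1 : ↥M3, ∑ s2 : ↥M3, wtM u0 s1 * wtM v0 s2 * wtM w0 (s1 * s2)⁻¹) = 36 := by
  classical
  have h1 : ∀ s1 : ↥M3, (∑ s2 : ↥M3, wtM u0 s1 * wtM v0 s2 * wtM w0 (s1 * s2)⁻¹) =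
      ∑ b : V, wtM u0 s1 * wtM v0 (exp3 b) * wtM w0 (s1 * exp3 b)⁻¹ := by
    intro s1
    symm
    apply Finset.sum_of_injOn exp3 (fun a _ b _ hab => exp3_injective hab)
      (fun a _ => Finset.mem_univ _)
    · intro s2 _ hs2
      have : s2 ∉ Set.range exp3 := by
        intro ⟨a, ha⟩
        exact hs2 ⟨a, Finset.mem_univ _, ha⟩
      rw [wtM_eq_zero_of_not_range v0 s2 this, mul_zero, zero_mul]
    · intro b _; rfl
  simp only [h1]
  have h2 : (∑ s1 : ↥M3, ∑ b : V, wtM u0 s1 * wtM v0 (exp3 b) * wtM w0 (s1 * exp3 b)⁻¹) =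
      ∑ a : V, ∑ b : V, wtM u0 (exp3 a) * wtM v0 (exp3 b) * wtM w0 (exp3 a * exp3 b)⁻¹ := by
    symm
    apply Finset.sum_of_injOn exp3 (fun a _ b _ hab => exp3_injective hab)
      (fun a _ => Finset.mem_univ _)
    · intro s1 _ hs1
      have : s1 ∉ Set.range exp3 := by
        intro ⟨a, ha⟩
        exact hs1 ⟨a, Finset.mem_univ _, ha⟩
      apply Finset.sum_eq_zero
      intro b _
      rw [wtM_eq_zero_of_not_range u0 s1 this, zero_mul, zero_mul]
    · intro a _; rfl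
  rw [h2]
  simp only [wtM_exp3, wtM_exp3_mul_inv]
  have := final_int
  have h3 : ((∑ a : V, ∑ b : V, u0 a * v0 b * w0 (-a - b) : ℤ) : ℂ) = 36 := by
    rw [this]; norm_num
  rw [← h3]
  push_cast
  rfl

/-- CE.  The weighted class equation. -/
theorem class_eq3 {G : Type*} [Group G] [Fintype G] (h : Hyp3 G) [Fintype (IrrCharacter G)] :
    ∑ χ : IrrCharacter G, h.Lf u0 (χ : G → ℂ) * h.Lf v0 (χ : G → ℂ) * h.Lf w0 (χ : G → ℂ) /
      (χ : G → ℂ) 1 = 108 ^ 2 * 36 / (Nat.card G : ℂ) :=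
  class_eq3_of_final h final_sum'

end Cfsg.Agent.Lib.H7.T27
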