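import Mathlib
import Cfsg.Agent.Lib.H7.T27Defs
import Cfsg.Agent.Lib.H7.T27CE5
import Cfsg.Agent.Lib.H14.T27IND0
import Cfsg.Agent.Lib.H14.T27IND1
import Cfsg.Agent.Lib.H14.T27IND3
import Cfsg.Agent.Lib.H3.T27VAL
import Cfsg.Agent.Lib.H25.T27STAR
import Cfsg.Agent.Lib.H25.T27NORM
import Cfsg.Agent.Lib.H25.K4TRI
import Cfsg.Agent.Lib.L0.CharOps

/-!
# S3701 (10u): the assembly (helper7).  Blueprint: tools/blueprints/S3701.md.

`main3 : h.N = ⊤` for a `Hyp3 G`: five-star coherence of the induced characters `I(r j)`, the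
norm argument for `I 0, I e2, I e3`, and one weighted class equation force `|G| = 27 d` with
`5 d² ≤ |G|`, so `|G| = 108`.
-/

set_option autoImplicit false

namespace Cfsg.Agent.Lib.H7.T27

open Cfsg Cfsg.Agent.Lib.H7.K4 Cfsg.Agent.Lib.H3.H108 Cfsg.Agent.Lib.H7.T27
open Cfsg.Agent.Lib.H14.T27 Cfsg.Agent.Lib.H25.T27 Cfsg.Agent.Lib.H3.T27
open scoped ComplexConjugate

/-! ## MAIN -/

section main
open Cfsg.Agent.Lib.L0

theorem main3 {G : Type*} [Group G] [Finite G] (h : Hyp3 G) : h.N = ⊤ := by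
  classical
  haveI : Fintype G := Fintype.ofFinite G
  haveI : Fintype (IrrCharacter G) := by
    haveI : Finite (IrrCharacter G) := Cfsg.Agent.Lib.H24.finite_irr
    exact Fintype.ofFinite _
  have hchar := isCharacter_Ind h
  have hgram := inner_Ind_sub h
  have hone := inner_Ind_one h
  have hdeg : ∀ a a' : V, Ind h a 1 = Ind h a' 1 := fun a a' => by rw [Ind_one, Ind_one]
  obtain ⟨ε, Ξ, hε, hΞ, hstar⟩ := star (Ind h) hchar hgram hdeg
  have n0 := norm_arg (Ind h) hchar hgram hone hdeg ε Ξ hε hΞ hstar 0 (Or.inl rfl)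
  have n2 := norm_arg (Ind h) hchar hgram hone hdeg ε Ξ hε hΞ hstar e2 (Or.inr (Or.inl rfl))
  have n3 := norm_arg (Ind h) hchar hgram hone hdeg ε Ξ hε hΞ hstar e3 (Or.inr (Or.inr rfl))
  have hε2 : (ε : ℂ) * ε = 1 := by
    rcases hε with rfl | rfl <;> norm_num
  -- the linear form u0
  have hu : ∀ χ : IrrCharacter G, h.Lf u0 (χ : G → ℂ) =
      108 * (ε : ℂ) * ((if Ξ 0 = χ then 1 else 0) - (if Ξ 1 = χ then 1 else 0)) := by
    intro χ
    rw [(Lf_eq h (χ : G → ℂ) (Cfsg.Agent.Lib.H24.isClassFunction_irr χ)).1, hstar 0 1,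
      classInner_smul_left, classInner_sub_left, Cfsg.Agent.Lib.H24.irr_orthonormal,
      Cfsg.Agent.Lib.H24.irr_orthonormal]
    rw [map_mul, map_sub]
    have h1 : conj (ε : ℂ) = ε := map_intCast (starRingEnd ℂ) ε
    rw [h1]
    split_ifs <;> simp <;> ring
  have hv0 : h.Lf v0 (Ξ 0 : G → ℂ) = -12 * (ε : ℂ) := by
    rw [(Lf_eq h (Ξ 0 : G → ℂ) (Cfsg.Agent.Lib.H24.isClassFunction_irr _)).2.1, n0.1, n2.1, n3.1]
    have h1 : conj (((-ε : ℤ) : ℂ) + 2 * ((-ε : ℤ) : ℂ) - ((-ε : ℤ) : ℂ)) =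
        ((-ε : ℤ) : ℂ) + 2 * ((-ε : ℤ) : ℂ) - ((-ε : ℤ) : ℂ) := by
      simp only [map_add, map_sub, map_mul, map_intCast, map_ofNat]
    rw [h1]; push_cast; ring
  have hw0 : h.Lf w0 (Ξ 0 : G → ℂ) = -12 * (ε : ℂ) := by
    rw [(Lf_eq h (Ξ 0 : G → ℂ) (Cfsg.Agent.Lib.H24.isClassFunction_irr _)).2.2, n0.1, n2.1, n3.1]
    have h1 : conj (((-ε : ℤ) : ℂ) + 2 * ((-ε : ℤ) : ℂ) - ((-ε : ℤ) : ℂ)) =
        ((-ε : ℤ) : ℂ) + 2 * ((-ε : ℤ) : ℂ) - ((-ε : ℤ) : ℂ) := by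
      simp only [map_add, map_sub, map_mul, map_intCast, map_ofNat]
    rw [h1]; push_cast; ring
  have hv1 : h.Lf v0 (Ξ 1 : G → ℂ) = 0 := by
    rw [(Lf_eq h (Ξ 1 : G → ℂ) (Cfsg.Agent.Lib.H24.isClassFunction_irr _)).2.1, n0.2, n2.2, n3.2]
    simp
  have h01 : Ξ 0 ≠ Ξ 1 := fun hh => by
    have := hΞ hh
    exact absurd this (by decide)
  -- the class equation
  have hce := class_eq3 h
  have hsum : ∑ χ : IrrCharacter G, h.Lf u0 (χ : G → ℂ) * h.Lf v0 (χ : G → ℂ) *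
      h.Lf w0 (χ : G → ℂ) / (χ : G → ℂ) 1 =
      108 * (ε : ℂ) * (-12 * ε) * (-12 * ε) / (Ξ 0 : G → ℂ) 1 := by
    rw [Finset.sum_eq_single (Ξ 0)]
    · rw [hu, hv0, hw0, if_pos rfl, if_neg (Ne.symm h01)]
      ring
    · intro χ _ hχ
      rw [hu]
      by_cases h1 : Ξ 1 = χ
      · subst h1
        rw [hv1]; simp
      · rw [if_neg (Ne.symm hχ), if_neg h1]; simp
    · intro hh; exact absurd (Finset.mem_univ _) hh
  rw [hsum] at hce
  -- degrees
  choose d hdpos hd using fun χ : IrrCharacter G => Cfsg.Agent.Lib.H24.irr_one_eq χ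
  have hGne : (Nat.card G : ℂ) ≠ 0 := by exact_mod_cast (Nat.card_pos (α := G)).ne'
  have hd0ne : ((d (Ξ 0) : ℕ) : ℂ) ≠ 0 := by exact_mod_cast (hdpos (Ξ 0)).ne'
  rw [hd] at hce
  have hkey : (ε : ℂ) * (Nat.card G : ℂ) = 27 * (d (Ξ 0) : ℂ) := by
    rw [div_eq_div_iff hd0ne hGne] at hce
    linear_combination (1 / 15552 : ℂ) * hce - ((ε : ℂ) * (Nat.card G : ℂ)) * hε2
  have hε1 : ε = 1 := by
    rcases hε with rfl | rfl
    · rfl
    · exfalso
      have h1 : ((-1 : ℤ) : ℂ) * (Nat.card G : ℂ) = 27 * (d (Ξ 0) : ℂ) := hkey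
      have h2 : (-(Nat.card G : ℤ) : ℤ) = 27 * (d (Ξ 0) : ℤ) := by
        have : ((-(Nat.card G : ℤ) : ℤ) : ℂ) = ((27 * (d (Ξ 0) : ℤ) : ℤ) : ℂ) := by
          push_cast; linear_combination h1
        exact_mod_cast this
      have := Nat.card_pos (α := G)
      omega
  subst hε1
  have hcard : Nat.card G = 27 * d (Ξ 0) := by
    have : ((Nat.card G : ℕ) : ℂ) = ((27 * d (Ξ 0) : ℕ) : ℂ) := by
      push_cast; linear_combination hkey
    exact_mod_cast this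
  -- all five degrees are equal
  have hdj : ∀ j : Fin 5, d (Ξ j) = d (Ξ 0) := by
    intro j
    have h1 := congrFun (hstar j 0) 1
    simp only [Pi.sub_apply, Pi.smul_apply, hdeg (r j) (r 0), sub_self, hd, Int.cast_one,
      one_smul] at h1
    have : ((d (Ξ j) : ℕ) : ℂ) = ((d (Ξ 0) : ℕ) : ℂ) := by linear_combination -h1
    exact_mod_cast this
  have hsq : ∑ χ : IrrCharacter G, (d χ) ^ 2 = Nat.card G := by
    have := Cfsg.Agent.Lib.H24.sum_irr_one_sq (G := G)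
    simp only [hd] at this
    exact_mod_cast this
  have hle : 5 * (d (Ξ 0)) ^ 2 ≤ Nat.card G := by
    rw [← hsq]
    have h2 : ∑ χ ∈ Finset.univ.image Ξ, (d χ) ^ 2 ≤ ∑ χ : IrrCharacter G, (d χ) ^ 2 :=
      Finset.sum_le_sum_of_subset (Finset.subset_univ _)
    rw [Finset.sum_image (fun a _ b _ hab => hΞ hab)] at h2
    simp only [hdj] at h2
    simpa using h2
  have hd0 : d (Ξ 0) ≤ 5 := by
    by_contra hgt
    have h10 : 6 ≤ d (Ξ 0) := by omega
    have h11 : 6 * d (Ξ 0) ≤ d (Ξ 0) ^ 2 := by nlinarith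
    omega
  have hidx : h.N.index * 108 = Nat.card G := by
    rw [← h.card_N, mul_comm]
    exact h.N.card_mul_index
  have hi : h.N.index = 1 := by
    have : h.N.index ≠ 0 := Subgroup.index_ne_zero_of_finite
    omega
  exact Subgroup.index_eq_one.1 hi

end main

end Cfsg.Agent.Lib.H7.T27
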