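import Mathlib
import Cfsg.Agent.Lib.H7.T648Defs
import Cfsg.Agent.Lib.H8.DadeInd
import Cfsg.Agent.Lib.H8.TIInd
import Cfsg.Agent.Lib.H8.GenChar
import Cfsg.Agent.Lib.L0.CharOps
import Cfsg.Agent.Lib.L0.CharIndChar
import Cfsg.Agent.Lib.L0.CharDegree

/-!
# S3702 piece IND (helper7): generic TI induction for a `HypTI` datum
(port of helper14's `Lib/H14/T27IND2`)
-/

set_option autoImplicit false
set_option linter.unusedSectionVars false

namespace Cfsg.Agent.Lib.H7.T648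

open Cfsg
open scoped ComplexConjugate

variable {M : Type*} [Group M] [Fintype M] {A : M → Prop} {G : Type*} [Group G] [Fintype G]

/-- `h.pull f = f ∘ e` -/
theorem pull_eq_comp (h : HypTI M A G) (f : M → ℂ) : h.pull f = f ∘ (h.e : ↥h.N →* M) := rfl

/-- transport of the inner product along `e` -/
theorem classInner_transport (h : HypTI M A G) [Fintype ↥h.N] (φ ψ : M → ℂ) :
    classInner (fun n : ↥h.N => φ (h.e n)) (fun n : ↥h.N => ψ (h.e n)) = classInner φ ψ := by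
  rw [Cfsg.Agent.Lib.H8.classInner_def, Cfsg.Agent.Lib.H8.classInner_def,
    Nat.card_congr h.e.toEquiv]
  congr 1
  exact Fintype.sum_equiv h.e.toEquiv _ _ (fun n => rfl)

theorem isCharacter_Ind (h : HypTI M A G) (f : M → ℂ) (hf : IsCharacter M f) :
    IsCharacter G (h.Ind f) := by
  unfold HypTI.Ind
  refine Cfsg.Agent.Lib.L0.isCharacter_indFun h.N ?_
  rw [pull_eq_comp]
  exact Cfsg.Agent.Lib.L0.isCharacter_comp _ hf

/-- linearity of induction -/
theorem indFun_sub' (H : Subgroup G) (θ₁ θ₂ : H → ℂ) :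
    indFun H (θ₁ - θ₂) = indFun H θ₁ - indFun H θ₂ := by
  have h1 : θ₁ - θ₂ = θ₁ + (-1 : ℂ) • θ₂ := by
    funext x; simp [sub_eq_add_neg]
  rw [h1, Cfsg.Agent.Lib.L0.indFun_add, Cfsg.Agent.Lib.L0.indFun_smul]
  funext x; simp [sub_eq_add_neg]

theorem Ind_sub (h : HypTI M A G) (f f' : M → ℂ) : h.Ind (f - f') = h.Ind f - h.Ind f' := by
  unfold HypTI.Ind
  rw [← indFun_sub']
  rfl

theorem isGenChar_Ind (h : HypTI M A G) (f : M → ℂ) (hf : IsGeneralizedCharacter M f) :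
    IsGeneralizedCharacter G (h.Ind f) := by
  obtain ⟨χ, ψ, hχ, hψ, rfl⟩ := hf
  exact ⟨h.Ind χ, h.Ind ψ, isCharacter_Ind h χ hχ, isCharacter_Ind h ψ hψ, Ind_sub h χ ψ⟩

theorem Ind_apply_one (h : HypTI M A G) (f : M → ℂ) : h.Ind f 1 = (h.N.index : ℂ) * f 1 := by
  unfold HypTI.Ind
  rw [Cfsg.Agent.Lib.L0.indFun_apply_one]
  show (h.N.index : ℂ) * f (h.e 1) = _
  rw [map_one]

theorem Ind_one (h : HypTI M A G) (f : M → ℂ) (hf : f 1 = 0) : h.Ind f 1 = 0 := by
  rw [Ind_apply_one, hf, mul_zero]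

/-- the TI isometry -/
theorem inner_Ind_Ind (h : HypTI M A G) (f f' : M → ℂ) (hcl' : IsClassFunction M f')
    (hf : ∀ x, ¬ A x → f x = 0) (hf' : ∀ x, ¬ A x → f' x = 0) :
    classInner (h.Ind f) (h.Ind f') = classInner f f' := by
  classical
  have : Fintype ↥h.N := Fintype.ofFinite _
  set S : Set G := {d : G | ∃ hd : d ∈ h.N, A (h.e ⟨d, hd⟩)} with hS
  have hTI : ∀ x : G, ∀ d ∈ S, x * d * x⁻¹ ∈ S → x ∈ h.N := by
    rintro x d ⟨hd, hA⟩ ⟨hxd, -⟩
    exact h.ti x d hd hA hxd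
  have hzero : ∀ (c : M → ℂ), (∀ x, ¬ A x → c x = 0) →
      ∀ x : ↥h.N, (x : G) ∉ S → h.pull c x = 0 := by
    intro c hc x hx
    show c (h.e x) = 0
    apply hc
    intro hA
    exact hx ⟨x.2, hA⟩
  have hclN : IsClassFunction ↥h.N (h.pull f') := by
    intro n k
    show f' (h.e (k * n * k⁻¹)) = f' (h.e n)
    rw [map_mul, map_mul, map_inv, hcl']
  unfold HypTI.Ind
  rw [Cfsg.Agent.Lib.H8.classInner_indFun_of_tiSet h.N S hTI (h.pull f) (h.pull f') hclN
    (hzero f hf) (hzero f' hf')]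
  exact classInner_transport h f f'

/-- Frobenius reciprocity + transport -/
theorem inner_Ind_class (h : HypTI M A G) (f : M → ℂ) (F : G → ℂ) (hF : IsClassFunction G F) :
    classInner (h.Ind f) F = classInner f (fun s : M => F (h.el s)) := by
  classical
  have : Fintype ↥h.N := Fintype.ofFinite _
  unfold HypTI.Ind
  rw [Cfsg.Agent.Lib.H8.frobenius_reciprocity h.N (h.pull f) F hF]
  have h1 : (fun n : ↥h.N => F (n : G)) = fun n : ↥h.N => (fun s => F (h.el s)) (h.e n) := by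
    funext n
    show F (n : G) = F (h.el (h.e n))
    rw [h.el_e]
  rw [h1]
  exact classInner_transport h f (fun s => F (h.el s))

end Cfsg.Agent.Lib.H7.T648
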