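import Mathlib
import Cfsg.Agent.Lib.H7.T648Defs
import Cfsg.Agent.Lib.H7.T648Model
import Cfsg.Agent.Lib.H7.T648IND
import Cfsg.Agent.Lib.H26.T648MODJ
import Cfsg.Agent.Lib.H26.T648CNT
import Cfsg.Agent.Lib.H24.T648CE
import Cfsg.Agent.Lib.H14.T648CONG
import Cfsg.Agent.Lib.H18.T648H18
import Cfsg.Agent.Lib.H8.GenChar
import Cfsg.Agent.Lib.H24.CharOrth
import Cfsg.Agent.Lib.L0.CharOps
import Cfsg.Agent.Lib.L0.CharInner

/-!
# S3702 (10u): the assembly (helper7).  Blueprint: tools/blueprints/S3702.md.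
-/

set_option autoImplicit false

namespace Cfsg.Agent.Lib.H7.T648

open Cfsg Cfsg.Agent.Lib.H18.T648
open Cfsg.Agent.Lib.H26.T648 (tr_mul tr_zero wt_conj wt_inv card_J648 cnt648_tr)
open Cfsg.Agent.Lib.H24.T648 (class_eq648)
open Cfsg.Agent.Lib.H14.T648 (index_modEq)
open scoped ComplexConjugate

section main

/-- `wtv` is the weight of the translation -/
theorem wt_tr (w : Fin 3 → ZMod 3) : (tr w).wt = wtv w := rfl

theorem tr_ne_one {w : Fin 3 → ZMod 3} (hw : w ≠ 0) : tr w ≠ 1 := by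
  intro h
  apply hw
  have := congrArg M648.v h
  exact this

theorem good_tr {w : Fin 3 → ZMod 3} (hw : w ≠ 0) (h0 : ∃ i, w i = 0) : Good (tr w) :=
  ⟨tr_mem w, tr_ne_one hw, h0⟩

theorem tr_inv (w : Fin 3 → ZMod 3) : (tr w)⁻¹ = tr (-w) := by
  rw [inv_eq_iff_mul_eq_one, tr_mul, add_neg_cancel, tr_zero]

theorem wtv_neg (w : Fin 3 → ZMod 3) : wtv (-w) = wtv w := by
  unfold wtv
  congr 1
  ext i
  simp

/-- the values of a class function of `G` on `el (J#)` from its multiplicities in the `Ind b_i` -/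
theorem val_eq {G : Type*} [Group G] [Fintype G] (h : Hyp648 G) (F : G → ℂ)
    (hF : IsClassFunction G F) (s : M648) (hs : s ∈ J648) (hs1 : s ≠ 1) :
    F (h.el s) = ∑ i : Fin 9, (xv i s.wt : ℂ) * conj (classInner (h.Ind (bf i)) F) := by
  have hcl : IsClassFunction M648 (fun t : M648 => F (h.el t)) := by
    intro x y
    show F (h.el (y * x * y⁻¹)) = F (h.el x)
    rw [h.el_mul, h.el_mul, h.el_inv, hF]
  have := bf_dual s hs hs1 (fun t : M648 => F (h.el t)) hcl
  rw [← this]
  refine Finset.sum_congr rfl fun i _ => ?_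
  rw [inner_Ind_class h (bf i) F hF, Cfsg.Agent.Lib.L0.classInner_conj_symm]

theorem card_eq_648 {G : Type*} [Group G] [Finite G] (h : Hyp648 G) : Nat.card G = 648 := by
  classical
  have : Fintype G := Fintype.ofFinite G
  have : Fintype (IrrCharacter G) := by
    have : Finite (IrrCharacter G) := Cfsg.Agent.Lib.H24.finite_irr
    exact Fintype.ofFinite _
  have hgen : ∀ i : Fin 9, IsGeneralizedCharacter G (h.Ind (bf i)) :=
    fun i => isGenChar_Ind h _ (bf_genChar i)
  have hclb : ∀ i : Fin 9, IsClassFunction M648 (bf i) :=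
    fun i => Cfsg.Agent.Lib.H8.isClassFunction_of_isGeneralizedCharacter (bf_genChar i)
  choose c hc using fun (i : Fin 9) (χ : IrrCharacter G) =>
    Cfsg.Agent.Lib.H8.genChar_classInner_irr_int (hgen i) χ.2
  choose d hdpos hd using fun χ : IrrCharacter G => Cfsg.Agent.Lib.H24.irr_one_eq χ
  set χ0 : IrrCharacter G := ⟨1, Cfsg.Agent.Lib.L0.isIrrCharacter_one⟩ with hχ0
  have hexp : ∀ i : Fin 9, h.Ind (bf i) = ∑ ξ : IrrCharacter G, (c i ξ : ℂ) • (ξ : G → ℂ) :=
    fun i => Cfsg.Agent.Lib.H8.genChar_expansion (hgen i) (c i) (hc i)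
  have hGne : (Nat.card G : ℂ) ≠ 0 := by exact_mod_cast (Nat.card_pos (α := G)).ne'
  -- the index
  have hidx : h.N.index * 648 = Nat.card G := by
    have h1 : Nat.card ↥h.N = 648 := by rw [Nat.card_congr h.e.toEquiv, M648.card_eq]
    rw [← h1, mul_comm]
    exact h.N.card_mul_index
  have hmod : h.N.index ≡ 1 [MOD 27] := by
    have := index_modEq h J648 (fun x hx hx1 => ⟨hx1, Or.inl hx⟩)
    rwa [card_J648] at this
  apply final_abstract d c χ0 (Nat.card G)
  · exact hdpos
  · -- deg χ0 = 1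
    have : ((d χ0 : ℕ) : ℂ) = 1 := by rw [← hd χ0]; rfl
    exact_mod_cast this
  · -- sum of squares
    have := Cfsg.Agent.Lib.H24.sum_irr_one_sq (G := G)
    simp only [hd] at this
    exact_mod_cast this
  · -- Gram
    intro i j
    have h1 : classInner (h.Ind (bf i)) (h.Ind (bf j)) = (gram i j : ℂ) := by
      rw [inner_Ind_Ind h (bf i) (bf j) (hclb j) (bf_off i) (bf_off j), bf_gram]
    have h2 : classInner (h.Ind (bf i)) (h.Ind (bf j)) =
        ((∑ χ : IrrCharacter G, c i χ * c j χ : ℤ) : ℂ) := by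
      conv_lhs => rw [hexp j]
      rw [Cfsg.Agent.Lib.L0.classInner_sum_right]
      push_cast
      refine Finset.sum_congr rfl fun χ _ => ?_
      rw [Cfsg.Agent.Lib.L0.classInner_smul_right, hc i χ]
      simp only [map_intCast]
      ring
    have : ((∑ χ : IrrCharacter G, c i χ * c j χ : ℤ) : ℂ) = ((gram i j : ℤ) : ℂ) := by
      rw [← h2, h1]
    exact_mod_cast this
  · -- the trivial character
    intro i
    have h1 : classInner (h.Ind (bf i)) ((χ0 : IrrCharacter G) : G → ℂ) = (t0 i : ℂ) := by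
      show classInner (h.Ind (bf i)) (1 : G → ℂ) = _
      rw [inner_Ind_class h (bf i) 1 (fun _ _ => rfl)]
      exact bf_one i
    have : ((c i χ0 : ℤ) : ℂ) = ((t0 i : ℤ) : ℂ) := by rw [← hc i χ0, h1]
    exact_mod_cast this
  · -- degrees
    intro i
    have h1 : h.Ind (bf i) 1 = 0 := by
      apply Ind_one
      apply bf_off
      intro hA
      exact hA.1 rfl
    rw [hexp i] at h1
    simp only [Finset.sum_apply, Pi.smul_apply, smul_eq_mul, hd] at h1
    have : ((∑ χ : IrrCharacter G, c i χ * (d χ : ℤ) : ℤ) : ℂ) = ((0 : ℤ) : ℂ) := by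
      push_cast
      exact h1
    exact_mod_cast this
  · -- the class equations
    intro w1 w2 w hw1 hw2 hw hgood hnc
    have hval : ∀ (χ : IrrCharacter G) (u : Fin 3 → ZMod 3), u ≠ 0 →
        (χ : G → ℂ) (h.el (tr u)) = ((∑ i, xv i (wtv u) * c i χ : ℤ) : ℂ) := by
      intro χ u hu
      rw [val_eq h (χ : G → ℂ) (Cfsg.Agent.Lib.H24.isClassFunction_irr χ) (tr u) (tr_mem u)
        (tr_ne_one hu)]
      push_cast
      refine Finset.sum_congr rfl fun i _ => ?_
      rw [hc i χ, wt_tr]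
      simp only [map_intCast]
    have hce := class_eq648 h (tr w1) (tr w2) (tr w) (tr_mem _) (tr_mem _) (tr_mem _)
      (tr_ne_one hw1) (tr_ne_one hw2) (tr_ne_one hw)
      (by
        rcases hgood with hg | hg | hg
        · exact Or.inl (good_tr hw1 hg)
        · exact Or.inr (Or.inl (good_tr hw2 hg))
        · exact Or.inr (Or.inr (good_tr hw hg)))
      (by
        rintro ⟨c12, c31⟩
        apply hnc
        constructor
        · rw [isConj_iff] at c12
          obtain ⟨m, hm⟩ := c12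
          rw [← wt_tr, ← wt_tr, ← hm, wt_conj m _ (tr_mem _)]
        · rw [isConj_iff] at c31
          obtain ⟨m, hm⟩ := c31
          rw [← wt_tr, ← wt_tr w1, ← wt_inv (tr w1) (tr_mem _), ← hm, wt_conj m _ (tr_mem _)])
    rw [cnt648_tr, tr_inv] at hce
    have hnw : -w ≠ 0 := by
      intro h0
      apply hw
      rw [← neg_neg w, h0, neg_zero]
    have hcast : ((∑ χ : IrrCharacter G, (((∑ i, xv i (wtv w1) * c i χ : ℤ) : ℚ) *
        ((∑ i, xv i (wtv w2) * c i χ : ℤ) : ℚ) * ((∑ i, xv i (wtv w) * c i χ : ℤ) : ℚ)) /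
        (d χ : ℚ) : ℚ) : ℂ) = (((729 * lcnt w1 w2 w : ℚ) / (Nat.card G : ℚ) : ℚ) : ℂ) := by
      have hce' := hce
      push_cast at hce'
      push_cast
      rw [← hce']
      refine Finset.sum_congr rfl fun χ _ => ?_
      rw [hval χ w1 hw1, hval χ w2 hw2, hval χ (-w) hnw, wtv_neg, hd χ]
      push_cast
      rfl
    exact_mod_cast hcast
  · exact ⟨h.N.index, by rw [← hidx, mul_comm]⟩
  · have h1 : Nat.card G / 648 = h.N.index := by
      rw [← hidx]; exact Nat.mul_div_cancel _ (by norm_num)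
    rw [h1]
    exact hmod

/-- MAIN. -/
theorem main648 {G : Type*} [Group G] [Finite G] (h : Hyp648 G) : h.N = ⊤ := by
  have hcard := card_eq_648 h
  have h1 : Nat.card ↥h.N = 648 := by rw [Nat.card_congr h.e.toEquiv, M648.card_eq]
  have hidx : h.N.index * 648 = 648 := by
    have := h.N.card_mul_index
    rw [h1, hcard] at this
    rw [mul_comm]; exact this
  have hi : h.N.index = 1 := by omega
  exact Subgroup.index_eq_one.1 hi

end main

end Cfsg.Agent.Lib.H7.T648
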