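import Mathlib
import Cfsg.Prelude.Def_FischerSpaces
import Cfsg.Agent.Lib.H26.ThreeTransCore
import Cfsg.Agent.S5561

set_option autoImplicit false
set_option linter.style.haveILetI false

/-!
3-transpositions and `O_3(G)` (helper7): the relation "same commuting partners" (`Weq`), and the theorem
that the products `d w` of `Weq`-equivalent 3-transpositions lie in `O_3(G)`.
-/

namespace Cfsg.Agent.Lib.H7.TT

open Cfsg Cfsg.Agent.Lib.H26.ThreeTrans

variable {G : Type*} [Group G] {D : Set G}

/-- The commuting partners of `d` in `D` other than `d` itself. -/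
def Dd (D : Set G) (d : G) : Set G := {y | y ∈ D ∧ y ≠ d ∧ Commute d y}

/-- `w` has the same commuting partners as `d`. -/
def Weq (D : Set G) (d w : G) : Prop := w ∈ D ∧ Dd D d = Dd D w

theorem mem_Dd_conj (hconj : ∀ g : G, ∀ d ∈ D, g * d * g⁻¹ ∈ D) (g d y : G) :
    y ∈ Dd D (g * d * g⁻¹) ↔ g⁻¹ * y * g ∈ Dd D d := by
  unfold Dd
  simp only [Set.mem_ofPred_eq]
  constructor
  · rintro ⟨hy, hne, hc⟩
    refine ⟨?_, ?_, ?_⟩
    · have := hconj g⁻¹ y hy
      simpa using this
    · intro h
      apply hne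
      rw [← h]
      group
    · have : g * d * g⁻¹ * y = y * (g * d * g⁻¹) := hc.eq
      show d * (g⁻¹ * y * g) = g⁻¹ * y * g * d
      calc d * (g⁻¹ * y * g) = g⁻¹ * (g * d * g⁻¹ * y) * g := by group
        _ = g⁻¹ * (y * (g * d * g⁻¹)) * g := by rw [this]
        _ = g⁻¹ * y * g * d := by group
  · rintro ⟨hy, hne, hc⟩
    refine ⟨?_, ?_, ?_⟩
    · have := hconj g _ hy
      have e : g * (g⁻¹ * y * g) * g⁻¹ = y := by group
      rwa [e] at this
    · intro h
      apply hne
      rw [h]
      group
    · have : d * (g⁻¹ * y * g) = g⁻¹ * y * g * d := hc.eq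
      show g * d * g⁻¹ * y = y * (g * d * g⁻¹)
      calc g * d * g⁻¹ * y = g * (d * (g⁻¹ * y * g)) * g⁻¹ := by group
        _ = g * (g⁻¹ * y * g * d) * g⁻¹ := by rw [this]
        _ = y * (g * d * g⁻¹) := by group

theorem Weq.refl {d : G} (hd : d ∈ D) : Weq D d d := ⟨hd, rfl⟩

theorem Weq.symm {d w : G} (hd : d ∈ D) (h : Weq D d w) : Weq D w d := ⟨hd, h.2.symm⟩

theorem Weq.trans {d v w : G} (h1 : Weq D d v) (h2 : Weq D v w) : Weq D d w :=
  ⟨h2.1, h1.2.trans h2.2⟩

theorem Weq.conj (hconj : ∀ g : G, ∀ d ∈ D, g * d * g⁻¹ ∈ D) {d w : G} (h : Weq D d w) (g : G) :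
    Weq D (g * d * g⁻¹) (g * w * g⁻¹) := by
  refine ⟨hconj g w h.1, ?_⟩
  ext y
  rw [mem_Dd_conj hconj, mem_Dd_conj hconj, h.2]

theorem Weq.not_commute {d w : G} (h : Weq D d w) (hne : w ≠ d) : ¬ Commute d w := by
  intro hc
  have : w ∈ Dd D d := ⟨h.1, hne, hc⟩
  rw [h.2] at this
  exact this.2.1 rfl

/-- `W_d` is closed under conjugation by its members. -/
theorem Weq.conj_mem (hconj : ∀ g : G, ∀ d ∈ D, g * d * g⁻¹ ∈ D) {d a b : G} (hd : d ∈ D)
    (ha : Weq D d a) (hb : Weq D d b) : Weq D d (b * a * b⁻¹) := by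
  have h1 : Weq D b a := (hb.symm hd).trans ha
  have h2 := h1.conj hconj b
  rw [mul_inv_cancel_right] at h2
  exact hb.trans h2

section three

variable (hS : IsThreeTranspositionSet D) (hconj : ∀ g : G, ∀ d ∈ D, g * d * g⁻¹ ∈ D)
include hS hconj

/-- The product of two `Weq`-equivalent transpositions maps every class `W_e` to itself. -/
theorem weq_conj_mul {a b e : G} (ha : a ∈ D) (hab : Weq D a b) (he : e ∈ D) :
    Weq D e ((a * b) * e * (a * b)⁻¹) := by
  have hb : b ∈ D := hab.1
  have hainv : a⁻¹ = a := inv_eq hS ha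
  have hbinv : b⁻¹ = b := inv_eq hS hb
  have heinv : e⁻¹ = e := inv_eq hS he
  have ha2 := sq_eq_one hS ha
  have hb2 := sq_eq_one hS hb
  have he2 := sq_eq_one hS he
  have key : (a * b) * e * (a * b)⁻¹ = a * (b * e * b⁻¹) * a⁻¹ := by group
  rw [key]
  by_cases hbe : Commute b e
  · by_cases heb : e = b
    · subst heb
      rw [mul_inv_cancel_right]
      exact Weq.conj_mem hconj he (Weq.refl he) (hab.symm ha)
    · have hmem : e ∈ Dd D b := ⟨he, heb, hbe⟩
      rw [← hab.2] at hmem
      have hae : Commute a e := hmem.2.2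
      have e1 : b * e * b⁻¹ = e := by rw [hbe.eq, mul_inv_cancel_right]
      have e2 : a * e * a⁻¹ = e := by rw [hae.eq, mul_inv_cancel_right]
      rw [e1, e2]
      exact Weq.refl he
  · by_cases hea : e = a
    · subst hea
      have hnc : ¬ Commute e b := fun h => hbe h.symm
      have h3 : (e * b) ^ 3 = 1 := by
        rcases commute_or_cube hS he hb with h | h
        · exact absurd h hnc
        · exact h
      have e1 : e * (b * e * b⁻¹) * e⁻¹ = b := by
        rw [hbinv, heinv]
        have h3' : e * b * (e * b) * (e * b) = 1 := by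
          rw [pow_succ, pow_two] at h3; exact h3
        calc e * (b * e * b) * e = (e * b * (e * b) * (e * b)) * b := by
              have : e * b * (e * b) * (e * b) * b = e * (b * e * b) * e * (b * b) := by group
              rw [this, hb2, mul_one]
          _ = b := by rw [h3', one_mul]
      rw [e1]
      exact hab
    · have hae : ¬ Commute a e := by
        intro h
        have hmem : e ∈ Dd D a := ⟨he, hea, h⟩
        rw [hab.2] at hmem
        exact hbe hmem.2.2
      have hbr1 : b * e * b = e * b * e := braid hS hb he hbe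
      have hbr2 : a * e * a = e * a * e := braid hS ha he hae
      have e1 : a * (b * e * b⁻¹) * a⁻¹ = a * (e * b * e⁻¹) * a⁻¹ := by
        rw [hbinv, heinv, hbr1]
      rw [e1]
      have h1 : Weq D (e * a * e⁻¹) (e * b * e⁻¹) := hab.conj hconj e
      have h2 := h1.conj hconj a
      have e2 : a * (e * a * e⁻¹) * a⁻¹ = e := by
        rw [heinv, hainv, ← hbr2]
        calc a * (a * e * a) * a = (a * a) * e * (a * a) := by group
          _ = e := by rw [ha2, one_mul, mul_one]
      rw [e2] at h2
      exact h2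

/-- The subgroup generated by the products of `Weq`-equivalent transpositions. -/
def wProducts (D : Set G) : Set G := {t | ∃ a b : G, a ∈ D ∧ Weq D a b ∧ t = a * b}

omit hS in
theorem wProducts_conj (g : G) {t : G} (ht : t ∈ wProducts D) : g * t * g⁻¹ ∈ wProducts D := by
  obtain ⟨a, b, ha, hab, rfl⟩ := ht
  exact ⟨g * a * g⁻¹, g * b * g⁻¹, hconj g a ha, hab.conj hconj g, by group⟩

/-- Every element of the subgroup generated by the `w`-products stabilises every class `W_e`. -/
theorem weq_conj_of_mem_closure {g : G} (hg : g ∈ Subgroup.closure (wProducts D)) :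
    (∀ e ∈ D, Weq D e (g * e * g⁻¹)) ∧ (∀ e ∈ D, Weq D e (g⁻¹ * e * g)) := by
  induction hg using Subgroup.closure_induction with
  | mem x hx =>
    obtain ⟨a, b, ha, hab, rfl⟩ := hx
    constructor
    · intro e he
      exact weq_conj_mul hS hconj ha hab he
    · intro e he
      have hb : b ∈ D := hab.1
      have h := weq_conj_mul hS hconj hb (hab.symm ha) he
      have e1 : (b * a) * e * (b * a)⁻¹ = (a * b)⁻¹ * e * (a * b) := by
        rw [mul_inv_rev, mul_inv_rev, inv_eq hS ha, inv_eq hS hb]
      rwa [e1] at h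
  | one =>
    constructor <;> intro e he <;> simpa using Weq.refl he
  | mul x y _ _ hx hy =>
    constructor
    · intro e he
      have h1 := hy.1 e he
      have h2 := hx.1 _ (hconj y e he)
      have e1 : x * (y * e * y⁻¹) * x⁻¹ = x * y * e * (x * y)⁻¹ := by group
      rw [e1] at h2
      exact h1.trans h2
    · intro e he
      have h1 := hx.2 e he
      have h2 := hy.2 (x⁻¹ * e * x) (by simpa using hconj x⁻¹ e he)
      have e1 : y⁻¹ * (x⁻¹ * e * x) * y = (x * y)⁻¹ * e * (x * y) := by group
      rw [e1] at h2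
      exact h1.trans h2
  | inv x _ hx =>
    constructor
    · intro e he
      have := hx.2 e he
      simpa using this
    · intro e he
      have := hx.1 e he
      simpa using this

/-- The set `W_e`. -/
def Wset (D : Set G) (e : G) : Set G := {w | Weq D e w}

/-- Products of two members of `W_e`. -/
def wProductsAt (D : Set G) (e : G) : Set G := {t | ∃ a b : G, Weq D e a ∧ Weq D e b ∧ t = a * b}

omit hS in
/-- Conjugation by elements of `⟨W_e⟩` preserves `W_e`. -/
theorem weq_conj_of_mem_closure_Wset {e k : G} (he : e ∈ D) (hk : k ∈ Subgroup.closure (Wset D e)) :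
    (∀ w, Weq D e w → Weq D e (k * w * k⁻¹)) ∧ (∀ w, Weq D e w → Weq D e (k⁻¹ * w * k)) := by
  induction hk using Subgroup.closure_induction with
  | mem x hx =>
    have hx' : Weq D e x := hx
    constructor
    · intro w hw
      exact Weq.conj_mem hconj he hw hx'
    · intro w hw
      have h1 : Weq D x w := (hx'.symm he).trans hw
      have h2 := h1.conj hconj x⁻¹
      have e1 : x⁻¹ * x * x⁻¹⁻¹ = x := by group
      rw [e1] at h2
      have e2 : x⁻¹ * w * x⁻¹⁻¹ = x⁻¹ * w * x := by group
      rw [e2] at h2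
      exact hx'.trans h2
  | one =>
    constructor <;> intro w hw <;> simpa using hw
  | mul x y _ _ hx hy =>
    constructor
    · intro w hw
      have h2 := hx.1 _ (hy.1 w hw)
      have e1 : x * (y * w * y⁻¹) * x⁻¹ = x * y * w * (x * y)⁻¹ := by group
      rwa [e1] at h2
    · intro w hw
      have h2 := hy.2 _ (hx.2 w hw)
      have e1 : y⁻¹ * (x⁻¹ * w * x) * y = (x * y)⁻¹ * w * (x * y) := by group
      rwa [e1] at h2
  | inv x _ hx =>
    constructor
    · intro w hw
      have := hx.2 w hw
      simpa using this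
    · intro w hw
      have := hx.1 w hw
      simpa using this

omit hconj in
/-- The product of two members of `W_e` cubes to one. -/
theorem cube_of_weq {e a b : G} (he : e ∈ D) (ha : Weq D e a) (hb : Weq D e b) : (a * b) ^ 3 = 1 := by
  by_cases hab : b = a
  · subst hab
    rw [sq_eq_one hS hb.1, one_pow]
  · have h1 : Weq D a b := (ha.symm he).trans hb
    rcases commute_or_cube hS ha.1 hb.1 with h | h
    · exact absurd h (h1.not_commute hab)
    · exact h

/-- Products of two members of `W_e` generate a `3`-group. -/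
theorem isPGroup_closure_wProductsAt [Finite G] {e : G} (he : e ∈ D) :
    IsPGroup 3 (Subgroup.closure (wProductsAt D e)) := by
  haveI : Fact (Nat.Prime 3) := ⟨Nat.prime_three⟩
  set K : Subgroup G := Subgroup.closure (Wset D e) with hK
  have heK : e ∈ K := Subgroup.subset_closure (Weq.refl he)
  set e' : ↥K := ⟨e, heK⟩ with he'
  have hord : orderOf e' = 2 := by
    rw [← Subgroup.orderOf_coe]
    exact hS.1 e he
  -- conjugates of `e'` lie in `W_e`
  have hconjW : ∀ x ∈ conjugatesOf e', Weq D e (x : G) := by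
    intro x hx
    rw [mem_conjugatesOf_iff', isConj_iff] at hx
    obtain ⟨c, rfl⟩ := hx
    have := (weq_conj_of_mem_closure_Wset hconj he c.2).1 e (Weq.refl he)
    simpa using this
  have hprod : ∀ a ∈ conjugatesOf e', ∀ b ∈ conjugatesOf e', ∃ k : ℕ, orderOf (a * b) = 3 ^ k := by
    intro a ha b hb
    have h3 : ((a : G) * (b : G)) ^ 3 = 1 := cube_of_weq hS he (hconjW a ha) (hconjW b hb)
    have hdvd : orderOf (a * b) ∣ 3 := by
      rw [← Subgroup.orderOf_coe]
      exact orderOf_dvd_of_pow_eq_one h3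
    rcases (Nat.dvd_prime Nat.prime_three).1 hdvd with h | h
    · exact ⟨0, by rw [h, pow_zero]⟩
    · exact ⟨1, by rw [h, pow_one]⟩
  have hmain := Cfsg.Agent.S5561.result e' hord hprod
  -- every member of `W_e` is a conjugate of `e'`
  have hall : ∀ w, Weq D e w → ∃ x ∈ conjugatesOf e', (x : G) = w := by
    intro w hw
    by_cases hwe : w = e
    · exact ⟨e', mem_conjugatesOf_self, by rw [hwe]⟩
    · have hwK : w ∈ K := Subgroup.subset_closure hw
      have hnc : ¬ Commute e w := hw.not_commute hwe
      have hbr : e * w * e = w * e * w := braid hS he hw.1 hnc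
      refine ⟨(⟨e, heK⟩ * ⟨w, hwK⟩) * e' * (⟨e, heK⟩ * ⟨w, hwK⟩)⁻¹, ?_, ?_⟩
      · rw [mem_conjugatesOf_iff', isConj_iff]
        exact ⟨_, rfl⟩
      · simp only [Subgroup.coe_mul, Subgroup.coe_inv, he']
        rw [mul_inv_rev, inv_eq hS he, inv_eq hS hw.1]
        calc e * w * e * (w * e) = (e * w * e) * w * e := by group
          _ = w * e * w * w * e := by rw [hbr]
          _ = w * e * (w * w) * e := by group
          _ = w := by rw [sq_eq_one hS hw.1, mul_one, mul_assoc, sq_eq_one hS he, mul_one]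
  have hle : Subgroup.closure (wProductsAt D e) ≤ (pCore 3 ↥K).map K.subtype := by
    rw [Subgroup.closure_le]
    rintro t ⟨a, b, ha, hb, rfl⟩
    obtain ⟨x, hx, rfl⟩ := hall a ha
    obtain ⟨y, hy, rfl⟩ := hall b hb
    exact ⟨x * y, hmain x hx y hy, rfl⟩
  have hp : IsPGroup 3 ↥((pCore 3 ↥K).map K.subtype) :=
    (Cfsg.Agent.Lib.H1.pCore_isPGroup 3 ↥K).map _
  exact hp.to_le hle

omit hS in
/-- The subgroup generated by the `w`-products is normal. -/
theorem wClosure_normal : (Subgroup.closure (wProducts D)).Normal := by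
  constructor
  intro n hn g
  induction hn using Subgroup.closure_induction with
  | mem x hx => exact Subgroup.subset_closure (wProducts_conj hconj g hx)
  | one => simp
  | mul x y _ _ hx hy =>
    have : g * (x * y) * g⁻¹ = (g * x * g⁻¹) * (g * y * g⁻¹) := by group
    rw [this]
    exact Subgroup.mul_mem _ hx hy
  | inv x _ hx =>
    have : g * x⁻¹ * g⁻¹ = (g * x * g⁻¹)⁻¹ := by group
    rw [this]
    exact Subgroup.inv_mem _ hx

/-- The subgroup generated by the `w`-products is a `3`-group. -/
theorem wClosure_isPGroup [Finite G] : IsPGroup 3 (Subgroup.closure (wProducts D)) := by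
  haveI : Fact (Nat.Prime 3) := ⟨Nat.prime_three⟩
  set N : Subgroup G := Subgroup.closure (wProducts D) with hN
  -- each `Q_e` lies in `N` and is normalised by `N`
  have hQle : ∀ e ∈ D, Subgroup.closure (wProductsAt D e) ≤ N := by
    intro e he
    rw [Subgroup.closure_le]
    rintro t ⟨a, b, ha, hb, rfl⟩
    exact Subgroup.subset_closure ⟨a, b, ha.1, (ha.symm he).trans hb, rfl⟩
  have hQnorm : ∀ e ∈ D, ∀ n ∈ N, ∀ q ∈ Subgroup.closure (wProductsAt D e),
      n * q * n⁻¹ ∈ Subgroup.closure (wProductsAt D e) := by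
    intro e he n hn q hq
    have hP := (weq_conj_of_mem_closure hS hconj hn).1
    induction hq using Subgroup.closure_induction with
    | mem x hx =>
      obtain ⟨a, b, ha, hb, rfl⟩ := hx
      refine Subgroup.subset_closure ⟨n * a * n⁻¹, n * b * n⁻¹, ?_, ?_, by group⟩
      · exact ha.trans (hP a ha.1)
      · exact hb.trans (hP b hb.1)
    | one => simp
    | mul x y _ _ hx hy =>
      have : n * (x * y) * n⁻¹ = (n * x * n⁻¹) * (n * y * n⁻¹) := by group
      rw [this]
      exact Subgroup.mul_mem _ hx hy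
    | inv x _ hx =>
      have : n * x⁻¹ * n⁻¹ = (n * x * n⁻¹)⁻¹ := by group
      rw [this]
      exact Subgroup.inv_mem _ hx
  have hsub : ∀ e ∈ D, (Subgroup.closure (wProductsAt D e)).subgroupOf N ≤ pCore 3 ↥N := by
    intro e he
    apply le_sSup
    refine ⟨⟨?_⟩, ?_⟩
    · intro q hq n
      rw [Subgroup.mem_subgroupOf] at hq ⊢
      have := hQnorm e he n n.2 q hq
      simpa using this
    · have hp := isPGroup_closure_wProductsAt hS hconj he
      exact hp.comap_of_injective N.subtype N.subtype_injective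
  have htop : ∀ x (hx : x ∈ N), (⟨x, hx⟩ : ↥N) ∈ pCore 3 ↥N := by
    intro x hx
    induction hx using Subgroup.closure_induction with
    | mem t ht =>
      obtain ⟨a, b, ha, hab, rfl⟩ := ht
      apply hsub a ha
      rw [Subgroup.mem_subgroupOf]
      exact Subgroup.subset_closure ⟨a, b, Weq.refl ha, hab, rfl⟩
    | one => exact Subgroup.one_mem _
    | mul x y hx hy hx' hy' =>
      have : (⟨x * y, Subgroup.mul_mem _ hx hy⟩ : ↥N) = ⟨x, hx⟩ * ⟨y, hy⟩ := rfl
      rw [this]
      exact Subgroup.mul_mem _ hx' hy'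
    | inv x hx hx' =>
      have : (⟨x⁻¹, Subgroup.inv_mem _ hx⟩ : ↥N) = (⟨x, hx⟩ : ↥N)⁻¹ := rfl
      rw [this]
      exact Subgroup.inv_mem _ hx'
  have hpc : IsPGroup 3 ↥(pCore 3 ↥N) := Cfsg.Agent.Lib.H1.pCore_isPGroup 3 ↥N
  intro n
  obtain ⟨k, hk⟩ := hpc ⟨n, htop n.1 n.2⟩
  refine ⟨k, ?_⟩
  have := congrArg Subtype.val hk
  simpa using this

/-- The product of two `Weq`-equivalent transpositions lies in `O_3(G)`. -/
theorem mul_mem_pCore_of_weq [Finite G] {d w : G} (hd : d ∈ D) (hw : Weq D d w) :
    d * w ∈ pCore 3 G := by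
  have hle : Subgroup.closure (wProducts D) ≤ pCore 3 G := by
    apply le_sSup
    exact ⟨wClosure_normal hconj, wClosure_isPGroup hS hconj⟩
  exact hle (Subgroup.subset_closure ⟨d, w, hd, hw, rfl⟩)

omit hS hconj in
/-- An involution in a `3`-group is trivial. -/
theorem eq_one_of_sq_of_mem {Q : Subgroup G} (hQ : IsPGroup 3 Q) {t : G} (ht : t ∈ Q) (h2 : t * t = 1) :
    t = 1 := by
  obtain ⟨k, hk⟩ := hQ ⟨t, ht⟩
  have hk' : t ^ 3 ^ k = 1 := by
    have := congrArg Subtype.val hk
    simpa using this
  have h1 : orderOf t ∣ 3 ^ k := orderOf_dvd_of_pow_eq_one hk'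
  have h2' : orderOf t ∣ 2 := orderOf_dvd_of_pow_eq_one (by rw [pow_two]; exact h2)
  have hco : Nat.Coprime (3 ^ k) 2 := Nat.Coprime.pow_left k (by norm_num)
  have := Nat.dvd_gcd h1 h2'
  rw [hco] at this
  exact orderOf_eq_one_iff.1 (Nat.dvd_one.1 this)

omit hconj in
theorem Dd_subset_of_mul_mem {Q : Subgroup G} [hQn : Q.Normal] (hQ : IsPGroup 3 Q) {d w : G}
    (hd : d ∈ D) (hw : w ∈ D) (h : d * w ∈ Q) : Dd D d ⊆ Dd D w := by
  rintro y ⟨hy, hyd, hdy⟩
  have hd2 := sq_eq_one hS hd
  have hw2 := sq_eq_one hS hw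
  have hy2 := sq_eq_one hS hy
  have ht2 : (y * d) * (y * d) = 1 := by
    calc y * d * (y * d) = y * (d * y) * d := by group
      _ = y * (y * d) * d := by rw [hdy.eq]
      _ = (y * y) * (d * d) := by group
      _ = 1 := by rw [hy2, hd2, one_mul]
  have ht1 : y * d ≠ 1 := by
    intro h1
    apply hyd
    calc y = y * (d * d) := by rw [hd2, mul_one]
      _ = (y * d) * d := by group
      _ = d := by rw [h1, one_mul]
  refine ⟨hy, ?_, ?_⟩
  · intro hyw
    subst hyw
    -- `d` and `y = w` commute and differ, so `d * y` is an involution in `Q`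
    have hq2 : (d * y) * (d * y) = 1 := by
      calc d * y * (d * y) = d * (y * d) * y := by group
        _ = d * (d * y) * y := by rw [hdy.eq]
        _ = (d * d) * (y * y) := by group
        _ = 1 := by rw [hd2, hy2, one_mul]
    have := eq_one_of_sq_of_mem hQ h hq2
    apply hyd
    calc y = (d * d) * y := by rw [hd2, one_mul]
      _ = d * (d * y) := by group
      _ = d := by rw [this, mul_one]
  · rcases commute_or_cube hS hy hw with hc | hc
    · exact hc.symm
    · exfalso
      -- `y * w = t * q` with `t = y * d` an involution and `q = d * w ∈ Q`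
      set t := y * d with ht
      set q := d * w with hq
      have hyw : y * w = t * q := by
        rw [ht, hq]
        calc y * w = y * (d * d) * w := by rw [hd2, mul_one]
          _ = y * d * (d * w) := by group
      rw [hyw] at hc
      have htinv : t⁻¹ = t := inv_eq_of_mul_eq_one_right ht2
      have hq1 : t * q * t⁻¹ ∈ Q := hQn.conj_mem q h t
      have h3 : t * q * (t * q) * (t * q) = 1 := by
        rw [pow_succ, pow_two] at hc; exact hc
      have htQ : t ∈ Q := by
        have e1 : t = ((t * q * t⁻¹) * q * (t * q * t⁻¹))⁻¹ := by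
          rw [eq_inv_iff_mul_eq_one]
          rw [htinv]
          calc t * (t * q * t * q * (t * q * t)) = (t * t) * q * t * q * t * q * t := by group
            _ = q * t * q * t * q * t := by rw [ht2, one_mul]
            _ = t⁻¹ * (t * q * (t * q) * (t * q)) * t := by group
            _ = 1 := by rw [h3, mul_one, inv_mul_cancel]
        rw [e1]
        exact Subgroup.inv_mem _ (Subgroup.mul_mem _ (Subgroup.mul_mem _ hq1 h) hq1)
      exact ht1 (eq_one_of_sq_of_mem hQ htQ ht2)

omit hconj in
/-- Transpositions congruent modulo a normal `3`-subgroup have the same commuting partners. -/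
theorem weq_of_mul_mem {Q : Subgroup G} [Q.Normal] (hQ : IsPGroup 3 Q) {d w : G}
    (hd : d ∈ D) (hw : w ∈ D) (h : d * w ∈ Q) : Weq D d w := by
  refine ⟨hw, Set.Subset.antisymm (Dd_subset_of_mul_mem hS hQ hd hw h) ?_⟩
  apply Dd_subset_of_mul_mem hS hQ hw hd
  have : w * d = (d * w)⁻¹ := by rw [mul_inv_rev, inv_eq hS hd, inv_eq hS hw]
  rw [this]
  exact Subgroup.inv_mem _ h

omit hconj in
/-- A `Weq`-equivalent transposition is the conjugate by the product. -/
theorem conj_eq_of_weq {d w : G} (hd : d ∈ D) (hw : Weq D d w) :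
    (d * w) * d * (d * w)⁻¹ = w := by
  have hd2 := sq_eq_one hS hd
  have hw2 := sq_eq_one hS hw.1
  rw [mul_inv_rev, inv_eq hS hd, inv_eq hS hw.1]
  by_cases hwd : w = d
  · subst hwd
    calc w * w * w * (w * w) = (w * w) * w * (w * w) := by group
      _ = w := by rw [hw2, one_mul, mul_one]
  · have hbr : d * w * d = w * d * w := braid hS hd hw.1 (hw.not_commute hwd)
    calc d * w * d * (w * d) = (d * w * d) * w * d := by group
      _ = w * d * w * w * d := by rw [hbr]
      _ = w * d * (w * w) * d := by group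
      _ = w := by rw [hw2, mul_one, mul_assoc, hd2, mul_one]

end three

end Cfsg.Agent.Lib.H7.TT
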