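import Mathlib
import Cfsg.Prelude.Def_FischerSpaces
import Cfsg.Prelude.Def_Local
import Cfsg.Agent.Lib.H7.TTW
import Cfsg.Agent.Lib.H7.Components
import Cfsg.Agent.Lib.H7.FStar
import Cfsg.Agent.Lib.H23.BurnsidePQ
import Cfsg.Agent.Lib.H1.Fitting

set_option autoImplicit false
set_option linter.style.haveILetI false
set_option linter.unusedSectionVars false

/-!
3-transpositions and components (helper7): a 3-transposition normalises every component; the trichotomy
`O_2` / `O_3` / `E(G)`.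
-/

namespace Cfsg.Agent.Lib.H7.TT

open Cfsg Cfsg.Agent.Lib.H26.ThreeTrans
open scoped commutatorElement

/-- A number all of whose prime divisors are `2` or `3` is `2 ^ a * 3 ^ b`. -/
theorem eq_two_pow_mul_three_pow : ∀ n : ℕ, n ≠ 0 → (∀ p : ℕ, p.Prime → p ∣ n → p = 2 ∨ p = 3) →
    ∃ a b : ℕ, n = 2 ^ a * 3 ^ b := by
  intro n
  induction n using Nat.strong_induction_on with
  | _ n ih =>
  intro hn h
  by_cases h1 : n = 1
  · exact ⟨0, 0, by simp [h1]⟩
  · obtain ⟨p, hp, hpn⟩ := Nat.exists_prime_and_dvd h1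
    obtain ⟨m, rfl⟩ := hpn
    have hm0 : m ≠ 0 := by
      rintro rfl
      simp at hn
    have hlt : m < p * m := by
      have := hp.two_le
      nlinarith [Nat.pos_of_ne_zero hm0]
    obtain ⟨a, b, hab⟩ := ih m hlt hm0 (fun q hq hqm => h q hq (Dvd.dvd.mul_left hqm p))
    rcases h p hp (Dvd.intro m rfl) with rfl | rfl
    · exact ⟨a + 1, b, by rw [hab]; ring⟩
    · exact ⟨a, b + 1, by rw [hab]; ring⟩

/-- A finite group all of whose elements square or cube to one is solvable. -/
theorem isSolvable_of_sq_or_cube {X : Type*} [Group X] [Finite X]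
    (h : ∀ x : X, x ^ 2 = 1 ∨ x ^ 3 = 1) : Group.IsSolvable X := by
  have hcard : ∀ p : ℕ, p.Prime → p ∣ Nat.card X → p = 2 ∨ p = 3 := by
    intro p hp hdvd
    haveI : Fact p.Prime := ⟨hp⟩
    obtain ⟨x, hx⟩ := exists_prime_orderOf_dvd_card' p hdvd
    rcases h x with h2 | h3
    · left
      have : p ∣ 2 := by rw [← hx]; exact orderOf_dvd_of_pow_eq_one h2
      exact (Nat.prime_dvd_prime_iff_eq hp Nat.prime_two).1 this
    · right
      have : p ∣ 3 := by rw [← hx]; exact orderOf_dvd_of_pow_eq_one h3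
      exact (Nat.prime_dvd_prime_iff_eq hp Nat.prime_three).1 this
  obtain ⟨a, b, hab⟩ := eq_two_pow_mul_three_pow (Nat.card X) Nat.card_pos.ne' hcard
  exact Cfsg.Agent.Lib.H23.isSolvable_of_card_eq_prime_pow_mul_prime_pow 2 3 a b
    Nat.prime_two Nat.prime_three hab

/-- Central factors drop out of a commutator. -/
theorem commutatorElement_mul_of_commute {X : Type*} [Group X] {a b g h : X} (hag : Commute a g)
    (hah : Commute a h) (hab : Commute a b) (hbg : Commute b g) (hbh : Commute b h) :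
    ⁅a * g, b * h⁆ = ⁅g, h⁆ := by
  simp only [commutatorElement_def]
  rw [mul_inv_rev, mul_inv_rev]
  have h1 : Commute a (g * (b * h) * g⁻¹) :=
    (hag.mul_right (hab.mul_right hah)).mul_right hag.inv_right
  have h2 : Commute b (h * g⁻¹) := hbh.mul_right hbg.inv_right
  calc a * g * (b * h) * (g⁻¹ * a⁻¹) * (h⁻¹ * b⁻¹)
      = (a * (g * (b * h) * g⁻¹)) * a⁻¹ * (h⁻¹ * b⁻¹) := by group
    _ = ((g * (b * h) * g⁻¹) * a) * a⁻¹ * (h⁻¹ * b⁻¹) := by rw [h1.eq]
    _ = g * (b * (h * g⁻¹)) * h⁻¹ * b⁻¹ := by group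
    _ = g * ((h * g⁻¹) * b) * h⁻¹ * b⁻¹ := by rw [h2.eq]
    _ = g * h * g⁻¹ * (b * h⁻¹) * b⁻¹ := by group
    _ = g * h * g⁻¹ * (h⁻¹ * b) * b⁻¹ := by rw [hbh.inv_right.eq]
    _ = g * h * g⁻¹ * h⁻¹ := by group

section comp

variable {G : Type*} [Group G] [Finite G] {D : Set G}
variable (hS : IsThreeTranspositionSet D) (hconj : ∀ g : G, ∀ d ∈ D, g * d * g⁻¹ ∈ D)
include hS hconj

/-- A 3-transposition normalises every component. -/
theorem map_conj_component_eq {d : G} (hd : d ∈ D) {L : Subgroup G} (hL : IsComponent L) :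
    L.map (MulAut.conj d).toMonoidHom = L := by
  by_contra hne
  have hL' : IsComponent (L.map (MulAut.conj d).toMonoidHom) :=
    Cfsg.Agent.Lib.H7.isComponent_map_conj d hL
  have hcomm : ⁅L.map (MulAut.conj d).toMonoidHom, L⁆ = ⊥ :=
    Cfsg.Agent.Lib.H7.components_commute hL' hL hne
  have hcen := Subgroup.commutator_eq_bot_iff_le_centralizer.1 hcomm
  have hdinv : d⁻¹ = d := inv_eq hS hd
  have key : ∀ x : ↥L, x ^ 2 ∈ Subgroup.center ↥L ∨ x ^ 3 ∈ Subgroup.center ↥L := by
    rintro ⟨g, hg⟩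
    have hg' : d * g * d⁻¹ ∈ L.map (MulAut.conj d).toMonoidHom :=
      ⟨g, hg, by simp [MulAut.conj_apply]⟩
    have hcg : Commute (d * g * d⁻¹) g⁻¹ := by
      have := Subgroup.mem_centralizer_iff.1 (hcen hg') g⁻¹ (Subgroup.inv_mem _ hg)
      exact this.symm
    have he : g * d * g⁻¹ ∈ D := hconj g d hd
    have hprod : d * (g * d * g⁻¹) = (d * g * d⁻¹) * g⁻¹ := by
      rw [hdinv]; group
    have hpow : ∀ k : ℕ, (d * (g * d * g⁻¹)) ^ k = 1 → (⟨g, hg⟩ : ↥L) ^ k ∈ Subgroup.center ↥L := by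
      intro k hk
      rw [hprod, hcg.mul_pow, inv_pow, mul_inv_eq_one] at hk
      have hmem : g ^ k ∈ Subgroup.centralizer (L : Set G) := by
        rw [← hk]
        exact hcen (Subgroup.pow_mem _ hg' k)
      rw [Subgroup.mem_center_iff]
      rintro ⟨h, hh⟩
      apply Subtype.ext
      have := Subgroup.mem_centralizer_iff.1 hmem h hh
      simpa using this
    rcases hS.2 d hd _ he with h2 | h3
    · exact Or.inl (hpow 2 h2)
    · exact Or.inr (hpow 3 h3)
  have hsolvQ : Group.IsSolvable (↥L ⧸ Subgroup.center ↥L) := by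
    apply isSolvable_of_sq_or_cube
    intro y
    obtain ⟨x, rfl⟩ := QuotientGroup.mk_surjective y
    rcases key x with h | h
    · left
      rw [← QuotientGroup.mk_pow, QuotientGroup.eq_one_iff]
      exact h
    · right
      rw [← QuotientGroup.mk_pow, QuotientGroup.eq_one_iff]
      exact h
  apply Cfsg.Agent.Lib.H7.component_not_solvable hL
  haveI : Group.IsSolvable ↥(Subgroup.center ↥L) :=
    Group.isSolvable_of_comm (fun a b => Subtype.ext (by
      have := b.2
      rw [Subgroup.mem_center_iff] at this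
      exact this a.1))
  refine Group.isSolvable_of_ker_le_range (Subgroup.center ↥L).subtype
    (QuotientGroup.mk' (Subgroup.center ↥L)) ?_
  rw [QuotientGroup.ker_mk', Subgroup.range_subtype]

/-- The commutators `d * (g d g⁻¹)`, `g ∈ L`. -/
def tSet (d : G) (L : Subgroup G) : Set G := {t | ∃ g ∈ L, t = d * (g * d * g⁻¹)}

theorem conj_mem_component {d : G} (hd : d ∈ D) {L : Subgroup G} (hL : IsComponent L) {g : G}
    (hg : g ∈ L) : d * g * d⁻¹ ∈ L := by
  have h := map_conj_component_eq hS hconj hd hL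
  have : d * g * d⁻¹ ∈ L.map (MulAut.conj d).toMonoidHom := ⟨g, hg, by simp [MulAut.conj_apply]⟩
  rwa [h] at this

theorem tSet_subset {d : G} (hd : d ∈ D) {L : Subgroup G} (hL : IsComponent L) :
    tSet d L ⊆ (L : Set G) := by
  rintro t ⟨g, hg, rfl⟩
  have h1 := conj_mem_component hS hconj hd hL hg
  have : d * (g * d * g⁻¹) = (d * g * d⁻¹) * g⁻¹ := by rw [inv_eq hS hd]; group
  rw [this]
  exact Subgroup.mul_mem _ h1 (Subgroup.inv_mem _ hg)

omit hconj [Finite G] in
theorem tClosure_conj_mem {d : G} (hd : d ∈ D) {L : Subgroup G} {h t : G}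
    (hh : h ∈ L) (ht : t ∈ Subgroup.closure (tSet d L)) :
    h * t * h⁻¹ ∈ Subgroup.closure (tSet d L) := by
  induction ht using Subgroup.closure_induction with
  | mem x hx =>
    obtain ⟨g, hg, rfl⟩ := hx
    have e1 : h * (d * (g * d * g⁻¹)) * h⁻¹
        = (d * (h * d * h⁻¹))⁻¹ * (d * ((h * g) * d * (h * g)⁻¹)) := by
      have : (d * (h * d * h⁻¹))⁻¹ * (d * ((h * g) * d * (h * g)⁻¹))
          = h * (d⁻¹ * (g * d * g⁻¹)) * h⁻¹ := by group
      rw [this, inv_eq hS hd]
    rw [e1]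
    exact Subgroup.mul_mem _
      (Subgroup.inv_mem _ (Subgroup.subset_closure ⟨h, hh, rfl⟩))
      (Subgroup.subset_closure ⟨h * g, Subgroup.mul_mem _ hh hg, rfl⟩)
  | one => simp
  | mul x y _ _ hx hy =>
    have : h * (x * y) * h⁻¹ = (h * x * h⁻¹) * (h * y * h⁻¹) := by group
    rw [this]
    exact Subgroup.mul_mem _ hx hy
  | inv x _ hx =>
    have : h * x⁻¹ * h⁻¹ = (h * x * h⁻¹)⁻¹ := by group
    rw [this]
    exact Subgroup.inv_mem _ hx

/-- If the commutators `[d, g]`, `g ∈ L`, generate a solvable group then `d` centralises `L`. -/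
theorem commute_of_isSolvable_tClosure {d : G} (hd : d ∈ D) {L : Subgroup G} (hL : IsComponent L)
    (hsolv : Group.IsSolvable ↥(Subgroup.closure (tSet d L))) : ∀ g ∈ L, Commute d g := by
  set N : Subgroup G := Subgroup.closure (tSet d L) with hN
  have hnorm : L ≤ Subgroup.normalizer (N : Set G) := by
    intro h hh
    rw [Subgroup.mem_normalizer_iff]
    intro n
    constructor
    · intro hn
      exact tClosure_conj_mem hS hd hh hn
    · intro hn
      have := tClosure_conj_mem hS hd (Subgroup.inv_mem _ hh) hn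
      have e : h⁻¹ * (h * n * h⁻¹) * h⁻¹⁻¹ = n := by group
      rwa [e] at this
  have hc : ⁅L, N⁆ = ⊥ := Cfsg.Agent.Lib.H7.component_commutator_solvable hL hsolv hnorm
  have hcen := Subgroup.commutator_eq_bot_iff_le_centralizer.1 hc
  -- `t_g` commutes with every element of `L`
  have htc : ∀ g ∈ L, ∀ h ∈ L, Commute (d * (g * d * g⁻¹)) h := by
    intro g hg h hh
    have hmem : d * (g * d * g⁻¹) ∈ N := Subgroup.subset_closure ⟨g, hg, rfl⟩
    have := Subgroup.mem_centralizer_iff.1 (hcen hh) _ hmem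
    exact this
  have hdinv : d⁻¹ = d := inv_eq hS hd
  have hconjform : ∀ g : G, d * g * d⁻¹ = (d * (g * d * g⁻¹)) * g := by
    intro g
    rw [hdinv]; group
  have hle : ⁅L, L⁆ ≤ Subgroup.centralizer ({d} : Set G) := by
    rw [Subgroup.commutator_le]
    intro g hg h hh
    rw [Subgroup.mem_centralizer_singleton_iff]
    have e1 : d * ⁅g, h⁆ * d⁻¹ = ⁅d * g * d⁻¹, d * h * d⁻¹⁆ := by
      simp only [commutatorElement_def]; group
    have hag : Commute (d * (g * d * g⁻¹)) g := htc g hg g hg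
    have hah : Commute (d * (g * d * g⁻¹)) h := htc g hg h hh
    have hbg : Commute (d * (h * d * h⁻¹)) g := htc h hh g hg
    have hbh : Commute (d * (h * d * h⁻¹)) h := htc h hh h hh
    have hbL : d * (h * d * h⁻¹) ∈ L := tSet_subset hS hconj hd hL ⟨h, hh, rfl⟩
    have hab : Commute (d * (g * d * g⁻¹)) (d * (h * d * h⁻¹)) := htc g hg _ hbL
    have e2 : ⁅(d * (g * d * g⁻¹)) * g, (d * (h * d * h⁻¹)) * h⁆ = ⁅g, h⁆ :=
      commutatorElement_mul_of_commute hag hah hab hbg hbh
    have e3 : d * ⁅g, h⁆ * d⁻¹ = ⁅g, h⁆ := by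
      rw [e1, hconjform g, hconjform h, e2]
    calc ⁅g, h⁆ * d = (d * ⁅g, h⁆ * d⁻¹) * d := by rw [e3]
      _ = d * ⁅g, h⁆ := by group
  rw [Cfsg.Agent.Lib.H7.component_commutator_self hL] at hle
  intro g hg
  have := Subgroup.mem_centralizer_singleton_iff.1 (hle hg)
  exact this.symm

/-- If `d` does not centralise the component `L`, some `L`-conjugate of `d` does not commute with `d`. -/
theorem exists_not_commute_conj {d : G} (hd : d ∈ D) {L : Subgroup G} (hL : IsComponent L)
    (hnc : ¬ ∀ g ∈ L, Commute d g) : ∃ g ∈ L, ¬ Commute d (g * d * g⁻¹) := by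
  by_contra hall
  push Not at hall
  apply hnc
  apply commute_of_isSolvable_tClosure hS hconj hd hL
  -- the conjugates `g d g⁻¹` commute pairwise
  have hpair : ∀ g ∈ L, ∀ h ∈ L, Commute (g * d * g⁻¹) (h * d * h⁻¹) := by
    intro g hg h hh
    have h1 := hall (g⁻¹ * h) (Subgroup.mul_mem _ (Subgroup.inv_mem _ hg) hh)
    have h2 := (Commute.conj_iff g).2 h1
    have e : g * (g⁻¹ * h * d * (g⁻¹ * h)⁻¹) * g⁻¹ = h * d * h⁻¹ := by group
    rwa [e] at h2
  have hcomm : ∀ x ∈ tSet d L, ∀ y ∈ tSet d L, x * y = y * x := by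
    rintro x ⟨g, hg, rfl⟩ y ⟨h, hh, rfl⟩
    have h1 : Commute d (g * d * g⁻¹) := hall g hg
    have h2 : Commute d (h * d * h⁻¹) := hall h hh
    have h3 := hpair g hg h hh
    exact (((Commute.refl d).mul_right h2).mul_left (h1.symm.mul_right h3)).eq
  have hc' := Subgroup.isMulCommutative_closure hcomm
  exact Group.isSolvable_of_comm hc'.is_comm.comm

/-- If `d` does not centralise the component `L`, some `L`-conjugate of `d` other than `d` commutes
with `d`. -/
theorem exists_commute_conj_ne {d : G} (hd : d ∈ D) {L : Subgroup G} (hL : IsComponent L)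
    (hnc : ¬ ∀ g ∈ L, Commute d g) : ∃ g ∈ L, g * d * g⁻¹ ≠ d ∧ Commute d (g * d * g⁻¹) := by
  by_contra hall
  push Not at hall
  haveI : Fact (Nat.Prime 3) := ⟨Nat.prime_three⟩
  apply hnc
  apply commute_of_isSolvable_tClosure hS hconj hd hL
  have hdinv : d⁻¹ = d := inv_eq hS hd
  set M : Subgroup G := Subgroup.closure ((L : Set G) ∪ {d}) with hM
  have hLM : L ≤ M := fun x hx => Subgroup.subset_closure (Or.inl hx)
  have hdM : d ∈ M := Subgroup.subset_closure (Or.inr rfl)
  set E : Set G := {e | ∃ g ∈ L, e = g * d * g⁻¹} with hE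
  -- `E` is invariant under `M`
  have hEM : ∀ m ∈ M, (∀ e ∈ E, m * e * m⁻¹ ∈ E) ∧ (∀ e ∈ E, m⁻¹ * e * m ∈ E) := by
    intro m hm
    induction hm using Subgroup.closure_induction with
    | mem x hx =>
      rcases hx with hx | hx
      · constructor
        · rintro e ⟨g, hg, rfl⟩
          exact ⟨x * g, Subgroup.mul_mem _ hx hg, by group⟩
        · rintro e ⟨g, hg, rfl⟩
          exact ⟨x⁻¹ * g, Subgroup.mul_mem _ (Subgroup.inv_mem _ hx) hg, by group⟩
      · rw [Set.mem_singleton_iff] at hx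
        subst hx
        constructor
        · rintro e ⟨g, hg, rfl⟩
          exact ⟨x * g * x⁻¹, conj_mem_component hS hconj hd hL hg, by group⟩
        · rintro e ⟨g, hg, rfl⟩
          refine ⟨x⁻¹ * g * x, ?_, by group⟩
          have h := conj_mem_component hS hconj hd hL hg
          rw [hdinv] at h ⊢
          exact h
    | one =>
      constructor <;> intro e he <;> simpa using he
    | mul x y _ _ hx hy =>
      constructor
      · intro e he
        have := hx.1 _ (hy.1 e he)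
        have e1 : x * (y * e * y⁻¹) * x⁻¹ = x * y * e * (x * y)⁻¹ := by group
        rwa [e1] at this
      · intro e he
        have := hy.2 _ (hx.2 e he)
        have e1 : y⁻¹ * (x⁻¹ * e * x) * y = (x * y)⁻¹ * e * (x * y) := by group
        rwa [e1] at this
    | inv x _ hx =>
      constructor
      · intro e he
        have := hx.2 e he
        simpa using this
      · intro e he
        have := hx.1 e he
        simpa using this
  -- products of two members of `E` cube to one
  have hcube : ∀ e₁ ∈ E, ∀ e₂ ∈ E, (e₁ * e₂) ^ 3 = 1 := by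
    rintro e₁ ⟨g, hg, rfl⟩ e₂ ⟨h, hh, rfl⟩
    have hk : g⁻¹ * h ∈ L := Subgroup.mul_mem _ (Subgroup.inv_mem _ hg) hh
    have he : (g⁻¹ * h) * d * (g⁻¹ * h)⁻¹ ∈ D := hconj _ d hd
    have h3 : (d * ((g⁻¹ * h) * d * (g⁻¹ * h)⁻¹)) ^ 3 = 1 := by
      by_cases heq : (g⁻¹ * h) * d * (g⁻¹ * h)⁻¹ = d
      · rw [heq, sq_eq_one hS hd, one_pow]
      · rcases commute_or_cube hS hd he with hc | hc
        · exact absurd hc (hall _ hk heq)
        · exact hc
    have e1 : g * d * g⁻¹ * (h * d * h⁻¹) = g * (d * ((g⁻¹ * h) * d * (g⁻¹ * h)⁻¹)) * g⁻¹ := by group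
    rw [e1, conj_pow, h3]
    group
  set d' : ↥M := ⟨d, hdM⟩ with hd'
  have hord : orderOf d' = 2 := by
    rw [← Subgroup.orderOf_coe]
    exact hS.1 d hd
  have hdE : d ∈ E := ⟨1, Subgroup.one_mem _, by group⟩
  have hconjE : ∀ x ∈ conjugatesOf d', (x : G) ∈ E := by
    intro x hx
    rw [mem_conjugatesOf_iff', isConj_iff] at hx
    obtain ⟨c, rfl⟩ := hx
    have := (hEM c.1 c.2).1 d hdE
    simpa using this
  have hprod : ∀ a ∈ conjugatesOf d', ∀ b ∈ conjugatesOf d', ∃ k : ℕ, orderOf (a * b) = 3 ^ k := by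
    intro a ha b hb
    have h3 : ((a : G) * (b : G)) ^ 3 = 1 := hcube _ (hconjE a ha) _ (hconjE b hb)
    have hdvd : orderOf (a * b) ∣ 3 := by
      rw [← Subgroup.orderOf_coe]
      exact orderOf_dvd_of_pow_eq_one h3
    rcases (Nat.dvd_prime Nat.prime_three).1 hdvd with h | h
    · exact ⟨0, by rw [h, pow_zero]⟩
    · exact ⟨1, by rw [h, pow_one]⟩
  have hmain := Cfsg.Agent.S5561.result d' hord hprod
  have hle : Subgroup.closure (tSet d L) ≤ (pCore 3 ↥M).map M.subtype := by
    rw [Subgroup.closure_le]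
    rintro t ⟨g, hg, rfl⟩
    have hgM : g ∈ M := hLM hg
    have h1 : (⟨g, hgM⟩ : ↥M) * d' * (⟨g, hgM⟩ : ↥M)⁻¹ ∈ conjugatesOf d' := by
      rw [mem_conjugatesOf_iff', isConj_iff]
      exact ⟨_, rfl⟩
    exact ⟨d' * ((⟨g, hgM⟩ : ↥M) * d' * (⟨g, hgM⟩ : ↥M)⁻¹),
      hmain d' mem_conjugatesOf_self _ h1, rfl⟩
  have hp : IsPGroup 3 ↥((pCore 3 ↥M).map M.subtype) :=
    (Cfsg.Agent.Lib.H1.pCore_isPGroup 3 ↥M).map _
  have hp' : IsPGroup 3 ↥(Subgroup.closure (tSet d L)) := hp.to_le hle
  haveI := hp'.isNilpotent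
  infer_instance

end comp

section cls

variable {G : Type*} [Group G] [Finite G] {D : Set G}

omit [Finite G] in
theorem mem_center_of_commute (hgen : Subgroup.closure D = ⊤) {r : G}
    (h : ∀ d ∈ D, Commute r d) : r ∈ Subgroup.center G := by
  have hcen : r ∈ Subgroup.centralizer ((Subgroup.closure D : Subgroup G) : Set G) := by
    rw [Subgroup.centralizer_closure, Subgroup.mem_centralizer_iff]
    intro x hx
    exact ((h x hx).eq).symm
  rw [hgen] at hcen
  rw [Subgroup.mem_center_iff]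
  intro g
  exact Subgroup.mem_centralizer_iff.1 hcen g (Subgroup.mem_top g)

omit [Finite G] in
theorem exists_conj_eq (hD : IsThreeTranspositionClass D) {a b : G} (ha : a ∈ D) (hb : b ∈ D) :
    ∃ g : G, g * a * g⁻¹ = b := by
  have h := class_eq_conjugatesOf hD ha
  rw [h, mem_conjugatesOf_iff', isConj_iff] at hb
  exact hb

omit [Finite G] in
/-- Given any component, every member of the class fails to centralise some component. -/
theorem exists_component_not_centralized (hD : IsThreeTranspositionClass D) {L : Subgroup G}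
    (hL : IsComponent L) {d : G} (hd : d ∈ D) :
    ∃ L' : Subgroup G, IsComponent L' ∧ ¬ ∀ g ∈ L', Commute d g := by
  have hex : ∃ e ∈ D, ¬ ∀ g ∈ L, Commute e g := by
    by_contra hcon
    push Not at hcon
    apply Cfsg.Agent.Lib.H7.component_not_solvable hL
    apply Group.isSolvable_of_comm
    intro a b
    have ha : (a : G) ∈ Subgroup.center G :=
      mem_center_of_commute hD.2.2 (fun e he => (hcon e he a a.2).symm)
    apply Subtype.ext
    rw [Subgroup.mem_center_iff] at ha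
    exact (ha b).symm
  obtain ⟨e, he, hne⟩ := hex
  obtain ⟨h, hh⟩ := exists_conj_eq hD he hd
  refine ⟨L.map (MulAut.conj h).toMonoidHom, Cfsg.Agent.Lib.H7.isComponent_map_conj h hL, ?_⟩
  intro hall
  apply hne
  intro g hg
  have hg' : h * g * h⁻¹ ∈ L.map (MulAut.conj h).toMonoidHom := ⟨g, hg, by simp [MulAut.conj_apply]⟩
  have := hall _ hg'
  rw [← hh] at this
  exact (Commute.conj_iff h).1 this

/-- The `p`-cores centralise every component. -/
theorem commute_of_mem_pCore_of_mem_component {p : ℕ} [Fact p.Prime] {L : Subgroup G}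
    (hL : IsComponent L) {z t : G} (hz : z ∈ pCore p G) (ht : t ∈ L) : Commute z t := by
  have h0 : pCore p G ≤ fittingSubgroup G :=
    le_sSup (show pCore p G ∈ {N : Subgroup G | N.Normal ∧ Group.IsNilpotent N} from
      ⟨Cfsg.Agent.Lib.H1.pCore_normal p G, (Cfsg.Agent.Lib.H1.pCore_isPGroup p G).isNilpotent⟩)
  have h1 : z ∈ fittingSubgroup G := h0 hz
  have h2 : t ∈ layer G := Cfsg.Agent.Lib.H7.component_le_layer hL ht
  have h3 := Subgroup.commutator_eq_bot_iff_le_centralizer.1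
    (Cfsg.Agent.Lib.H7.layer_commutator_fitting (G := G))
  exact Subgroup.mem_centralizer_iff.1 (h3 h2) z h1

theorem layer_eq_bot_of_veq (hD : IsThreeTranspositionClass D) {d v : G} (hd : d ∈ D)
    (hv : Veq D d v) (hne : v ≠ d) : layer G = ⊥ := by
  haveI : Fact (Nat.Prime 2) := ⟨Nat.prime_two⟩
  have hS := hD.1
  have hconj := class_conj hD
  rw [Cfsg.Agent.Lib.H7.layer_eq_bot_iff]
  intro L hL
  obtain ⟨L', hL', hnc⟩ := exists_component_not_centralized hD hL hd
  obtain ⟨g, hg, hnce⟩ := exists_not_commute_conj hS hconj hd hL' hnc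
  have he : g * d * g⁻¹ ∈ D := hconj g d hd
  have hd2 := sq_eq_one hS hd
  have hv2 := sq_eq_one hS hv.1
  have hdv : Commute d v := Veq.commute hd hv
  have hz : d * v ∈ pCore 2 G := mul_mem_pCore_of_veq hS hconj hd hv
  have htL : d * (g * d * g⁻¹) ∈ L' := tSet_subset hS hconj hd hL' ⟨g, hg, rfl⟩
  have hzt : Commute (d * v) (d * (g * d * g⁻¹)) :=
    commute_of_mem_pCore_of_mem_component hL' hz htL
  have hz2 : (d * v) ^ 2 = 1 := by
    rw [pow_two]
    calc d * v * (d * v) = d * (v * d) * v := by group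
      _ = d * (d * v) * v := by rw [hdv.eq]
      _ = (d * d) * (v * v) := by group
      _ = 1 := by rw [hd2, hv2, one_mul]
  have hz1 : d * v ≠ 1 := by
    intro h
    apply hne
    calc v = (d * d) * v := by rw [hd2, one_mul]
      _ = d * (d * v) := by group
      _ = d := by rw [h, mul_one]
  have ht3 : (d * (g * d * g⁻¹)) ^ 3 = 1 := by
    rcases commute_or_cube hS hd he with h | h
    · exact absurd h hnce
    · exact h
  have ht1 : d * (g * d * g⁻¹) ≠ 1 := by
    intro h
    apply hnce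
    have : g * d * g⁻¹ = d := by
      calc g * d * g⁻¹ = (d * d) * (g * d * g⁻¹) := by rw [hd2, one_mul]
        _ = d * (d * (g * d * g⁻¹)) := by group
        _ = d := by rw [h, mul_one]
    rw [this]
  have hve : v * (g * d * g⁻¹) = (d * v) * (d * (g * d * g⁻¹)) := by
    calc v * (g * d * g⁻¹) = v * (d * d) * (g * d * g⁻¹) := by rw [hd2, mul_one]
      _ = (v * d) * (d * (g * d * g⁻¹)) := by group
      _ = (d * v) * (d * (g * d * g⁻¹)) := by rw [hdv.eq]
  rcases hS.2 v hv.1 _ he with h | h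
  · rw [hve, hzt.mul_pow, hz2, one_mul] at h
    apply ht1
    have h3 : (d * (g * d * g⁻¹)) ^ 3 = (d * (g * d * g⁻¹)) ^ 2 * (d * (g * d * g⁻¹)) := pow_succ _ _
    rw [ht3, h, one_mul] at h3
    exact h3.symm
  · rw [hve, hzt.mul_pow, ht3, mul_one] at h
    apply hz1
    have h3 : (d * v) ^ 3 = (d * v) ^ 2 * (d * v) := pow_succ _ _
    rw [h, hz2, one_mul] at h3
    exact h3.symm

theorem layer_eq_bot_of_weq (hD : IsThreeTranspositionClass D) {d w : G} (hd : d ∈ D)
    (hw : Weq D d w) (hne : w ≠ d) : layer G = ⊥ := by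
  haveI : Fact (Nat.Prime 3) := ⟨Nat.prime_three⟩
  have hS := hD.1
  have hconj := class_conj hD
  rw [Cfsg.Agent.Lib.H7.layer_eq_bot_iff]
  intro L hL
  obtain ⟨L', hL', hnc⟩ := exists_component_not_centralized hD hL hd
  obtain ⟨g, hg, hned, hce⟩ := exists_commute_conj_ne hS hconj hd hL' hnc
  have he : g * d * g⁻¹ ∈ D := hconj g d hd
  have hd2 := sq_eq_one hS hd
  have hw2 := sq_eq_one hS hw.1
  have he2 := sq_eq_one hS he
  have hx : d * w ∈ pCore 3 G := mul_mem_pCore_of_weq hS hconj hd hw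
  have htL : d * (g * d * g⁻¹) ∈ L' := tSet_subset hS hconj hd hL' ⟨g, hg, rfl⟩
  have hxt : Commute (d * w) (d * (g * d * g⁻¹)) :=
    commute_of_mem_pCore_of_mem_component hL' hx htL
  have hmem : g * d * g⁻¹ ∈ Dd D d := ⟨he, hned, hce⟩
  rw [hw.2] at hmem
  have hwe : Commute w (g * d * g⁻¹) := hmem.2.2
  have hx3 : (d * w) ^ 3 = 1 := cube_of_weq hS hd (Weq.refl hd) hw
  have hx1 : d * w ≠ 1 := by
    intro h
    apply hne
    calc w = (d * d) * w := by rw [hd2, one_mul]
      _ = d * (d * w) := by group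
      _ = d := by rw [h, mul_one]
  have ht2 : (d * (g * d * g⁻¹)) ^ 2 = 1 := by
    rw [pow_two]
    calc d * (g * d * g⁻¹) * (d * (g * d * g⁻¹)) = d * ((g * d * g⁻¹) * d) * (g * d * g⁻¹) := by group
      _ = d * (d * (g * d * g⁻¹)) * (g * d * g⁻¹) := by rw [hce.eq]
      _ = (d * d) * ((g * d * g⁻¹) * (g * d * g⁻¹)) := by group
      _ = 1 := by rw [hd2, he2, one_mul]
  have hew : (g * d * g⁻¹) * w = (d * (g * d * g⁻¹)) * (d * w) := by
    calc (g * d * g⁻¹) * w = (g * d * g⁻¹) * (d * d) * w := by rw [hd2, mul_one]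
      _ = ((g * d * g⁻¹) * d) * (d * w) := by group
      _ = (d * (g * d * g⁻¹)) * (d * w) := by rw [hce.eq]
  have hsq : ((g * d * g⁻¹) * w) ^ 2 = 1 := by
    rw [pow_two]
    calc (g * d * g⁻¹) * w * ((g * d * g⁻¹) * w) = (g * d * g⁻¹) * (w * (g * d * g⁻¹)) * w := by group
      _ = (g * d * g⁻¹) * ((g * d * g⁻¹) * w) * w := by rw [hwe.eq]
      _ = ((g * d * g⁻¹) * (g * d * g⁻¹)) * (w * w) := by group
      _ = 1 := by rw [he2, hw2, one_mul]
  rw [hew, hxt.symm.mul_pow, ht2, one_mul] at hsq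
  apply hx1
  have h3 : (d * w) ^ 3 = (d * w) ^ 2 * (d * w) := pow_succ _ _
  rw [hx3, hsq, one_mul] at h3
  exact h3.symm

omit [Finite G] in
/-- `d * (r d r⁻¹)` lies in any normal subgroup containing `r`. -/
theorem mul_conj_mem_of_normal {Q : Subgroup G} [hQn : Q.Normal] (hS : IsThreeTranspositionSet D)
    {d r : G} (hd : d ∈ D) (hr : r ∈ Q) : d * (r * d * r⁻¹) ∈ Q := by
  have h1 : d * r * d⁻¹ ∈ Q := hQn.conj_mem r hr d
  have : d * (r * d * r⁻¹) = (d * r * d⁻¹) * r⁻¹ := by rw [inv_eq hS hd]; group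
  rw [this]
  exact Subgroup.mul_mem _ h1 (Subgroup.inv_mem _ hr)

omit [Finite G] in
theorem commute_of_mul_conj_eq_one (hS : IsThreeTranspositionSet D) {d r : G} (hd : d ∈ D)
    (h : d * (r * d * r⁻¹) = 1) : Commute r d := by
  have hd2 := sq_eq_one hS hd
  have h1 : r * d * r⁻¹ = d := by
    calc r * d * r⁻¹ = (d * d) * (r * d * r⁻¹) := by rw [hd2, one_mul]
      _ = d * (d * (r * d * r⁻¹)) := by group
      _ = d := by rw [h, mul_one]
  show r * d = d * r
  calc r * d = (r * d * r⁻¹) * r := by group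
    _ = d * r := by rw [h1]

theorem pCore_le_center_of_gt_three (hD : IsThreeTranspositionClass D) {p : ℕ} (hp : p.Prime)
    (h3 : 3 < p) : pCore p G ≤ Subgroup.center G := by
  haveI : Fact p.Prime := ⟨hp⟩
  have hS := hD.1
  have hconj := class_conj hD
  haveI hQn : (pCore p G).Normal := Cfsg.Agent.Lib.H1.pCore_normal p G
  have hQ : IsPGroup p (pCore p G) := Cfsg.Agent.Lib.H1.pCore_isPGroup p G
  intro r hr
  apply mem_center_of_commute hD.2.2
  intro d hd
  apply commute_of_mul_conj_eq_one hS hd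
  have hx := mul_conj_mem_of_normal hS hd hr
  obtain ⟨k, hk⟩ := hQ ⟨_, hx⟩
  have hk' : (d * (r * d * r⁻¹)) ^ p ^ k = 1 := by
    have := congrArg Subtype.val hk
    simpa using this
  have h1 : orderOf (d * (r * d * r⁻¹)) ∣ p ^ k := orderOf_dvd_of_pow_eq_one hk'
  have h6 : orderOf (d * (r * d * r⁻¹)) ∣ 6 := by
    rcases hS.2 d hd _ (hconj r d hd) with h | h
    · exact (orderOf_dvd_of_pow_eq_one h).trans (by norm_num)
    · exact (orderOf_dvd_of_pow_eq_one h).trans (by norm_num)
  have hco : Nat.Coprime (p ^ k) 6 := by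
    apply Nat.Coprime.pow_left
    rw [Nat.Prime.coprime_iff_not_dvd hp]
    intro hdvd
    have : p ∣ 2 * 3 := hdvd
    rcases (Nat.Prime.dvd_mul hp).1 this with h | h
    · have := (Nat.prime_dvd_prime_iff_eq hp Nat.prime_two).1 h
      omega
    · have := (Nat.prime_dvd_prime_iff_eq hp Nat.prime_three).1 h
      omega
  have := Nat.dvd_gcd h1 h6
  rw [hco] at this
  exact orderOf_eq_one_iff.1 (Nat.dvd_one.1 this)

theorem exists_veq_ne (hD : IsThreeTranspositionClass D) (h : ¬ pCore 2 G ≤ Subgroup.center G) :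
    ∃ d ∈ D, ∃ v, Veq D d v ∧ v ≠ d := by
  haveI : Fact (Nat.Prime 2) := ⟨Nat.prime_two⟩
  have hS := hD.1
  have hconj := class_conj hD
  haveI hQn : (pCore 2 G).Normal := Cfsg.Agent.Lib.H1.pCore_normal 2 G
  have hQ : IsPGroup 2 (pCore 2 G) := Cfsg.Agent.Lib.H1.pCore_isPGroup 2 G
  rw [SetLike.not_le_iff_exists] at h
  obtain ⟨r, hr, hrc⟩ := h
  have hex : ∃ d ∈ D, ¬ Commute r d := by
    by_contra hcon
    push Not at hcon
    exact hrc (mem_center_of_commute hD.2.2 hcon)
  obtain ⟨d, hd, hnc⟩ := hex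
  refine ⟨d, hd, r * d * r⁻¹, veq_of_mul_mem hS hQ hd (hconj r d hd)
    (mul_conj_mem_of_normal hS hd hr), ?_⟩
  intro heq
  apply hnc
  show r * d = d * r
  calc r * d = (r * d * r⁻¹) * r := by group
    _ = d * r := by rw [heq]

theorem exists_weq_ne (hD : IsThreeTranspositionClass D) (h : ¬ pCore 3 G ≤ Subgroup.center G) :
    ∃ d ∈ D, ∃ w, Weq D d w ∧ w ≠ d := by
  haveI : Fact (Nat.Prime 3) := ⟨Nat.prime_three⟩
  have hS := hD.1
  have hconj := class_conj hD
  haveI hQn : (pCore 3 G).Normal := Cfsg.Agent.Lib.H1.pCore_normal 3 G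
  have hQ : IsPGroup 3 (pCore 3 G) := Cfsg.Agent.Lib.H1.pCore_isPGroup 3 G
  rw [SetLike.not_le_iff_exists] at h
  obtain ⟨r, hr, hrc⟩ := h
  have hex : ∃ d ∈ D, ¬ Commute r d := by
    by_contra hcon
    push Not at hcon
    exact hrc (mem_center_of_commute hD.2.2 hcon)
  obtain ⟨d, hd, hnc⟩ := hex
  refine ⟨d, hd, r * d * r⁻¹, weq_of_mul_mem hS hQ hd (hconj r d hd)
    (mul_conj_mem_of_normal hS hd hr), ?_⟩
  intro heq
  apply hnc
  show r * d = d * r
  calc r * d = (r * d * r⁻¹) * r := by group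
    _ = d * r := by rw [heq]

/-- If `O_2(G)` is not central then `O_3(G)` is. -/
theorem pCore_three_le_center_of_veq (hD : IsThreeTranspositionClass D) {d v : G} (hd : d ∈ D)
    (hv : Veq D d v) (hne : v ≠ d) : pCore 3 G ≤ Subgroup.center G := by
  have hconj := class_conj hD
  by_contra h3
  obtain ⟨d', hd', w', hw', hne'⟩ := exists_weq_ne hD h3
  obtain ⟨g, hg⟩ := exists_conj_eq hD hd' hd
  have hw : Weq D d (g * w' * g⁻¹) := by
    have := hw'.conj hconj g
    rwa [hg] at this
  have hwne : g * w' * g⁻¹ ≠ d := by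
    intro h
    apply hne'
    have : g * w' * g⁻¹ = g * d' * g⁻¹ := by rw [h, hg]
    have := congrArg (fun x => g⁻¹ * x * g) this
    simpa [mul_assoc] using this
  have hdv : Commute d v := Veq.commute hd hv
  have hmem : v ∈ Dd D d := ⟨hv.1, hne, hdv⟩
  rw [hw.2] at hmem
  have h1 : Commute (g * w' * g⁻¹) v := hmem.2.2
  have h2 : Commute d (g * w' * g⁻¹) := ((hv.2 _ hw.1).1 h1.symm)
  exact hw.not_commute hwne h2

theorem layer_ne_bot_of_le_center (hD : IsThreeTranspositionClass D) (hD2 : ∃ a ∈ D, ∃ b ∈ D, a ≠ b)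
    (h2 : pCore 2 G ≤ Subgroup.center G) (h3 : pCore 3 G ≤ Subgroup.center G) : layer G ≠ ⊥ := by
  intro hlayer
  have hF : fittingSubgroup G ≤ Subgroup.center G := by
    rw [Cfsg.Agent.Lib.H1.fittingSubgroup_eq_iSup_pCore]
    apply iSup_le
    intro p
    by_cases hp2 : (p : ℕ) = 2
    · rw [hp2]; exact h2
    · by_cases hp3 : (p : ℕ) = 3
      · rw [hp3]; exact h3
      · apply pCore_le_center_of_gt_three hD p.2
        have := p.2.two_le
        omega
  have hFs : generalizedFittingSubgroup G ≤ Subgroup.center G := by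
    unfold generalizedFittingSubgroup
    rw [hlayer, bot_sup_eq]
    exact hF
  have hcen := Cfsg.Agent.Lib.H7.centralizer_generalizedFittingSubgroup_le (G := G)
  obtain ⟨a, ha, -⟩ := id hD2
  obtain ⟨e, he, hnc⟩ := exists_not_commute hD hD2 ha
  apply hnc
  have hmem : a ∈ Subgroup.centralizer (generalizedFittingSubgroup G : Set G) := by
    rw [Subgroup.mem_centralizer_iff]
    intro x hx
    have := hFs hx
    rw [Subgroup.mem_center_iff] at this
    exact (this a).symm
  have := hFs (hcen hmem)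
  rw [Subgroup.mem_center_iff] at this
  exact (this e).symm

end cls

end Cfsg.Agent.Lib.H7.TT
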