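import Cfsg.Agent.Lib.H7.TTComp

set_option autoImplicit false
set_option linter.style.haveILetI false
set_option linter.unusedSectionVars false

/-!
3-transposition groups with central `O_2`, `O_3` (helper7): the unique component.
-/

namespace Cfsg.Agent.Lib.H7.TT

open Cfsg Cfsg.Agent.Lib.H26.ThreeTrans
open scoped commutatorElement

variable {G : Type*} [Group G] [Finite G] {D : Set G}

/-- Every component of a group generated by a class of 3-transpositions is normal. -/
theorem component_normal (hD : IsThreeTranspositionClass D) {L : Subgroup G} (hL : IsComponent L) :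
    L.Normal := by
  have hS := hD.1
  have hconj := class_conj hD
  rw [← Subgroup.normalizer_eq_top_iff, eq_top_iff, ← hD.2.2, Subgroup.closure_le]
  intro d hd
  have hdinv : d⁻¹ = d := inv_eq hS hd
  show d ∈ Subgroup.normalizer (L : Set G)
  rw [Subgroup.mem_normalizer_iff]
  intro h
  constructor
  · intro hh
    exact conj_mem_component hS hconj hd hL hh
  · intro hh
    have := conj_mem_component hS hconj hd hL hh
    have e : d * (d * h * d⁻¹) * d⁻¹ = h := by
      rw [hdinv]
      calc d * (d * h * d) * d = (d * d) * h * (d * d) := by group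
        _ = h := by rw [sq_eq_one hS hd, one_mul, mul_one]
    rwa [e] at this

/-- No member of the class centralises a component. -/
theorem not_centralize (hD : IsThreeTranspositionClass D) {L : Subgroup G} (hL : IsComponent L)
    {d : G} (hd : d ∈ D) : ¬ ∀ g ∈ L, Commute d g := by
  intro hall
  haveI hLn : L.Normal := component_normal hD hL
  apply Cfsg.Agent.Lib.H7.component_not_solvable hL
  apply Group.isSolvable_of_comm
  intro a b
  have ha : (a : G) ∈ Subgroup.center G := by
    apply mem_center_of_commute hD.2.2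
    intro e he
    obtain ⟨h, hh⟩ := exists_conj_eq hD hd he
    have h1 : h⁻¹ * (a : G) * h ∈ L := by
      have := hLn.conj_mem a a.2 h⁻¹
      simpa using this
    have h2 := hall _ h1
    have h3 := (Commute.conj_iff h).2 h2
    have e1 : h * (h⁻¹ * (a : G) * h) * h⁻¹ = a := by group
    rw [hh, e1] at h3
    exact h3.symm
  apply Subtype.ext
  rw [Subgroup.mem_center_iff] at ha
  exact (ha b).symm

/-- The component is unique. -/
theorem component_unique (hD : IsThreeTranspositionClass D) {L₁ L₂ : Subgroup G}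
    (h1 : IsComponent L₁) (h2 : IsComponent L₂) : L₁ = L₂ := by
  by_contra hne
  have hS := hD.1
  have hconj := class_conj hD
  obtain ⟨d, hd, -⟩ := hD.2.1
  have hdinv : d⁻¹ = d := inv_eq hS hd
  have hd2 := sq_eq_one hS hd
  have hcomm : ⁅L₁, L₂⁆ = ⊥ := Cfsg.Agent.Lib.H7.components_commute h1 h2 hne
  have hcen := Subgroup.commutator_eq_bot_iff_le_centralizer.1 hcomm
  have hcm : ∀ x ∈ L₁, ∀ y ∈ L₂, Commute x y := by
    intro x hx y hy
    exact (Subgroup.mem_centralizer_iff.1 (hcen hx) y hy).symm
  obtain ⟨g₁, hg₁, hne₁, hc₁⟩ := exists_commute_conj_ne hS hconj hd h1 (not_centralize hD h1 hd)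
  obtain ⟨g₂, hg₂, hnc₂⟩ := exists_not_commute_conj hS hconj hd h2 (not_centralize hD h2 hd)
  have he₁ : g₁ * d * g₁⁻¹ ∈ D := hconj g₁ d hd
  have he₂ : g₂ * d * g₂⁻¹ ∈ D := hconj g₂ d hd
  have ht₁ : d * (g₁ * d * g₁⁻¹) ∈ L₁ := tSet_subset hS hconj hd h1 ⟨g₁, hg₁, rfl⟩
  have ht₂ : d * (g₂ * d * g₂⁻¹) ∈ L₂ := tSet_subset hS hconj hd h2 ⟨g₂, hg₂, rfl⟩
  have hct : Commute (d * (g₁ * d * g₁⁻¹)) (d * (g₂ * d * g₂⁻¹)) := hcm _ ht₁ _ ht₂
  have hkey : d * ((g₁ * g₂) * d * (g₁ * g₂)⁻¹) = (d * (g₁ * d * g₁⁻¹)) * (d * (g₂ * d * g₂⁻¹)) := by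
    have hc : Commute g₁⁻¹ (d * (g₂ * d * g₂⁻¹)) := hcm _ (Subgroup.inv_mem _ hg₁) _ ht₂
    calc d * ((g₁ * g₂) * d * (g₁ * g₂)⁻¹)
        = (d * g₁ * d⁻¹) * ((d * (g₂ * d * g₂⁻¹)) * g₁⁻¹) := by group
      _ = (d * g₁ * d⁻¹) * (g₁⁻¹ * (d * (g₂ * d * g₂⁻¹))) := by rw [hc.eq]
      _ = (d * (g₁ * d⁻¹ * g₁⁻¹)) * (d * (g₂ * d * g₂⁻¹)) := by group
      _ = (d * (g₁ * d * g₁⁻¹)) * (d * (g₂ * d * g₂⁻¹)) := by rw [hdinv]
  -- `t₁` has order two
  have ht₁sq : (d * (g₁ * d * g₁⁻¹)) ^ 2 = 1 := by
    rw [hc₁.mul_pow, pow_two, pow_two, hd2, sq_eq_one hS he₁, one_mul]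
  have ht₁ne : d * (g₁ * d * g₁⁻¹) ≠ 1 := by
    intro h
    apply hne₁
    calc g₁ * d * g₁⁻¹ = (d * d) * (g₁ * d * g₁⁻¹) := by rw [hd2, one_mul]
      _ = d * (d * (g₁ * d * g₁⁻¹)) := by group
      _ = d := by rw [h, mul_one]
  -- `t₂` has order three
  have ht₂cube : (d * (g₂ * d * g₂⁻¹)) ^ 3 = 1 := by
    rcases commute_or_cube hS hd he₂ with h | h
    · exact absurd h hnc₂
    · exact h
  have ht₂sq : (d * (g₂ * d * g₂⁻¹)) ^ 2 ≠ 1 := by
    intro h
    exact hnc₂ (commute_of_sq hd2 (sq_eq_one hS he₂) h)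
  have hmem : (g₁ * g₂) * d * (g₁ * g₂)⁻¹ ∈ D := hconj _ d hd
  rcases hS.2 d hd _ hmem with h | h
  · rw [hkey, hct.mul_pow, ht₁sq, one_mul] at h
    exact ht₂sq h
  · rw [hkey, hct.mul_pow, ht₂cube, mul_one] at h
    apply ht₁ne
    have h3 : (d * (g₁ * d * g₁⁻¹)) ^ 3 = (d * (g₁ * d * g₁⁻¹)) ^ 2 * (d * (g₁ * d * g₁⁻¹)) :=
      pow_succ _ _
    rw [ht₁sq, one_mul] at h3
    rw [← h3]
    exact h

/-- The layer is the unique component. -/
theorem layer_eq_component (hD : IsThreeTranspositionClass D) {L : Subgroup G} (hL : IsComponent L) :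
    layer G = L := by
  unfold layer
  apply le_antisymm
  · apply sSup_le
    intro K hK
    rw [component_unique hD hK hL]
  · exact le_sSup hL

/-- With central `O_2`, `O_3`, the Fitting subgroup is the centre. -/
theorem fittingSubgroup_eq_center (hD : IsThreeTranspositionClass D)
    (h2 : pCore 2 G ≤ Subgroup.center G) (h3 : pCore 3 G ≤ Subgroup.center G) :
    fittingSubgroup G = Subgroup.center G := by
  apply le_antisymm
  · rw [Cfsg.Agent.Lib.H1.fittingSubgroup_eq_iSup_pCore]
    apply iSup_le
    intro p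
    by_cases hp2 : (p : ℕ) = 2
    · rw [hp2]; exact h2
    · by_cases hp3 : (p : ℕ) = 3
      · rw [hp3]; exact h3
      · apply pCore_le_center_of_gt_three hD p.2
        have := p.2.two_le
        omega
  · apply Cfsg.Agent.Lib.H7.le_fittingSubgroup inferInstance
    letI : CommGroup ↥(Subgroup.center G) :=
      { (inferInstance : Group ↥(Subgroup.center G)) with
        mul_comm := fun a b => Subtype.ext (by
          have := b.2
          rw [Subgroup.mem_center_iff] at this
          exact this a.1) }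
    exact CommGroup.isNilpotent

/-- `F*(G) = L Z(G)` for the unique component `L`. -/
theorem generalizedFittingSubgroup_eq (hD : IsThreeTranspositionClass D)
    (h2 : pCore 2 G ≤ Subgroup.center G) (h3 : pCore 3 G ≤ Subgroup.center G)
    {L : Subgroup G} (hL : IsComponent L) :
    generalizedFittingSubgroup G = L ⊔ Subgroup.center G := by
  unfold generalizedFittingSubgroup
  rw [layer_eq_component hD hL, fittingSubgroup_eq_center hD h2 h3]

/-- Commuting members of the class have product in the component. -/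
theorem mul_mem_component_of_commute (hD : IsThreeTranspositionClass D) {L : Subgroup G}
    (hL : IsComponent L) {a b : G} (ha : a ∈ D) (hb : b ∈ D) (hab : Commute a b) : a * b ∈ L := by
  by_contra hnot
  have hS := hD.1
  have hconj := class_conj hD
  haveI hLn : L.Normal := component_normal hD hL
  have ha2 := sq_eq_one hS ha
  have hb2 := sq_eq_one hS hb
  -- `b` commutes with every `L`-conjugate of `a`
  have hbe : ∀ g ∈ L, Commute b (g * a * g⁻¹) := by
    intro g hg
    have he : g * a * g⁻¹ ∈ D := hconj g a ha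
    rcases commute_or_cube hS hb he with h | h
    · exact h
    · exfalso
      apply hnot
      -- modulo `L`, `b * e = b * a`
      have h1 : (QuotientGroup.mk (b * (g * a * g⁻¹)) : G ⧸ L) = QuotientGroup.mk (b * a) := by
        rw [QuotientGroup.eq]
        have : (b * (g * a * g⁻¹))⁻¹ * (b * a) = (g * (a * g⁻¹ * a⁻¹)) := by
          have hainv : a⁻¹ = a := inv_eq hS ha
          calc (b * (g * a * g⁻¹))⁻¹ * (b * a) = g * a⁻¹ * g⁻¹ * a := by group
            _ = g * (a * g⁻¹ * a⁻¹) := by rw [hainv]; group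
        rw [this]
        exact Subgroup.mul_mem _ hg (hLn.conj_mem _ (Subgroup.inv_mem _ hg) a)
      have h2 : ((QuotientGroup.mk (b * a) : G ⧸ L)) ^ 3 = 1 := by
        rw [← h1, ← QuotientGroup.mk_pow, h, QuotientGroup.mk_one]
      have h3 : (b * a) ^ 3 ∈ L := by
        rw [← QuotientGroup.mk_pow] at h2
        exact (QuotientGroup.eq_one_iff _).1 h2
      have h4 : (b * a) ^ 2 = 1 := by
        rw [hab.symm.mul_pow, pow_two, pow_two, ha2, hb2, one_mul]
      have h5 : (b * a) ^ 3 = b * a := by
        rw [pow_succ, h4, one_mul]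
      rw [h5, hab.symm.eq] at h3
      exact h3
  -- hence `b` centralises the closure of the commutators `[a, g]`
  have hbN : ∀ t ∈ Subgroup.closure (tSet a L), Commute b t := by
    intro t ht
    have hle : Subgroup.closure (tSet a L) ≤ Subgroup.centralizer ({b} : Set G) := by
      rw [Subgroup.closure_le]
      rintro t ⟨g, hg, rfl⟩
      show _ ∈ Subgroup.centralizer ({b} : Set G)
      rw [Subgroup.mem_centralizer_singleton_iff]
      exact ((hab.symm.mul_right (hbe g hg)).eq).symm
    have := Subgroup.mem_centralizer_singleton_iff.1 (hle ht)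
    exact this.symm
  -- the closure is normal in `L`
  set N : Subgroup G := Subgroup.closure (tSet a L) with hN
  have hNL : N ≤ L := by
    rw [hN, Subgroup.closure_le]
    exact tSet_subset hS hconj ha hL
  haveI hNn : (N.subgroupOf L).Normal := by
    constructor
    intro n hn g
    rw [Subgroup.mem_subgroupOf] at hn ⊢
    have := tClosure_conj_mem hS ha g.2 hn
    simpa using this
  rcases Cfsg.Agent.Lib.H7.quasisimple_normal hL.2 (N.subgroupOf L) with htop | hcen
  · -- `N = L`, so `b` centralises `L`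
    apply not_centralize hD hL hb
    intro g hg
    apply hbN
    have : (⟨g, hg⟩ : ↥L) ∈ N.subgroupOf L := by rw [htop]; exact Subgroup.mem_top _
    exact Subgroup.mem_subgroupOf.1 this
  · -- `N` is abelian, so `a` centralises `L`
    apply not_centralize hD hL ha
    apply commute_of_isSolvable_tClosure hS hconj ha hL
    apply Group.isSolvable_of_comm
    intro x y
    have hx : (⟨x.1, hNL x.2⟩ : ↥L) ∈ Subgroup.center ↥L := hcen (Subgroup.mem_subgroupOf.2 x.2)
    rw [Subgroup.mem_center_iff] at hx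
    have := hx ⟨y.1, hNL y.2⟩
    apply Subtype.ext
    have := congrArg Subtype.val this
    simpa using this.symm

/-- The width-one clause: members of the class whose commutator lies in the component are congruent
modulo the component. -/
theorem inv_mul_mem_component (hD : IsThreeTranspositionClass D) {L : Subgroup G}
    (hL : IsComponent L) {a b : G} (ha : a ∈ D) (hb : b ∈ D)
    (h : a * b * a⁻¹ * b⁻¹ ∈ L) : a⁻¹ * b ∈ L := by
  have hS := hD.1
  rw [inv_eq hS ha] at h ⊢
  rw [inv_eq hS hb] at h
  rcases commute_or_cube hS ha hb with hc | hc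
  · exact mul_mem_component_of_commute hD hL ha hb hc
  · have h1 : a * b = ((a * b * a * b))⁻¹ := by
      have e : (a * b) ^ 3 = (a * b * a * b) * (a * b) := by
        rw [pow_succ, pow_two]; group
      rw [e] at hc
      exact eq_inv_of_mul_eq_one_right hc
    rw [h1]
    exact Subgroup.inv_mem _ h

end Cfsg.Agent.Lib.H7.TT
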