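import Cfsg.Agent.Lib.H7.TTMod

set_option autoImplicit false
set_option linter.style.haveILetI false
set_option linter.unusedSectionVars false

/-!
3-transposition groups (helper7): `⟨C_D(d)⟩` is a maximal `D`-subgroup in the primitive case.
-/

namespace Cfsg.Agent.Lib.H7.TT

open Cfsg Cfsg.Agent.Lib.H26.ThreeTrans
open scoped commutatorElement

variable {G : Type*} [Group G] [Finite G] {D : Set G}

omit [Finite G] in
theorem closure_commuting_ne_top (hD : IsThreeTranspositionClass D) (hD2 : ∃ a ∈ D, ∃ b ∈ D, a ≠ b)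
    {d : G} (hd : d ∈ D) : Subgroup.closure {y : G | y ∈ D ∧ Commute d y} ≠ ⊤ := by
  intro htop
  obtain ⟨e, he, hnc⟩ := exists_not_commute hD hD2 hd
  apply hnc
  have hcen : d ∈ Subgroup.centralizer
      ((Subgroup.closure {y : G | y ∈ D ∧ Commute d y} : Subgroup G) : Set G) := by
    rw [Subgroup.centralizer_closure, Subgroup.mem_centralizer_iff]
    rintro x ⟨_, hx⟩
    exact hx.eq.symm
  rw [htop] at hcen
  exact (Subgroup.mem_centralizer_iff.1 hcen e (Subgroup.mem_top e)).symm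

omit [Finite G] in
theorem conj_eq_of_braid {a x : G} (ha2 : a * a = 1) (hx2 : x * x = 1)
    (hbr : a * x * a = x * a * x) : a = (x * a) * x * (x * a)⁻¹ := by
  have hainv : a⁻¹ = a := inv_eq_of_mul_eq_one_right ha2
  have hxinv : x⁻¹ = x := inv_eq_of_mul_eq_one_right hx2
  rw [mul_inv_rev, hainv, hxinv]
  calc a = (x * x) * a * (x * x) := by rw [hx2, one_mul, mul_one]
    _ = x * (x * a * x) * x := by group
    _ = x * (a * x * a) * x := by rw [hbr]
    _ = x * a * x * (a * x) := by group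

/-- In the primitive case of width at least two, `⟨C_D(d)⟩` is a maximal `D`-subgroup. -/
theorem maximal_dsubgroup (hD : IsThreeTranspositionClass D) (hprim : IsPrimitiveUnderConj D)
    (hw : ∃ a ∈ D, ∃ b ∈ D, a ≠ b ∧ Commute a b) {d : G} (hd : d ∈ D) {H : Subgroup G}
    (hH : IsDSubgroup D H) (hle : Subgroup.closure {y : G | y ∈ D ∧ Commute d y} ≤ H) :
    H = Subgroup.closure {y : G | y ∈ D ∧ Commute d y} ∨ H = ⊤ := by
  by_contra hcon
  push Not at hcon
  obtain ⟨hne, hnt⟩ := hcon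
  have hS := hD.1
  have hconj := class_conj hD
  have hdH : d ∈ H := hle (Subgroup.subset_closure ⟨hd, Commute.refl d⟩)
  -- some member of `H ∩ D` does not commute with `d`
  obtain ⟨e, heD, heH, hnc⟩ : ∃ e, e ∈ D ∧ e ∈ H ∧ ¬ Commute d e := by
    by_contra hall
    push Not at hall
    apply hne
    apply le_antisymm _ hle
    rw [← hH, Subgroup.closure_le]
    rintro x ⟨hxD, hxH⟩
    exact Subgroup.subset_closure ⟨hxD, hall x hxD hxH⟩
  set T : Set G := {x | ∃ h ∈ H, x = h * d * h⁻¹} with hT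
  have hTD : T ⊆ D := by
    rintro x ⟨h, _, rfl⟩
    exact hconj h d hd
  have hTH : ∀ x ∈ T, x ∈ H := by
    rintro x ⟨h, hh, rfl⟩
    exact Subgroup.mul_mem _ (Subgroup.mul_mem _ hh hdH) (Subgroup.inv_mem _ hh)
  have hdT : d ∈ T := ⟨1, Subgroup.one_mem _, by group⟩
  -- a member of `H ∩ D` not commuting with some `x ∈ T` lies in `T`
  have hnc_mem : ∀ a ∈ D, a ∈ H → ∀ x ∈ T, ¬ Commute a x → a ∈ T := by
    rintro a haD haH x ⟨h, hh, rfl⟩ hax
    have hxD : h * d * h⁻¹ ∈ D := hconj h d hd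
    have hbr := braid hS haD hxD hax
    -- `a = (x a) x (x a)⁻¹`
    refine ⟨(h * d * h⁻¹) * a * h, Subgroup.mul_mem _ (Subgroup.mul_mem _
      (Subgroup.mul_mem _ (Subgroup.mul_mem _ hh hdH) (Subgroup.inv_mem _ hh)) haH) hh, ?_⟩
    have ha2 := sq_eq_one hS haD
    have hx2 := sq_eq_one hS hxD
    have key := conj_eq_of_braid ha2 hx2 hbr
    calc a = ((h * d * h⁻¹) * a) * (h * d * h⁻¹) * ((h * d * h⁻¹) * a)⁻¹ := key
      _ = (h * d * h⁻¹) * a * h * d * ((h * d * h⁻¹) * a * h)⁻¹ := by group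
  have heT : e ∈ T := by
    apply hnc_mem e heD heH d hdT
    exact fun h => hnc h.symm
  -- `T` is a module
  have hmod : IsModule D T := by
    intro a haD haT
    by_cases haH : a ∈ H
    · left
      intro x hx
      by_contra hax
      exact haT (hnc_mem a haD haH x hx hax)
    · right
      rintro x ⟨h, hh, rfl⟩ hax
      apply haH
      -- `h⁻¹ a h` commutes with `d`
      have h1 : h⁻¹ * a * h⁻¹⁻¹ ∈ D := hconj h⁻¹ a haD
      have h2 : Commute d (h⁻¹ * a * h⁻¹⁻¹) := by
        have := (Commute.conj_iff h⁻¹).2 hax.symm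
        have e1 : h⁻¹ * (h * d * h⁻¹) * h⁻¹⁻¹ = d := by group
        rwa [e1] at this
      have h3 : h⁻¹ * a * h⁻¹⁻¹ ∈ H := hle (Subgroup.subset_closure ⟨h1, h2⟩)
      have h4 := Subgroup.mul_mem _ (Subgroup.mul_mem _ hh h3) (Subgroup.inv_mem _ hh)
      have e2 : h * (h⁻¹ * a * h⁻¹⁻¹) * h⁻¹ = a := by group
      rwa [e2] at h4
  rcases module_trivial hD hprim hw hTD hmod with h | h
  · have := h hdT heT
    rw [this] at hnc
    exact hnc (Commute.refl e)
  · apply hnt
    rw [eq_top_iff, ← hD.2.2, Subgroup.closure_le]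
    intro x hx
    rw [← h] at hx
    exact hTH x hx

end Cfsg.Agent.Lib.H7.TT
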