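import Cfsg.Agent.Lib.H7.TTPrim4

set_option autoImplicit false
set_option linter.style.haveILetI false
set_option linter.unusedSectionVars false

/-!
3-transposition groups (helper7): modules (homogeneous sets) of the commuting graph; a primitive
class of width at least two has no nontrivial modules; maximality of `⟨C_D(d)⟩` among `D`-subgroups.
-/

namespace Cfsg.Agent.Lib.H7.TT

open Cfsg Cfsg.Agent.Lib.H26.ThreeTrans
open scoped commutatorElement

variable {G : Type*} [Group G] {D : Set G}

/-- A module of the commuting graph on `D`: every member of `D` outside `S` commutes with all or with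
none of the members of `S`. -/
def IsModule (D S : Set G) : Prop :=
  ∀ a ∈ D, a ∉ S → (∀ x ∈ S, Commute a x) ∨ (∀ x ∈ S, ¬ Commute a x)

theorem IsModule.commute_iff {S : Set G} (hS : IsModule D S) {a x y : G} (ha : a ∈ D) (haS : a ∉ S)
    (hx : x ∈ S) (hy : y ∈ S) : Commute a x ↔ Commute a y := by
  rcases hS a ha haS with h | h
  · exact ⟨fun _ => h y hy, fun _ => h x hx⟩
  · exact ⟨fun h' => absurd h' (h x hx), fun h' => absurd h' (h y hy)⟩

theorem isModule_singleton (x : G) : IsModule D {x} := by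
  intro a _ _
  by_cases h : Commute a x
  · left
    intro y hy
    rw [Set.mem_singleton_iff] at hy
    rw [hy]; exact h
  · right
    intro y hy
    rw [Set.mem_singleton_iff] at hy
    rw [hy]; exact h

theorem IsModule.union {S T : Set G} (hS : IsModule D S) (hT : IsModule D T) {c : G}
    (hcS : c ∈ S) (hcT : c ∈ T) : IsModule D (S ∪ T) := by
  intro a ha haST
  have haS : a ∉ S := fun h => haST (Or.inl h)
  have haT : a ∉ T := fun h => haST (Or.inr h)
  by_cases hc : Commute a c
  · left
    rintro x (hx | hx)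
    · exact (hS.commute_iff ha haS hcS hx).1 hc
    · exact (hT.commute_iff ha haT hcT hx).1 hc
  · right
    rintro x (hx | hx)
    · exact fun h => hc ((hS.commute_iff ha haS hcS hx).2 h)
    · exact fun h => hc ((hT.commute_iff ha haT hcT hx).2 h)

theorem IsModule.conj (hconj : ∀ g : G, ∀ d ∈ D, g * d * g⁻¹ ∈ D) {S : Set G} (hS : IsModule D S)
    (g : G) : IsModule D ((fun x => g * x * g⁻¹) '' S) := by
  intro a ha haS
  have ha' : g⁻¹ * a * g⁻¹⁻¹ ∈ D := hconj g⁻¹ a ha
  have haS' : g⁻¹ * a * g⁻¹⁻¹ ∉ S := by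
    intro h
    apply haS
    refine ⟨_, h, ?_⟩
    show g * (g⁻¹ * a * g⁻¹⁻¹) * g⁻¹ = a
    group
  have key : ∀ x : G, Commute a (g * x * g⁻¹) ↔ Commute (g⁻¹ * a * g⁻¹⁻¹) x := by
    intro x
    have h1 := Commute.conj_iff (a := g⁻¹ * a * g⁻¹⁻¹) (b := x) g
    have e : g * (g⁻¹ * a * g⁻¹⁻¹) * g⁻¹ = a := by group
    rw [e] at h1
    exact h1
  rcases hS _ ha' haS' with h | h
  · left
    rintro _ ⟨x, hx, rfl⟩
    exact (key x).2 (h x hx)
  · right
    rintro _ ⟨x, hx, rfl⟩
    exact fun h' => h x hx ((key x).1 h')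

/-- The equivalence relation generated by a symmetric invariant relation on `D`. -/
def genRel (D : Set G) (P : G → G → Prop) (x y : G) : Prop :=
  x ∈ D ∧ Relation.ReflTransGen (fun u v => u ∈ D ∧ v ∈ D ∧ P u v) x y

theorem genRel_closed {P : G → G → Prop} {A : Set G}
    (hA : ∀ u ∈ A, ∀ v ∈ D, P u v → v ∈ A) {x y : G} (h : genRel D P x y) (hx : x ∈ A) : y ∈ A := by
  obtain ⟨_, h⟩ := h
  induction h with
  | refl => exact hx
  | tail _ hbc ih => exact hA _ ih _ hbc.2.1 hbc.2.2

theorem genRel_invRel (hconj : ∀ g : G, ∀ d ∈ D, g * d * g⁻¹ ∈ D) {P : G → G → Prop}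
    (hsymm : ∀ u v, P u v → P v u)
    (hPconj : ∀ g u v, P u v → P (g * u * g⁻¹) (g * v * g⁻¹)) : InvRel D (genRel D P) := by
  have hmemr : ∀ x y, genRel D P x y → y ∈ D := by
    rintro x y ⟨hx, h⟩
    induction h with
    | refl => exact hx
    | tail _ hbc _ => exact hbc.2.1
  refine ⟨fun x y h => h.1, fun x hx => ⟨hx, Relation.ReflTransGen.refl⟩, ?_, ?_, ?_⟩
  · intro x y h
    refine ⟨hmemr x y h, ?_⟩
    obtain ⟨_, h⟩ := h
    induction h with
    | refl => exact Relation.ReflTransGen.refl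
    | tail _ hbc ih => exact ih.head ⟨hbc.2.1, hbc.1, hsymm _ _ hbc.2.2⟩
  · rintro x y z ⟨hx, h1⟩ ⟨_, h2⟩
    exact ⟨hx, h1.trans h2⟩
  · rintro g x y ⟨hx, h⟩
    refine ⟨hconj g x hx, ?_⟩
    have := Relation.ReflTransGen.lift (p := fun u v => u ∈ D ∧ v ∈ D ∧ P u v)
      (fun u : G => g * u * g⁻¹) ?_ _ _ h
    · exact this
    · rintro u v ⟨hu, hv, huv⟩
      exact ⟨hconj g u hu, hconj g v hv, hPconj g u v huv⟩

section fin

variable [Finite G]

/-- In a primitive class of width at least two there are no nontrivial modules. -/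
theorem module_trivial (hD : IsThreeTranspositionClass D) (hprim : IsPrimitiveUnderConj D)
    (hw : ∃ a ∈ D, ∃ b ∈ D, a ≠ b ∧ Commute a b) {S : Set G} (hSD : S ⊆ D)
    (hS : IsModule D S) : S.Subsingleton ∨ S = D := by
  have hconj := class_conj hD
  have hD2 := hprim.2.1
  -- commuting paths join any two members
  have hF1 : ∀ x ∈ D, ∀ y ∈ D, genRel D (fun u v => Commute u v) x y := by
    have hR := genRel_invRel (D := D) hconj (P := fun u v => Commute u v)
      (fun u v h => h.symm) (fun g u v h => (Commute.conj_iff g).2 h)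
    rcases hR.trivial_or_univ_of_primitive hprim with h | h
    · exfalso
      obtain ⟨a, ha, b, hb, hab, hc⟩ := hw
      exact hab (h a b ⟨ha, Relation.ReflTransGen.single ⟨ha, hb, hc⟩⟩)
    · exact h
  -- non-commuting paths join any two members
  have hF2 : ∀ x ∈ D, ∀ y ∈ D, genRel D (fun u v => ¬ Commute u v) x y := by
    have hR := genRel_invRel (D := D) hconj (P := fun u v => ¬ Commute u v)
      (fun u v h h' => h h'.symm) (fun g u v h h' => h ((Commute.conj_iff g).1 h'))
    rcases hR.trivial_or_univ_of_primitive hprim with h | h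
    · exfalso
      obtain ⟨d, hd, -⟩ := hD.2.1
      obtain ⟨e, he, hnc⟩ := exists_not_commute hD hD2 hd
      have := h d e ⟨hd, Relation.ReflTransGen.single ⟨hd, he, hnc⟩⟩
      rw [this] at hnc
      exact hnc (Commute.refl e)
    · exact h
  -- two overlapping incomparable modules do not cover `D`
  have hX : ∀ S T : Set G, S ⊆ D → T ⊆ D → IsModule D S → IsModule D T → (S ∩ T).Nonempty →
      ¬ S ⊆ T → ¬ T ⊆ S → S ∪ T ≠ D := by
    intro S T hSD hTD hS hT hne hST hTS hcov
    obtain ⟨c₀, hc₀S, hc₀T⟩ := hne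
    obtain ⟨a₀, ha₀S, ha₀T⟩ := Set.not_subset.1 hST
    obtain ⟨b₀, hb₀T, hb₀S⟩ := Set.not_subset.1 hTS
    have hb₀D := hTD hb₀T
    -- for `a ∈ S \ T`, `t ∈ T`: `Commute a t ↔ Commute a₀ b₀`
    have hkey : ∀ a ∈ S, a ∉ T → ∀ t ∈ T, (Commute a t ↔ Commute a₀ b₀) := by
      intro a haS haT t ht
      have h1 : Commute a t ↔ Commute a b₀ := hT.commute_iff (hSD haS) haT ht hb₀T
      have h2 : Commute b₀ a ↔ Commute b₀ a₀ := hS.commute_iff hb₀D hb₀S haS ha₀S
      rw [h1]
      constructor
      · intro h; exact (h2.1 h.symm).symm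
      · intro h; exact (h2.2 h.symm).symm
    have hc₀notA : ¬ (c₀ ∈ S ∧ c₀ ∉ T) := fun h => h.2 hc₀T
    by_cases hε : Commute a₀ b₀
    · -- `S \ T` commutes with everything outside: contradiction with non-commuting paths
      have := genRel_closed (D := D) (P := fun u v => ¬ Commute u v) (A := {a | a ∈ S ∧ a ∉ T})
        (by
          rintro u ⟨huS, huT⟩ v hv huv
          by_contra hvA
          have hvT : v ∈ T := by
            by_contra hvT
            have hvS : v ∈ S := by
              have : v ∈ S ∪ T := by rw [hcov]; exact hv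
              rcases this with h | h
              · exact h
              · exact absurd h hvT
            exact hvA ⟨hvS, hvT⟩
          exact huv ((hkey u huS huT v hvT).2 hε))
        (hF2 a₀ (hSD ha₀S) c₀ (hSD hc₀S)) ⟨ha₀S, ha₀T⟩
      exact hc₀notA this
    · have := genRel_closed (D := D) (P := fun u v => Commute u v) (A := {a | a ∈ S ∧ a ∉ T})
        (by
          rintro u ⟨huS, huT⟩ v hv huv
          by_contra hvA
          have hvT : v ∈ T := by
            by_contra hvT
            have hvS : v ∈ S := by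
              have : v ∈ S ∪ T := by rw [hcov]; exact hv
              rcases this with h | h
              · exact h
              · exact absurd h hvT
            exact hvA ⟨hvS, hvT⟩
          exact hε ((hkey u huS huT v hvT).1 huv))
        (hF1 a₀ (hSD ha₀S) c₀ (hSD hc₀S)) ⟨ha₀S, ha₀T⟩
      exact hc₀notA this
  -- the relation "in a common proper module"
  set R : G → G → Prop := fun x y => ∃ S : Set G, S ⊆ D ∧ S ≠ D ∧ IsModule D S ∧ x ∈ S ∧ y ∈ S
    with hRdef
  have hR : InvRel D R := by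
    refine ⟨?_, ?_, ?_, ?_, ?_⟩
    · rintro x y ⟨S, hSD, -, -, hx, -⟩
      exact hSD hx
    · intro x hx
      refine ⟨{x}, Set.singleton_subset_iff.2 hx, ?_, isModule_singleton x, rfl, rfl⟩
      intro h
      obtain ⟨a, ha, b, hb, hab⟩ := hD2
      rw [← h, Set.mem_singleton_iff] at ha hb
      exact hab (ha.trans hb.symm)
    · rintro x y ⟨S, h1, h2, h3, hx, hy⟩
      exact ⟨S, h1, h2, h3, hy, hx⟩
    · rintro x y z ⟨S, hSD, hSne, hS, hx, hy⟩ ⟨T, hTD, hTne, hT, hy', hz⟩
      by_cases hST : S ⊆ T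
      · exact ⟨T, hTD, hTne, hT, hST hx, hz⟩
      by_cases hTS : T ⊆ S
      · exact ⟨S, hSD, hSne, hS, hx, hTS hz⟩
      exact ⟨S ∪ T, Set.union_subset hSD hTD, hX S T hSD hTD hS hT ⟨y, hy, hy'⟩ hST hTS,
        hS.union hT hy hy', Or.inl hx, Or.inr hz⟩
    · rintro g x y ⟨S, hSD, hSne, hS, hx, hy⟩
      refine ⟨(fun x => g * x * g⁻¹) '' S, ?_, ?_, hS.conj hconj g, ⟨x, hx, rfl⟩, ⟨y, hy, rfl⟩⟩
      · rintro _ ⟨u, hu, rfl⟩
        exact hconj g u (hSD hu)
      · intro h
        apply hSne
        apply Set.Subset.antisymm hSD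
        intro u hu
        have : g * u * g⁻¹ ∈ (fun x => g * x * g⁻¹) '' S := by
          rw [h]; exact hconj g u hu
        obtain ⟨v, hv, hvu⟩ := this
        have : v = u := by
          have h1 : g * v * g⁻¹ = g * u * g⁻¹ := hvu
          have := congrArg (fun t => g⁻¹ * t * g) h1
          simpa [mul_assoc] using this
        rw [← this]; exact hv
  rcases hR.trivial_or_univ_of_primitive hprim with h | h
  · by_cases hSeq : S = D
    · exact Or.inr hSeq
    · left
      intro x hx y hy
      exact h x y ⟨S, hSD, hSeq, hS, hx, hy⟩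
  · -- universal: take a maximal proper module
    exfalso
    obtain ⟨d, hd, -⟩ := hD.2.1
    have hex : ∃ M : Set G, M ⊆ D ∧ M ≠ D ∧ IsModule D M := by
      obtain ⟨M, hMD, hMne, hM, -, -⟩ := hR.refl d hd
      exact ⟨M, hMD, hMne, hM⟩
    obtain ⟨M, ⟨hMD, hMne, hM⟩, hmax⟩ :=
      exists_maximal_of_wellFoundedGT (fun M : Set G => M ⊆ D ∧ M ≠ D ∧ IsModule D M) hex
    -- `M` is nonempty
    have hMne' : M.Nonempty := by
      by_contra hemp
      rw [Set.not_nonempty_iff_eq_empty] at hemp
      obtain ⟨M', hM'D, hM'ne, hM', hdM', -⟩ := hR.refl d hd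
      have := hmax ⟨hM'D, hM'ne, hM'⟩ (by rw [hemp]; exact Set.empty_subset _)
      have := this hdM'
      rw [hemp] at this
      exact this
    obtain ⟨x, hx⟩ := hMne'
    obtain ⟨z, hzD, hzM⟩ : ∃ z ∈ D, z ∉ M := by
      by_contra hcon
      push Not at hcon
      exact hMne (Set.Subset.antisymm hMD hcon)
    obtain ⟨N, hND, hNne, hN, hxN, hzN⟩ := h x (hMD hx) z hzD
    have hMN : ¬ M ⊆ N := by
      intro hsub
      have := hmax ⟨hND, hNne, hN⟩ hsub
      exact hzM (this hzN)
    have hNM : ¬ N ⊆ M := fun hsub => hzM (hsub hzN)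
    have hcov := hX M N hMD hND hM hN ⟨x, hx, hxN⟩ hMN hNM
    have := hmax ⟨Set.union_subset hMD hND, hcov, hM.union hN hx hxN⟩ Set.subset_union_left
    exact hzM (this (Or.inr hzN))

end fin

end Cfsg.Agent.Lib.H7.TT
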