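import Cfsg.Agent.Lib.H7.TTComp2
import Cfsg.Agent.Lib.H7.FStar2

set_option autoImplicit false
set_option linter.style.haveILetI false
set_option linter.unusedSectionVars false

/-!
3-transposition groups (helper7): invariant equivalence relations on the class, the kernel of the
action on the classes, and primitivity when the component has index at most two.
-/

namespace Cfsg.Agent.Lib.H7.TT

open Cfsg Cfsg.Agent.Lib.H26.ThreeTrans
open scoped commutatorElement

variable {G : Type*} [Group G] {D : Set G}

/-- An equivalence relation on `D` invariant under conjugation. -/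
structure InvRel (D : Set G) (R : G → G → Prop) : Prop where
  mem : ∀ x y, R x y → x ∈ D
  refl : ∀ x ∈ D, R x x
  symm : ∀ x y, R x y → R y x
  trans : ∀ x y z, R x y → R y z → R x z
  conj : ∀ g x y, R x y → R (g * x * g⁻¹) (g * y * g⁻¹)

namespace InvRel

variable {R : G → G → Prop}

theorem mem' (hR : InvRel D R) {x y : G} (h : R x y) : y ∈ D := hR.mem y x (hR.symm x y h)

theorem conj_left (hR : InvRel D R) {x y : G} (h : R x y) : R (x * y * x⁻¹) y := by
  have h1 := hR.conj x x y h
  have e : x * x * x⁻¹ = x := by group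
  rw [e] at h1
  exact hR.trans _ _ _ (hR.symm _ _ h1) h

/-- A member of `D` outside a class which commutes with one member of the class commutes with all. -/
theorem commute_of_commute (hS : IsThreeTranspositionSet D) (hR : InvRel D R) {x x' c : G}
    (h : R x x') (hc : c ∈ D) (hcx : ¬ R c x) (hcomm : Commute c x) : Commute c x' := by
  by_contra hnc
  have hx' : x' ∈ D := hR.mem' h
  have hbr := braid hS hc hx' hnc
  have hcinv : c⁻¹ = c := inv_eq hS hc
  have hx'inv : x'⁻¹ = x' := inv_eq hS hx'
  have h1 := hR.conj c x x' h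
  have e1 : c * x * c⁻¹ = x := by
    rw [hcomm.eq]; group
  have e2 : c * x' * c⁻¹ = x' * c * x'⁻¹ := by
    rw [hcinv, hx'inv]; exact hbr
  rw [e1, e2] at h1
  have h2 : R x' (x' * c * x'⁻¹) := hR.trans _ _ _ (hR.symm _ _ h) h1
  have h3 := hR.conj x' _ _ h2
  have e3 : x' * x' * x'⁻¹ = x' := by group
  have e4 : x' * (x' * c * x'⁻¹) * x'⁻¹ = c := by
    have hx2 := sq_eq_one hS hx'
    calc x' * (x' * c * x'⁻¹) * x'⁻¹ = (x' * x') * c * (x' * x')⁻¹ := by group
      _ = c := by rw [hx2]; group
  rw [e3, e4] at h3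
  exact hcx (hR.trans _ _ _ (hR.symm _ _ h3) (hR.symm _ _ h))

/-- The product of two equivalent members fixes every class. -/
theorem mul_conj (hS : IsThreeTranspositionSet D) (hR : InvRel D R) {x y c : G}
    (h : R x y) (hc : c ∈ D) : R ((x * y) * c * (x * y)⁻¹) c := by
  have hx : x ∈ D := hR.mem _ _ h
  have hy : y ∈ D := hR.mem' h
  have e0 : (x * y) * c * (x * y)⁻¹ = x * (y * c * y⁻¹) * x⁻¹ := by group
  by_cases hcx : R c x
  · have hcy : R c y := hR.trans _ _ _ hcx h
    have h1 : R (y * c * y⁻¹) c := hR.conj_left (hR.symm _ _ hcy)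
    have h2 : R x (y * c * y⁻¹) := hR.trans _ _ _ (hR.symm _ _ hcx) (hR.symm _ _ h1)
    have h3 := hR.conj_left h2
    rw [e0]
    exact hR.trans _ _ _ h3 h1
  · by_cases hcomm : Commute c x
    · have hcy : Commute c y := commute_of_commute hS hR h hc hcx hcomm
      have : (x * y) * c * (x * y)⁻¹ = c := by
        have hc' : Commute (x * y) c := (hcomm.symm.mul_left hcy.symm)
        rw [hc'.eq]; group
      rw [this]
      exact hR.refl c hc
    · have hcy' : ¬ R c y := fun h' => hcx (hR.trans _ _ _ h' (hR.symm _ _ h))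
      have hncy : ¬ Commute c y := by
        intro hcy
        exact hcomm (commute_of_commute hS hR (hR.symm _ _ h) hc hcy' hcy)
      have hcinv : c⁻¹ = c := inv_eq hS hc
      have hxinv : x⁻¹ = x := inv_eq hS hx
      have hyinv : y⁻¹ = y := inv_eq hS hy
      have hbx := braid hS hc hx hcomm
      have hby := braid hS hc hy hncy
      have h1 := hR.conj c x y h
      have e1 : c * x * c⁻¹ = x * c * x⁻¹ := by rw [hcinv, hxinv]; exact hbx
      have e2 : c * y * c⁻¹ = y * c * y⁻¹ := by rw [hcinv, hyinv]; exact hby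
      rw [e1, e2] at h1
      have h2 := hR.conj x _ _ h1
      have e3 : x * (x * c * x⁻¹) * x⁻¹ = c := by
        have hx2 := sq_eq_one hS hx
        calc x * (x * c * x⁻¹) * x⁻¹ = (x * x) * c * (x * x)⁻¹ := by group
          _ = c := by rw [hx2]; group
      rw [e3] at h2
      rw [e0]
      exact hR.symm _ _ h2

end InvRel

/-- The kernel of the action on the classes of an invariant equivalence relation. -/
def relKer (hconj : ∀ g : G, ∀ d ∈ D, g * d * g⁻¹ ∈ D) {R : G → G → Prop} (hR : InvRel D R) :
    Subgroup G where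
  carrier := {g | ∀ c ∈ D, R (g * c * g⁻¹) c}
  one_mem' := by
    intro c hc
    have : (1 : G) * c * 1⁻¹ = c := by group
    rw [this]
    exact hR.refl c hc
  mul_mem' := by
    intro g h hg hh c hc
    have h1 := hh c hc
    have h2 := hg _ (hR.mem _ _ h1)
    have e : g * h * c * (g * h)⁻¹ = g * (h * c * h⁻¹) * g⁻¹ := by group
    rw [e]
    exact hR.trans _ _ _ h2 h1
  inv_mem' := by
    intro g hg c hc
    have hc' : g⁻¹ * c * g⁻¹⁻¹ ∈ D := hconj g⁻¹ c hc
    have h1 := hg _ hc'
    have e : g * (g⁻¹ * c * g⁻¹⁻¹) * g⁻¹ = c := by group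
    rw [e] at h1
    exact hR.symm _ _ h1

theorem mem_relKer (hconj : ∀ g : G, ∀ d ∈ D, g * d * g⁻¹ ∈ D) {R : G → G → Prop}
    (hR : InvRel D R) {g : G} : g ∈ relKer hconj hR ↔ ∀ c ∈ D, R (g * c * g⁻¹) c := Iff.rfl

theorem relKer_normal (hconj : ∀ g : G, ∀ d ∈ D, g * d * g⁻¹ ∈ D) {R : G → G → Prop}
    (hR : InvRel D R) : (relKer hconj hR).Normal := by
  constructor
  intro n hn g
  rw [mem_relKer] at hn ⊢
  intro c hc
  have hc' : g⁻¹ * c * g⁻¹⁻¹ ∈ D := hconj g⁻¹ c hc
  have h1 := hn _ hc'
  have h2 := hR.conj g _ _ h1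
  have e1 : g * (n * (g⁻¹ * c * g⁻¹⁻¹) * n⁻¹) * g⁻¹ = g * n * g⁻¹ * c * (g * n * g⁻¹)⁻¹ := by group
  have e2 : g * (g⁻¹ * c * g⁻¹⁻¹) * g⁻¹ = c := by group
  rw [e1, e2] at h2
  exact h2

section fin

variable [Finite G]

/-- Products of two members of the class lie in a normal subgroup of index at most two. -/
theorem mul_mem_of_index_le_two (hD : IsThreeTranspositionClass D) {L : Subgroup G} [hLn : L.Normal]
    (hidx : L.index ≤ 2) {x y : G} (hx : x ∈ D) (hy : y ∈ D) : x * y ∈ L := by
  have h0 : L.index ≠ 0 := Subgroup.index_ne_zero_of_finite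
  have h12 : L.index = 1 ∨ L.index = 2 := by omega
  rcases h12 with h | h
  · rw [Subgroup.index_eq_one] at h
    rw [h]; exact Subgroup.mem_top _
  · rw [Subgroup.mul_mem_iff_of_index_two h]
    obtain ⟨g, rfl⟩ := exists_conj_eq hD hx hy
    constructor
    · intro hxL
      exact hLn.conj_mem x hxL g
    · intro hyL
      have := hLn.conj_mem _ hyL g⁻¹
      have e : g⁻¹ * (g * x * g⁻¹) * g⁻¹⁻¹ = x := by group
      rwa [e] at this

/-- With central `O_2`, `O_3`, the centraliser of the component is the centre. -/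
theorem centralizer_component_le_center (hD : IsThreeTranspositionClass D)
    (h2 : pCore 2 G ≤ Subgroup.center G) (h3 : pCore 3 G ≤ Subgroup.center G)
    {L : Subgroup G} (hL : IsComponent L) :
    Subgroup.centralizer (L : Set G) ≤ Subgroup.center G := by
  haveI hLn : L.Normal := component_normal hD hL
  have hF := generalizedFittingSubgroup_eq hD h2 h3 hL
  have hFit := fittingSubgroup_eq_center hD h2 h3
  -- the centre of `L`, as a normal abelian subgroup of `G`
  set ZL : Subgroup G := L ⊓ Subgroup.centralizer (L : Set G) with hZL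
  haveI : (Subgroup.centralizer (L : Set G)).Normal := Subgroup.normal_centralizer
  have hZLn : ZL.Normal := inferInstance
  have hZLnil : Group.IsNilpotent ZL := by
    letI : CommGroup ↥ZL :=
      { (inferInstance : Group ↥ZL) with
        mul_comm := fun a b => Subtype.ext (by
          have ha := a.2.1
          have hb := b.2.2
          exact (Subgroup.mem_centralizer_iff.1 hb a.1 ha)) }
    exact CommGroup.isNilpotent
  have hZLle : ZL ≤ Subgroup.center G := by
    rw [← hFit]
    exact Cfsg.Agent.Lib.H7.le_fittingSubgroup hZLn hZLnil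
  intro x hx
  have hxF : x ∈ Subgroup.centralizer (generalizedFittingSubgroup G : Set G) := by
    rw [hF, Subgroup.mem_centralizer_iff]
    have hle : L ⊔ Subgroup.center G ≤ Subgroup.centralizer ({x} : Set G) := by
      apply sup_le
      · intro l hl
        rw [Subgroup.mem_centralizer_singleton_iff]
        exact (Subgroup.mem_centralizer_iff.1 hx l hl)
      · intro z hz
        rw [Subgroup.mem_centralizer_singleton_iff]
        rw [Subgroup.mem_center_iff] at hz
        exact (hz x).symm
    intro h hh
    have := Subgroup.mem_centralizer_singleton_iff.1 (hle hh)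
    exact this
  have hxF' := Cfsg.Agent.Lib.H7.centralizer_generalizedFittingSubgroup_le hxF
  rw [hF] at hxF'
  have hcomm : ⁅L, Subgroup.center G⁆ = ⊥ := by
    rw [Subgroup.commutator_eq_bot_iff_le_centralizer]
    intro l _
    rw [Subgroup.mem_centralizer_iff]
    intro z hz
    rw [SetLike.mem_coe, Subgroup.mem_center_iff] at hz
    exact (hz l).symm
  obtain ⟨l, hl, z, hz, rfl⟩ := Cfsg.Agent.Lib.H7.mem_sup_of_commutator_eq_bot hcomm hxF'
  have hlZ : l ∈ ZL := by
    refine ⟨hl, ?_⟩
    have : l = (l * z) * z⁻¹ := by group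
    rw [this]
    apply Subgroup.mul_mem _ hx
    apply Subgroup.inv_mem
    rw [Subgroup.mem_centralizer_iff]
    intro m _
    rw [Subgroup.mem_center_iff] at hz
    exact hz m
  exact Subgroup.mul_mem _ (hZLle hlZ) hz

/-- **Primitivity.** If the component has index at most two, every invariant equivalence relation
on the class is trivial or universal. -/
theorem InvRel.trivial_or_univ (hD : IsThreeTranspositionClass D) (hD2 : ∃ a ∈ D, ∃ b ∈ D, a ≠ b)
    (h2 : pCore 2 G ≤ Subgroup.center G) (h3 : pCore 3 G ≤ Subgroup.center G)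
    {L : Subgroup G} (hL : IsComponent L) (hidx : L.index ≤ 2) {R : G → G → Prop}
    (hR : InvRel D R) : (∀ x y, R x y → x = y) ∨ (∀ x ∈ D, ∀ y ∈ D, R x y) := by
  by_contra hcon
  push Not at hcon
  obtain ⟨⟨a, b, hab, hne⟩, ⟨x, hx, y, hy, hxy⟩⟩ := hcon
  have hS := hD.1
  have hconj := class_conj hD
  haveI hLn : L.Normal := component_normal hD hL
  have ha : a ∈ D := hR.mem _ _ hab
  have hb : b ∈ D := hR.mem' hab
  have hKn : (relKer hconj hR).Normal := relKer_normal hconj hR
  rcases Cfsg.Agent.Lib.H7.component_le_or_commutator_eq_bot hL hKn.isSubnormal with hle | hcm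
  · -- `L ≤ K`: then `D ⊆ K` and `K = G`
    have hDK : D ⊆ (relKer hconj hR : Set G) := by
      intro e he
      rw [SetLike.mem_coe, mem_relKer]
      intro c hc
      have hce : c * e ∈ L := mul_mem_of_index_le_two hD hidx hc he
      have h1 := (mem_relKer hconj hR).1 (hle hce) c hc
      have h2 := hR.conj c _ _ h1
      have hc2 := sq_eq_one hS hc
      have hcinv : c⁻¹ = c := inv_eq hS hc
      have e1 : c * (c * e * c * (c * e)⁻¹) * c⁻¹ = e * c * e⁻¹ := by
        calc c * (c * e * c * (c * e)⁻¹) * c⁻¹ = (c * c) * e * c * e⁻¹ * (c⁻¹ * c⁻¹) := by group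
          _ = e * c * e⁻¹ := by rw [hcinv, hc2]; group
      have e2 : c * c * c⁻¹ = c := by group
      rw [e1, e2] at h2
      exact h2
    have hK : relKer hconj hR = ⊤ := by
      rw [eq_top_iff, ← hD.2.2, Subgroup.closure_le]
      exact hDK
    obtain ⟨g, rfl⟩ := exists_conj_eq hD hx hy
    have hg : g ∈ relKer hconj hR := by rw [hK]; exact Subgroup.mem_top _
    exact hxy (hR.symm _ _ ((mem_relKer hconj hR).1 hg x hx))
  · -- `[L, K] = 1`: then `K ≤ Z(G)` and `a * b` is central
    have hKc : relKer hconj hR ≤ Subgroup.centralizer (L : Set G) := by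
      rw [Subgroup.commutator_comm] at hcm
      exact Subgroup.commutator_eq_bot_iff_le_centralizer.1 hcm
    have habK : a * b ∈ relKer hconj hR := by
      rw [mem_relKer]
      intro c hc
      exact hR.mul_conj hS hab hc
    have hz : a * b ∈ Subgroup.center G := centralizer_component_le_center hD h2 h3 hL (hKc habK)
    rw [Subgroup.mem_center_iff] at hz
    have ha2 := sq_eq_one hS ha
    have hb2 := sq_eq_one hS hb
    have hcab : Commute a b := by
      have h1 := hz a
      show a * b = b * a
      calc a * b = (a * a) * (a * b) * (a * a)⁻¹ := by rw [ha2]; group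
        _ = a * (a * (a * b)) * a⁻¹ * a⁻¹ := by group
        _ = a * ((a * b) * a) * a⁻¹ * a⁻¹ := by rw [h1]
        _ = (a * a) * b * a⁻¹ := by group
        _ = b * a := by rw [ha2, inv_eq hS ha]; group
    obtain ⟨c, hc, hnc⟩ := exists_not_commute hD hD2 ha
    have hac3 : (a * c) ^ 3 = 1 := by
      rcases commute_or_cube hS ha hc with h | h
      · exact absurd h hnc
      · exact h
    have hbz : b * c = (a * b) * (a * c) := by
      calc b * c = (a * a) * b * c := by rw [ha2, one_mul]
        _ = a * (a * b) * c := by group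
        _ = a * ((a * b) * c) := by group
        _ = a * (c * (a * b)) := by rw [hz c]
        _ = (a * c) * (a * b) := by group
        _ = (a * b) * (a * c) := by rw [hz (a * c)]
    have hzc : Commute (a * b) (a * c) := (hz (a * c)).symm
    have hz2 : (a * b) ^ 2 = 1 := by
      rw [hcab.mul_pow, pow_two, pow_two, ha2, hb2, one_mul]
    rcases commute_or_cube hS hb hc with h | h
    · apply hnc
      -- `a = (a b) b`
      have : a = (a * b) * b := by
        calc a = a * (b * b) := by rw [hb2, mul_one]
          _ = (a * b) * b := by group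
      rw [this]
      exact Commute.mul_left (hz c).symm h
    · rw [hbz, hzc.mul_pow, hac3, mul_one] at h
      apply hne
      have h3' : (a * b) ^ 3 = (a * b) ^ 2 * (a * b) := pow_succ _ _
      rw [hz2, one_mul, h] at h3'
      -- `a * b = 1`
      calc a = a * (b * b) := by rw [hb2, mul_one]
        _ = (a * b) * b := by group
        _ = b := by rw [← h3', one_mul]

end fin

end Cfsg.Agent.Lib.H7.TT
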