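import Cfsg.Agent.Lib.H7.TTPrim
import Cfsg.Prelude.Def_FischerSpaces

set_option autoImplicit false
set_option linter.style.haveILetI false
set_option linter.unusedSectionVars false

/-!
3-transposition groups (helper7): blocks, primitivity and the commuting graph.
-/

namespace Cfsg.Agent.Lib.H7.TT

open Cfsg Cfsg.Agent.Lib.H26.ThreeTrans
open scoped commutatorElement

variable {G : Type*} [Group G] {D : Set G}

/-- The equivalence relation whose classes are the conjugates of the block `B`. -/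
def blockRel (B : Set G) (x y : G) : Prop :=
  ∃ g : G, x ∈ (fun z => g * z * g⁻¹) '' B ∧ y ∈ (fun z => g * z * g⁻¹) '' B

theorem conj_image_eq_of_mem {B : Set G}
    (hB : ∀ g : G, (fun x => g * x * g⁻¹) '' B = B ∨ Disjoint ((fun x => g * x * g⁻¹) '' B) B)
    {g : G} {u : G} (hu : u ∈ B) (hgu : g * u * g⁻¹ ∈ B) : (fun x => g * x * g⁻¹) '' B = B := by
  rcases hB g with h | h
  · exact h
  · exfalso
    exact Set.disjoint_left.1 h ⟨u, hu, rfl⟩ hgu

theorem blockRel_invRel (hD : IsThreeTranspositionClass D) {B : Set G} (hBD : B ⊆ D)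
    (hB : ∀ g : G, (fun x => g * x * g⁻¹) '' B = B ∨ Disjoint ((fun x => g * x * g⁻¹) '' B) B)
    (hne : B.Nonempty) : InvRel D (blockRel B) := by
  have hconj := class_conj hD
  obtain ⟨b₀, hb₀⟩ := hne
  refine ⟨?_, ?_, ?_, ?_, ?_⟩
  · rintro x y ⟨g, ⟨u, hu, rfl⟩, -⟩
    exact hconj g u (hBD hu)
  · intro x hx
    obtain ⟨g, rfl⟩ := exists_conj_eq hD (hBD hb₀) hx
    exact ⟨g, ⟨b₀, hb₀, rfl⟩, ⟨b₀, hb₀, rfl⟩⟩
  · rintro x y ⟨g, h1, h2⟩
    exact ⟨g, h2, h1⟩
  · rintro x y z ⟨g, hx, ⟨u, hu, hyu⟩⟩ ⟨h, ⟨v, hv, hyv⟩, ⟨w, hw, rfl⟩⟩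
    refine ⟨g, hx, ?_⟩
    -- `(g⁻¹ h) B = B`
    have hmem : (g⁻¹ * h) * v * (g⁻¹ * h)⁻¹ ∈ B := by
      have : (g⁻¹ * h) * v * (g⁻¹ * h)⁻¹ = u := by
        have h1 : g * u * g⁻¹ = h * v * h⁻¹ := by
          simp only at hyu hyv
          rw [hyu, hyv]
        calc (g⁻¹ * h) * v * (g⁻¹ * h)⁻¹ = g⁻¹ * (h * v * h⁻¹) * g := by group
          _ = g⁻¹ * (g * u * g⁻¹) * g := by rw [h1]
          _ = u := by group
      rw [this]; exact hu
    have himg := conj_image_eq_of_mem hB hv hmem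
    have hw' : (g⁻¹ * h) * w * (g⁻¹ * h)⁻¹ ∈ B := by
      rw [← himg]
      exact ⟨w, hw, rfl⟩
    refine ⟨_, hw', ?_⟩
    show g * ((g⁻¹ * h) * w * (g⁻¹ * h)⁻¹) * g⁻¹ = h * w * h⁻¹
    group
  · rintro k x y ⟨g, ⟨u, hu, rfl⟩, ⟨v, hv, rfl⟩⟩
    refine ⟨k * g, ⟨u, hu, ?_⟩, ⟨v, hv, ?_⟩⟩
    · show k * g * u * (k * g)⁻¹ = k * (g * u * g⁻¹) * k⁻¹
      group
    · show k * g * v * (k * g)⁻¹ = k * (g * v * g⁻¹) * k⁻¹
      group

section fin

variable [Finite G]

/-- **Primitivity** when the component has index at most two. -/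
theorem primitive_of_index_le_two (hD : IsThreeTranspositionClass D) (hD2 : ∃ a ∈ D, ∃ b ∈ D, a ≠ b)
    (h2 : pCore 2 G ≤ Subgroup.center G) (h3 : pCore 3 G ≤ Subgroup.center G)
    {L : Subgroup G} (hL : IsComponent L) (hidx : L.index ≤ 2) : IsPrimitiveUnderConj D := by
  refine ⟨fun a ha b hb => exists_conj_eq hD ha hb, hD2, ?_⟩
  intro B hBD hB
  rcases B.eq_empty_or_nonempty with hemp | hne
  · left
    rw [hemp]
    exact Set.subsingleton_empty
  have hR := blockRel_invRel hD hBD hB hne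
  rcases hR.trivial_or_univ hD hD2 h2 h3 hL hidx with h | h
  · left
    intro a ha b hb
    apply h
    refine ⟨1, ⟨a, ha, ?_⟩, ⟨b, hb, ?_⟩⟩
    · show 1 * a * 1⁻¹ = a
      group
    · show 1 * b * 1⁻¹ = b
      group
  · right
    apply Set.Subset.antisymm hBD
    intro y hy
    obtain ⟨b₀, hb₀⟩ := hne
    obtain ⟨g, ⟨u, hu, hub⟩, hyg⟩ := h b₀ (hBD hb₀) y hy
    have hgu : g * u * g⁻¹ ∈ B := by
      have : g * u * g⁻¹ = b₀ := hub
      rw [this]; exact hb₀
    rw [conj_image_eq_of_mem hB hu hgu] at hyg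
    exact hyg

omit [Finite G] in
theorem commutingGraph_adj {a b : D} :
    (commutingGraph D).Adj a b ↔ a ≠ b ∧ Commute (a : G) (b : G) := by
  unfold commutingGraph
  rw [SimpleGraph.fromRel_adj]
  constructor
  · rintro ⟨hne, h | h⟩
    · exact ⟨hne, h⟩
    · exact ⟨hne, h.symm⟩
  · rintro ⟨hne, h⟩
    exact ⟨hne, Or.inl h⟩

/-- If the commuting graph is connected, the component has index at most two. -/
theorem index_le_two_of_connected (hD : IsThreeTranspositionClass D) {L : Subgroup G}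
    (hL : IsComponent L) (hconn : (commutingGraph D).Connected) : L.index ≤ 2 := by
  have hS := hD.1
  haveI hLn : L.Normal := component_normal hD hL
  -- adjacent members are congruent modulo `L`
  have hreach : ∀ a b : D, (commutingGraph D).Reachable a b →
      (QuotientGroup.mk (a : G) : G ⧸ L) = QuotientGroup.mk (b : G) := by
    intro a b hab
    obtain ⟨p⟩ := hab
    induction p with
    | nil => rfl
    | cons hadj _ ih =>
      rw [← ih]
      rw [commutingGraph_adj] at hadj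
      rw [QuotientGroup.eq, inv_eq hS (Subtype.mem _)]
      exact mul_mem_component_of_commute hD hL (Subtype.mem _) (Subtype.mem _) hadj.2
  have hall : ∀ a ∈ D, ∀ b ∈ D, (QuotientGroup.mk a : G ⧸ L) = QuotientGroup.mk b := by
    intro a ha b hb
    exact hreach ⟨a, ha⟩ ⟨b, hb⟩ (hconn.preconnected _ _)
  obtain ⟨d₀, hd₀, -⟩ := hD.2.1
  have hx2 : (QuotientGroup.mk d₀ : G ⧸ L) * QuotientGroup.mk d₀ = 1 := by
    rw [← QuotientGroup.mk_mul, sq_eq_one hS hd₀, QuotientGroup.mk_one]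
  have hxinv : (QuotientGroup.mk d₀ : G ⧸ L)⁻¹ = QuotientGroup.mk d₀ :=
    inv_eq_of_mul_eq_one_right hx2
  have hcases : ∀ g : G, (QuotientGroup.mk g : G ⧸ L) = 1 ∨
      (QuotientGroup.mk g : G ⧸ L) = QuotientGroup.mk d₀ := by
    intro g
    have hg : g ∈ Subgroup.closure D := by rw [hD.2.2]; exact Subgroup.mem_top _
    induction hg using Subgroup.closure_induction with
    | mem x hx => exact Or.inr (hall x hx d₀ hd₀)
    | one => exact Or.inl (QuotientGroup.mk_one L)
    | mul x y _ _ hx hy =>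
      rw [QuotientGroup.mk_mul]
      rcases hx with hx | hx <;> rcases hy with hy | hy <;> rw [hx, hy]
      · left; rw [one_mul]
      · right; rw [one_mul]
      · right; rw [mul_one]
      · left; exact hx2
    | inv x _ hx =>
      rw [QuotientGroup.mk_inv]
      rcases hx with hx | hx <;> rw [hx]
      · left; rw [inv_one]
      · right; exact hxinv
  have hsurj : Function.Surjective
      (fun b : Bool => if b then (QuotientGroup.mk d₀ : G ⧸ L) else 1) := by
    intro q
    obtain ⟨g, rfl⟩ := QuotientGroup.mk_surjective q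
    rcases hcases g with h | h
    · exact ⟨false, by simp [h]⟩
    · exact ⟨true, by simp [h]⟩
  have := Nat.card_le_card_of_surjective _ hsurj
  have h2 : Nat.card Bool = 2 := by simp
  rw [h2] at this
  exact this

end fin

end Cfsg.Agent.Lib.H7.TT
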