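import Cfsg.Agent.Lib.H7.TTPrim3

set_option autoImplicit false
set_option linter.style.haveILetI false
set_option linter.unusedSectionVars false

/-!
3-transposition groups (helper7): simple derived subgroup versus primitivity (trivial centre).
-/

namespace Cfsg.Agent.Lib.H7.TT

open Cfsg Cfsg.Agent.Lib.H26.ThreeTrans
open scoped commutatorElement

variable {G : Type*} [Group G] [Finite G] {D : Set G}

/-- With trivial centre the component is simple. -/
theorem isSimpleGroup_component (hD : IsThreeTranspositionClass D)
    (h2 : pCore 2 G ≤ Subgroup.center G) (h3 : pCore 3 G ≤ Subgroup.center G)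
    {L : Subgroup G} (hL : IsComponent L) (hZ : Subgroup.center G = ⊥) : IsSimpleGroup L := by
  have hc : Subgroup.center ↥L = ⊥ := by
    rw [eq_bot_iff]
    intro z hz
    rw [Subgroup.mem_bot]
    have hzc : (z : G) ∈ Subgroup.centralizer (L : Set G) := by
      rw [Subgroup.mem_centralizer_iff]
      intro l hl
      rw [Subgroup.mem_center_iff] at hz
      have := hz ⟨l, hl⟩
      exact congrArg Subtype.val this
    have := centralizer_component_le_center hD h2 h3 hL hzc
    rw [hZ, Subgroup.mem_bot] at this
    exact Subtype.ext this
  have hs : IsSimpleGroup (↥L ⧸ Subgroup.center ↥L) := hL.2.2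
  let e : ↥L ⧸ Subgroup.center ↥L ≃* ↥L :=
    (QuotientGroup.quotientMulEquivOfEq hc).trans QuotientGroup.quotientBot
  haveI : Nontrivial ↥L := Cfsg.Agent.Lib.H7.quasisimple_nontrivial hL.2
  exact IsSimpleGroup.isSimpleGroup_of_surjective e.toMonoidHom e.surjective

/-- A normal `p`-subgroup is central when the derived subgroup is nonabelian simple. -/
theorem pCore_le_center_of_simple_commutator (hs : IsSimpleGroup (commutator G))
    (hna : ¬ IsMulCommutative (commutator G)) (p : ℕ) [Fact p.Prime] :
    pCore p G ≤ Subgroup.center G := by
  haveI hQn : (pCore p G).Normal := Cfsg.Agent.Lib.H1.pCore_normal p G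
  have hQ : IsPGroup p (pCore p G) := Cfsg.Agent.Lib.H1.pCore_isPGroup p G
  haveI hn : ((pCore p G).subgroupOf (commutator G)).Normal := inferInstance
  rcases hn.eq_bot_or_eq_top with h | h
  · -- `Q ∩ G' = 1`
    have hcm : ⁅pCore p G, (⊤ : Subgroup G)⁆ = ⊥ := by
      rw [eq_bot_iff]
      intro x hx
      have h1 : x ∈ pCore p G := Subgroup.commutator_le_left _ _ hx
      have h2 : x ∈ commutator G := by
        rw [commutator_def]
        exact Subgroup.commutator_mono le_top le_rfl hx
      have : (⟨x, h2⟩ : commutator G) ∈ (pCore p G).subgroupOf (commutator G) :=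
        Subgroup.mem_subgroupOf.2 h1
      rw [h, Subgroup.mem_bot] at this
      rw [Subgroup.mem_bot]
      exact congrArg Subtype.val this
    rw [Subgroup.commutator_eq_bot_iff_le_centralizer] at hcm
    intro x hx
    have := hcm hx
    rw [Subgroup.mem_centralizer_iff] at this
    rw [Subgroup.mem_center_iff]
    intro g
    exact this g (Subgroup.mem_top g)
  · -- `G' ≤ Q`: then `G'` is a `p`-group, hence solvable
    exfalso
    rw [Subgroup.subgroupOf_eq_top] at h
    have hp : IsPGroup p (commutator G) := hQ.to_le h
    haveI := hp.isNilpotent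
    have hq := Cfsg.Agent.Lib.H7.AltStd.quasisimple_of_simple hna
    exact Cfsg.Agent.Lib.H7.quasisimple_not_solvable hq inferInstance

/-- If the derived subgroup is simple (and the centre trivial, some two members commute) then the
conjugation action on the class is primitive. -/
theorem primitive_of_isSimpleGroup_commutator (hD : IsThreeTranspositionClass D)
    (hZ : Subgroup.center G = ⊥) (hw : ∃ a ∈ D, ∃ b ∈ D, a ≠ b ∧ Commute a b)
    (hs : IsSimpleGroup (commutator G)) : IsPrimitiveUnderConj D := by
  have hS := hD.1
  have hD2 : ∃ a ∈ D, ∃ b ∈ D, a ≠ b := by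
    obtain ⟨a, ha, b, hb, hab, -⟩ := hw
    exact ⟨a, ha, b, hb, hab⟩
  by_cases hna : IsMulCommutative (commutator G)
  · -- the abelian case is impossible
    exfalso
    obtain ⟨a, ha, b, hb, hab, hc⟩ := hw
    have ha2 := sq_eq_one hS ha
    have hb2 := sq_eq_one hS hb
    have hmem : a * b ∈ commutator G := by
      obtain ⟨g, rfl⟩ := exists_conj_eq hD ha hb
      have : a * (g * a * g⁻¹) = ⁅a, g⁆ := by
        rw [commutatorElement_def, inv_eq hS ha]; group
      rw [this, commutator_def]
      exact Subgroup.commutator_mem_commutator (Subgroup.mem_top _) (Subgroup.mem_top _)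
    have hz2 : (a * b) * (a * b) = 1 := by
      calc (a * b) * (a * b) = a * (b * a) * b := by group
        _ = a * (a * b) * b := by rw [hc.eq]
        _ = (a * a) * (b * b) := by group
        _ = 1 := by rw [ha2, hb2, one_mul]
    have hzne : a * b ≠ 1 := by
      intro h
      apply hab
      calc a = a * (b * b) := by rw [hb2, mul_one]
        _ = (a * b) * b := by group
        _ = b := by rw [h, one_mul]
    -- the subgroup `{1, a b}` of `G'`
    let H : Subgroup (commutator G) :=
      { carrier := {x | (x : G) = 1 ∨ (x : G) = a * b}
        one_mem' := Or.inl rfl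
        mul_mem' := by
          rintro x y (hx | hx) (hy | hy)
          · left; simp [hx, hy]
          · right; simp [hx, hy]
          · right; simp [hx, hy]
          · left; simp [hx, hy, hz2]
        inv_mem' := by
          rintro x (hx | hx)
          · left; simp [hx]
          · right
            have : (a * b)⁻¹ = a * b := inv_eq_of_mul_eq_one_right hz2
            simp [hx, this] }
    have hHn : H.Normal := by
      constructor
      intro n hn g
      have : g * n * g⁻¹ = n := by
        rw [hna.is_comm.comm g n]; group
      rw [this]; exact hn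
    rcases hHn.eq_bot_or_eq_top with h | h
    · have : (⟨a * b, hmem⟩ : commutator G) ∈ H := Or.inr rfl
      rw [h, Subgroup.mem_bot] at this
      exact hzne (congrArg Subtype.val this)
    · -- `G' = {1, a b}`, so `a b` is central
      have hcen : a * b ∈ Subgroup.center G := by
        rw [Subgroup.mem_center_iff]
        intro g
        have hn : (commutator G).Normal := inferInstance
        have h1 : g * (a * b) * g⁻¹ ∈ commutator G := hn.conj_mem _ hmem g
        have h2 : (⟨_, h1⟩ : commutator G) ∈ H := by rw [h]; exact Subgroup.mem_top _
        rcases h2 with h2 | h2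
        · exfalso
          apply hzne
          have h3 : g * (a * b) * g⁻¹ = 1 := h2
          calc a * b = g⁻¹ * (g * (a * b) * g⁻¹) * g := by group
            _ = 1 := by rw [h3]; group
        · have h3 : g * (a * b) * g⁻¹ = a * b := h2
          calc g * (a * b) = (g * (a * b) * g⁻¹) * g := by group
            _ = a * b * g := by rw [h3]
      rw [hZ, Subgroup.mem_bot] at hcen
      exact hzne hcen
  · -- the nonabelian case: `G'` is the component
    have hq := Cfsg.Agent.Lib.H7.AltStd.quasisimple_of_simple hna
    have hn : (commutator G).Normal := inferInstance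
    have hL : IsComponent (commutator G) := ⟨hn.isSubnormal, hq⟩
    haveI : Fact (Nat.Prime 2) := ⟨Nat.prime_two⟩
    haveI : Fact (Nat.Prime 3) := ⟨Nat.prime_three⟩
    exact primitive_of_index_le_two hD hD2 (pCore_le_center_of_simple_commutator hs hna 2)
      (pCore_le_center_of_simple_commutator hs hna 3) hL (index_commutator_le_two hD)

end Cfsg.Agent.Lib.H7.TT
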