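import Cfsg.Agent.Lib.H7.TTComp2
import Cfsg.Agent.Lib.H7.AltStd
import Cfsg.Agent.Lib.H16.PGroupBasic
import Cfsg.Agent.Lib.H1.PCore
import Cfsg.Agent.S5349

set_option autoImplicit false
set_option linter.style.haveILetI false
set_option linter.unusedSectionVars false

/-!
3-transposition groups (helper7): when `C_D(d) = V_d` there is a `d`-invariant Sylow 3-subgroup `P`
and `G = ⟨d⟩ P O_2(G)`.
-/

namespace Cfsg.Agent.Lib.H7.TT

open Cfsg Cfsg.Agent.Lib.H26.ThreeTrans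
open scoped commutatorElement

variable {G : Type*} [Group G]

/-- The conjugation action of a subgroup on an invariant subset. -/
@[reducible] def conjActOn (P : Subgroup G) (V : Set G)
    (hPV : ∀ x ∈ P, ∀ v ∈ V, x * v * x⁻¹ ∈ V) : MulAction ↥P ↥V where
  smul p v := ⟨p.1 * v.1 * p.1⁻¹, hPV p.1 p.2 v.1 v.2⟩
  one_smul v := Subtype.ext (by
    show ((1 : ↥P) : G) * v.1 * ((1 : ↥P) : G)⁻¹ = v.1
    simp)
  mul_smul p q v := Subtype.ext (by
    show ((p * q : ↥P) : G) * v.1 * ((p * q : ↥P) : G)⁻¹ = p.1 * (q.1 * v.1 * q.1⁻¹) * p.1⁻¹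
    simp [mul_assoc])

/-- A `p`-subgroup acting by conjugation on an invariant set of size prime to `p` centralises one of
its members. -/
theorem exists_fixed_of_conj_invariant {p : ℕ} [Fact p.Prime] {P : Subgroup G} (hP : IsPGroup p P)
    {V : Set G} (hPV : ∀ x ∈ P, ∀ v ∈ V, x * v * x⁻¹ ∈ V) (hcard : ¬ p ∣ Nat.card V) :
    ∃ v ∈ V, ∀ x ∈ P, x * v * x⁻¹ = v := by
  letI := conjActOn P V hPV
  obtain ⟨v, hv⟩ := hP.nonempty_fixed_point_of_prime_not_dvd_card ↥V hcard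
  refine ⟨v.1, v.2, fun x hx => ?_⟩
  have := hv ⟨x, hx⟩
  exact congrArg Subtype.val this

/-- An orbit of a `p`-subgroup under conjugation has `p`-power size. -/
theorem card_conj_orbit [Finite G] {p : ℕ} [Fact p.Prime] {Q : Subgroup G} (hQ : IsPGroup p Q) (d : G) :
    ∃ n : ℕ, Nat.card {v : G | ∃ g ∈ Q, v = g * d * g⁻¹} = p ^ n := by
  set W : Set G := {v : G | ∃ g ∈ Q, v = g * d * g⁻¹} with hW
  have hQW : ∀ x ∈ Q, ∀ v ∈ W, x * v * x⁻¹ ∈ W := by
    rintro x hx v ⟨g, hg, rfl⟩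
    exact ⟨x * g, Subgroup.mul_mem _ hx hg, by group⟩
  letI := conjActOn Q W hQW
  have hdW : d ∈ W := ⟨1, Subgroup.one_mem _, by group⟩
  obtain ⟨n, hn⟩ := hQ.card_orbit (⟨d, hdW⟩ : ↥W)
  refine ⟨n, ?_⟩
  rw [← hn]
  have : MulAction.orbit ↥Q (⟨d, hdW⟩ : ↥W) = Set.univ := by
    rw [Set.eq_univ_iff_forall]
    rintro ⟨v, g, hg, rfl⟩
    exact ⟨⟨g, hg⟩, rfl⟩
  rw [this]
  exact (Nat.card_congr (Equiv.Set.univ _)).symm

theorem map_conj_eq_of_mem_normalizer {K : Subgroup G} {g : G}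
    (h : g ∈ Subgroup.normalizer (K : Set G)) : K.map (MulAut.conj g).toMonoidHom = K := by
  rw [Subgroup.mem_normalizer_iff] at h
  ext x
  constructor
  · rintro ⟨k, hk, rfl⟩
    exact (h k).1 hk
  · intro hx
    refine ⟨g⁻¹ * x * g, ?_, ?_⟩
    · apply (h _).2
      have : g * (g⁻¹ * x * g) * g⁻¹ = x := by group
      rw [this]; exact hx
    · show g * (g⁻¹ * x * g) * g⁻¹ = x
      group

theorem mem_normalizer_sup {R Z : Subgroup G} {g : G} (hR : g ∈ Subgroup.normalizer (R : Set G))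
    (hZ : g ∈ Subgroup.normalizer (Z : Set G)) : g ∈ Subgroup.normalizer ((R ⊔ Z : Subgroup G) : Set G) := by
  apply Cfsg.Agent.Lib.H7.AltStd.mem_normalizer_of_map_conj_eq
  rw [Subgroup.map_sup, map_conj_eq_of_mem_normalizer hR, map_conj_eq_of_mem_normalizer hZ]

end Cfsg.Agent.Lib.H7.TT
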