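import Cfsg.Agent.Lib.H7.TTSyl

set_option autoImplicit false
set_option linter.style.haveILetI false
set_option linter.unusedSectionVars false

/-!
3-transposition groups (helper7): when `C_D(d) = V_d` there is a `d`-invariant Sylow 3-subgroup.
-/

namespace Cfsg.Agent.Lib.H7.TT

open Cfsg Cfsg.Agent.Lib.H26.ThreeTrans
open scoped commutatorElement

variable {G : Type*} [Group G] [Finite G] {D : Set G}

omit [Finite G] in
/-- The hypothesis `C_D(d) ⊆ V_d` holds at every member of the class. -/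
theorem veq_of_commute_all (hD : IsThreeTranspositionClass D) {d : G} (hd : d ∈ D)
    (hV : ∀ y ∈ D, Commute d y → Veq D d y) : ∀ x ∈ D, ∀ y ∈ D, Commute x y → Veq D x y := by
  intro x hx y hy hc
  obtain ⟨g, rfl⟩ := exists_conj_eq hD hd hx
  have hy' : g⁻¹ * y * g⁻¹⁻¹ ∈ D := class_conj hD g⁻¹ y hy
  have hc' : Commute d (g⁻¹ * y * g⁻¹⁻¹) := by
    have := (Commute.conj_iff g⁻¹).2 hc
    have e : g⁻¹ * (g * d * g⁻¹) * g⁻¹⁻¹ = d := by group
    rwa [e] at this
  have := (hV _ hy' hc').conj (class_conj hD) g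
  have e : g * (g⁻¹ * y * g⁻¹⁻¹) * g⁻¹ = y := by group
  rwa [e] at this

/-- **A `d`-invariant Sylow 3-subgroup.** -/
theorem exists_invariant_sylow_three (hD : IsThreeTranspositionClass D)
    (hD2 : ∃ a ∈ D, ∃ b ∈ D, a ≠ b) {d : G} (hd : d ∈ D)
    (hV : ∀ y ∈ D, Commute d y → Veq D d y) :
    ∃ P : Sylow 3 G, d ∈ Subgroup.normalizer ((P : Subgroup G) : Set G) := by
  haveI : Fact (Nat.Prime 3) := ⟨Nat.prime_three⟩
  haveI : Fact (Nat.Prime 2) := ⟨Nat.prime_two⟩
  have hS := hD.1
  have hconj := class_conj hD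
  have hdinv := inv_eq hS hd
  have hd2 := sq_eq_one hS hd
  -- a `d`-invariant 3-subgroup of maximal order
  haveI : Nonempty {R : Subgroup G // IsPGroup 3 R ∧ d ∈ Subgroup.normalizer (R : Set G)} :=
    ⟨⟨⊥, IsPGroup.of_bot, by
      rw [Subgroup.mem_normalizer_iff]
      intro h
      simp only [Subgroup.mem_bot]
      constructor
      · intro hh; rw [hh]; group
      · intro hh
        have := congrArg (fun t => d⁻¹ * t * d) hh
        simpa [mul_assoc] using this⟩⟩
  obtain ⟨⟨R, hR3, hRd⟩, hmax⟩ := Finite.exists_max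
    (fun R : {R : Subgroup G // IsPGroup 3 R ∧ d ∈ Subgroup.normalizer (R : Set G)} =>
      Nat.card R.1)
  have hmax' : ∀ R' : Subgroup G, IsPGroup 3 R' → d ∈ Subgroup.normalizer (R' : Set G) →
      Nat.card R' ≤ Nat.card R := fun R' h1 h2 => hmax ⟨R', h1, h2⟩
  obtain ⟨P₀, hRP₀⟩ := hR3.exists_le_sylow
  by_cases hEq : R = P₀
  · exact ⟨P₀, by rw [← hEq]; exact hRd⟩
  exfalso
  have hlt : R < P₀ := lt_of_le_of_ne hRP₀ hEq
  set P₁ : Subgroup G := (P₀ : Subgroup G) ⊓ Subgroup.normalizer (R : Set G) with hP₁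
  have hP₁3 : IsPGroup 3 P₁ := P₀.2.to_inf_left
  have hRP₁ : R ≤ P₁ := le_inf hRP₀ Subgroup.le_normalizer
  obtain ⟨n, hnP, hnR, hnN⟩ :=
    Cfsg.Agent.Lib.H16.exists_mem_normalizer_not_mem (P₀ : Subgroup G) R P₀.2 hlt
  have hnP₁ : n ∈ P₁ := ⟨hnP, hnN⟩
  -- it suffices to bound the order of `P₁`
  have hfin : Nat.card P₁ ≤ Nat.card R → False := by
    intro h
    have hEq' := Subgroup.eq_of_le_of_card_ge hRP₁ h
    rw [← hEq'] at hnP₁
    exact hnR hnP₁
  -- the dichotomy
  have hdich : ∀ p ∈ P₁, Veq D d (p * d * p⁻¹) ∨ d * (p * d * p⁻¹) ∈ R := by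
    intro p hp
    have heD : p * d * p⁻¹ ∈ D := hconj p d hd
    by_cases hc : Commute d (p * d * p⁻¹)
    · exact Or.inl (hV _ heD hc)
    · right
      have hu3 : (d * (p * d * p⁻¹)) ^ 3 = 1 := by
        rcases commute_or_cube hS hd heD with h | h
        · exact absurd h hc
        · exact h
      have hpN : p ∈ Subgroup.normalizer (R : Set G) := hp.2
      have huN : d * (p * d * p⁻¹) ∈ Subgroup.normalizer (R : Set G) :=
        Subgroup.mul_mem _ hRd (Subgroup.mul_mem _ (Subgroup.mul_mem _ hpN hRd)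
          (Subgroup.inv_mem _ hpN))
      have hZ3 : IsPGroup 3 (Subgroup.zpowers (d * (p * d * p⁻¹))) := by
        rw [IsPGroup.iff_card, Nat.card_zpowers]
        have : orderOf (d * (p * d * p⁻¹)) ∣ 3 := orderOf_dvd_of_pow_eq_one hu3
        rcases (Nat.dvd_prime Nat.prime_three).1 this with h | h
        · exact ⟨0, by rw [h, pow_zero]⟩
        · exact ⟨1, by rw [h, pow_one]⟩
      have hdZ : d ∈ Subgroup.normalizer
          ((Subgroup.zpowers (d * (p * d * p⁻¹)) : Subgroup G) : Set G) := by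
        apply Cfsg.Agent.Lib.H7.AltStd.mem_normalizer_of_map_conj_eq
        rw [MonoidHom.map_zpowers]
        have : (MulAut.conj d).toMonoidHom (d * (p * d * p⁻¹)) = (d * (p * d * p⁻¹))⁻¹ := by
          simp only [MulEquiv.coe_toMonoidHom, MulAut.conj_apply]
          have hpinv : (p * d * p⁻¹)⁻¹ = p * d * p⁻¹ := inv_eq hS heD
          rw [mul_inv_rev, hpinv, hdinv]
          calc d * (d * (p * d * p⁻¹)) * d = (d * d) * (p * d * p⁻¹) * d := by group
            _ = p * d * p⁻¹ * d := by rw [hd2, one_mul]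
        rw [this, Subgroup.zpowers_inv]
      have hZle : Subgroup.zpowers (d * (p * d * p⁻¹)) ≤ Subgroup.normalizer (R : Set G) := by
        rw [Subgroup.zpowers_le]; exact huN
      have hR'3 : IsPGroup 3 (R ⊔ Subgroup.zpowers (d * (p * d * p⁻¹)) : Subgroup G) :=
        hR3.to_sup_of_normal_left' hZ3 hZle
      have hR'd := mem_normalizer_sup hRd hdZ
      have hle := hmax' _ hR'3 hR'd
      have hEq' := Subgroup.eq_of_le_of_card_ge (le_sup_left : R ≤ R ⊔ _) hle
      rw [hEq']
      exact (le_sup_right : Subgroup.zpowers (d * (p * d * p⁻¹)) ≤ _)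
        (Subgroup.mem_zpowers _)
  -- uniformity
  have hunif : (∀ p ∈ P₁, Veq D d (p * d * p⁻¹)) ∨ (∀ p ∈ P₁, d * (p * d * p⁻¹) ∈ R) := by
    by_contra hcon
    push Not at hcon
    obtain ⟨⟨a, ha, haV⟩, ⟨b, hb, hbR⟩⟩ := hcon
    have haR : d * (a * d * a⁻¹) ∈ R := (hdich a ha).resolve_left haV
    have hbV : Veq D d (b * d * b⁻¹) := (hdich b hb).resolve_right hbR
    rcases hdich (a * b) (Subgroup.mul_mem _ ha hb) with h | h
    · apply haV
      have h1 := hbV.conj hconj a
      have e : a * (b * d * b⁻¹) * a⁻¹ = a * b * d * (a * b)⁻¹ := by group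
      rw [e] at h1
      exact h.trans (h1.symm (hconj a d hd))
    · apply hbR
      have haN : a ∈ Subgroup.normalizer (R : Set G) := ha.2
      have h1 : (d * (a * d * a⁻¹))⁻¹ * (d * (a * b * d * (a * b)⁻¹)) ∈ R :=
        Subgroup.mul_mem _ (Subgroup.inv_mem _ haR) h
      have e : (d * (a * d * a⁻¹))⁻¹ * (d * (a * b * d * (a * b)⁻¹))
          = a * (d⁻¹ * (b * d * b⁻¹)) * a⁻¹ := by group
      rw [e, hdinv] at h1
      exact (Subgroup.mem_normalizer_iff.1 haN _).2 h1
  rcases hunif with hall | hall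
  · -- `P₁` normalises `V_d`, hence centralises one of its members
    set V : Set G := {v : G | v ∈ D ∧ ∀ e ∈ D, Commute v e ↔ Commute d e} with hVdef
    have hPV : ∀ x ∈ P₁, ∀ v ∈ V, x * v * x⁻¹ ∈ V := by
      intro x hx v hv
      have hv' : Veq D d v := hv
      exact (hall x hx).trans (Veq.conj hconj hv' x)
    obtain ⟨-, hV2⟩ := Cfsg.Agent.S5349.result hD hD2 hd
    have hcardV : ¬ 3 ∣ Nat.card V := by
      obtain ⟨k, hk⟩ := card_conj_orbit (Cfsg.Agent.Lib.H1.pCore_isPGroup 2 G) d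
      rw [hVdef, hV2, hk]
      intro h
      have := Nat.Prime.dvd_of_dvd_pow Nat.prime_three h
      omega
    obtain ⟨v₀, hv₀, hfix⟩ := exists_fixed_of_conj_invariant hP₁3 hPV hcardV
    obtain ⟨g, hg⟩ := exists_conj_eq hD hd hv₀.1
    have hcomm : ∀ y ∈ P₁.map (MulAut.conj g⁻¹).toMonoidHom, y * d = d * y := by
      rintro _ ⟨p, hp, rfl⟩
      have := hfix p hp
      rw [← hg] at this
      simp only [MulEquiv.coe_toMonoidHom, MulAut.conj_apply, inv_inv]
      calc g⁻¹ * p * g * d = g⁻¹ * (p * (g * d * g⁻¹) * p⁻¹) * (p * g) := by group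
        _ = g⁻¹ * (g * d * g⁻¹) * (p * g) := by rw [this]
        _ = d * (g⁻¹ * p * g) := by group
    have hdR'' : d ∈ Subgroup.normalizer
        ((P₁.map (MulAut.conj g⁻¹).toMonoidHom : Subgroup G) : Set G) := by
      rw [Subgroup.mem_normalizer_iff]
      intro h
      constructor
      · intro hh
        have h1 := hcomm h hh
        have e : d * h * d⁻¹ = h := by rw [← h1]; group
        rw [e]; exact hh
      · intro hh
        have h1 := hcomm _ hh
        have e : d * h * d⁻¹ = h := by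
          have h2 : d * h * d⁻¹ * d = d * (d * h * d⁻¹) := h1
          have h3 : d * h = d * (d * h * d⁻¹) := by
            calc d * h = d * h * d⁻¹ * d := by group
              _ = d * (d * h * d⁻¹) := h2
          exact (mul_left_cancel h3).symm
        rw [e] at hh; exact hh
    have h3'' : IsPGroup 3 (P₁.map (MulAut.conj g⁻¹).toMonoidHom) := hP₁3.map _
    have hc'' : Nat.card (P₁.map (MulAut.conj g⁻¹).toMonoidHom) = Nat.card P₁ :=
      Subgroup.card_map_of_injective (MulAut.conj g⁻¹).injective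
    have := hmax' _ h3'' hdR''
    rw [hc''] at this
    exact hfin this
  · -- `d` normalises `P₁`
    have hfw : ∀ p ∈ P₁, d * p * d⁻¹ ∈ P₁ := by
      intro p hp
      have : d * p * d⁻¹ = (d * (p * d * p⁻¹)) * p := by rw [hdinv]; group
      rw [this]
      exact Subgroup.mul_mem _ (hRP₁ (hall p hp)) hp
    have hdP₁ : d ∈ Subgroup.normalizer (P₁ : Set G) := by
      rw [Subgroup.mem_normalizer_iff]
      intro h
      constructor
      · exact hfw h
      · intro hh
        have := hfw _ hh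
        have e : d * (d * h * d⁻¹) * d⁻¹ = h := by
          rw [hdinv]
          calc d * (d * h * d) * d = (d * d) * h * (d * d) := by group
            _ = h := by rw [hd2, one_mul, mul_one]
        rwa [e] at this
    exact hfin (hmax' P₁ hP₁3 hdP₁)

end Cfsg.Agent.Lib.H7.TT
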