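import Cfsg.Agent.Lib.H7.TTSyl2

set_option autoImplicit false
set_option linter.style.haveILetI false
set_option linter.unusedSectionVars false

/-!
3-transposition groups (helper7): when `C_D(d) = V_d`, `G = ⟨d⟩ P O_2(G)` for every Sylow
3-subgroup `P`.
-/

namespace Cfsg.Agent.Lib.H7.TT

open Cfsg Cfsg.Agent.Lib.H26.ThreeTrans
open scoped commutatorElement

variable {G : Type*} [Group G] [Finite G] {D : Set G}

theorem sup_eq_top_of_veq (hD : IsThreeTranspositionClass D)
    (hD2 : ∃ a ∈ D, ∃ b ∈ D, a ≠ b) {d : G} (hd : d ∈ D)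
    (hV : ∀ y ∈ D, Commute d y → Veq D d y) (P : Sylow 3 G) :
    Subgroup.zpowers d ⊔ (P : Subgroup G) ⊔ pCore 2 G = ⊤ := by
  haveI : Fact (Nat.Prime 3) := ⟨Nat.prime_three⟩
  haveI : Fact (Nat.Prime 2) := ⟨Nat.prime_two⟩
  have hS := hD.1
  have hconj := class_conj hD
  have hdinv := inv_eq hS hd
  have hd2 := sq_eq_one hS hd
  have hVall := veq_of_commute_all hD hd hV
  haveI hQn : (pCore 2 G).Normal := Cfsg.Agent.Lib.H1.pCore_normal 2 G
  have hQ2 : IsPGroup 2 (pCore 2 G) := Cfsg.Agent.Lib.H1.pCore_isPGroup 2 G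
  -- `d ∉ O_2(G)`
  have hdQ : d ∉ pCore 2 G := by
    intro hdQ
    have hDQ : D ⊆ (pCore 2 G : Set G) := by
      intro e he
      obtain ⟨g, rfl⟩ := exists_conj_eq hD hd he
      exact hQn.conj_mem d hdQ g
    have htop : pCore 2 G = ⊤ := by
      rw [eq_top_iff, ← hD.2.2, Subgroup.closure_le]
      exact hDQ
    obtain ⟨e, he, hnc⟩ := exists_not_commute hD hD2 hd
    have h3 : (d * e) ^ 3 = 1 := by
      rcases commute_or_cube hS hd he with h | h
      · exact absurd h hnc
      · exact h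
    have hmem : d * e ∈ pCore 2 G := by rw [htop]; exact Subgroup.mem_top _
    obtain ⟨k, hk⟩ := hQ2 ⟨d * e, hmem⟩
    have hk' : (d * e) ^ 2 ^ k = 1 := by
      have := congrArg Subtype.val hk
      simpa using this
    have h1 : orderOf (d * e) ∣ 3 := orderOf_dvd_of_pow_eq_one h3
    have h2 : orderOf (d * e) ∣ 2 ^ k := orderOf_dvd_of_pow_eq_one hk'
    have hco : Nat.Coprime 3 (2 ^ k) := Nat.Coprime.pow_right k (by norm_num)
    have h4 := Nat.dvd_gcd h1 h2
    rw [hco] at h4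
    have h5 : d * e = 1 := orderOf_eq_one_iff.1 (Nat.dvd_one.1 h4)
    apply hnc
    have : e = d := by
      calc e = (d * d) * e := by rw [hd2, one_mul]
        _ = d * (d * e) := by group
        _ = d := by rw [h5, mul_one]
    rw [this]
  -- the image of `d` in `G / O_2(G)` is an involution
  have hord : orderOf (QuotientGroup.mk d : G ⧸ pCore 2 G) = 2 := by
    apply orderOf_eq_prime
    · rw [← QuotientGroup.mk_pow, pow_two, hd2, QuotientGroup.mk_one]
    · intro h
      exact hdQ ((QuotientGroup.eq_one_iff d).1 h)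
  have hlift : ∀ a ∈ conjugatesOf (QuotientGroup.mk d : G ⧸ pCore 2 G),
      ∃ x ∈ D, (QuotientGroup.mk x : G ⧸ pCore 2 G) = a := by
    intro a ha
    rw [mem_conjugatesOf_iff', isConj_iff] at ha
    obtain ⟨c, rfl⟩ := ha
    obtain ⟨g, rfl⟩ := QuotientGroup.mk_surjective c
    exact ⟨g * d * g⁻¹, hconj g d hd, by simp⟩
  have hprod : ∀ a ∈ conjugatesOf (QuotientGroup.mk d : G ⧸ pCore 2 G),
      ∀ b ∈ conjugatesOf (QuotientGroup.mk d : G ⧸ pCore 2 G), ∃ k : ℕ, orderOf (a * b) = 3 ^ k := by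
    intro a ha b hb
    obtain ⟨x, hx, rfl⟩ := hlift a ha
    obtain ⟨y, hy, rfl⟩ := hlift b hb
    rcases commute_or_cube hS hx hy with h | h
    · have hveq := hVall x hx y hy h
      have hmem : x * y ∈ pCore 2 G := mul_mem_pCore_of_veq hS hconj hx hveq
      refine ⟨0, ?_⟩
      rw [← QuotientGroup.mk_mul, (QuotientGroup.eq_one_iff _).2 hmem, orderOf_one, pow_zero]
    · have h3 : ((QuotientGroup.mk x : G ⧸ pCore 2 G) * QuotientGroup.mk y) ^ 3 = 1 := by
        rw [← QuotientGroup.mk_mul, ← QuotientGroup.mk_pow, h, QuotientGroup.mk_one]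
      have hdvd := orderOf_dvd_of_pow_eq_one h3
      rcases (Nat.dvd_prime Nat.prime_three).1 hdvd with h' | h'
      · exact ⟨0, by rw [h', pow_zero]⟩
      · exact ⟨1, by rw [h', pow_one]⟩
  have hmain := Cfsg.Agent.S5561.result (QuotientGroup.mk d : G ⧸ pCore 2 G) hord hprod
  -- every member of `D` lies in the product
  rw [eq_top_iff, ← hD.2.2, Subgroup.closure_le]
  intro e he
  have h1 : (QuotientGroup.mk d : G ⧸ pCore 2 G) * QuotientGroup.mk e ∈ pCore 3 (G ⧸ pCore 2 G) := by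
    apply hmain _ mem_conjugatesOf_self
    obtain ⟨g, rfl⟩ := exists_conj_eq hD hd he
    rw [mem_conjugatesOf_iff', isConj_iff]
    exact ⟨QuotientGroup.mk g, by simp⟩
  have hsurj : Function.Surjective (QuotientGroup.mk' (pCore 2 G)) :=
    QuotientGroup.mk'_surjective _
  have h2 := Cfsg.Agent.Lib.H1.pCore_le_sylow (P.mapSurjective hsurj) h1
  rw [← SetLike.mem_coe, Sylow.coe_mapSurjective] at h2
  obtain ⟨p, hp, hpe⟩ := h2
  have hpe' : (QuotientGroup.mk p : G ⧸ pCore 2 G) = QuotientGroup.mk (d * e) := by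
    rw [QuotientGroup.mk_mul]; exact hpe
  rw [QuotientGroup.eq] at hpe'
  -- `e = d * p * (p⁻¹ * (d * e))`
  have he' : e = d * p * (p⁻¹ * (d * e)) := by
    calc e = (d * d) * e := by rw [hd2, one_mul]
      _ = d * p * (p⁻¹ * (d * e)) := by group
  rw [he']
  show _ ∈ (Subgroup.zpowers d ⊔ (P : Subgroup G) ⊔ pCore 2 G : Subgroup G)
  apply Subgroup.mul_mem
  · apply Subgroup.mul_mem
    · exact (le_sup_left.trans le_sup_left : Subgroup.zpowers d ≤ _) (Subgroup.mem_zpowers d)
    · exact (le_sup_right.trans le_sup_left : (P : Subgroup G) ≤ _) hp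
  · exact (le_sup_right : pCore 2 G ≤ _) hpe'

end Cfsg.Agent.Lib.H7.TT
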