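import Mathlib

set_option autoImplicit false

namespace Cfsg.Agent.Lib.H7

open scoped IsMulCommutative

/-- The sign character of a subgroup `H` with respect to a subgroup `M` of relative index two. -/
noncomputable def signHom2 {G : Type*} [Group G] (H M : Subgroup G) (hM : M.relIndex H = 2) :
    H →* ℤˣ := by
  classical
  exact MonoidHom.mk' (fun s => if (s : G) ∈ M then 1 else -1) (by
    intro s t
    have key : (s * t : H) ∈ M.subgroupOf H ↔ (s ∈ M.subgroupOf H ↔ t ∈ M.subgroupOf H) :=
      Subgroup.mul_mem_iff_of_index_two hM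
    simp only [Subgroup.mem_subgroupOf, Subgroup.coe_mul] at key
    by_cases hs : (s : G) ∈ M <;> by_cases ht : (t : G) ∈ M
    · have : (s : G) * t ∈ M := key.mpr (iff_of_true hs ht)
      simp [hs, ht, this]
    · have : ¬ (s : G) * t ∈ M := fun h => ht ((key.mp h).mp hs)
      simp [hs, ht, this]
    · have : ¬ (s : G) * t ∈ M := fun h => hs ((key.mp h).mpr ht)
      simp [hs, ht, this]
    · have : (s : G) * t ∈ M := key.mpr (iff_of_false hs ht)
      simp [hs, ht, this])

theorem signHom2_of_mem {G : Type*} [Group G] (H M : Subgroup G) (hM : M.relIndex H = 2) (s : H)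
    (hs : (s : G) ∈ M) : signHom2 H M hM s = 1 := by
  classical
  simp [signHom2, hs]

theorem signHom2_of_not_mem {G : Type*} [Group G] (H M : Subgroup G) (hM : M.relIndex H = 2)
    (s : H) (hs : (s : G) ∉ M) : signHom2 H M hM s = -1 := by
  classical
  simp [signHom2, hs]

/-- Transfer of an involution into a commutative subgroup `H` of odd index: if every conjugate of
`t` lying in `H` lies in `E` but outside the index-two subgroup `E₀` of `E`, the transfer of `t`
is nontrivial. -/
theorem transfer_involution_ne_one {G : Type*} [Group G] [Finite G] (H : Subgroup G)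
    [IsMulCommutative H] (hodd : Odd H.index) (E E₀ : Subgroup G) (hEH : E ≤ H)
    (hrel : E₀.relIndex E = 2) (t : G) (ht : t ^ 2 = 1)
    (hconj : ∀ g : G, g⁻¹ * t * g ∈ H → g⁻¹ * t * g ∈ E ∧ g⁻¹ * t * g ∉ E₀) :
    MonoidHom.transfer (MonoidHom.id H) t ≠ 1 := by
  classical
  intro hV
  have hEcomm : IsMulCommutative E :=
    ⟨⟨fun a b => Subtype.ext (by
      have := mul_comm (⟨a, hEH a.2⟩ : H) ⟨b, hEH b.2⟩
      exact (congrArg Subtype.val this : (a : G) * (b : G) = (b : G) * (a : G)))⟩⟩
  set χ := signHom2 E E₀ hrel with hχ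
  haveI : Fintype (Quotient (MulAction.orbitRel (Subgroup.zpowers t) (G ⧸ H))) :=
    Fintype.ofFinite _
  -- the terms of the transfer formula lie in `E`
  have hk : ∀ q : Quotient (MulAction.orbitRel (Subgroup.zpowers t) (G ⧸ H)),
      Function.minimalPeriod (t • ·) q.out = 1 ∨ Function.minimalPeriod (t • ·) q.out = 2 := by
    intro q
    have hkdvd : Function.minimalPeriod (t • ·) q.out ∣ 2 := by
      apply Function.IsPeriodicPt.minimalPeriod_dvd
      rw [Function.IsPeriodicPt, Function.IsFixedPt, smul_iterate, ht]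
      exact one_smul _ _
    exact (Nat.dvd_prime Nat.prime_two).1 hkdvd
  have hmemE : ∀ q : Quotient (MulAction.orbitRel (Subgroup.zpowers t) (G ⧸ H)),
      q.out.out⁻¹ * t ^ Function.minimalPeriod (t • ·) q.out * q.out.out ∈ E := by
    intro q
    have hmemH := QuotientGroup.out_conj_pow_minimalPeriod_mem H t q.out
    rcases hk q with h1 | h2
    · rw [h1, pow_one] at hmemH ⊢
      exact (hconj _ hmemH).1
    · rw [h2, ht]; simp
  let g : Quotient (MulAction.orbitRel (Subgroup.zpowers t) (G ⧸ H)) → E := fun q =>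
    ⟨q.out.out⁻¹ * t ^ Function.minimalPeriod (t • ·) q.out * q.out.out, hmemE q⟩
  have hterm : ∀ q, χ (g q) = (-1) ^ Function.minimalPeriod (t • ·) q.out := by
    intro q
    have hmemH := QuotientGroup.out_conj_pow_minimalPeriod_mem H t q.out
    rcases hk q with h1 | h2
    · have hnot : ((g q : E) : G) ∉ E₀ := by
        show q.out.out⁻¹ * t ^ Function.minimalPeriod (t • ·) q.out * q.out.out ∉ E₀
        rw [h1, pow_one] at hmemH ⊢
        exact (hconj _ hmemH).2
      rw [hχ, signHom2_of_not_mem E E₀ hrel _ hnot, h1, pow_one]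
    · have hmem : ((g q : E) : G) ∈ E₀ := by
        show q.out.out⁻¹ * t ^ Function.minimalPeriod (t • ·) q.out * q.out.out ∈ E₀
        rw [h2, ht]; simp
      rw [hχ, signHom2_of_mem E E₀ hrel _ hmem, h2]; simp
  have hprod : χ (∏ q, g q) = -1 := by
    rw [map_prod, Finset.prod_congr rfl (fun q _ => hterm q), Finset.prod_pow_eq_pow_sum,
      ← Subgroup.index_eq_sum_minimalPeriod H t]
    exact hodd.neg_one_pow
  have hincl : Subgroup.inclusion hEH (∏ q, g q) = MonoidHom.transfer (MonoidHom.id H) t := by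
    rw [MonoidHom.transfer_eq_prod_quotient_orbitRel_zpowers_quot, map_prod]
    rfl
  rw [hV] at hincl
  have h1 : (∏ q, g q) = 1 := by
    have := (Subgroup.inclusion_injective hEH) (hincl.trans (map_one _).symm)
    exact this
  rw [h1, map_one] at hprod
  exact absurd hprod (by decide)

/-- A homomorphism to a `2`-group which is nontrivial gives a subgroup of index two. -/
theorem exists_index_two_of_hom {G A : Type*} [Group G] [Group A] [Finite A] (hA : IsPGroup 2 A)
    (f : G →* A) (t : G) (ht : f t ≠ 1) : ∃ K : Subgroup G, K.index = 2 := by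
  have hR : IsPGroup 2 f.range := hA.to_subgroup _
  obtain ⟨k, hk⟩ := IsPGroup.iff_card.1 hR
  have hk0 : k ≠ 0 := by
    intro h0
    rw [h0, pow_zero] at hk
    have : f.range = ⊥ := Subgroup.card_eq_one.1 hk
    have h1 : f t ∈ f.range := ⟨t, rfl⟩
    rw [this, Subgroup.mem_bot] at h1
    exact ht h1
  obtain ⟨k', rfl⟩ : ∃ k', k = k' + 1 := ⟨k - 1, by omega⟩
  have hdvd : 2 ^ k' ∣ Nat.card f.range := by rw [hk]; exact pow_dvd_pow 2 (Nat.le_succ k')
  obtain ⟨L, hL⟩ := Sylow.exists_subgroup_card_pow_prime 2 hdvd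
  refine ⟨L.comap f.rangeRestrict, ?_⟩
  rw [Subgroup.index_comap_of_surjective L f.rangeRestrict_surjective]
  have := L.card_mul_index
  rw [hL, hk, pow_succ] at this
  have hpos : 0 < 2 ^ k' := by positivity
  exact Nat.eq_of_mul_eq_mul_left hpos this

end Cfsg.Agent.Lib.H7
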