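import Mathlib
import Cfsg.Agent.Lib.H7.ZasD2Final
import Cfsg.Agent.Lib.H5.ZasD1d
import Cfsg.Agent.Lib.H25.ZasE4e

/-!
# Zassenhaus block D (helper7): `HCtx.count3 : Count3 H`, and `Count2 H` from the `pair_two`
conclusion of block D1.
-/

namespace Cfsg.Agent.Lib.H25.Zas

open Subgroup

variable {H : Type*} [Group H] [Finite H] {n : ℕ}

/-- **Block D, order three**: the first counting identity. -/
theorem HCtx.count3 (h : HCtx H n) : Count3 H := fun _ ha =>
  count_three_of' ha (fun _ hb hab => h.pair_three ha hb hab)

/-- **Block D, involutions**: the second counting identity, from the `pair_two` conclusion of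
block D1 (an element of order three and an involution not normalizing it generate `A₄`, `S₄`
or `A₅`). -/
theorem count2_of_pair_two
    (hD2 : ∀ a : H, orderOf a = 3 → ∀ j : H, orderOf j = 2 → j * a * j⁻¹ ∉ zpowers a →
      Nonempty (closure ({a, j} : Set H) ≃* alternatingGroup (Fin 4)) ∨
      Nonempty (closure ({a, j} : Set H) ≃* Equiv.Perm (Fin 4)) ∨
      Nonempty (closure ({a, j} : Set H) ≃* alternatingGroup (Fin 5))) :
    Count2 H := fun a ha => count_two_of' ha (hD2 a ha)

end Cfsg.Agent.Lib.H25.Zas
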