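import Mathlib
import Cfsg.Agent.Lib.H7.ZasCount3
import Cfsg.Agent.Lib.H5.ZasD1f

/-!
# Zassenhaus block D (helper7): `HCtx.count2 : Count2 H`.
-/

namespace Cfsg.Agent.Lib.H25.Zas

open Subgroup

variable {H : Type*} [Group H] [Finite H] {n : ℕ}

/-- **Block D, involutions**: the second counting identity. -/
theorem HCtx.count2 (h : HCtx H n) : Count2 H :=
  count2_of_pair_two (fun _ ha _ hj hja => h.pair_two ha hj hja)

end Cfsg.Agent.Lib.H25.Zas
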